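import Groth.Agent.Lib.Helper60.LocalCohArtinian

/-!
# Artinianness of local cohomology with support in a maximal ideal (helper39)

Generalisation of helper60's `lc_maximalIdeal_isArtinian` from local rings to an arbitrary maximal
ideal of a Noetherian ring.
-/

set_option autoImplicit false
universe u

open CategoryTheory

namespace Groth.Agent.Lib.Helper39.LcMaxArtinian

open Groth.Agent.Lib.Helper60

variable {R : Type u} [CommRing R]

/-- a finite module over a Noetherian ring all of whose elements are killed by powers of a
maximal ideal is Artinian. -/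
theorem isArtinian_of_finite_of_powerTorsion [IsNoetherianRing R] (m : Ideal R) [hm : m.IsMaximal]
    (N : Type*) [AddCommGroup N] [Module R N] [Module.Finite R N]
    (h : ∀ x : N, ∃ n : ℕ, ∀ a ∈ m ^ n, a • x = 0) :
    IsArtinian R N := by
  apply isArtinian_of_powerTorsion m (IsNoetherian.noetherian _) N h
  have : IsNoetherian R N := isNoetherian_of_isNoetherianRing_of_finite R N
  let _ : Field (R ⧸ m) := Ideal.Quotient.field _
  have : Module.Finite (R ⧸ m)
      (Submodule.torsionBySet R N (m : Set R)) :=
    Module.Finite.of_restrictScalars_finite R _ _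
  have : IsArtinian (R ⧸ m)
      (Submodule.torsionBySet R N (m : Set R)) :=
    isArtinian_of_fg_of_artinian'
  exact isArtinian_of_surjective_algebraMap (S := R) (R := R ⧸ m)
    Ideal.Quotient.mk_surjective

/-- `H^i_m(M)` is Artinian for a finite module `M` over a Noetherian ring and a maximal ideal `m`. -/
theorem lc_maximal_isArtinian [IsNoetherianRing R] (m : Ideal R) [hm : m.IsMaximal] (i : ℕ) :
    ∀ (M : Type u) [AddCommGroup M] [Module R M] [Module.Finite R M],
      IsArtinian R ((localCohomology m i).obj (ModuleCat.of R M)) := by
  induction i with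
  | zero =>
    intro M _ _ _
    have := lc_zero_finite m M
    exact isArtinian_of_finite_of_powerTorsion m _
      (lc_isPowerTorsion m 0 (ModuleCat.of R M))
  | succ i ih =>
    intro M _ _ _
    have hbij := lcMap_mkQ_torsionSub_bijective m M (i + 1)
      (Nat.succ_pos i)
    obtain ⟨r, hr, hreg⟩ := exists_isSMulRegular_of_torsionSub_eq_bot m
      (M ⧸ DRing.torsionSub m M)
      (torsionSub_quotient_eq_bot m M)
    have h1 := lc_isArtinian_succ_of_regular m i
      (M ⧸ DRing.torsionSub m M) r hr hreg (ih _)
    exact isArtinian_of_linearEquiv (LinearEquiv.ofBijective _ hbij).symm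

theorem locCohH_isArtinian [IsNoetherianRing R] (m : Ideal R) [hm : m.IsMaximal] (i : ℕ)
    (M : Type u) [AddCommGroup M] [Module R M] [Module.Finite R M] :
    IsArtinian R (LocCoh.H m i M) :=
  lc_maximal_isArtinian m i M

end Groth.Agent.Lib.Helper39.LcMaxArtinian
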