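import Mathlib

/-!
# Algebra norm / trace versus reduced norm / trace of a split algebra (helper39)
-/

set_option autoImplicit false
universe u v w
open scoped TensorProduct

namespace Groth.Agent.Lib.Helper39

open Matrix in
theorem stdBasis_repr {K : Type*} [CommRing K] {m n : Type*} [Fintype m] [Fintype n] [DecidableEq m] [DecidableEq n]
    (M : Matrix m n K) (i : m) (j : n) : (Matrix.stdBasis K m n).repr M (i, j) = M i j := by
  simp [Matrix.stdBasis]

open Matrix Kronecker in
theorem toMatrix_mulLeft {K : Type*} [CommRing K] {n : Type*} [Fintype n] [DecidableEq n]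
    (X : Matrix n n K) :
    LinearMap.toMatrix (Matrix.stdBasis K n n) (Matrix.stdBasis K n n) (LinearMap.mulLeft K X) =
      X ⊗ₖ (1 : Matrix n n K) := by
  ext ⟨i, l'⟩ ⟨j, l⟩
  rw [LinearMap.toMatrix_apply, stdBasis_repr, Matrix.stdBasis_eq_single, LinearMap.mulLeft_apply,
    Matrix.kroneckerMap_apply]
  simp only [Matrix.mul_apply, Matrix.single_apply, Matrix.one_apply, mul_ite, mul_one, mul_zero]
  by_cases h : l' = l
  · subst h
    simp
  · simp [h, Ne.symm h]

open Matrix Kronecker in
theorem det_mulLeft_matrix {K : Type*} [CommRing K] {n : Type*} [Fintype n] [DecidableEq n]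
    (X : Matrix n n K) :
    LinearMap.det (LinearMap.mulLeft K X) = X.det ^ Fintype.card n := by
  rw [← LinearMap.det_toMatrix (Matrix.stdBasis K n n), toMatrix_mulLeft, Matrix.det_kronecker]
  simp

open Matrix Kronecker in
theorem trace_mulLeft_matrix {K : Type*} [CommRing K] {n : Type*} [Fintype n] [DecidableEq n]
    (X : Matrix n n K) :
    LinearMap.trace K _ (LinearMap.mulLeft K X) = Fintype.card n • X.trace := by
  rw [LinearMap.trace_eq_matrix_trace K (Matrix.stdBasis K n n), toMatrix_mulLeft,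
    Matrix.trace_kronecker]
  simp [Matrix.trace_one, mul_comm]

section
variable (k : Type u) [Field k] (A : Type v) [Ring A] [Algebra k A] [FiniteDimensional k A]
  (K : Type w) [Field K] [Algebra k K]

omit [FiniteDimensional k A] in
theorem mulLeft_baseChange (a : A) :
    (LinearMap.mulLeft k a).baseChange K = LinearMap.mulLeft K ((1 : K) ⊗ₜ[k] a) := by
  ext x
  simp

theorem mulLeft_conj {B C : Type*} [Ring B] [Ring C] [Algebra K B] [Algebra K C] (φ : B ≃ₐ[K] C) (z : B) :
    (φ.toLinearEquiv : B →ₗ[K] C) ∘ₗ LinearMap.mulLeft K z ∘ₗ (φ.toLinearEquiv.symm : C →ₗ[K] B) =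
      LinearMap.mulLeft K (φ z) := by
  ext x
  simp

theorem size_eq_of_splitting {n n' : ℕ} (hn : Module.finrank k A = n ^ 2)
    (φ : K ⊗[k] A ≃ₐ[K] Matrix (Fin n') (Fin n') K) : n' = n := by
  have h1 := φ.toLinearEquiv.finrank_eq
  rw [Module.finrank_baseChange, Module.finrank_matrix, hn] at h1
  simp only [Fintype.card_fin, Module.finrank_self, mul_one] at h1
  have : n ^ 2 = n' ^ 2 := by rw [h1]; ring
  exact (Nat.pow_left_injective (by norm_num : 2 ≠ 0) this).symm

theorem algebraMap_norm_eq (a : A) {n' : ℕ} (φ : K ⊗[k] A ≃ₐ[K] Matrix (Fin n') (Fin n') K) :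
    algebraMap k K (Algebra.norm k a) = Matrix.det (φ (1 ⊗ₜ[k] a)) ^ n' := by
  rw [Algebra.norm_apply, ← LinearMap.det_baseChange]
  change LinearMap.det ((LinearMap.mulLeft k a).baseChange K) = _
  rw [mulLeft_baseChange, ← LinearMap.det_conj _ φ.toLinearEquiv, mulLeft_conj, det_mulLeft_matrix]
  simp

theorem algebraMap_trace_eq (a : A) {n' : ℕ} (φ : K ⊗[k] A ≃ₐ[K] Matrix (Fin n') (Fin n') K) :
    algebraMap k K (LinearMap.trace k A (LinearMap.mulLeft k a)) =
      n' • Matrix.trace (φ (1 ⊗ₜ[k] a)) := by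
  rw [← LinearMap.trace_baseChange, mulLeft_baseChange, ← LinearMap.trace_conj' _ φ.toLinearEquiv]
  have : φ.toLinearEquiv.conj (LinearMap.mulLeft K ((1 : K) ⊗ₜ[k] a)) =
      LinearMap.mulLeft K (φ (1 ⊗ₜ[k] a)) := by
    rw [← mulLeft_conj]
    rfl
  rw [this, trace_mulLeft_matrix]
  simp

end

end Groth.Agent.Lib.Helper39
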