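import Mathlib.RingTheory.MvPolynomial.MonomialOrder
import Mathlib.RingTheory.MvPolynomial.MonomialOrder.DegLex
import Mathlib.RingTheory.Flat.Tensor
import Mathlib.RingTheory.Polynomial.Basic
import Mathlib.Tactic

/-!
McCoy's theorem for multivariate polynomials, primitive polynomials are non-zero-divisors, and
flatness of `P / φ(P)` for an endomorphism `φ` of a flat module that stays injective modulo every
ideal.  By helper39.
-/

set_option autoImplicit false
universe u v

namespace Groth.Agent.Lib.Helper39

open MvPolynomial

section McCoy

open scoped MonomialOrder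

variable {σ : Type*} (m : MonomialOrder σ) {R : Type*} [CommRing R]
include m

/-- McCoy's theorem: a zero-divisor in a multivariate polynomial ring is killed by a nonzero
constant. -/
theorem mcCoy_aux (f : MvPolynomial σ R) :
    ∀ (N : ℕ) (g : MvPolynomial σ R), g.support.card = N → g ≠ 0 → f * g = 0 →
      ∃ a : R, a ≠ 0 ∧ a • f = 0 := by
  classical
  intro N
  induction N using Nat.strong_induction_on with
  | _ N ih =>
    intro g hN hg hfg
    by_cases hall : ∀ α, f.coeff α • g = 0
    · refine ⟨m.leadingCoeff g, m.leadingCoeff_ne_zero_iff.mpr hg, ?_⟩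
      ext α
      rw [coeff_smul, coeff_zero, smul_eq_mul, mul_comm]
      have := congrArg (coeff (m.degree g)) (hall α)
      rwa [coeff_smul, coeff_zero, smul_eq_mul] at this
    · push Not at hall
      let S := f.support.filter (fun α => f.coeff α • g ≠ 0)
      have hmemS : ∀ α, f.coeff α • g ≠ 0 → α ∈ S := by
        intro α hα
        refine Finset.mem_filter.mpr ⟨?_, hα⟩
        rw [mem_support_iff]
        intro h
        rw [h, zero_smul] at hα
        exact hα rfl
      have hS : S.Nonempty := by
        obtain ⟨α, hα⟩ := hall
        exact ⟨α, hmemS α hα⟩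
      obtain ⟨α, hαS, hαmax⟩ := S.exists_max_image m.toSyn hS
      have hα : f.coeff α • g ≠ 0 := (Finset.mem_filter.mp hαS).2
      have hgt : ∀ α', α ≺[m] α' → f.coeff α' • g = 0 := by
        intro α' h
        by_contra hne
        exact absurd (hαmax α' (hmemS α' hne)) (not_le.mpr h)
      have key : f.coeff α * g.coeff (m.degree g) = 0 := by
        have h0 : (f * g).coeff (α + m.degree g) = 0 := by rw [hfg]; simp
        rw [coeff_mul, Finset.sum_eq_single (α, m.degree g)] at h0
        · exact h0
        · rintro ⟨α', β'⟩ hmem hne
          rw [Finset.mem_antidiagonal] at hmem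
          rcases lt_trichotomy (m.toSyn α') (m.toSyn α) with hlt | heq | hgt'
          · have : m.degree g ≺[m] β' := by
              by_contra hle
              push Not at hle
              have h1 : m.toSyn (α' + β') < m.toSyn (α + m.degree g) := by
                rw [map_add, map_add]
                exact add_lt_add_of_lt_of_le hlt hle
              rw [hmem] at h1
              exact lt_irrefl _ h1
            show f.coeff α' * g.coeff β' = 0
            rw [m.coeff_eq_zero_of_lt this, mul_zero]
          · have hα' : α' = α := m.toSyn.injective heq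
            subst hα'
            have : β' = m.degree g := add_left_cancel hmem
            exact (hne (by rw [this])).elim
          · have := congrArg (coeff β') (hgt α' hgt')
            simpa [coeff_smul] using this
        · intro h
          exact (h (Finset.mem_antidiagonal.mpr rfl)).elim
      have hsupp : (f.coeff α • g).support ⊂ g.support := by
        refine ⟨support_smul, fun hsub => ?_⟩
        have h1 : m.degree g ∈ (f.coeff α • g).support := hsub (m.degree_mem_support hg)
        rw [mem_support_iff, coeff_smul, smul_eq_mul] at h1
        exact h1 key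
      have hcard : (f.coeff α • g).support.card < N := by
        rw [← hN]
        exact Finset.card_lt_card hsupp
      exact ih _ hcard (f.coeff α • g) rfl hα (by rw [mul_smul_comm, hfg, smul_zero])

theorem mcCoy (f g : MvPolynomial σ R) (hg : g ≠ 0) (hfg : f * g = 0) :
    ∃ a : R, a ≠ 0 ∧ a • f = 0 :=
  mcCoy_aux m f _ g rfl hg hfg

/-- A polynomial whose coefficients generate the unit ideal is a non-zero-divisor. -/
theorem eq_zero_of_primitive_mul (f g : MvPolynomial σ R)
    (hf : Ideal.span (Set.range f.coeff) = ⊤) (hfg : f * g = 0) : g = 0 := by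
  by_contra hg
  obtain ⟨a, ha, haf⟩ := mcCoy m f g hg hfg
  apply ha
  have hle : Ideal.span (Set.range f.coeff) ≤ Submodule.comap (LinearMap.lsmul R R a) ⊥ := by
    rw [Ideal.span_le]
    rintro _ ⟨α, rfl⟩
    have := congrArg (coeff α) haf
    rw [coeff_smul, coeff_zero] at this
    exact this
  rw [hf] at hle
  have h1 : (1 : R) ∈ Submodule.comap (LinearMap.lsmul R R a) ⊥ := hle Submodule.mem_top
  simpa using h1

end McCoy

section Flat

open TensorProduct LinearMap

variable {A : Type u} [CommRing A] {P : Type v} [AddCommGroup P] [Module A P]

/-- The image of `I ⊗ P → A ⊗ P ≅ P` is `I • ⊤`. -/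
theorem range_lid_comp_rTensor (I : Ideal A) :
    LinearMap.range ((TensorProduct.lid A P).toLinearMap ∘ₗ rTensor P I.subtype)
      = I • (⊤ : Submodule A P) := by
  apply le_antisymm
  · rintro _ ⟨z, rfl⟩
    induction z using TensorProduct.induction_on with
    | zero => simp
    | tmul a p =>
      simp only [LinearMap.coe_comp, LinearEquiv.coe_coe, Function.comp_apply, rTensor_tmul,
        Submodule.subtype_apply, lid_tmul]
      exact Submodule.smul_mem_smul a.2 Submodule.mem_top
    | add x y hx hy =>
      rw [map_add]
      exact Submodule.add_mem _ hx hy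
  · rw [Submodule.smul_le]
    intro a ha p _
    exact ⟨(⟨a, ha⟩ : I) ⊗ₜ[A] p, by simp⟩

/-- Let `φ` be an endomorphism of a flat module `P` such that `φ q ∈ I P` implies `q ∈ I P` for
every ideal `I` (i.e. `φ` is injective modulo every ideal).  Then the cokernel of `φ` is flat. -/
theorem flat_quotient_range_of_injective_mod [Module.Flat A P] (φ : P →ₗ[A] P)
    (h : ∀ (I : Ideal A) (q : P), φ q ∈ I • (⊤ : Submodule A P) → q ∈ I • (⊤ : Submodule A P)) :
    Module.Flat A (P ⧸ LinearMap.range φ) := by
  rw [Module.Flat.iff_rTensor_injective']
  intro I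
  rw [injective_iff_map_eq_zero]
  intro x hx
  set π : P →ₗ[A] P ⧸ LinearMap.range φ := (LinearMap.range φ).mkQ with hπ
  have hπsurj : Function.Surjective π := Submodule.mkQ_surjective _
  obtain ⟨z, rfl⟩ := lTensor_surjective I hπsurj x
  -- the image of z in P
  set w : P := TensorProduct.lid A P (rTensor P I.subtype z) with hw
  have hwI : w ∈ I • (⊤ : Submodule A P) := by
    rw [← range_lid_comp_rTensor]
    exact ⟨z, rfl⟩
  have hπw : π w = 0 := by
    have h1 : π w = TensorProduct.lid A _ (lTensor A π (rTensor P I.subtype z)) := by
      rw [hw]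
      generalize rTensor P I.subtype z = y
      induction y using TensorProduct.induction_on with
      | zero => simp
      | tmul a p => simp
      | add x y hx hy => simp only [map_add, hx, hy]
    have h2 : lTensor A π (rTensor P I.subtype z) = rTensor _ I.subtype (lTensor I π z) := by
      rw [← LinearMap.comp_apply, ← LinearMap.comp_apply, lTensor_comp_rTensor, rTensor_comp_lTensor]
    rw [h1, h2, hx, map_zero]
  obtain ⟨q, hq⟩ : ∃ q, φ q = w := by
    have : w ∈ LinearMap.range φ := by
      rw [← Submodule.ker_mkQ (LinearMap.range φ)]
      exact hπw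
    exact this
  have hqI : q ∈ I • (⊤ : Submodule A P) := h I q (hq ▸ hwI)
  rw [← range_lid_comp_rTensor] at hqI
  obtain ⟨z', hz'⟩ := hqI
  have hz'' : TensorProduct.lid A P (rTensor P I.subtype z') = q := hz'
  -- z = (I ⊗ φ) z'
  have hzz' : z = lTensor I φ z' := by
    apply Module.Flat.rTensor_preserves_injective_linearMap (M := P) I.subtype
      Subtype.val_injective
    apply (TensorProduct.lid A P).injective
    have h3 : rTensor P I.subtype (lTensor I φ z') = lTensor A φ (rTensor P I.subtype z') := by
      rw [← LinearMap.comp_apply, ← LinearMap.comp_apply, lTensor_comp_rTensor, rTensor_comp_lTensor]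
    have h4 : ∀ y : A ⊗[A] P, TensorProduct.lid A P (lTensor A φ y) = φ (TensorProduct.lid A P y) := by
      intro y
      induction y using TensorProduct.induction_on with
      | zero => simp
      | tmul a p => simp
      | add x y hx hy => simp only [map_add, hx, hy]
    rw [h3, h4, hz'', hq]
  rw [hzz', ← LinearMap.comp_apply, ← lTensor_comp]
  have : π ∘ₗ φ = 0 := by
    ext p
    simp only [LinearMap.comp_apply, LinearMap.zero_apply, hπ, Submodule.mkQ_apply,
      Submodule.Quotient.mk_eq_zero]
    exact ⟨p, rfl⟩
  rw [this, lTensor_zero, LinearMap.zero_apply]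

end Flat

end Groth.Agent.Lib.Helper39
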