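import Mathlib.RingTheory.SimpleModule.WedderburnArtin
import Mathlib.RingTheory.SimpleRing.Matrix
import Mathlib.LinearAlgebra.Dimension.Constructions
import Mathlib.LinearAlgebra.FiniteDimensional.Lemmas
import Mathlib.Data.Matrix.Basis
import Mathlib.Tactic
import Groth.Agent.Lib.Helper1.CSA.SimpleModules

/-!
# Cancelling matrix rings: `M_n(A) ≃ M_n(A')` implies `A ≃ A'` for simple finite-dimensional algebras
(helper39)
-/

set_option autoImplicit false
universe u v w

namespace Groth.Agent.Lib.Helper39

section Idem
variable {R : Type*} [Ring R]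

/-- If the principal left ideals `Rf` and `Rg` generated by two idempotents are isomorphic as left
modules, then there are `u ∈ fRg`, `v ∈ gRf` with `uv = f` and `vu = g`. -/
theorem exists_mul_eq_of_span_singleton_equiv (f g : R) (hf : f * f = f) (hg : g * g = g)
    (α : Submodule.span R {f} ≃ₗ[R] Submodule.span R {g}) :
    ∃ u v : R, u * v = f ∧ v * u = g ∧ v * f = v ∧ u * g = u := by
  set F : Submodule.span R {f} := ⟨f, Submodule.mem_span_singleton_self f⟩ with hF
  set G : Submodule.span R {g} := ⟨g, Submodule.mem_span_singleton_self g⟩ with hG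
  have hug : (α F).1 * g = (α F).1 := by
    obtain ⟨a, ha⟩ := Submodule.mem_span_singleton.mp (α F).2
    rw [← ha, smul_eq_mul, mul_assoc, hg]
  have hvf : (α.symm G).1 * f = (α.symm G).1 := by
    obtain ⟨a, ha⟩ := Submodule.mem_span_singleton.mp (α.symm G).2
    rw [← ha, smul_eq_mul, mul_assoc, hf]
  refine ⟨(α F).1, (α.symm G).1, ?_, ?_, hvf, hug⟩
  · have h1 : (α F).1 • G = α F := Subtype.ext (by simpa [hG] using hug)
    have h2 := congrArg α.symm h1
    rw [map_smul, LinearEquiv.symm_apply_apply] at h2
    have h3 := congrArg Subtype.val h2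
    simpa [hF] using h3
  · have h1 : (α.symm G).1 • F = α.symm G := Subtype.ext (by simpa [hF] using hvf)
    have h2 := congrArg α h1
    rw [map_smul, LinearEquiv.apply_symm_apply] at h2
    have h3 := congrArg Subtype.val h2
    simpa [hG] using h3

end Idem

section Dim
variable (k : Type u) [Field k] {B : Type v} [Ring B] [Algebra k B] {R : Type w} [Ring R]
  [Algebra k R] {n : ℕ} [NeZero n]

/-- the matrix with given `0`-th column and zeros elsewhere -/
def colMat (w : Fin n → B) : Matrix (Fin n) (Fin n) B :=
  Matrix.of fun i j => if j = 0 then w i else 0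

theorem colMat_apply (w : Fin n → B) (i j : Fin n) : colMat w i j = if j = 0 then w i else 0 := rfl

theorem colMat_mul_single (w : Fin n → B) : colMat w * Matrix.single 0 0 1 = colMat w := by
  ext i j
  by_cases hj : j = 0
  · subst hj
    simp [colMat_apply]
  · simp [colMat_apply, hj, Matrix.mul_apply, Ne.symm hj]

theorem mul_single_eq_colMat (X : Matrix (Fin n) (Fin n) B) :
    X * Matrix.single 0 0 1 = colMat (fun i => X i 0) := by
  ext i j
  by_cases hj : j = 0
  · subst hj
    simp [colMat_apply]
  · simp [colMat_apply, hj, Matrix.mul_apply, Ne.symm hj]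

theorem finrank_span_singleton_map_single [Module.Finite k B] (φ : Matrix (Fin n) (Fin n) B ≃ₐ[k] R) :
    Module.finrank k (Submodule.span R {φ (Matrix.single 0 0 1)}) = n * Module.finrank k B := by
  let e : (Fin n → B) ≃ₗ[k] Submodule.span R {φ (Matrix.single 0 0 1)} :=
    { toFun := fun w => ⟨φ (colMat w), Submodule.mem_span_singleton.mpr
        ⟨φ (colMat w), by rw [smul_eq_mul, ← map_mul, colMat_mul_single]⟩⟩
      map_add' := fun w w' => by
        apply Subtype.ext
        simp only [Submodule.coe_add]
        rw [← map_add]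
        congr 1
        ext i j
        simp only [colMat_apply, Matrix.add_apply, Pi.add_apply]
        split_ifs <;> simp
      map_smul' := fun c w => by
        apply Subtype.ext
        change φ (colMat (c • w)) = c • φ (colMat w)
        rw [← map_smul]
        congr 1
        ext i j
        simp only [colMat_apply, Matrix.smul_apply, Pi.smul_apply]
        split_ifs <;> simp
      invFun := fun x i => (φ.symm x.1) i 0
      left_inv := fun w => by
        funext i
        simp [colMat_apply]
      right_inv := fun x => by
        apply Subtype.ext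
        obtain ⟨a, ha⟩ := Submodule.mem_span_singleton.mp x.2
        simp only
        have h1 : φ.symm x.1 = φ.symm a * Matrix.single 0 0 1 := by
          rw [← ha, smul_eq_mul, map_mul, AlgEquiv.symm_apply_apply]
        have h2 : colMat (fun i => (φ.symm x.1) i 0) = φ.symm x.1 := by
          rw [h1, mul_single_eq_colMat]
          ext i j
          simp [colMat_apply]
        rw [h2, AlgEquiv.apply_symm_apply] }
  rw [← e.finrank_eq, Module.finrank_pi_fintype]
  simp

end Dim

section Main

theorem nonempty_algEquiv_of_matrix_algEquiv (k : Type u) [Field k]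
    (A : Type v) [Ring A] [Algebra k A] [IsSimpleRing A] [FiniteDimensional k A]
    (A' : Type w) [Ring A'] [Algebra k A'] [IsSimpleRing A'] [FiniteDimensional k A']
    (n : ℕ) [NeZero n] (φ : Matrix (Fin n) (Fin n) A ≃ₐ[k] Matrix (Fin n) (Fin n) A') :
    Nonempty (A ≃ₐ[k] A') := by
  have hn : n ≠ 0 := NeZero.ne n
  have hart : IsArtinianRing (Matrix (Fin n) (Fin n) A') :=
    IsArtinianRing.of_finite k (Matrix (Fin n) (Fin n) A')
  have hdim : Module.finrank k A = Module.finrank k A' := by
    have h1 := φ.toLinearEquiv.finrank_eq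
    rw [Module.finrank_matrix, Module.finrank_matrix] at h1
    simp only [Fintype.card_fin] at h1
    have hnn : n * n ≠ 0 := mul_ne_zero hn hn
    exact Nat.eq_of_mul_eq_mul_left (Nat.pos_of_ne_zero hnn) h1
  set f : Matrix (Fin n) (Fin n) A' := φ (Matrix.single 0 0 1) with hfdef
  set g : Matrix (Fin n) (Fin n) A' := Matrix.single 0 0 1 with hgdef
  have hf : f * f = f := by rw [hfdef, ← map_mul]; simp
  have hg : g * g = g := by simp [hgdef]
  have hfin1 : Module.finrank k (Submodule.span (Matrix (Fin n) (Fin n) A') {f}) =
      n * Module.finrank k A := finrank_span_singleton_map_single k φ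
  have hfin2 : Module.finrank k (Submodule.span (Matrix (Fin n) (Fin n) A') {g}) =
      n * Module.finrank k A' := by
    have := finrank_span_singleton_map_single k
      (AlgEquiv.refl : Matrix (Fin n) (Fin n) A' ≃ₐ[k] Matrix (Fin n) (Fin n) A')
    rw [hgdef]
    exact this
  have hF1 : Module.Finite k (Submodule.span (Matrix (Fin n) (Fin n) A') {f}) :=
    Module.Finite.of_injective
      ((Submodule.span (Matrix (Fin n) (Fin n) A') {f}).subtype.restrictScalars k)
      Subtype.val_injective
  have hF2 : Module.Finite k (Submodule.span (Matrix (Fin n) (Fin n) A') {g}) :=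
    Module.Finite.of_injective
      ((Submodule.span (Matrix (Fin n) (Fin n) A') {g}).subtype.restrictScalars k)
      Subtype.val_injective
  obtain ⟨α⟩ := Groth.Agent.Lib.Helper1.nonempty_linearEquiv_of_finrank_eq k
    (Matrix (Fin n) (Fin n) A') (Submodule.span (Matrix (Fin n) (Fin n) A') {f})
    (Submodule.span (Matrix (Fin n) (Fin n) A') {g}) (by rw [hfin1, hfin2, hdim])
  obtain ⟨u, v, huv, hvu, hvf, hug⟩ := exists_mul_eq_of_span_singleton_equiv f g hf hg α
  let ψl : A →ₗ[k] A' :=
    { toFun := fun a => (v * φ (Matrix.single 0 0 a) * u) 0 0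
      map_add' := fun a b => by
        rw [Matrix.single_add, map_add, mul_add, add_mul, Matrix.add_apply]
      map_smul' := fun c a => by
        rw [← Matrix.smul_single, map_smul, mul_smul_comm, smul_mul_assoc, Matrix.smul_apply]
        rfl }
  have hψl : ∀ a, ψl a = (v * φ (Matrix.single 0 0 a) * u) 0 0 := fun a => rfl
  have hone : ψl 1 = 1 := by
    rw [hψl, ← hfdef, hvf, hvu, hgdef]
    simp
  have hX : ∀ a, (v * φ (Matrix.single 0 0 a) * u) * g = v * φ (Matrix.single 0 0 a) * u := by
    intro a
    rw [mul_assoc _ u g, hug]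
  have hmul : ∀ a b, ψl (a * b) = ψl a * ψl b := by
    intro a b
    have h1 : (Matrix.single 0 0 (a * b) : Matrix (Fin n) (Fin n) A) =
        Matrix.single 0 0 a * Matrix.single 0 0 1 * Matrix.single 0 0 b := by
      simp
    have h2 : v * φ (Matrix.single 0 0 (a * b)) * u =
        (v * φ (Matrix.single 0 0 a) * u) * (v * φ (Matrix.single 0 0 b) * u) := by
      rw [h1, map_mul, map_mul, ← hfdef, ← huv]
      simp only [mul_assoc]
    rw [hψl, hψl, hψl, h2]
    conv_lhs => rw [← hX a, hgdef]
    rw [Matrix.mul_apply]
    rw [Finset.sum_eq_single 0]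
    · simp
    · intro j _ hj
      have : (v * φ (Matrix.single 0 0 a) * u *
          (Matrix.single 0 0 1 : Matrix (Fin n) (Fin n) A')) 0 j = 0 := by
        simp [Matrix.mul_apply, Ne.symm hj]
      rw [this, zero_mul]
    · simp
  let ψ : A →ₐ[k] A' := AlgHom.ofLinearMap ψl hone hmul
  have hinj : Function.Injective ψ := (ψ : A →+* A').injective
  have hsurj : Function.Surjective ψ := by
    have := (LinearMap.injective_iff_surjective_of_finrank_eq_finrank
      (f := ψ.toLinearMap) hdim).mp hinj
    exact this
  exact ⟨AlgEquiv.ofBijective ψ ⟨hinj, hsurj⟩⟩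

end Main

end Groth.Agent.Lib.Helper39
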