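import Groth.Agent.Lib.Helper39.CanonRC
import Groth.Agent.Lib.Helper82.GCICM

/-!
# `R → End(K)` is bijective for a canonical module `K` of a CM local ring (helper39)
-/

set_option autoImplicit false
universe u

namespace Groth.Agent.Lib.Helper39.CanonRC

open CategoryTheory IsLocalRing Groth.Agent.Lib.Helper2 Groth.Agent.Lib.Helper60 Pointwise
  RingTheory.Sequence Groth.Agent.Lib.Helper29

section LemmaA

variable {R : Type u} [CommRing R] [IsLocalRing R]
  {E : Type u} [AddCommGroup E] [Module R E] {f : ResidueField R →ₗ[R] E}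

/-- If the Matlis dual of `K` is free of rank one then `R → End(K)` is bijective. -/
theorem bijective_of_dual_equiv_self (hf : InjHull.IsInjectiveHull f)
    (K : Type u) [AddCommGroup K] [Module R K] (e : (K →ₗ[R] E) ≃ₗ[R] R) :
    Function.Bijective (fun r : R => r • (LinearMap.id : K →ₗ[R] K)) := by
  constructor
  · intro r s hrs
    have hrs' : ∀ x : K, r • x = s • x := fun x => by
      have := congrArg (fun g : K →ₗ[R] K => g x) hrs
      simpa using this
    have h1 : ∀ χ : K →ₗ[R] E, (r - s) • χ = 0 := by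
      intro χ
      ext x
      show (r - s) • χ x = 0
      rw [← map_smul, sub_smul, hrs' x, sub_self, map_zero]
    have h2 : (r - s) • (1 : R) = 0 := by
      have h3 := congrArg e (h1 (e.symm 1))
      rwa [map_smul, e.apply_symm_apply, map_zero] at h3
    rw [smul_eq_mul, mul_one, sub_eq_zero] at h2
    exact h2
  · intro φ
    set r := e ((e.symm 1).comp φ) with hr
    refine ⟨r, ?_⟩
    have h1 : ∀ χ : K →ₗ[R] E, χ.comp φ = r • χ := by
      intro χ
      have h2 : χ = (e χ) • e.symm 1 := by
        apply e.injective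
        rw [map_smul, e.apply_symm_apply, smul_eq_mul, mul_one]
      apply e.injective
      rw [map_smul]
      conv_lhs => rw [h2]
      rw [LinearMap.smul_comp, map_smul, ← hr, smul_eq_mul, smul_eq_mul, mul_comm]
    by_contra hne
    have hex : ∃ x : K, r • x - φ x ≠ 0 := by
      by_contra hall
      push Not at hall
      apply hne
      ext x
      have := hall x
      rw [sub_eq_zero] at this
      simpa using this
    obtain ⟨x, hx⟩ := hex
    obtain ⟨χ, hχ⟩ := exists_hom_apply_ne_zero hf _ hx
    apply hχ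
    have h3 := congrArg (fun g : K →ₗ[R] E => g x) (h1 χ)
    simp only [LinearMap.comp_apply, LinearMap.smul_apply] at h3
    rw [map_sub, map_smul, h3, sub_self]

end LemmaA

section DimZero

variable (R : Type u) [CommRing R] [IsLocalRing R] [IsNoetherianRing R]

/-- `H^0_m(R) ≅ R` when `dim R = 0`. -/
theorem nonempty_lc_zero_equiv_self (h0 : ringKrullDim R = 0) :
    Nonempty (LocCoh.H (maximalIdeal R) 0 R ≃ₗ[R] R) := by
  have hK : Ring.KrullDimLE 0 R := by
    rw [Ring.krullDimLE_iff, h0]
    rfl
  have hA : IsArtinianRing R := isArtinianRing_iff_krullDimLE_zero.mpr hK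
  obtain ⟨k, hk⟩ := (isArtinianRing_iff_isNilpotent_maximalIdeal R).mp hA
  have htop : DRing.torsionSub (maximalIdeal R) R = ⊤ := by
    rw [eq_top_iff]
    intro x _
    refine ⟨k, fun a ha => ?_⟩
    rw [hk] at ha
    have : a = 0 := ha
    rw [this, zero_smul]
  exact ⟨(lcH0Equiv (maximalIdeal R) (ModuleCat.of R R)).trans
    ((LinearEquiv.ofEq _ _ htop).trans Submodule.topEquiv)⟩

end DimZero

section Quot

variable {R : Type u} [CommRing R] [LocCoh.IsCohenMacaulayLocalRing R]

theorem isLocalRing_quotient (J : Ideal R) (hJ : J ≤ maximalIdeal R) : IsLocalRing (R ⧸ J) := by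
  haveI : Nontrivial (R ⧸ J) := Ideal.Quotient.nontrivial_iff.mpr (fun h => by
    have : (1 : R) ∈ maximalIdeal R := hJ (h ▸ Submodule.mem_top)
    exact (Ideal.ne_top_iff_one _).mp (IsLocalRing.maximalIdeal.isMaximal R).ne_top this)
  exact IsLocalRing.of_surjective' _ Ideal.Quotient.mk_surjective

theorem ofList_singleton_le {a : R} (ha : a ∈ maximalIdeal R) :
    Ideal.ofList [a] ≤ maximalIdeal R := by
  rw [Ideal.ofList_singleton, Ideal.span_singleton_le_iff_mem]
  exact ha

/-- `R/(a)` is a CM local ring of dimension `n` when `dim R = n + 1` and `a ∈ m` is regular. -/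
theorem quotient_cm {n : ℕ} (hn : ringKrullDim R = (n + 1 : ℕ)) {a : R}
    (ha : a ∈ maximalIdeal R) (hreg : IsSMulRegular R a) :
    LocCoh.IsCohenMacaulayLocalRing (R ⧸ Ideal.ofList [a]) ∧
      ringKrullDim (R ⧸ Ideal.ofList [a]) = n := by
  haveI := isLocalRing_quotient (Ideal.ofList [a]) (ofList_singleton_le ha)
  refine ⟨Groth.Agent.Lib.Helper82.GCICM.isCohenMacaulayLocalRing_quotient
    (LocCoh.IsCohenMacaulayLocalRing.supportDim_eq_depth) [a] (by simpa using ha)
    ((isWeaklyRegular_singleton_iff R a).mpr hreg) _ rfl, ?_⟩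
  have h1 := ringKrullDim_quotient_span_singleton_succ_eq_ringKrullDim hreg ha
  rw [hn, ← Ideal.ofList_singleton] at h1
  have h2 : ringKrullDim (R ⧸ Ideal.ofList [a]) ≠ ⊤ := by
    intro htop
    have h3 := ringKrullDim_quotient_le (Ideal.ofList [a])
    rw [htop, hn, top_le_iff] at h3
    exact absurd h3 (by
      intro h4
      have h5 : ((n + 1 : ℕ) : WithBot ℕ∞) = ((⊤ : ℕ∞) : WithBot ℕ∞) := h4
      have h6 := WithBot.coe_injective h5
      exact absurd h6 (ENat.coe_ne_top _))
  apply withBot_enat_add_one_cancel h2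
  rw [h1]
  push_cast
  rfl

end Quot

section Main

instance instIsScalarTowerQuot {R : Type u} [CommRing R] (J : Ideal R) (K : Type u) [AddCommGroup K]
    [Module R K] : IsScalarTower R (R ⧸ J) (K ⧸ J • (⊤ : Submodule R K)) :=
  ⟨fun r s x => by
    obtain ⟨s, rfl⟩ := Ideal.Quotient.mk_surjective s
    obtain ⟨x, rfl⟩ := Submodule.Quotient.mk_surjective _ x
    show Submodule.Quotient.mk ((r • s) • x) = Submodule.Quotient.mk (r • s • x)
    rw [smul_assoc]⟩

/-- **`R → End_R(K)` is bijective** for a canonical module `K` of a CM local ring. -/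
theorem bijective_smul_id : ∀ (n : ℕ) (R : Type u) [CommRing R]
    [LocCoh.IsCohenMacaulayLocalRing R] (_ : ringKrullDim R = n)
    (E : Type u) [AddCommGroup E] [Module R E]
    (f : ResidueField R →ₗ[R] E) (_ : InjHull.IsInjectiveHull f)
    (K : Type u) [AddCommGroup K] [Module R K] [Module.Finite R K]
    (_ : (K →ₗ[R] E) ≃ₗ[R] LocCoh.H (maximalIdeal R) n R),
    Function.Bijective (fun r : R => r • (LinearMap.id : K →ₗ[R] K)) := by
  intro n
  induction n with
  | zero =>
    intro R _ _ hn E _ _ f hf K _ _ _ eK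
    obtain ⟨e0⟩ := nonempty_lc_zero_equiv_self R (by exact_mod_cast hn)
    exact bijective_of_dual_equiv_self hf K (eK.trans e0)
  | succ n ih =>
    intro R _ _ hn E _ _ f hf K _ _ _ eK
    obtain ⟨a, ha, hreg⟩ : ∃ a ∈ maximalIdeal R, IsSMulRegular R a := by
      have hd : ((1 : ℕ) : ℕ∞) ≤ LocCoh.idealDepth (maximalIdeal R) R := by
        rw [Groth.Agent.Lib.Helper39.CanonShift.depth_self_eq (R := R) hn]
        exact_mod_cast Nat.succ_le_succ (Nat.zero_le n)
      rcases (le_idealDepth_iff (maximalIdeal R) R 1).mp hd with h | ⟨rs, hlen, hmem, hwr⟩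
      · exact absurd h (maximalIdeal_smul_top_ne_top R R)
      · match rs, hlen, hmem, hwr with
        | [a], _, hmem, hwr =>
          exact ⟨a, hmem a (by simp), (isWeaklyRegular_singleton_iff R a).mp hwr⟩
    obtain ⟨hCM, hdim⟩ := quotient_cm hn ha hreg
    haveI := hCM
    have hKreg := Groth.Agent.Lib.Helper39.CanonShift.isSMulRegular_K hn hf eK ha hreg
    have hwr : IsWeaklyRegular R [a] := (isWeaklyRegular_singleton_iff R a).mpr hreg
    have hmem : ∀ r ∈ [a], r ∈ maximalIdeal R := by simpa using ha
    have hR : IsRegular R [a] :=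
      isRegular_of_isWeaklyRegular_of_mem (maximalIdeal_smul_top_ne_top R R) hwr hmem
    obtain ⟨e1⟩ := Groth.Agent.Lib.Helper39.CanonShift.dual_quotient_of_isRegular hn eK [a] hmem hR
    have hlen : n + 1 - [a].length = n := by simp
    rw [hlen] at e1
    obtain ⟨E', iAG, iMod, f', hf', ⟨eK'⟩⟩ := exists_ringChange hf (Ideal.ofList [a])
      (K ⧸ Ideal.ofList [a] • (⊤ : Submodule R K)) n e1
    haveI : Module.Finite (R ⧸ Ideal.ofList [a]) (K ⧸ Ideal.ofList [a] • (⊤ : Submodule R K)) :=
      Module.Finite.of_restrictScalars_finite R _ _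
    have hbij := ih (R ⧸ Ideal.ofList [a]) hdim E' f' hf'
      (K ⧸ Ideal.ofList [a] • (⊤ : Submodule R K)) eK'
    have hJa : Ideal.ofList [a] • (⊤ : Submodule R K) = a • (⊤ : Submodule R K) := by
      rw [Ideal.ofList_singleton, Submodule.ideal_span_singleton_smul]
    let ι : R →ₗ[R] (K →ₗ[R] K) := LinearMap.toSpanSingleton R _ LinearMap.id
    have hι : ∀ r : R, ι r = r • (LinearMap.id : K →ₗ[R] K) := fun r => rfl
    have hjac : maximalIdeal R ≤ Ideal.jacobson ⊥ := by
      rw [IsLocalRing.jacobson_eq_maximalIdeal ⊥ bot_ne_top]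
    constructor
    · have hker : LinearMap.ker ι = ⊥ := by
        apply Submodule.eq_bot_of_le_smul_of_le_jacobson_bot (maximalIdeal R) _
          (IsNoetherian.noetherian _) ?_ hjac
        intro r hr
        have hr' : ∀ x : K, r • x = 0 := fun x => by
          have h0 := congrArg (fun g : K →ₗ[R] K => g x) (LinearMap.mem_ker.mp hr)
          simpa [hι] using h0
        have h1 : (Ideal.Quotient.mk (Ideal.ofList [a]) r) •
            (LinearMap.id : (K ⧸ Ideal.ofList [a] • (⊤ : Submodule R K)) →ₗ[R ⧸ Ideal.ofList [a]] _)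
            = (0 : R ⧸ Ideal.ofList [a]) • LinearMap.id := by
          refine LinearMap.ext fun x => ?_
          obtain ⟨x, rfl⟩ := Submodule.Quotient.mk_surjective _ x
          rw [zero_smul, LinearMap.zero_apply, LinearMap.smul_apply, LinearMap.id_apply]
          show Submodule.Quotient.mk (r • x) = 0
          rw [hr' x, Submodule.Quotient.mk_zero]
        have h2 : Ideal.Quotient.mk (Ideal.ofList [a]) r = 0 := hbij.1 h1
        rw [Ideal.Quotient.eq_zero_iff_mem, Ideal.ofList_singleton,
          Ideal.mem_span_singleton'] at h2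
        obtain ⟨r', rfl⟩ := h2
        have hr'ker : r' ∈ LinearMap.ker ι := by
          rw [LinearMap.mem_ker, hι]
          refine LinearMap.ext fun x => ?_
          show r' • x = 0
          apply hKreg
          show a • r' • x = a • 0
          rw [smul_zero, ← mul_smul, mul_comm]
          exact hr' x
        rw [mul_comm]
        exact Submodule.smul_mem_smul ha hr'ker
      intro r s hrs
      have h3 : r - s ∈ LinearMap.ker ι := by
        rw [LinearMap.mem_ker, map_sub, hι, hι]
        exact sub_eq_zero.mpr hrs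
      rw [hker, Submodule.mem_bot] at h3
      exact sub_eq_zero.mp h3
    · haveI : Module.Finite R (K →ₗ[R] K) := Module.IsNoetherian.finite R _
      have hrange : (⊤ : Submodule R (K →ₗ[R] K)) ≤ LinearMap.range ι := by
        apply Submodule.le_of_le_smul_of_le_jacobson_bot (I := maximalIdeal R)
          Module.Finite.fg_top hjac ?_
        intro g _
        have hg := Submodule.smul_top_le_comap_smul_top (Ideal.ofList [a]) g
        let gbar : (K ⧸ Ideal.ofList [a] • (⊤ : Submodule R K)) →ₗ[R]
            (K ⧸ Ideal.ofList [a] • (⊤ : Submodule R K)) := Submodule.mapQ _ _ g hg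
        obtain ⟨s, hs⟩ := hbij.2 (LinearMap.extendScalarsOfSurjective
          (Ideal.Quotient.mk_surjective : Function.Surjective
            (algebraMap R (R ⧸ Ideal.ofList [a]))) gbar)
        obtain ⟨r, rfl⟩ := Ideal.Quotient.mk_surjective s
        have h1 : ∀ x : K, (g - r • (LinearMap.id : K →ₗ[R] K)) x ∈
            a • (⊤ : Submodule R K) := by
          intro x
          rw [← hJa, ← Submodule.Quotient.mk_eq_zero]
          have h0 := congrArg (fun h => h (Submodule.Quotient.mk x)) hs
          simp only [LinearMap.smul_apply, LinearMap.id_apply,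
            LinearMap.extendScalarsOfSurjective_apply] at h0
          have h2 : gbar (Submodule.Quotient.mk x) = Submodule.Quotient.mk (g x) := rfl
          rw [h2] at h0
          rw [LinearMap.sub_apply, LinearMap.smul_apply, LinearMap.id_apply,
            Submodule.Quotient.mk_sub, ← h0]
          exact sub_eq_zero.mpr rfl
        obtain ⟨g', hg'⟩ :=
          (Groth.Agent.Lib.Helper39.CanonShift.endo_range_le_iff hKreg _).mp h1
        have h3 : g = ι r + a • g' := by
          rw [← hg', hι]
          abel
        rw [h3]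
        exact Submodule.add_mem_sup ⟨r, rfl⟩ (Submodule.smul_mem_smul ha Submodule.mem_top)
      intro g
      obtain ⟨r, hr⟩ := hrange (Submodule.mem_top (x := g))
      exact ⟨r, hr⟩

end Main

end Groth.Agent.Lib.Helper39.CanonRC
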