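import Groth.Agent.Lib.Helper60.LocalCohCd
import Groth.Agent.Lib.Helper60.LocalCohDepth
import Groth.Agent.Lib.Helper60.LocalCohLES
import Groth.Agent.Lib.Helper60.GrothVanishing

/-!
# Dimension shifting for local cohomology over a Cohen–Macaulay local ring (helper39)
-/

set_option autoImplicit false
universe u

namespace Groth.Agent.Lib.Helper39.CanonShift

open CategoryTheory Abelian Opposite Groth.Agent.Lib.Helper60 IsLocalRing

variable {R : Type u} [CommRing R]

section Shift

variable (J : Ideal R) {S : ShortComplex (ModuleCat.{u} R)} (hS : S.ShortExact)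

lemma lcDelta_injective (j : ℕ) (h1 : Subsingleton ((localCohomology J j).obj S.X₂)) :
    Function.Injective (lcDelta J hS j) := by
  rw [injective_iff_map_eq_zero]
  intro y hy
  obtain ⟨y₂, rfl⟩ := lc_exact₃ J hS j y hy
  rw [Subsingleton.elim y₂ 0, map_zero]

lemma lcDelta_surjective (j : ℕ) (h2 : Subsingleton ((localCohomology J (j + 1)).obj S.X₂)) :
    Function.Surjective (lcDelta J hS j) := by
  intro y
  exact lc_exact₁ J hS j y (Subsingleton.elim _ _)

/-- `H^j(X₃) ≃ H^{j+1}(X₁)` when `H^j(X₂) = 0 = H^{j+1}(X₂)` -/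
noncomputable def lcShiftEquiv (j : ℕ) (h1 : Subsingleton ((localCohomology J j).obj S.X₂))
    (h2 : Subsingleton ((localCohomology J (j + 1)).obj S.X₂)) :
    (localCohomology J j).obj S.X₃ ≃ₗ[R] (localCohomology J (j + 1)).obj S.X₁ :=
  LinearEquiv.ofBijective (lcDelta J hS j)
    ⟨lcDelta_injective J hS j h1, lcDelta_surjective J hS j h2⟩

/-- `H^j(X₃) ≃ ker (H^{j+1}(X₁) → H^{j+1}(X₂))` when `H^j(X₂) = 0` -/
noncomputable def lcShiftKerEquiv (j : ℕ) (h1 : Subsingleton ((localCohomology J j).obj S.X₂)) :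
    (localCohomology J j).obj S.X₃ ≃ₗ[R]
      LinearMap.ker ((localCohomology J (j + 1)).map S.f).hom := by
  refine LinearEquiv.ofBijective
    ((lcDelta J hS j).codRestrict _ (fun y => ?_)) ⟨?_, ?_⟩
  · rw [LinearMap.mem_ker]
    exact lcMap_comp_delta J hS j y
  · intro y y' h
    exact lcDelta_injective J hS j h1 (congrArg Subtype.val h)
  · rintro ⟨y, hy⟩
    rw [LinearMap.mem_ker] at hy
    obtain ⟨y₃, rfl⟩ := lc_exact₁ J hS j y hy
    exact ⟨y₃, rfl⟩

end Shift

section CM

variable [LocCoh.IsCohenMacaulayLocalRing R]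

/-- `H^j_m(R) = 0` for `j < dim R` over a Cohen–Macaulay local ring -/
theorem lc_ring_subsingleton_of_lt (n : ℕ) (hn : ringKrullDim R = n) (j : ℕ) (hj : j < n) :
    Subsingleton ((localCohomology (maximalIdeal R) j).obj (ModuleCat.of R R)) := by
  have h1 : Module.supportDim R R = ((LocCoh.depth R R : ℕ∞) : WithBot ℕ∞) :=
    LocCoh.IsCohenMacaulayLocalRing.supportDim_eq_depth
  rw [Module.supportDim_self_eq_ringKrullDim, hn] at h1
  have h2 : LocCoh.depth R R = (n : ℕ∞) := by
    have : ((n : ℕ∞) : WithBot ℕ∞) = ((LocCoh.depth R R : ℕ∞) : WithBot ℕ∞) := by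
      exact_mod_cast h1
    exact (WithBot.coe_injective this).symm
  have hIM : maximalIdeal R • (⊤ : Submodule R R) ≠ ⊤ := by
    rw [Ideal.smul_top_eq_map]
    simp only [Algebra.algebraMap_self, Ideal.map_id]
    intro h
    have : maximalIdeal R = ⊤ := by
      have := congrArg (Submodule.restrictScalars R) h
      exact this
    exact (maximalIdeal.isMaximal R).ne_top this
  exact ((idealDepth_eq_iff_lc (maximalIdeal R) R hIM n).mp h2).1 j hj

/-- `H^j_m(L) = 0` for `j < dim R` and `L` finite free -/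
theorem lc_free_subsingleton_of_lt (n : ℕ) (hn : ringKrullDim R = n) (j : ℕ) (hj : j < n) (b : ℕ) :
    Subsingleton ((localCohomology (maximalIdeal R) j).obj (ModuleCat.of R (Fin b → R))) :=
  lc_subsingleton_pi_fin _ j R (lc_ring_subsingleton_of_lt n hn j hj) b

end CM

end Groth.Agent.Lib.Helper39.CanonShift
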