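import Groth.Agent.Lib.Helper39.CanonExtShift
import Groth.Agent.Lib.Helper39.CanonLcShift
import Groth.Agent.Lib.Helper79.EWD

/-!
# Local duality with a canonical module over a Cohen–Macaulay local ring (helper39)

`H^j_m(M) ≃ Hom(Ext^i(M, K), E)` for `j + i = dim R`, `M` finite, by dimension shifting from the
natural isomorphism `H^n_m(M) ≃ Hom(Hom(M, K), E)` (helper79's Eilenberg–Watts library).
-/

set_option autoImplicit false
universe u

namespace Groth.Agent.Lib.Helper39.CanonShift

open CategoryTheory Abelian Opposite Groth.Agent.Lib.Helper60 IsLocalRing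
  Groth.Agent.Lib.Helper79.EW TensorProduct

section General

variable {R : Type u} [CommRing R] [IsNoetherianRing R]
  {F G : ModuleCat.{u} R ⥤ ModuleCat.{u} R} (hF : IsLin F) (hFr : IsRightExactFin F)
  (hG : IsLin G) (hGr : IsRightExactFin G)
  (e : F.obj (ModuleCat.of R R) ≃ₗ[R] G.obj (ModuleCat.of R R))

/-- the natural isomorphism between two linear right exact functors agreeing on `R` -/
noncomputable def etaGen (M : Type u) [AddCommGroup M] [Module R M] [Module.Finite R M] :
    F.obj (ModuleCat.of R M) ≃ₗ[R] G.obj (ModuleCat.of R M) :=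
  (LinearEquiv.ofBijective (theta F hF M) (theta_bijective hF hFr M)).symm.trans
  ((TensorProduct.congr e (LinearEquiv.refl R M)).trans
    (LinearEquiv.ofBijective (theta G hG M) (theta_bijective hG hGr M)))

lemma etaGen_theta (M : Type u) [AddCommGroup M] [Module R M] [Module.Finite R M]
    (s : F.obj (ModuleCat.of R R) ⊗[R] M) :
    etaGen hF hFr hG hGr e M (theta F hF M s) =
      theta G hG M (TensorProduct.congr e (LinearEquiv.refl R M) s) := by
  unfold etaGen
  rw [LinearEquiv.trans_apply, LinearEquiv.trans_apply]
  have : (LinearEquiv.ofBijective (theta F hF M) (theta_bijective hF hFr M)).symm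
      (theta F hF M s) = s := by
    rw [LinearEquiv.symm_apply_eq]
    rfl
  rw [this]
  rfl

theorem etaGen_natural {M N : Type u} [AddCommGroup M] [Module R M] [Module.Finite R M]
    [AddCommGroup N] [Module R N] [Module.Finite R N] (g : M →ₗ[R] N)
    (x : F.obj (ModuleCat.of R M)) :
    etaGen hF hFr hG hGr e N ((F.map (ModuleCat.ofHom g)).hom x) =
      (G.map (ModuleCat.ofHom g)).hom (etaGen hF hFr hG hGr e M x) := by
  obtain ⟨t, rfl⟩ := (theta_bijective hF hFr M).2 x
  rw [theta_natural, etaGen_theta, etaGen_theta, theta_natural]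
  congr 1
  induction t using TensorProduct.induction_on with
  | zero => simp
  | tmul y m => simp
  | add a b ha hb => rw [map_add, map_add, ha, hb, map_add, map_add]

end General

end Groth.Agent.Lib.Helper39.CanonShift
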