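import Groth.Agent.Lib.Helper39.CanonDuality

/-!
# Local duality with a canonical module over a Cohen–Macaulay local ring, II (helper39)
-/

set_option autoImplicit false
universe u

namespace Groth.Agent.Lib.Helper39.CanonShift

open CategoryTheory Abelian Opposite Groth.Agent.Lib.Helper60 IsLocalRing
  Groth.Agent.Lib.Helper79.EW TensorProduct

variable {R : Type u} [CommRing R] [IsNoetherianRing R] [IsLocalRing R]
  {n : ℕ} (hn : ringKrullDim R = n)
  {E : Type u} [AddCommGroup E] [Module R E] (hE : Module.Injective R E)
  {K : Type u} [AddCommGroup K] [Module R K]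
  (eK : (K →ₗ[R] E) ≃ₗ[R] (localCohomology (maximalIdeal R) n).obj (ModuleCat.of R R))

include hn in
theorem hvan (N : Type u) [AddCommGroup N] [Module R N] (hN : Module.Finite R N) :
    Subsingleton ((localCohomology (maximalIdeal R) (n + 1)).obj (ModuleCat.of R N)) := by
  apply lc_subsingleton_of_supportDim_lt_of_finite (maximalIdeal R) (n + 1) N
  refine lt_of_le_of_lt (Module.supportDim_le_ringKrullDim R N) ?_
  rw [hn]
  exact_mod_cast Nat.lt_succ_self n

/-- the value of the comparison on `R` -/
noncomputable def e0 : (localCohomology (maximalIdeal R) n).obj (ModuleCat.of R R) ≃ₗ[R]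
    (GG (R := R) K E).obj (ModuleCat.of R R) :=
  eK.symm.trans
    (LinearEquiv.arrowCongr (LinearMap.ringLmapEquivSelf R R K) (LinearEquiv.refl R E)).symm

/-- the natural isomorphism `H^n_m(M) ≃ Hom(Hom(M, K), E)` on finite modules -/
noncomputable def eta (M : Type u) [AddCommGroup M] [Module R M] [Module.Finite R M] :
    (localCohomology (maximalIdeal R) n).obj (ModuleCat.of R M) ≃ₗ[R]
      ((M →ₗ[R] K) →ₗ[R] E) :=
  etaGen (isLin_localCohomology (maximalIdeal R) n)
    (isRightExactFin_localCohomology (maximalIdeal R) n (hvan hn)) isLin_GG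
    (isRightExactFin_GG hE) (e0 eK) M

theorem eta_natural {M N : Type u} [AddCommGroup M] [Module R M] [Module.Finite R M]
    [AddCommGroup N] [Module R N] [Module.Finite R N] (g : M →ₗ[R] N)
    (x : (localCohomology (maximalIdeal R) n).obj (ModuleCat.of R M)) :
    eta hn hE eK N (((localCohomology (maximalIdeal R) n).map (ModuleCat.ofHom g)).hom x) =
      LinearMap.lcomp R E (LinearMap.lcomp R K g) (eta hn hE eK M x) :=
  etaGen_natural (isLin_localCohomology (maximalIdeal R) n)
    (isRightExactFin_localCohomology (maximalIdeal R) n (hvan hn)) isLin_GG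
    (isRightExactFin_GG hE) (e0 eK) g x

end Groth.Agent.Lib.Helper39.CanonShift
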