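import Groth.Agent.Lib.Helper39.CanonDuality2

/-!
# Local duality with a canonical module over a Cohen–Macaulay local ring, III (helper39)

`local_duality`: `H^j_m(M) ≃ Hom(Ext^i(M, K), E)` for `j + i = dim R`, `M` finite.
-/

set_option autoImplicit false
universe u

namespace Groth.Agent.Lib.Helper39.CanonShift

open CategoryTheory Abelian Opposite Groth.Agent.Lib.Helper60 IsLocalRing
  Groth.Agent.Lib.Helper79.EW TensorProduct

variable {R : Type u} [CommRing R] [LocCoh.IsCohenMacaulayLocalRing R]
  {E : Type u} [AddCommGroup E] [Module R E] (hE : Module.Injective R E)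
  {K : Type u} [AddCommGroup K] [Module R K]

/-- `Ext^0(M, K) ≃ Hom(M, K)` -/
noncomputable def oldExtZeroEquiv (M : Type u) [AddCommGroup M] [Module R M] :
    (((Ext R (ModuleCat.{u} R) 0).obj (op (ModuleCat.of R M))).obj (ModuleCat.of R K)) ≃ₗ[R]
      (M →ₗ[R] K) :=
  (extBridge (ModuleCat.of R M) 0 (ModuleCat.of R K)).trans
    ((Ext.linearEquiv₀ (R := R) :
      Abelian.Ext (ModuleCat.of R M) (ModuleCat.of R K) 0 ≃ₗ[R]
        (ModuleCat.of R M ⟶ ModuleCat.of R K)).trans
      (ModuleCat.homLinearEquiv (S := R) :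
        (ModuleCat.of R M ⟶ ModuleCat.of R K) ≃ₗ[R] (M →ₗ[R] K)))

include hE in
theorem local_duality (i : ℕ) : ∀ (n : ℕ) (_ : ringKrullDim R = n)
    (_ : (K →ₗ[R] E) ≃ₗ[R] (localCohomology (maximalIdeal R) n).obj (ModuleCat.of R R))
    (j : ℕ), j + i = n →
    ∀ (M : Type u) [AddCommGroup M] [Module R M] [Module.Finite R M],
      Nonempty ((localCohomology (maximalIdeal R) j).obj (ModuleCat.of R M) ≃ₗ[R]
        ((((Ext R (ModuleCat.{u} R) i).obj (op (ModuleCat.of R M))).obj (ModuleCat.of R K))
          →ₗ[R] E)) := by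
  induction i with
  | zero =>
    intro n hn eK j hj M _ _ _
    rw [add_zero] at hj
    subst hj
    exact ⟨(eta hn hE eK M).trans (LinearEquiv.congrLeft E R (oldExtZeroEquiv M).symm)⟩
  | succ i ih =>
    intro n hn eK j hj M _ _ _
    obtain ⟨b, π, hπ⟩ := Module.Finite.exists_fin' R M
    have hS := sesOfSurjective_shortExact π hπ
    haveI : Module.Finite R (LinearMap.ker π) :=
      Module.Finite.of_fg (IsNoetherian.noetherian _)
    haveI : Projective (sesOfSurjective π).X₂ :=
      inferInstanceAs (Projective (ModuleCat.of R (Fin b → R)))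
    cases i with
    | zero =>
      rw [zero_add] at hj
      subst hj
      have hX₂ : Subsingleton ((localCohomology (maximalIdeal R) j).obj (sesOfSurjective π).X₂) :=
        lc_free_subsingleton_of_lt (j + 1) hn j (Nat.lt_succ_self j) b
      have e1 := lcShiftKerEquiv (maximalIdeal R) hS j hX₂
      have e2 := kerCongr
        (((localCohomology (maximalIdeal R) (j + 1)).map (sesOfSurjective π).f).hom)
        (LinearMap.lcomp R E (LinearMap.lcomp R K (LinearMap.ker π).subtype))
        (eta hn hE eK (LinearMap.ker π)) (eta hn hE eK (Fin b → R))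
        (fun a => eta_natural hn hE eK (LinearMap.ker π).subtype a)
      have e3 := dualCokerEquiv E (LinearMap.lcomp R K (LinearMap.ker π).subtype)
        (homToExtOne hS (ModuleCat.of R K)) (homToExtOne_surjective hS (ModuleCat.of R K))
        (fun h => (homToExtOne_eq_zero_iff hS (ModuleCat.of R K) h))
      exact ⟨e1.trans (e2.trans e3.symm)⟩
    | succ i =>
      have hX₂ : Subsingleton ((localCohomology (maximalIdeal R) j).obj (sesOfSurjective π).X₂) :=
        lc_free_subsingleton_of_lt n hn j (by omega) b
      have hX₂' : Subsingleton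
          ((localCohomology (maximalIdeal R) (j + 1)).obj (sesOfSurjective π).X₂) :=
        lc_free_subsingleton_of_lt n hn (j + 1) (by omega) b
      obtain ⟨ih'⟩ := ih n hn eK (j + 1) (by omega) (LinearMap.ker π)
      have e1 := lcShiftEquiv (maximalIdeal R) hS j hX₂ hX₂'
      have e2 := oldExtShift hS (ModuleCat.of R K) (i + 1) (by omega)
      exact ⟨e1.trans (ih'.trans (LinearEquiv.congrLeft E R e2))⟩

end Groth.Agent.Lib.Helper39.CanonShift
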