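import Groth.Agent.Lib.Helper39.CanonQuot3

/-!
# Endomorphisms of the canonical module modulo a regular element (helper39)
-/

set_option autoImplicit false
universe u

namespace Groth.Agent.Lib.Helper39.CanonShift

open CategoryTheory Abelian Opposite Groth.Agent.Lib.Helper60 IsLocalRing Pointwise
  RingTheory.Sequence Groth.Agent.Lib.Helper29

variable {R : Type u} [CommRing R] [LocCoh.IsCohenMacaulayLocalRing R]
  {n : ℕ} (hn : ringKrullDim R = n)
  {E : Type u} [AddCommGroup E] [Module R E]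
  {f : ResidueField R →ₗ[R] E} (hf : InjHull.IsInjectiveHull f)
  {K : Type u} [AddCommGroup K] [Module R K] [Module.Finite R K]
  (eK : (K →ₗ[R] E) ≃ₗ[R] (localCohomology (maximalIdeal R) n).obj (ModuleCat.of R R))

include hn hf eK in
theorem isSMulRegular_K {a : R} (ha : a ∈ maximalIdeal R) (hreg : IsSMulRegular R a) :
    IsSMulRegular K a := by
  have h1 : IsWeaklyRegular R [a] := (isWeaklyRegular_singleton_iff R a).mpr hreg
  have h2 := (isWeaklyRegular_iff hn hf eK [a] (by simpa using ha)).mp h1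
  exact (isWeaklyRegular_singleton_iff K a).mp h2

include hn in
omit [Module.Finite R K] in
theorem one_le_dim {a : R} (ha : a ∈ maximalIdeal R) (hreg : IsSMulRegular R a) : 1 ≤ n := by
  have h1 : IsWeaklyRegular R [a] := (isWeaklyRegular_singleton_iff R a).mpr hreg
  have h2 := length_le_idealDepth (maximalIdeal R) R [a] h1 (by simpa using ha)
  rw [depth_self_eq (R := R) hn] at h2
  exact_mod_cast h2

include hn hf eK in
/-- `Ext^1(K, K) = 0` when `dim R ≥ 1` -/
theorem ext_one_self_subsingleton (h1 : 1 ≤ n) :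
    Subsingleton (Abelian.Ext (ModuleCat.of R K) (ModuleCat.of R K) 1) := by
  haveI := nontrivial_K hn eK
  have hIM : maximalIdeal R • (⊤ : Submodule R K) ≠ ⊤ := maximalIdeal_smul_top_ne_top R K
  have hd : LocCoh.idealDepth (maximalIdeal R) K = n := depth_K_eq hn hf eK
  have hv := ((idealDepth_eq_iff_lc (maximalIdeal R) K hIM n).mp hd).1 (n - 1) (by omega)
  exact ext_subsingleton_of_lc hn hf eK 1 (n - 1) (by omega) K hv

include hn hf eK in
theorem exists_lift_endo {a : R} (ha : a ∈ maximalIdeal R) (hreg : IsSMulRegular R a)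
    (ψ : (K ⧸ (a • (⊤ : Submodule R K))) →ₗ[R] (K ⧸ (a • (⊤ : Submodule R K)))) :
    ∃ g : K →ₗ[R] K, ∀ x : K, ψ (Submodule.Quotient.mk x) = Submodule.Quotient.mk (g x) := by
  have hKreg := isSMulRegular_K hn hf eK ha hreg
  have hS : ((ModuleCat.of R K).smulShortComplex a).ShortExact :=
    IsSMulRegular.smulShortComplex_shortExact (M := ModuleCat.of R K) hKreg
  have hsub : Subsingleton (Abelian.Ext (ModuleCat.of R K)
      ((ModuleCat.of R K).smulShortComplex a).X₁ (0 + 1)) :=
    ext_one_self_subsingleton hn hf eK (one_le_dim (R := R) hn ha hreg)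
  let φ : ModuleCat.of R K ⟶ ((ModuleCat.of R K).smulShortComplex a).X₃ :=
    ModuleCat.ofHom (ψ ∘ₗ (a • (⊤ : Submodule R K)).mkQ)
  obtain ⟨x₂, hx₂⟩ := Ext.covariant_sequence_exact₃ (ModuleCat.of R K) hS (Ext.mk₀ φ) rfl
    (@Subsingleton.elim _ hsub _ _)
  have h3 : x₂ = Ext.mk₀ (Ext.linearEquiv₀ (R := R) x₂) := (Ext.mk₀_linearEquiv₀_apply x₂).symm
  rw [h3, Ext.mk₀_comp_mk₀] at hx₂
  have h4 := (Ext.mk₀_bijective _ _).1 hx₂
  refine ⟨(Ext.linearEquiv₀ (R := R) x₂).hom, fun x => ?_⟩
  have h5 := congrArg (fun χ => χ.hom x) h4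
  exact h5.symm

theorem endo_range_le_iff {a : R} (hKreg : IsSMulRegular K a) (g : K →ₗ[R] K) :
    (∀ x : K, g x ∈ a • (⊤ : Submodule R K)) ↔ ∃ g' : K →ₗ[R] K, g = a • g' := by
  constructor
  · intro h
    have hinj : Function.Injective (LinearMap.lsmul R K a) := hKreg
    have hrange : ∀ x, g x ∈ LinearMap.range (LinearMap.lsmul R K a) := by
      intro x
      obtain ⟨y, -, hy⟩ := (Submodule.mem_smul_pointwise_iff_exists _ _ _).mp (h x)
      exact ⟨y, hy⟩
    refine ⟨(LinearEquiv.ofInjective (LinearMap.lsmul R K a) hinj).symm.toLinearMap ∘ₗ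
      g.codRestrict _ hrange, ?_⟩
    ext x
    simp only [LinearMap.smul_apply, LinearMap.comp_apply, LinearEquiv.coe_coe]
    have := (LinearEquiv.ofInjective (LinearMap.lsmul R K a) hinj).apply_symm_apply
      (g.codRestrict _ hrange x)
    have h2 := congrArg Subtype.val this
    simp only [LinearEquiv.ofInjective_apply, LinearMap.codRestrict_apply] at h2
    exact h2.symm
  · rintro ⟨g', rfl⟩ x
    rw [LinearMap.smul_apply]
    exact Submodule.smul_mem_pointwise_smul _ _ _ Submodule.mem_top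

end Groth.Agent.Lib.Helper39.CanonShift
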