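import Groth.Agent.Lib.Helper60.ExtBridge2
import Mathlib.Algebra.Homology.DerivedCategory.Ext.ExactSequences

/-!
# Dimension shifting for `Ext^i(-, K)` along a short exact sequence with projective middle term
(helper39)
-/

set_option autoImplicit false
universe u

namespace Groth.Agent.Lib.Helper39.CanonShift

open CategoryTheory Abelian Opposite Groth.Agent.Lib.Helper60

variable {R : Type u} [CommRing R]

section ExtShift

variable {S : ShortComplex (ModuleCat.{u} R)} (hS : S.ShortExact) (K : ModuleCat.{u} R)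

/-- the connecting map `Ext^i(X₁, K) → Ext^{i+1}(X₃, K)` -/
noncomputable def extConn (i : ℕ) : Abelian.Ext S.X₁ K i →ₗ[R] Abelian.Ext S.X₃ K (i + 1) where
  toFun x := hS.extClass.comp x (add_comm 1 i)
  map_add' x y := by rw [Ext.comp_add]
  map_smul' r x := by
    rw [Ext.comp_smul]
    rfl

lemma extConn_apply (i : ℕ) (x : Abelian.Ext S.X₁ K i) :
    extConn hS K i x = hS.extClass.comp x (add_comm 1 i) := rfl

lemma extConn_surjective [Projective S.X₂] (i : ℕ) : Function.Surjective (extConn hS K i) := by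
  intro y
  have h0 : (Ext.mk₀ S.g).comp y (zero_add (i + 1)) = 0 := Ext.eq_zero_of_projective _
  exact Ext.contravariant_sequence_exact₃ hS K y h0 (add_comm 1 i)

lemma extConn_injective [Projective S.X₂] (i : ℕ) (hi : 1 ≤ i) :
    Function.Injective (extConn hS K i) := by
  rw [injective_iff_map_eq_zero]
  intro x hx
  obtain ⟨x₂, rfl⟩ := Ext.contravariant_sequence_exact₁ hS K x (add_comm 1 i) hx
  obtain ⟨j, rfl⟩ : ∃ j, i = j + 1 := ⟨i - 1, by omega⟩
  have : x₂ = 0 := Ext.eq_zero_of_projective x₂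
  rw [this, Ext.comp_zero]

/-- the shift isomorphism on old `Ext`: `Ext^i(X₁, K) ≃ Ext^{i+1}(X₃, K)` for `i ≥ 1`. -/
noncomputable def oldExtShift [Projective S.X₂] (i : ℕ) (hi : 1 ≤ i) :
    (((Ext R (ModuleCat.{u} R) i).obj (op S.X₁)).obj K) ≃ₗ[R]
      (((Ext R (ModuleCat.{u} R) (i + 1)).obj (op S.X₃)).obj K) :=
  (extBridge S.X₁ i K) ≪≫ₗ
    LinearEquiv.ofBijective (extConn hS K i) ⟨extConn_injective hS K i hi, extConn_surjective hS K i⟩
    ≪≫ₗ (extBridge S.X₃ (i + 1) K).symm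

/-- `Hom(X₁, K) → Ext^1(X₃, K)` -/
noncomputable def homToExtOne :
    (S.X₁ →ₗ[R] K) →ₗ[R] ((Ext R (ModuleCat.{u} R) 1).obj (op S.X₃)).obj K :=
  (extBridge S.X₃ 1 K).symm.toLinearMap ∘ₗ extConn hS K 0 ∘ₗ
    (Ext.linearEquiv₀ (R := R) : Abelian.Ext S.X₁ K 0 ≃ₗ[R] (S.X₁ ⟶ K)).symm.toLinearMap ∘ₗ
      (ModuleCat.homLinearEquiv (S := R) : (S.X₁ ⟶ K) ≃ₗ[R] (S.X₁ →ₗ[R] K)).symm.toLinearMap

lemma homToExtOne_surjective [Projective S.X₂] : Function.Surjective (homToExtOne hS K) := by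
  intro y
  obtain ⟨x, hx⟩ := extConn_surjective hS K 0 (extBridge S.X₃ 1 K y)
  refine ⟨(ModuleCat.homLinearEquiv (S := R) : (S.X₁ ⟶ K) ≃ₗ[R] (S.X₁ →ₗ[R] K))
    ((Ext.linearEquiv₀ (R := R) : Abelian.Ext S.X₁ K 0 ≃ₗ[R] (S.X₁ ⟶ K)) x), ?_⟩
  unfold homToExtOne
  simp only [LinearMap.comp_apply, LinearEquiv.coe_coe, LinearEquiv.symm_apply_apply]
  rw [hx, LinearEquiv.symm_apply_apply]

lemma homToExtOne_eq_zero_iff (h : S.X₁ →ₗ[R] K) :
    homToExtOne hS K h = 0 ↔ ∃ g : S.X₂ →ₗ[R] K, g ∘ₗ S.f.hom = h := by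
  have e1 : homToExtOne hS K h = 0 ↔ hS.extClass.comp (Ext.mk₀ (ModuleCat.ofHom h)) (add_comm 1 0) = 0 := by
    unfold homToExtOne
    simp only [LinearMap.comp_apply, LinearEquiv.coe_coe]
    rw [LinearEquiv.map_eq_zero_iff]
    rfl
  rw [e1]
  constructor
  · intro hx
    obtain ⟨x₂, hx₂⟩ := Ext.contravariant_sequence_exact₁ hS K _ (add_comm 1 0) hx
    refine ⟨(Ext.linearEquiv₀ (R := R) x₂).hom, ?_⟩
    have h3 : x₂ = Ext.mk₀ (Ext.linearEquiv₀ (R := R) x₂) := (Ext.mk₀_linearEquiv₀_apply x₂).symm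
    rw [h3, Ext.mk₀_comp_mk₀] at hx₂
    have h4 := (Ext.mk₀_bijective S.X₁ K).1 hx₂
    have h5 := congrArg ModuleCat.Hom.hom h4
    rw [ModuleCat.hom_comp] at h5
    exact h5
  · rintro ⟨g, rfl⟩
    have : ModuleCat.ofHom (g ∘ₗ S.f.hom) = S.f ≫ ModuleCat.ofHom g := rfl
    rw [this, ← Ext.mk₀_comp_mk₀, ← Ext.comp_assoc _ _ _ (add_zero 1) (zero_add 0) (by omega),
      hS.extClass_comp, Ext.zero_comp]

end ExtShift

section DualLemmas

variable {A B C A' B' : Type*} [AddCommGroup A] [Module R A] [AddCommGroup B] [Module R B]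
  [AddCommGroup C] [Module R C] [AddCommGroup A'] [Module R A'] [AddCommGroup B'] [Module R B']
  (E : Type*) [AddCommGroup E] [Module R E]

/-- the dual of a cokernel is the kernel of the dual map -/
noncomputable def dualCokerEquiv (α : A →ₗ[R] B) (β : B →ₗ[R] C) (hβ : Function.Surjective β)
    (hex : ∀ b, β b = 0 ↔ ∃ a, α a = b) :
    (C →ₗ[R] E) ≃ₗ[R] LinearMap.ker (LinearMap.lcomp R E α) := by
  refine LinearEquiv.ofBijective
    ((LinearMap.lcomp R E β).codRestrict _ (fun ψ => ?_)) ⟨?_, ?_⟩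
  · rw [LinearMap.mem_ker]
    ext a
    simp only [LinearMap.lcomp_apply, LinearMap.zero_apply]
    change ψ (β (α a)) = 0
    rw [(hex (α a)).mpr ⟨a, rfl⟩, map_zero]
  · intro ψ ψ' h
    have h1 : ψ ∘ₗ β = ψ' ∘ₗ β := congrArg Subtype.val h
    ext c
    obtain ⟨b, rfl⟩ := hβ c
    exact congrArg (fun f : B →ₗ[R] E => f b) h1
  · rintro ⟨φ, hφ⟩
    rw [LinearMap.mem_ker] at hφ
    have hker : LinearMap.ker β ≤ LinearMap.ker φ := by
      intro b hb
      obtain ⟨a, rfl⟩ := (hex b).mp hb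
      exact congrArg (fun f : A →ₗ[R] E => f a) hφ
    refine ⟨((LinearMap.ker β).liftQ φ hker) ∘ₗ
      (β.quotKerEquivOfSurjective hβ).symm.toLinearMap, ?_⟩
    apply Subtype.ext
    ext b
    simp only [LinearMap.codRestrict_apply, LinearMap.lcomp_apply, LinearMap.comp_apply,
      LinearEquiv.coe_coe]
    have : (β.quotKerEquivOfSurjective hβ).symm (β b) = Submodule.Quotient.mk b := by
      rw [LinearEquiv.symm_apply_eq]
      rfl
    rw [this, Submodule.liftQ_apply]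

/-- kernels of maps intertwined by isomorphisms are isomorphic -/
noncomputable def kerCongr (g : A →ₗ[R] B) (g' : A' →ₗ[R] B') (e₁ : A ≃ₗ[R] A') (e₂ : B ≃ₗ[R] B')
    (h : ∀ a, e₂ (g a) = g' (e₁ a)) : LinearMap.ker g ≃ₗ[R] LinearMap.ker g' := by
  refine LinearEquiv.ofBijective
    ((e₁.toLinearMap ∘ₗ (LinearMap.ker g).subtype).codRestrict _ (fun a => ?_)) ⟨?_, ?_⟩
  · rw [LinearMap.mem_ker]
    change g' (e₁ a.1) = 0
    rw [← h, a.2, map_zero]
  · intro a a' haa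
    apply Subtype.ext
    apply e₁.injective
    exact congrArg Subtype.val haa
  · rintro ⟨a', ha'⟩
    rw [LinearMap.mem_ker] at ha'
    refine ⟨⟨e₁.symm a', ?_⟩, ?_⟩
    · rw [LinearMap.mem_ker]
      apply e₂.injective
      rw [h, LinearEquiv.apply_symm_apply, ha', map_zero]
    · apply Subtype.ext
      exact e₁.apply_symm_apply a'

end DualLemmas

end Groth.Agent.Lib.Helper39.CanonShift
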