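import Groth.Agent.Lib.Helper39.CanonDuality3
import Groth.Agent.Lib.Helper2.Matlis
import Groth.Agent.Lib.Helper60.BB
import Groth.Agent.Lib.Helper29.DepthRees

/-!
# The canonical module of a Cohen–Macaulay local ring: injective dimension, depth, dimension
(helper39)
-/

set_option autoImplicit false
universe u

namespace Groth.Agent.Lib.Helper39.CanonShift

open CategoryTheory Abelian Opposite Groth.Agent.Lib.Helper60 IsLocalRing
  Groth.Agent.Lib.Helper79.EW TensorProduct

variable {R : Type u} [CommRing R] [LocCoh.IsCohenMacaulayLocalRing R]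
  {n : ℕ} (hn : ringKrullDim R = n)
  {E : Type u} [AddCommGroup E] [Module R E]
  {f : ResidueField R →ₗ[R] E} (hf : InjHull.IsInjectiveHull f)
  {K : Type u} [AddCommGroup K] [Module R K]
  (eK : (K →ₗ[R] E) ≃ₗ[R] (localCohomology (maximalIdeal R) n).obj (ModuleCat.of R R))

include hf in
/-- the Matlis dual is faithful -/
theorem subsingleton_of_dual_subsingleton (X : Type u) [AddCommGroup X] [Module R X]
    (h : Subsingleton (X →ₗ[R] E)) : Subsingleton X := by
  refine ⟨fun a b => ?_⟩
  by_contra hab
  have hne : a - b ≠ 0 := sub_ne_zero.mpr hab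
  obtain ⟨φ, hφ⟩ := Groth.Agent.Lib.Helper2.exists_hom_apply_ne_zero hf (a - b) hne
  apply hφ
  rw [Subsingleton.elim φ 0, LinearMap.zero_apply]

include hn hf eK in
theorem ext_subsingleton_of_lc (i j : ℕ) (hji : j + i = n) (M : Type u) [AddCommGroup M]
    [Module R M] [Module.Finite R M]
    (h : Subsingleton ((localCohomology (maximalIdeal R) j).obj (ModuleCat.of R M))) :
    Subsingleton (Abelian.Ext (ModuleCat.of R M) (ModuleCat.of R K) i) := by
  obtain ⟨e⟩ := local_duality hf.isInjective i n hn eK j hji M
  have h1 : Subsingleton ((((Ext R (ModuleCat.{u} R) i).obj (op (ModuleCat.of R M))).obj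
      (ModuleCat.of R K)) →ₗ[R] E) := e.symm.injective.subsingleton
  have h2 := subsingleton_of_dual_subsingleton hf _ h1
  exact (extBridge (ModuleCat.of R M) i (ModuleCat.of R K)).symm.injective.subsingleton

include hn hf eK in
theorem ext_nontrivial_of_lc (i j : ℕ) (hji : j + i = n) (M : Type u) [AddCommGroup M]
    [Module R M] [Module.Finite R M]
    (h : Nontrivial ((localCohomology (maximalIdeal R) j).obj (ModuleCat.of R M))) :
    Nontrivial (Abelian.Ext (ModuleCat.of R M) (ModuleCat.of R K) i) := by
  obtain ⟨e⟩ := local_duality hf.isInjective i n hn eK j hji M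
  by_contra hnt
  rw [not_nontrivial_iff_subsingleton] at hnt
  have h2 : Subsingleton (((Ext R (ModuleCat.{u} R) i).obj (op (ModuleCat.of R M))).obj
      (ModuleCat.of R K)) :=
    (extBridge (ModuleCat.of R M) i (ModuleCat.of R K)).injective.subsingleton
  have h1 : Subsingleton ((((Ext R (ModuleCat.{u} R) i).obj (op (ModuleCat.of R M))).obj
      (ModuleCat.of R K)) →ₗ[R] E) :=
    ⟨fun a b => LinearMap.ext fun x => by rw [Subsingleton.elim x 0, map_zero, map_zero]⟩
  have h3 : Subsingleton ((localCohomology (maximalIdeal R) j).obj (ModuleCat.of R M)) :=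
    e.injective.subsingleton
  exact not_subsingleton _ h3

/-! ### the residue field -/

omit [LocCoh.IsCohenMacaulayLocalRing R] in
theorem residueField_torsion [IsLocalRing R] (x : ResidueField R) :
    ∃ k : ℕ, ∀ a ∈ maximalIdeal R ^ k, a • x = 0 := by
  refine ⟨1, fun a ha => ?_⟩
  rw [pow_one] at ha
  obtain ⟨r, rfl⟩ := residue_surjective x
  have : a • residue R r = residue R (a * r) := by
    rw [map_mul]
    rfl
  rw [this]
  exact (residue_eq_zero_iff _).mpr (Ideal.mul_mem_right _ _ ha)

theorem lc_residueField_subsingleton (j : ℕ) (hj : 0 < j) :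
    Subsingleton ((localCohomology (maximalIdeal R) j).obj (ModuleCat.of R (ResidueField R))) :=
  lc_subsingleton_of_torsion (maximalIdeal R) j hj (ModuleCat.of R (ResidueField R))
    residueField_torsion

theorem lc_residueField_nontrivial :
    Nontrivial ((localCohomology (maximalIdeal R) 0).obj (ModuleCat.of R (ResidueField R))) := by
  have e := lcH0Equiv (maximalIdeal R) (ModuleCat.of R (ResidueField R))
  have h1 : (1 : ResidueField R) ∈ DRing.torsionSub (maximalIdeal R) (ResidueField R) :=
    residueField_torsion 1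
  have h2 : Nontrivial (DRing.torsionSub (maximalIdeal R) (ResidueField R)) :=
    ⟨⟨⟨1, h1⟩, 0, fun h => one_ne_zero (congrArg Subtype.val h)⟩⟩
  exact e.symm.injective.nontrivial

end Groth.Agent.Lib.Helper39.CanonShift
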