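import Groth.Agent.Lib.Helper39.CanonInjDim
import Groth.Agent.S5788

/-!
# The canonical module of a Cohen–Macaulay local ring: injective dimension, depth, dimension, II
(helper39)
-/

set_option autoImplicit false
universe u

namespace Groth.Agent.Lib.Helper39.CanonShift

open CategoryTheory Abelian Opposite Groth.Agent.Lib.Helper60 IsLocalRing
  Groth.Agent.Lib.Helper79.EW TensorProduct Groth.Agent.Lib.Helper29

variable {R : Type u} [CommRing R] [LocCoh.IsCohenMacaulayLocalRing R]
  {n : ℕ} (hn : ringKrullDim R = n)
  {E : Type u} [AddCommGroup E] [Module R E]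
  {f : ResidueField R →ₗ[R] E} (hf : InjHull.IsInjectiveHull f)
  {K : Type u} [AddCommGroup K] [Module R K]
  (eK : (K →ₗ[R] E) ≃ₗ[R] (localCohomology (maximalIdeal R) n).obj (ModuleCat.of R R))

include hn hf eK in
theorem oldExt_succ_subsingleton (M : Type u) [AddCommGroup M] [Module R M] [Module.Finite R M] :
    Subsingleton (((Ext R (ModuleCat.{u} R) (n + 1)).obj (op (ModuleCat.of R M))).obj
      (ModuleCat.of R K)) := by
  obtain ⟨b, π, hπ⟩ := Module.Finite.exists_fin' R M
  have hS := sesOfSurjective_shortExact π hπ
  haveI : Module.Finite R (LinearMap.ker π) :=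
    Module.Finite.of_fg (IsNoetherian.noetherian _)
  haveI : Projective (sesOfSurjective π).X₂ :=
    inferInstanceAs (Projective (ModuleCat.of R (Fin b → R)))
  have hinj : Function.Injective
      ((localCohomology (maximalIdeal R) 0).map (sesOfSurjective π).f).hom :=
    lcMap_zero_injective (maximalIdeal R) _ (LinearMap.ker π).injective_subtype
  rcases Nat.eq_zero_or_pos n with h0 | hpos
  · subst h0
    have e2 := kerCongr
      (((localCohomology (maximalIdeal R) 0).map (sesOfSurjective π).f).hom)
      (LinearMap.lcomp R E (LinearMap.lcomp R K (LinearMap.ker π).subtype))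
      (eta hn hf.isInjective eK (LinearMap.ker π)) (eta hn hf.isInjective eK (Fin b → R))
      (fun a => eta_natural hn hf.isInjective eK (LinearMap.ker π).subtype a)
    have e3 := dualCokerEquiv E (LinearMap.lcomp R K (LinearMap.ker π).subtype)
      (homToExtOne hS (ModuleCat.of R K)) (homToExtOne_surjective hS (ModuleCat.of R K))
      (fun h => (homToExtOne_eq_zero_iff hS (ModuleCat.of R K) h))
    have h1 : Subsingleton (LinearMap.ker
        ((localCohomology (maximalIdeal R) 0).map (sesOfSurjective π).f).hom) := by
      rw [LinearMap.ker_eq_bot.mpr hinj]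
      infer_instance
    have h2 : Subsingleton ((((Ext R (ModuleCat.{u} R) 1).obj (op (ModuleCat.of R M))).obj
        (ModuleCat.of R K)) →ₗ[R] E) := (e3.trans e2.symm).injective.subsingleton
    exact subsingleton_of_dual_subsingleton hf _ h2
  · have e2 := oldExtShift hS (ModuleCat.of R K) n hpos
    have hL : Subsingleton ((localCohomology (maximalIdeal R) 0).obj
        (ModuleCat.of R (Fin b → R))) := lc_free_subsingleton_of_lt n hn 0 hpos b
    have hN : Subsingleton ((localCohomology (maximalIdeal R) 0).obj
        (ModuleCat.of R (LinearMap.ker π))) := @Function.Injective.subsingleton _ _ _ hinj hL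
    have h3 := ext_subsingleton_of_lc hn hf eK n 0 (zero_add n) (LinearMap.ker π) hN
    have h4 : Subsingleton (((Ext R (ModuleCat.{u} R) n).obj
        (op (ModuleCat.of R (LinearMap.ker π)))).obj (ModuleCat.of R K)) :=
      (extBridge (ModuleCat.of R (LinearMap.ker π)) n (ModuleCat.of R K)).injective.subsingleton
    exact @Function.Injective.subsingleton _ _ _ e2.symm.injective h4

include hn hf eK in
theorem hasInjectiveDimensionLT_succ :
    HasInjectiveDimensionLT (ModuleCat.of R K) (n + 1) := by
  rw [Groth.Agent.S5788.result R K n]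
  intro I
  have h := oldExt_succ_subsingleton hn hf eK (R ⧸ I)
  exact (extBridge (ModuleCat.of R (R ⧸ I)) (n + 1) (ModuleCat.of R K)).symm.injective.subsingleton

include hn hf eK in
theorem not_hasInjectiveDimensionLT :
    ¬ HasInjectiveDimensionLT (ModuleCat.of R K) n := by
  intro h
  have h1 := ext_nontrivial_of_lc hn hf eK n 0 (zero_add n) (ResidueField R)
    lc_residueField_nontrivial
  have h2 : Subsingleton (Abelian.Ext (ModuleCat.of R (ResidueField R)) (ModuleCat.of R K) n) :=
    HasInjectiveDimensionLT.subsingleton _ n n le_rfl _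
  exact not_subsingleton _ h2

include hn in
theorem lc_ring_nontrivial :
    Nontrivial ((localCohomology (maximalIdeal R) n).obj (ModuleCat.of R R)) := by
  have h1 : Module.supportDim R R = ((LocCoh.depth R R : ℕ∞) : WithBot ℕ∞) :=
    LocCoh.IsCohenMacaulayLocalRing.supportDim_eq_depth
  rw [Module.supportDim_self_eq_ringKrullDim, hn] at h1
  have h2 : LocCoh.depth R R = (n : ℕ∞) := by
    have : ((n : ℕ∞) : WithBot ℕ∞) = ((LocCoh.depth R R : ℕ∞) : WithBot ℕ∞) := by
      exact_mod_cast h1
    exact (WithBot.coe_injective this).symm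
  have hIM : maximalIdeal R • (⊤ : Submodule R R) ≠ ⊤ := maximalIdeal_smul_top_ne_top R R
  exact ((idealDepth_eq_iff_lc (maximalIdeal R) R hIM n).mp h2).2

include hn eK in
theorem nontrivial_K : Nontrivial K := by
  have h1 := lc_ring_nontrivial (R := R) hn
  by_contra hK
  rw [not_nontrivial_iff_subsingleton] at hK
  have h2 : Subsingleton (K →ₗ[R] E) :=
    ⟨fun a b => LinearMap.ext fun x => by rw [Subsingleton.elim x 0, map_zero, map_zero]⟩
  exact not_subsingleton _ (eK.symm.injective.subsingleton)

include hn hf eK in
theorem depth_K_eq [Module.Finite R K] : LocCoh.depth R K = n := by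
  haveI := nontrivial_K hn eK
  have hIM : maximalIdeal R • (⊤ : Submodule R K) ≠ ⊤ := maximalIdeal_smul_top_ne_top R K
  apply le_antisymm
  · by_contra hlt
    push_neg at hlt
    have h1 : ((n + 1 : ℕ) : ℕ∞) ≤ LocCoh.idealDepth (maximalIdeal R) K := by
      push_cast
      exact Order.add_one_le_of_lt hlt
    have h2 := (le_idealDepth_iff_ext (maximalIdeal R) K hIM (n + 1)).mp h1 n (Nat.lt_succ_self n)
    have h3 := ext_nontrivial_of_lc hn hf eK n 0 (zero_add n) (ResidueField R)
      lc_residueField_nontrivial
    exact @not_subsingleton _ h3 h2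
  · apply (le_idealDepth_iff_ext (maximalIdeal R) K hIM n).mpr
    intro i hi
    exact ext_subsingleton_of_lc hn hf eK i (n - i) (by omega) (ResidueField R)
      (lc_residueField_subsingleton (n - i) (by omega))

include hn hf eK in
theorem supportDim_K_eq [Module.Finite R K] : Module.supportDim R K = n := by
  haveI := nontrivial_K hn eK
  apply le_antisymm
  · rw [← hn]
    exact Module.supportDim_le_ringKrullDim R K
  · have h1 := depth_le_supportDim R K
    rw [depth_K_eq hn hf eK] at h1
    exact h1

end Groth.Agent.Lib.Helper39.CanonShift
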