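import Mathlib
import Groth.Prelude
import Groth.Agent.Lib.Helper2.InjHullLocalize
import Groth.Agent.Lib.Helper2.InjHullMaximal
import Groth.Agent.Lib.Helper60.FlatBC2

/-!
# Localising a canonical-module datum at a maximal ideal (helper39)

`main`: `R` Noetherian, `m` a maximal ideal, `E'` an injective hull of `R ⧸ m`, `C` a finite
`R`-module with `Hom_R(C, E') ≃ H^n_m(R)`.  Then over `A = R_m`: `E'_m` is an injective hull of the
residue field of `A` and `Hom_A(C_m, E'_m) ≃ H^n_{m_A}(A)`.
-/

set_option autoImplicit false
universe u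
open IsLocalRing CategoryTheory
open scoped TensorProduct

namespace Groth.Agent.Lib.Helper39.CanonLocMax

open Groth.Agent.Lib.Helper2 Groth.Agent.Lib.Helper60 InjHull

theorem main (R : Type u) [CommRing R] [IsNoetherianRing R] (m : Ideal R) [hm : m.IsMaximal]
    (n : ℕ) (E' : Type u) [AddCommGroup E'] [Module R E'] (e : (R ⧸ m) →ₗ[R] E')
    (he : IsInjectiveHull e) (C : Type u) [AddCommGroup C] [Module R C] [Module.Finite R C]
    (φ : (C →ₗ[R] E') ≃ₗ[R] LocCoh.H m n R) :
    ∃ f : ResidueField (Localization.AtPrime m) →ₗ[Localization.AtPrime m]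
        LocalizedModule m.primeCompl E',
      IsInjectiveHull f ∧
      Nonempty ((LocalizedModule m.primeCompl C →ₗ[Localization.AtPrime m]
          LocalizedModule m.primeCompl E') ≃ₗ[Localization.AtPrime m]
        LocCoh.H (maximalIdeal (Localization.AtPrime m)) n (Localization.AtPrime m)) := by
  have hdisj : Disjoint (m : Set R) (m.primeCompl : Set R) := by
    rw [Set.disjoint_left]
    intro x hx hx'
    exact hx' hx
  obtain ⟨g, hg⟩ := exists_isInjectiveHull_localizedModule m.primeCompl m he hdisj
  have hmap : m.map (algebraMap R (Localization.AtPrime m)) =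
      maximalIdeal (Localization.AtPrime m) := Localization.AtPrime.map_eq_maximalIdeal
  let q : ResidueField (Localization.AtPrime m) ≃ₗ[Localization.AtPrime m]
      (Localization.AtPrime m ⧸ m.map (algebraMap R (Localization.AtPrime m))) :=
    Submodule.quotEquivOfEq _ _ hmap.symm
  refine ⟨g ∘ₗ q.toLinearMap, IsInjectiveHull.comp_equiv hg q, ?_⟩
  haveI : Module.FinitePresentation R C := Module.finitePresentation_of_finite R C
  let e2 : LocalizedModule m.primeCompl (C →ₗ[R] E') ≃ₗ[Localization.AtPrime m]
      (LocalizedModule m.primeCompl C →ₗ[Localization.AtPrime m]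
        LocalizedModule m.primeCompl E') :=
    (Module.FinitePresentation.linearEquivMapExtendScalars m.primeCompl
      (M := C) (N := E')).extendScalarsOfIsLocalization m.primeCompl (Localization.AtPrime m)
  let e3 : LocalizedModule m.primeCompl (C →ₗ[R] E') ≃ₗ[Localization.AtPrime m]
      LocalizedModule m.primeCompl (LocCoh.H m n R) :=
    IsLocalizedModule.mapEquiv m.primeCompl (LocalizedModule.mkLinearMap m.primeCompl _)
      (LocalizedModule.mkLinearMap m.primeCompl _) (Localization.AtPrime m) φ
  let e4' : (Localization.AtPrime m) ⊗[R] LocCoh.H m n R ≃ₗ[Localization.AtPrime m]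
      LocalizedModule m.primeCompl (LocCoh.H m n R) :=
    (IsLocalizedModule.isBaseChange m.primeCompl (Localization.AtPrime m)
      (LocalizedModule.mkLinearMap m.primeCompl (LocCoh.H m n R))).equiv
  obtain ⟨e4⟩ := nonempty_lc_flatBaseChange (R := R) (R' := Localization.AtPrime m) m n R
  let r := TensorProduct.AlgebraTensorModule.rid R (Localization.AtPrime m) (Localization.AtPrime m)
  let iso := (localCohomology (m.map (algebraMap R (Localization.AtPrime m))) n).mapIso
    r.toModuleIso
  have e5 : LocCoh.H (m.map (algebraMap R (Localization.AtPrime m))) n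
      ((Localization.AtPrime m) ⊗[R] R) ≃ₗ[Localization.AtPrime m]
      LocCoh.H (m.map (algebraMap R (Localization.AtPrime m))) n (Localization.AtPrime m) :=
    iso.toLinearEquiv
  rw [hmap] at e4 e5
  exact ⟨e2.symm ≪≫ₗ e3 ≪≫ₗ e4'.symm ≪≫ₗ e4 ≪≫ₗ e5⟩

end Groth.Agent.Lib.Helper39.CanonLocMax
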