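import Groth.Agent.Lib.Helper39.CanonEndBij
import Groth.Agent.S0299

/-!
# Pointwise canonical modules over a Cohen–Macaulay ring (helper39)

`bijective_smul_id_of_pointwise`: if `R` is a CM ring and `C` a finite module with `C_q` canonical
for `R_q` at every prime `q`, then `R → End_R(C)` is bijective.
-/

set_option autoImplicit false
universe u

namespace Groth.Agent.Lib.Helper39.CanonRC

open IsLocalRing

/-- `C_q` is a canonical module for `R_q` for every prime `q`. -/
def IsPointwiseCanonical (R : Type u) [CommRing R] (C : Type u) [AddCommGroup C] [Module R C] :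
    Prop :=
  ∀ (q : Ideal R) [q.IsPrime] (nq : ℕ), ringKrullDim (Localization.AtPrime q) = nq →
    ∀ (E₀ : Type u) [AddCommGroup E₀] [Module (Localization.AtPrime q) E₀]
      (f₀ : ResidueField (Localization.AtPrime q) →ₗ[Localization.AtPrime q] E₀),
      InjHull.IsInjectiveHull f₀ →
      Nonempty ((LocalizedModule q.primeCompl C →ₗ[Localization.AtPrime q] E₀)
        ≃ₗ[Localization.AtPrime q]
        LocCoh.H (maximalIdeal (Localization.AtPrime q)) nq (Localization.AtPrime q))

theorem exists_nat_ringKrullDim_eq (A : Type u) [CommRing A] [IsNoetherianRing A] [IsLocalRing A] :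
    ∃ r : ℕ, ringKrullDim A = r := by
  have hnn : (0 : WithBot ℕ∞) ≤ ringKrullDim A := ringKrullDim_nonneg_of_nontrivial
  have htop : ringKrullDim A ≠ ⊤ := ringKrullDim_ne_top
  cases h : ringKrullDim A with
  | bot => rw [h] at hnn; simp at hnn
  | coe n =>
    have hn' : n ≠ ⊤ := by
      rintro rfl
      exact htop h
    obtain ⟨d, hd⟩ := ENat.ne_top_iff_exists.mp hn'
    exact ⟨d, by rw [← hd]; rfl⟩

variable {R : Type u} [CommRing R] [LocCoh.IsCohenMacaulayRing R]
  {C : Type u} [AddCommGroup C] [Module R C] [Module.Finite R C]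

theorem bijective_smul_id_localization (hC : IsPointwiseCanonical R C) (q : Ideal R) [q.IsPrime] :
    Function.Bijective (fun r : Localization.AtPrime q =>
      r • (LinearMap.id : LocalizedModule q.primeCompl C →ₗ[Localization.AtPrime q]
        LocalizedModule q.primeCompl C)) := by
  haveI : LocCoh.IsCohenMacaulayLocalRing (Localization.AtPrime q) :=
    LocCoh.IsCohenMacaulayRing.isCohenMacaulayLocalRing_localization q
  obtain ⟨nq, hnq⟩ := exists_nat_ringKrullDim_eq (Localization.AtPrime q)
  obtain ⟨E₀, _, _, f₀, hf₀⟩ := Groth.Agent.S0299.result (Localization.AtPrime q)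
    (ResidueField (Localization.AtPrime q))
  obtain ⟨eK⟩ := hC q nq hnq E₀ f₀ hf₀
  exact bijective_smul_id nq (Localization.AtPrime q) hnq E₀ f₀ hf₀
    (LocalizedModule q.primeCompl C) eK

theorem bijective_smul_id_of_pointwise (hC : IsPointwiseCanonical R C) :
    Function.Bijective (fun r : R => r • (LinearMap.id : C →ₗ[R] C)) := by
  haveI : IsNoetherianRing R := inferInstance
  constructor
  · intro r s hrs
    have hrs' : ∀ x : C, (r - s) • x = 0 := fun x => by
      have h0 := congrArg (fun g : C →ₗ[R] C => g x) hrs
      simp only [LinearMap.smul_apply, LinearMap.id_apply] at h0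
      rw [sub_smul, h0, sub_self]
    rw [← sub_eq_zero]
    apply eq_zero_of_localization
    intro J hJ
    haveI : J.IsPrime := hJ.isPrime
    apply (bijective_smul_id_localization hC J).1
    refine LinearMap.ext fun y => ?_
    induction y using LocalizedModule.induction_on with
    | h x t =>
      simp only [LinearMap.smul_apply, LinearMap.id_apply, zero_smul, map_zero]
      rw [algebraMap_smul, LocalizedModule.smul'_mk, hrs' x, LocalizedModule.zero_mk]
      rfl
  · intro φ
    -- the conductor ideal
    let I : Ideal R :=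
      { carrier := {s | ∃ a : R, s • φ = a • (LinearMap.id : C →ₗ[R] C)}
        add_mem' := by
          rintro s s' ⟨a, ha⟩ ⟨a', ha'⟩
          exact ⟨a + a', by rw [add_smul, add_smul, ha, ha']⟩
        zero_mem' := ⟨0, by rw [zero_smul, zero_smul]⟩
        smul_mem' := by
          rintro c s ⟨a, ha⟩
          exact ⟨c * a, by rw [smul_eq_mul, mul_smul, mul_smul, ha]⟩ }
    have hI : I = ⊤ := by
      by_contra hne
      obtain ⟨q, hq, hIq⟩ := Ideal.exists_le_maximal I hne
      haveI : q.IsPrime := hq.isPrime
      obtain ⟨ρ, hρ⟩ := (bijective_smul_id_localization hC q).2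
        (LocalizedModule.map q.primeCompl φ)
      obtain ⟨a, s, rfl⟩ := IsLocalization.exists_mk'_eq q.primeCompl ρ
      -- ψ = s φ - a id vanishes locally at q
      let ψ : C →ₗ[R] C := (s : R) • φ - a • LinearMap.id
      have hloc : ∀ x : C, ∃ t : R, t ∉ q ∧ t • ψ x = 0 := by
        intro x
        have h0 := congrArg (fun g => g (LocalizedModule.mk x 1)) hρ
        simp only [LinearMap.smul_apply, LinearMap.id_apply, LocalizedModule.map_mk] at h0
        rw [← Localization.mk_eq_mk', LocalizedModule.mk_smul_mk, mul_one,
          LocalizedModule.mk_eq] at h0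
        obtain ⟨t, ht⟩ := h0
        refine ⟨t, t.2, ?_⟩
        simp only [ψ, LinearMap.sub_apply, LinearMap.smul_apply, LinearMap.id_apply, smul_sub]
        rw [sub_eq_zero]
        rw [one_smul] at ht
        exact ht.symm
      haveI : Module.Finite R (LinearMap.range ψ) := Module.Finite.range ψ
      have hsupp : (⟨q, inferInstance⟩ : PrimeSpectrum R) ∉ Module.support R (LinearMap.range ψ) := by
        rw [Module.notMem_support_iff']
        rintro ⟨_, x, rfl⟩
        obtain ⟨t, htq, ht⟩ := hloc x
        exact ⟨t, htq, Subtype.ext ht⟩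
      rw [Module.mem_support_iff_of_finite] at hsupp
      obtain ⟨t, htann, htq⟩ := SetLike.not_le_iff_exists.mp hsupp
      have hts : t * (s : R) ∈ I := by
        refine ⟨t * a, ?_⟩
        refine LinearMap.ext fun x => ?_
        have h1 : t • (⟨ψ x, x, rfl⟩ : LinearMap.range ψ) = 0 :=
          Module.mem_annihilator.mp htann _
        have h2 : t • ψ x = 0 := congrArg Subtype.val h1
        simp only [ψ, LinearMap.sub_apply, LinearMap.smul_apply, LinearMap.id_apply,
          smul_sub, sub_eq_zero] at h2
        simp only [LinearMap.smul_apply, LinearMap.id_apply, mul_smul]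
        exact h2
      exact (hq.isPrime.mul_mem_iff_mem_or_mem.mp (hIq hts)).elim htq s.2
    obtain ⟨a, ha⟩ : (1 : R) ∈ I := hI ▸ Submodule.mem_top
    refine ⟨a, ?_⟩
    show a • (LinearMap.id : C →ₗ[R] C) = φ
    rw [← ha, one_smul]

end Groth.Agent.Lib.Helper39.CanonRC
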