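import Groth.Agent.Lib.Helper39.CanonInjDim2
import Groth.Agent.Lib.Helper60.LocalCohAddGen
import Mathlib.RingTheory.Regular.Category

/-!
# Quotients of a canonical module by regular sequences (helper39)

* `dual_quot_step`: from `Hom(L, E) ≃ H^{j+1}_J(N)` to `Hom(L/aL, E) ≃ H^j_J(N/aN)` for an
  `N`-regular element `a` with `H^j_J(N) = 0`;
* `dual_quot_list`: the iterated version along a weakly regular sequence.
-/

set_option autoImplicit false
universe u

namespace Groth.Agent.Lib.Helper39.CanonShift

open CategoryTheory Abelian Opposite Groth.Agent.Lib.Helper60 IsLocalRing Pointwise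
  RingTheory.Sequence

variable {R : Type u} [CommRing R] (J : Ideal R)
  (E : Type u) [AddCommGroup E] [Module R E]

theorem dual_quot_step {N L : Type u} [AddCommGroup N] [Module R N] [AddCommGroup L] [Module R L]
    (j : ℕ) (e : (L →ₗ[R] E) ≃ₗ[R] (localCohomology J (j + 1)).obj (ModuleCat.of R N))
    (a : R) (hreg : IsSMulRegular N a)
    (hvan : Subsingleton ((localCohomology J j).obj (ModuleCat.of R N))) :
    Nonempty ((QuotSMulTop a L →ₗ[R] E) ≃ₗ[R]
      (localCohomology J j).obj (ModuleCat.of R (QuotSMulTop a N))) := by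
  have hS : ((ModuleCat.of R N).smulShortComplex a).ShortExact :=
    IsSMulRegular.smulShortComplex_shortExact (M := ModuleCat.of R N) hreg
  -- the dual of the cokernel
  have e1 := dualCokerEquiv E (LinearMap.lsmul R L a) (a • (⊤ : Submodule R L)).mkQ
    (Submodule.mkQ_surjective _)
    (fun b => by
      have := LinearMap.exact_lsmul_mkQ_smul_top L a b
      exact this)
  -- the kernels of multiplication by `a`
  have e2 := kerCongr (LinearMap.lcomp R E (LinearMap.lsmul R L a))
    (((localCohomology J (j + 1)).map ((ModuleCat.of R N).smulShortComplex a).f).hom) e e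
    (fun ψ => by
      have h1 : LinearMap.lcomp R E (LinearMap.lsmul R L a) ψ = a • ψ := by
        ext x
        simp
      rw [h1, map_smul]
      exact (lcMap_smul_id J (j + 1) (ModuleCat.of R N) a (e ψ)).symm)
  have e3 := lcShiftKerEquiv J hS j hvan
  exact ⟨e1.trans (e2.trans e3.symm)⟩

theorem dual_quot_list (as : List R) : ∀ (N L : Type u) [AddCommGroup N] [Module R N]
    [AddCommGroup L] [Module R L] (j : ℕ)
    (_ : (L →ₗ[R] E) ≃ₗ[R] (localCohomology J (j + as.length)).obj (ModuleCat.of R N))
    (_ : ∀ i < j + as.length, Subsingleton ((localCohomology J i).obj (ModuleCat.of R N)))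
    (_ : IsWeaklyRegular N as),
    Nonempty (((L ⧸ (Ideal.ofList as • (⊤ : Submodule R L))) →ₗ[R] E) ≃ₗ[R]
      (localCohomology J j).obj
        (ModuleCat.of R (N ⧸ (Ideal.ofList as • (⊤ : Submodule R N))))) := by
  induction as with
  | nil =>
    intro N L _ _ _ _ j e _ _
    have hL : Ideal.ofList ([] : List R) • (⊤ : Submodule R L) = ⊥ := by
      rw [Ideal.ofList_nil, Submodule.bot_smul]
    have hN : Ideal.ofList ([] : List R) • (⊤ : Submodule R N) = ⊥ := by
      rw [Ideal.ofList_nil, Submodule.bot_smul]
    have eL := Submodule.quotEquivOfEqBot _ hL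
    have eN := Submodule.quotEquivOfEqBot _ hN
    exact ⟨(LinearEquiv.congrLeft E R eL).trans (e.trans (lcCongr J j eN.symm))⟩
  | cons a as ih =>
    intro N L _ _ _ _ j e hvan hreg
    rw [isWeaklyRegular_cons_iff] at hreg
    obtain ⟨ha, hreg'⟩ := hreg
    obtain ⟨e'⟩ := dual_quot_step J E (j + as.length) e a ha
      (hvan (j + as.length) (by simp))
    have hvan' : ∀ i < j + as.length,
        Subsingleton ((localCohomology J i).obj (ModuleCat.of R (QuotSMulTop a N))) := by
      intro i hi
      have hS : ((ModuleCat.of R N).smulShortComplex a).ShortExact :=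
        IsSMulRegular.smulShortComplex_shortExact (M := ModuleCat.of R N) ha
      exact lc_subsingleton_X₃ J hS i
        (hvan i (by simp; omega)) (hvan (i + 1) (by simp; omega))
    obtain ⟨e''⟩ := ih (QuotSMulTop a N) (QuotSMulTop a L) j e' hvan' hreg'
    have eL := Submodule.quotOfListConsSMulTopEquivQuotSMulTopInner L a as
    have eN := Submodule.quotOfListConsSMulTopEquivQuotSMulTopInner N a as
    exact ⟨(LinearEquiv.congrLeft E R eL).trans (e''.trans (lcCongr J j eN.symm))⟩

end Groth.Agent.Lib.Helper39.CanonShift
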