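import Groth.Agent.Lib.Helper39.CanonQuot
import Groth.Agent.Lib.Helper60.NV6
import Groth.Agent.Lib.Helper29.DepthCM

/-!
# The canonical module of a Cohen–Macaulay local ring has full support; regular sequences
(helper39)
-/

set_option autoImplicit false
universe u

namespace Groth.Agent.Lib.Helper39.CanonShift

open CategoryTheory Abelian Opposite Groth.Agent.Lib.Helper60 IsLocalRing Pointwise
  RingTheory.Sequence Groth.Agent.Lib.Helper29

variable {R : Type u} [CommRing R] [LocCoh.IsCohenMacaulayLocalRing R]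
  {n : ℕ} (hn : ringKrullDim R = n)
  {E : Type u} [AddCommGroup E] [Module R E]
  {f : ResidueField R →ₗ[R] E} (hf : InjHull.IsInjectiveHull f)
  {K : Type u} [AddCommGroup K] [Module R K] [Module.Finite R K]
  (eK : (K →ₗ[R] E) ≃ₗ[R] (localCohomology (maximalIdeal R) n).obj (ModuleCat.of R R))

include hn hf eK in
theorem isCohenMacaulayModule_K : LocCoh.IsCohenMacaulayModule R K := by
  unfold LocCoh.IsCohenMacaulayModule
  rw [supportDim_K_eq hn hf eK, depth_K_eq hn hf eK]
  rfl

omit [Module.Finite R K] in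
theorem isCohenMacaulayModule_self : LocCoh.IsCohenMacaulayModule R R :=
  LocCoh.IsCohenMacaulayLocalRing.supportDim_eq_depth

include hn in
omit [Module.Finite R K] in
theorem ringKrullDim_quotient_minimalPrime (p : Ideal R) (hp : p ∈ minimalPrimes R) :
    ringKrullDim (R ⧸ p) = n := by
  have h1 : p ∈ associatedPrimes R R := by
    apply Module.associatedPrimes.minimalPrimes_annihilator_subset_associatedPrimes R R
    have : Module.annihilator R R = ⊥ := by
      rw [eq_bot_iff]
      intro r hr
      have := Module.mem_annihilator.mp hr 1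
      rw [smul_eq_mul, mul_one] at this
      rw [this]
      exact Ideal.zero_mem _
    rw [this]
    exact hp
  rw [ringKrullDim_quotient_eq_supportDim_of_isCohenMacaulayModule R R isCohenMacaulayModule_self
    p h1, Module.supportDim_self_eq_ringKrullDim, hn]

include hn hf eK in
theorem support_K_eq_univ : Module.support R K = Set.univ := by
  rw [Set.eq_univ_iff_forall]
  intro q
  obtain ⟨p₀, hp₀, hle⟩ := Ideal.exists_minimalPrimes_le (bot_le : (⊥ : Ideal R) ≤ q.asIdeal)
  have hp₀prime : p₀.IsPrime := hp₀.1.1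
  have hdim := ringKrullDim_quotient_minimalPrime (R := R) hn p₀ hp₀
  haveI : Nontrivial (R ⧸ p₀) := Ideal.Quotient.nontrivial_iff.mpr hp₀prime.ne_top
  have hsd : Module.supportDim R (R ⧸ p₀) = n := by
    rw [Module.supportDim_quotient_eq_ringKrullDim, hdim]
  have hnt := lc_nontrivial_of_supportDim_eq R (R ⧸ p₀) n hsd
  -- a nonzero map `R/p₀ → K`
  have e := eta hn hf.isInjective eK (R ⧸ p₀)
  have hnt2 : Nontrivial (((R ⧸ p₀) →ₗ[R] K) →ₗ[R] E) :=
    @Function.Injective.nontrivial _ _ hnt _ e.injective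
  have hnt3 : Nontrivial ((R ⧸ p₀) →ₗ[R] K) := by
    by_contra h
    rw [not_nontrivial_iff_subsingleton] at h
    have : Subsingleton (((R ⧸ p₀) →ₗ[R] K) →ₗ[R] E) :=
      ⟨fun a b => LinearMap.ext fun x => by rw [Subsingleton.elim x 0, map_zero, map_zero]⟩
    exact not_subsingleton _ this
  obtain ⟨φ, hφ⟩ := exists_ne (0 : (R ⧸ p₀) →ₗ[R] K)
  set x : K := φ 1 with hx
  have hx0 : x ≠ 0 := by
    intro h0
    apply hφ
    apply LinearMap.ext
    intro r'
    obtain ⟨r, rfl⟩ := Ideal.Quotient.mk_surjective r'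
    have : (Ideal.Quotient.mk p₀ r) = r • (1 : R ⧸ p₀) := by
      rw [Algebra.smul_def, mul_one]
      rfl
    rw [this, map_smul, ← hx, h0, smul_zero, LinearMap.zero_apply]
  have hann : ∀ r ∈ p₀, r • x = 0 := by
    intro r hr
    rw [hx, ← map_smul]
    have : r • (1 : R ⧸ p₀) = 0 := by
      rw [Algebra.smul_def, mul_one]
      exact Ideal.Quotient.eq_zero_iff_mem.mpr hr
    rw [this, map_zero]
  obtain ⟨q', hq', hle'⟩ := exists_le_isAssociatedPrime_of_isNoetherianRing R x hx0
  have hq'mem : q' ∈ associatedPrimes R K := hq'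
  have hq'prime : q'.IsPrime := hq'.isPrime
  have hdim' : ringKrullDim (R ⧸ q') = n := by
    rw [ringKrullDim_quotient_eq_supportDim_of_isCohenMacaulayModule R K
      (isCohenMacaulayModule_K hn hf eK) q' hq'mem, supportDim_K_eq hn hf eK]
  have hp₀q' : p₀ ≤ q' := by
    intro r hr
    apply hle'
    rw [Submodule.mem_colon_singleton, hann r hr]
    exact Submodule.zero_mem _
  have heq : p₀ = q' := by
    by_contra hne
    have hlt : (⟨p₀, hp₀prime⟩ : PrimeSpectrum R) < ⟨q', hq'prime⟩ :=
      lt_of_le_of_ne hp₀q' (fun h => hne (congrArg PrimeSpectrum.asIdeal h))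
    have := ringKrullDim_quotient_add_one_le_of_lt R hlt
    rw [hdim', hdim] at this
    have h2 : ((n + 1 : ℕ) : WithBot ℕ∞) ≤ (n : WithBot ℕ∞) := by
      push_cast
      exact this
    have h3 : n + 1 ≤ n := by exact_mod_cast h2
    omega
  have hmem : (⟨p₀, hp₀prime⟩ : PrimeSpectrum R) ∈ Module.support R K := by
    have := mem_support_of_mem_associatedPrimes R hq'mem
    convert this using 2
  exact Module.mem_support_mono (show (⟨p₀, hp₀prime⟩ : PrimeSpectrum R) ≤ q from hle) hmem

end Groth.Agent.Lib.Helper39.CanonShift
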