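import Groth.Agent.Lib.Helper39.CanonQuot2

/-!
# Regular sequences on a Cohen–Macaulay local ring and on its canonical module (helper39)
-/

set_option autoImplicit false
universe u

namespace Groth.Agent.Lib.Helper39.CanonShift

open CategoryTheory Abelian Opposite Groth.Agent.Lib.Helper60 IsLocalRing Pointwise
  RingTheory.Sequence Groth.Agent.Lib.Helper29

variable {R : Type u} [CommRing R] [LocCoh.IsCohenMacaulayLocalRing R]
  {n : ℕ} (hn : ringKrullDim R = n)
  {E : Type u} [AddCommGroup E] [Module R E]
  {f : ResidueField R →ₗ[R] E} (hf : InjHull.IsInjectiveHull f)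
  {K : Type u} [AddCommGroup K] [Module R K] [Module.Finite R K]
  (eK : (K →ₗ[R] E) ≃ₗ[R] (localCohomology (maximalIdeal R) n).obj (ModuleCat.of R R))

include hn hf eK in
theorem supportDim_quotient_eq (I : Ideal R) :
    Module.supportDim R (K ⧸ I • (⊤ : Submodule R K)) =
      Module.supportDim R (R ⧸ I • (⊤ : Submodule R R)) := by
  have : Module.support R R = Set.univ := by
    rw [Set.eq_univ_iff_forall]
    intro q
    rw [Module.mem_support_iff]
    infer_instance
  unfold Module.supportDim
  rw [Module.support_quotient, Module.support_quotient, support_K_eq_univ hn hf eK, this]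

include hn hf eK in
theorem isWeaklyRegular_iff (as : List R) (has : ∀ a ∈ as, a ∈ maximalIdeal R) :
    IsWeaklyRegular R as ↔ IsWeaklyRegular K as := by
  rw [isWeaklyRegular_iff_supportDim_of_isCohenMacaulayModule R R isCohenMacaulayModule_self as has,
    isWeaklyRegular_iff_supportDim_of_isCohenMacaulayModule R K
      (isCohenMacaulayModule_K hn hf eK) as has,
    supportDim_quotient_eq hn hf eK, supportDim_K_eq hn hf eK,
    Module.supportDim_self_eq_ringKrullDim, hn]

include hn hf eK in
theorem isRegular_iff (as : List R) (has : ∀ a ∈ as, a ∈ maximalIdeal R) :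
    IsRegular R as ↔ IsRegular K as := by
  haveI := nontrivial_K hn eK
  constructor
  · intro h
    exact isRegular_of_isWeaklyRegular_of_mem (maximalIdeal_smul_top_ne_top R K)
      ((isWeaklyRegular_iff hn hf eK as has).mp h.toIsWeaklyRegular) has
  · intro h
    exact isRegular_of_isWeaklyRegular_of_mem (maximalIdeal_smul_top_ne_top R R)
      ((isWeaklyRegular_iff hn hf eK as has).mpr h.toIsWeaklyRegular) has

include hn in
omit [Module.Finite R K] in
theorem depth_self_eq : LocCoh.idealDepth (maximalIdeal R) R = n := by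
  have h1 : Module.supportDim R R = ((LocCoh.depth R R : ℕ∞) : WithBot ℕ∞) :=
    LocCoh.IsCohenMacaulayLocalRing.supportDim_eq_depth
  rw [Module.supportDim_self_eq_ringKrullDim, hn] at h1
  have : ((n : ℕ∞) : WithBot ℕ∞) = ((LocCoh.depth R R : ℕ∞) : WithBot ℕ∞) := by
    exact_mod_cast h1
  exact (WithBot.coe_injective this).symm

include hn eK in
omit [Module.Finite R K] in
theorem dual_quotient_of_isRegular (as : List R) (has : ∀ a ∈ as, a ∈ maximalIdeal R)
    (hreg : IsRegular R as) :
    Nonempty (((K ⧸ (Ideal.ofList as • (⊤ : Submodule R K))) →ₗ[R] E) ≃ₗ[R]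
      (localCohomology (maximalIdeal R) (n - as.length)).obj
        (ModuleCat.of R (R ⧸ Ideal.ofList as))) := by
  have hlen : as.length ≤ n := by
    have h1 := length_le_idealDepth (maximalIdeal R) R as hreg.toIsWeaklyRegular has
    rw [depth_self_eq (R := R) hn] at h1
    exact_mod_cast h1
  obtain ⟨j, rfl⟩ : ∃ j, n = j + as.length := ⟨n - as.length, by omega⟩
  rw [Nat.add_sub_cancel]
  obtain ⟨e⟩ := dual_quot_list (maximalIdeal R) E as R K j eK
    (fun i hi => lc_ring_subsingleton_of_lt (j + as.length) hn i hi) hreg.toIsWeaklyRegular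
  have h2 : Ideal.ofList as • (⊤ : Submodule R R) = Ideal.ofList as := by
    rw [smul_eq_mul, Ideal.mul_top]
  exact ⟨e.trans (lcCongr (maximalIdeal R) j (Submodule.quotEquivOfEq _ _ h2))⟩

end Groth.Agent.Lib.Helper39.CanonShift
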