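import Groth.Agent.Lib.Helper39.CanonEnd
import Groth.Agent.Lib.Helper60.LocalCohBC
import Groth.Agent.Lib.Helper2.CoextendFinite

/-!
# Ring change `R → R/J` for canonical-module data (helper39)

* `coextHomEquiv M : Hom_B(M, Hom_A(B,E)) ≃+ Hom_A(M,E)` with semilinearity.
* `exists_ringChange`: if `Hom_R(K', E) ≅ H^i_m(R/J)` over `R` for an `R/J`-module `K'`, then over
  `R/J` there is an injective hull `E'` of the residue field with
  `Hom_{R/J}(K', E') ≅ H^i_{m'}(R/J)`.
-/

set_option autoImplicit false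
universe u

namespace Groth.Agent.Lib.Helper39.CanonRC

open CategoryTheory IsLocalRing Groth.Agent.Lib.Helper2 Groth.Agent.Lib.Helper60

section coext

variable {A B : Type u} [CommRing A] [CommRing B] [Algebra A B]
  {E : Type u} [AddCommGroup E] [Module A E]
  (M : Type u) [AddCommGroup M] [Module A M] [Module B M] [IsScalarTower A B M]

noncomputable def coextHomFwd
    (φ : M →ₗ[B] (ModuleCat.coextendScalars (algebraMap A B)).obj (ModuleCat.of A E)) :
    M →ₗ[A] E where
  toFun x := coextLin (φ x) 1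
  map_add' x y := by rw [map_add, coextLin_add]; rfl
  map_smul' a x := by
    have h1 : a • x = algebraMap A B a • x := (algebraMap_smul B a x).symm
    rw [h1, map_smul, coextLin_smul_apply, one_mul, RingHom.id_apply]
    have h2 : algebraMap A B a = a • (1 : B) := by rw [Algebra.smul_def, mul_one]
    rw [h2, map_smul]

noncomputable def coextHomBwd (χ : M →ₗ[A] E) :
    M →ₗ[B] (ModuleCat.coextendScalars (algebraMap A B)).obj (ModuleCat.of A E) where
  toFun x := coextMk
    { toFun := fun b => χ (b • x)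
      map_add' := fun b b' => by rw [add_smul, map_add]
      map_smul' := fun a b => by rw [smul_assoc, map_smul]; rfl }
  map_add' x y := by
    apply coextLin_injective
    ext b
    rw [coextLin_add]
    show χ (b • (x + y)) = χ (b • x) + χ (b • y)
    rw [smul_add, map_add]
  map_smul' s x := by
    apply coextLin_injective
    ext b
    rw [RingHom.id_apply, coextLin_smul_apply]
    show χ (b • s • x) = χ ((b * s) • x)
    rw [mul_smul]

lemma coextHomFwd_apply
    (φ : M →ₗ[B] (ModuleCat.coextendScalars (algebraMap A B)).obj (ModuleCat.of A E)) (x : M) :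
    coextHomFwd M φ x = coextLin (φ x) 1 := rfl

lemma coextLin_coextHomBwd (χ : M →ₗ[A] E) (x : M) (b : B) :
    coextLin (coextHomBwd M χ x) b = χ (b • x) := rfl

/-- `Hom_B(M, Hom_A(B, E)) ≃ Hom_A(M, E)`. -/
noncomputable def coextHomEquiv :
    (M →ₗ[B] (ModuleCat.coextendScalars (algebraMap A B)).obj (ModuleCat.of A E)) ≃+
      (M →ₗ[A] E) where
  toFun := coextHomFwd M
  invFun := coextHomBwd M
  left_inv φ := by
    refine LinearMap.ext fun x => ?_
    apply coextLin_injective
    ext b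
    rw [coextLin_coextHomBwd, coextHomFwd_apply, map_smul, coextLin_smul_apply, one_mul]
  right_inv χ := by
    ext x
    rw [coextHomFwd_apply, coextLin_coextHomBwd, one_smul]
  map_add' φ φ' := by
    ext x
    rw [coextHomFwd_apply, LinearMap.add_apply, coextLin_add]
    rfl

lemma coextHomEquiv_smul (a : A)
    (φ : M →ₗ[B] (ModuleCat.coextendScalars (algebraMap A B)).obj (ModuleCat.of A E)) :
    coextHomEquiv M (algebraMap A B a • φ) = a • coextHomEquiv M φ := by
  ext x
  show coextLin ((algebraMap A B a • φ) x) 1 = a • coextLin (φ x) 1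
  rw [LinearMap.smul_apply, coextLin_smul_apply, one_mul]
  have h2 : algebraMap A B a = a • (1 : B) := by rw [Algebra.smul_def, mul_one]
  rw [h2, map_smul]

end coext

section RC

variable {R : Type u} [CommRing R] [IsNoetherianRing R] [IsLocalRing R]
  {E : Type u} [AddCommGroup E] [Module R E] {f : ResidueField R →ₗ[R] E}
  (hf : InjHull.IsInjectiveHull f)
  (J : Ideal R) [IsLocalRing (R ⧸ J)]
  (K' : Type u) [AddCommGroup K'] [Module R K'] [Module (R ⧸ J) K'] [IsScalarTower R (R ⧸ J) K']
  (i : ℕ)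

include hf in
/-- Ring change for canonical-module data along `R → R/J`. -/
theorem exists_ringChange
    (e : (K' →ₗ[R] E) ≃ₗ[R] LocCoh.H (maximalIdeal R) i (R ⧸ J)) :
    ∃ (E' : Type u) (_ : AddCommGroup E') (_ : Module (R ⧸ J) E')
      (f' : ResidueField (R ⧸ J) →ₗ[R ⧸ J] E'),
      InjHull.IsInjectiveHull f' ∧
      Nonempty ((K' →ₗ[R ⧸ J] E') ≃ₗ[R ⧸ J]
        LocCoh.H (maximalIdeal (R ⧸ J)) i (R ⧸ J)) := by
  obtain ⟨g, hg⟩ := exists_isInjectiveHull_coext_of_isLocalRing (A := R) (B := R ⧸ J) hf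
  refine ⟨_, inferInstance, inferInstance, g, hg, ?_⟩
  have key : ∃ φ : LocCoh.H (maximalIdeal (R ⧸ J)) i (R ⧸ J) ≃+
      LocCoh.H (maximalIdeal R) i (R ⧸ J),
      ∀ (r : R) (x : LocCoh.H (maximalIdeal (R ⧸ J)) i (R ⧸ J)),
        φ (algebraMap R (R ⧸ J) r • x) = r • φ x := by
    have h1 := exists_lc_baseChange (R := R) (R' := R ⧸ J) (maximalIdeal R) i (R ⧸ J)
    have h2 : Ideal.map (algebraMap R (R ⧸ J)) (maximalIdeal R) = maximalIdeal (R ⧸ J) :=
      IsLocalRing.map_maximalIdeal_of_surjective _ Ideal.Quotient.mk_surjective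
    rwa [h2] at h1
  obtain ⟨φ, hφ⟩ := key
  let ψ : (K' →ₗ[R ⧸ J] (ModuleCat.coextendScalars (algebraMap R (R ⧸ J))).obj
      (ModuleCat.of R E)) ≃+ LocCoh.H (maximalIdeal (R ⧸ J)) i (R ⧸ J) :=
    (coextHomEquiv K').trans (e.toAddEquiv.trans φ.symm)
  have hφsymm : ∀ (r : R) (z : LocCoh.H (maximalIdeal R) i (R ⧸ J)),
      φ.symm (r • z) = algebraMap R (R ⧸ J) r • φ.symm z := by
    intro r z
    apply φ.injective
    rw [hφ, AddEquiv.apply_symm_apply, AddEquiv.apply_symm_apply]
  refine ⟨{ ψ with map_smul' := ?_ }⟩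
  intro s x
  obtain ⟨r, rfl⟩ := Ideal.Quotient.mk_surjective s
  show φ.symm (e (coextHomEquiv K' (algebraMap R (R ⧸ J) r • x))) =
    algebraMap R (R ⧸ J) r • φ.symm (e (coextHomEquiv K' x))
  rw [coextHomEquiv_smul, map_smul, hφsymm]

end RC

end Groth.Agent.Lib.Helper39.CanonRC
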