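import Groth.Agent.Lib.Helper39.ExtSocle
import Groth.Agent.Lib.Helper39.CanonLcShift
import Groth.Agent.Lib.Helper2.MatlisSocle
import Groth.Agent.Lib.Helper2.MatlisFlat
import Groth.Agent.Lib.Helper60.ExtBridge2
import Groth.Agent.S7699

/-!
# Type of the canonical module and of the ring (helper39)

For a Cohen–Macaulay local ring `(A, m, k)` of dimension `n` with canonical module `K`
(`Hom(K, E) ≃ H^n_m(A)`):
* `length_ext_canon`: `length Ext^n(k, K) = 1`;
* `length_ext_self`: `length Ext^n(k, A) = length (K / mK)`.
-/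

set_option autoImplicit false
universe u
open IsLocalRing CategoryTheory Abelian Opposite

namespace Groth.Agent.Lib.Helper39.CanonType

open Groth.Agent.Lib.Helper60 Groth.Agent.Lib.Helper2 Groth.Agent.Lib.Helper39 InjHull

section Gen
variable {A : Type u} [CommRing A] [IsNoetherianRing A] [IsLocalRing A]

/-- a finite module killed by the maximal ideal has finite length -/
theorem isFiniteLength_of_smul_eq_zero (X : Type u) [AddCommGroup X] [Module A X]
    [Module.Finite A X] (h : ∀ a ∈ maximalIdeal A, ∀ y : X, a • y = 0) : IsFiniteLength A X := by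
  have hbot : (maximalIdeal A • ⊤ : Submodule A X) = ⊥ := by
    rw [eq_bot_iff, Submodule.smul_le]
    intro a ha y _
    rw [h a ha y]
    exact Submodule.zero_mem _
  have e : (X ⧸ (maximalIdeal A • ⊤ : Submodule A X)) ≃ₗ[A] X :=
    Submodule.quotEquivOfEqBot _ hbot
  rw [← Module.length_ne_top_iff, ← e.length_eq,
    length_quotient_maximalIdeal_smul_eq_spanFinrank (R := A) X]
  exact ENat.natCast_ne_top _

theorem ext_residueField_smul_eq_zero (Y : ModuleCat.{u} A) (n : ℕ) (a : A)
    (ha : a ∈ maximalIdeal A) (y : Ext (ModuleCat.of A (ResidueField A)) Y n) : a • y = 0 := by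
  have h := Groth.Agent.Lib.Helper29.ext_comp_smul_id_eq_zero
    (ExtSocle.mem_annihilator_residueField ha) y
  rwa [Ext.mk₀_smul, Ext.comp_smul, Ext.comp_mk₀_id] at h

theorem length_lc_zero_residueField :
    Module.length A ((localCohomology (maximalIdeal A) 0).obj
      (ModuleCat.of A (ResidueField A))) = 1 := by
  rw [(lcH0Equiv (maximalIdeal A) (ModuleCat.of A (ResidueField A))).length_eq]
  have htop : DRing.torsionSub (maximalIdeal A) (ModuleCat.of A (ResidueField A)) = ⊤ := by
    rw [eq_top_iff]
    intro c _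
    refine ⟨1, fun r hr => ?_⟩
    rw [pow_one] at hr
    exact Module.mem_annihilator.mp (ExtSocle.mem_annihilator_residueField hr) c
  rw [htop, (LinearEquiv.ofTop (⊤ : Submodule A (ModuleCat.of A (ResidueField A))) rfl).length_eq]
  exact length_quot_maximalIdeal

end Gen

section CM
variable {A : Type u} [CommRing A] [LocCoh.IsCohenMacaulayLocalRing A] {n : ℕ}
  (hn : ringKrullDim A = n) {E : Type u} [AddCommGroup E] [Module A E]
  {f : ResidueField A →ₗ[A] E} (hf : IsInjectiveHull f)
  {K : Type u} [AddCommGroup K] [Module A K] [Module.Finite A K]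
  (eK : (K →ₗ[A] E) ≃ₗ[A] LocCoh.H (maximalIdeal A) n A)

include hn hf eK in
theorem length_ext_canon :
    Module.length A (Ext (ModuleCat.of A (ResidueField A)) (ModuleCat.of A K) n) = 1 := by
  obtain ⟨e1⟩ := Groth.Agent.S7699.result A n hn E f hf K eK (ResidueField A) n le_rfl
  rw [Nat.sub_self] at e1
  have e2 := extBridge (ModuleCat.of A (ResidueField A)) n (ModuleCat.of A K)
  have hfin : IsFiniteLength A (Ext (ModuleCat.of A (ResidueField A)) (ModuleCat.of A K) n) :=
    isFiniteLength_of_smul_eq_zero _ (fun a ha y => ext_residueField_smul_eq_zero _ n a ha y)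
  rw [← length_hom_eq_length hf _ hfin, ← (LinearEquiv.congrLeft E A e2).length_eq,
    ← e1.length_eq]
  exact length_lc_zero_residueField

include hn hf eK in
theorem length_ext_self :
    Module.length A (Ext (ModuleCat.of A (ResidueField A)) (ModuleCat.of A A) n) =
      Module.length A (K ⧸ (maximalIdeal A • ⊤ : Submodule A K)) := by
  obtain ⟨-, ⟨e1⟩⟩ := ExtSocle.ext_residueField_socle n A
    (fun i hi => CanonShift.lc_ring_subsingleton_of_lt n hn i hi)
  have e2 := ExtSocle.torsionByCongr (maximalIdeal A) eK.symm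
  have e3 := homQuotEquivTorsionBy (maximalIdeal A) K E
  have h1 := length_quotient_maximalIdeal_smul_eq_spanFinrank (R := A) K
  have hfin : IsFiniteLength A (K ⧸ (maximalIdeal A • ⊤ : Submodule A K)) := by
    rw [← Module.length_ne_top_iff, h1]
    exact ENat.natCast_ne_top _
  rw [e1.length_eq, e2.length_eq, ← e3.length_eq, length_hom_eq_length hf _ hfin]

end CM

end Groth.Agent.Lib.Helper39.CanonType
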