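import Mathlib

/-!
# Numeric bridge: `length (K_m / m K_m) = dim_{R/m} (R/m ⊗ C)` (helper39)
-/

set_option autoImplicit false
universe u
open IsLocalRing
open scoped TensorProduct

namespace Groth.Agent.Lib.Helper39.CanonTypeNum

variable (R : Type u) [CommRing R] (m : Ideal R) [m.IsMaximal]
  (C : Type u) [AddCommGroup C] [Module R C] [Module.Finite R C]

theorem length_quot_eq_finrank :
    Module.length (Localization.AtPrime m)
      (LocalizedModule m.primeCompl C ⧸
        (maximalIdeal (Localization.AtPrime m) • ⊤ :
          Submodule (Localization.AtPrime m) (LocalizedModule m.primeCompl C))) =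
      (Module.finrank (R ⧸ m) ((R ⧸ m) ⊗[R] C) : ℕ∞) := by
  letI : Field (R ⧸ m) := Ideal.Quotient.field m
  have e1 := TensorProduct.quotTensorEquivQuotSMul (LocalizedModule m.primeCompl C)
    (maximalIdeal (Localization.AtPrime m))
  rw [← e1.length_eq]
  have e2 : LocalizedModule m.primeCompl C ≃ₗ[Localization.AtPrime m]
      (Localization.AtPrime m) ⊗[R] C :=
    (IsLocalizedModule.isBaseChange m.primeCompl (Localization.AtPrime m)
      (LocalizedModule.mkLinearMap m.primeCompl C)).equiv.symm
  have e3 : m.ResidueField ⊗[Localization.AtPrime m] (LocalizedModule m.primeCompl C)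
      ≃ₗ[m.ResidueField] m.ResidueField ⊗[Localization.AtPrime m]
        ((Localization.AtPrime m) ⊗[R] C) :=
    TensorProduct.AlgebraTensorModule.congr (LinearEquiv.refl m.ResidueField m.ResidueField) e2
  have e4 : m.ResidueField ⊗[Localization.AtPrime m] ((Localization.AtPrime m) ⊗[R] C)
      ≃ₗ[m.ResidueField] m.ResidueField ⊗[R] C :=
    TensorProduct.AlgebraTensorModule.cancelBaseChange R (Localization.AtPrime m)
      m.ResidueField m.ResidueField C
  have e5 : m.ResidueField ⊗[R ⧸ m] ((R ⧸ m) ⊗[R] C) ≃ₗ[m.ResidueField] m.ResidueField ⊗[R] C :=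
    TensorProduct.AlgebraTensorModule.cancelBaseChange R (R ⧸ m)
      m.ResidueField m.ResidueField C
  have h1 : Module.length (Localization.AtPrime m)
      (m.ResidueField ⊗[Localization.AtPrime m] (LocalizedModule m.primeCompl C)) =
      Module.length m.ResidueField
      (m.ResidueField ⊗[Localization.AtPrime m] (LocalizedModule m.primeCompl C)) :=
    Module.length_eq_of_surjective Ideal.Quotient.mk_surjective
  change Module.length (Localization.AtPrime m)
      (m.ResidueField ⊗[Localization.AtPrime m] (LocalizedModule m.primeCompl C)) = _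
  rw [h1, ((e3.trans e4).trans e5.symm).length_eq, Module.length_eq_finrank,
    Module.finrank_baseChange]

end Groth.Agent.Lib.Helper39.CanonTypeNum
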