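import Mathlib

/-!
# Projectivity of a cokernel and base change of the kernel to residue fields (helper39)

For `d : M → N` between finite projective modules: `coker d` is free at `p` iff
`κ(p) ⊗ ker d → ker (κ(p) ⊗ d)` is surjective (`mem_freeLocus_coker_iff`).
-/

set_option autoImplicit false
universe u v w
open scoped TensorProduct

namespace Groth.Agent.Lib.Helper39.CokerProj

section Split
variable {A : Type*} [CommRing A] (B : Type*) [CommRing B] [Algebra A B]
  {M' N' : Type*} [AddCommGroup M'] [Module A M'] [AddCommGroup N'] [Module A N']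
  (d' : M' →ₗ[A] N')

/-- If the cokernel of `d'` is projective, the kernel of `d'` commutes with base change. -/
theorem ker_baseChange_le_of_projective [Module.Projective A (N' ⧸ LinearMap.range d')] :
    LinearMap.ker (d'.baseChange B) ≤
      LinearMap.range ((LinearMap.ker d').subtype.baseChange B) := by
  set Z' := LinearMap.range d' with hZ'
  obtain ⟨s, hs⟩ := Module.projective_lifting_property Z'.mkQ
    (LinearMap.id : N' ⧸ Z' →ₗ[A] N' ⧸ Z') Z'.mkQ_surjective
  -- the retraction
  let r : N' →ₗ[A] Z' := (LinearMap.id - s ∘ₗ Z'.mkQ).codRestrict Z' (fun n => by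
    apply (Submodule.Quotient.mk_eq_zero Z').mp
    show Z'.mkQ ((LinearMap.id - s ∘ₗ Z'.mkQ : N' →ₗ[A] N') n) = 0
    rw [LinearMap.sub_apply, map_sub, LinearMap.id_apply, LinearMap.comp_apply]
    have := LinearMap.congr_fun hs (Z'.mkQ n)
    simp only [LinearMap.comp_apply, LinearMap.id_apply] at this
    rw [this, sub_self])
  have hr : r ∘ₗ Z'.subtype = LinearMap.id := by
    ext z
    simp only [LinearMap.comp_apply, Submodule.subtype_apply, LinearMap.id_apply, r,
      LinearMap.codRestrict_apply, LinearMap.sub_apply]
    have : Z'.mkQ (z : N') = 0 := by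
      rw [Submodule.mkQ_apply, Submodule.Quotient.mk_eq_zero]; exact z.2
    rw [this, map_zero, sub_zero]
  let π : M' →ₗ[A] Z' := d'.rangeRestrict
  have hπ : Function.Surjective π := d'.surjective_rangeRestrict
  have hd' : d' = Z'.subtype ∘ₗ π := (LinearMap.subtype_comp_codRestrict _ _ _).symm
  intro x hx
  rw [LinearMap.mem_ker] at hx
  have h1 : (π.baseChange B) x = 0 := by
    have h2 : (r.baseChange B) ((d'.baseChange B) x) = (π.baseChange B) x := by
      rw [← LinearMap.comp_apply, ← LinearMap.baseChange_comp]
      have : r ∘ₗ d' = π := by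
        conv_lhs => rw [hd']
        rw [← LinearMap.comp_assoc, hr, LinearMap.id_comp]
      rw [this]
    rw [← h2, hx, map_zero]
  have hex : Function.Exact ((LinearMap.ker d').subtype) π := by
    intro m
    constructor
    · intro hm
      have : d' m = 0 := by
        have := congrArg Subtype.val hm
        simpa [π] using this
      exact ⟨⟨m, this⟩, rfl⟩
    · rintro ⟨z, rfl⟩
      apply Subtype.ext
      simp [π]
  have hex' := lTensor_exact B hex hπ
  have h3 : (π.lTensor B) x = 0 := by
    have := h1
    rwa [LinearMap.baseChange_eq_ltensor] at this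
  obtain ⟨y, hy⟩ := (hex' x).mp h3
  exact ⟨y, by rw [LinearMap.baseChange_eq_ltensor]; exact hy⟩

end Split

section Local
variable {S : Type*} [CommRing S] [IsLocalRing S]
  {M' N' : Type*} [AddCommGroup M'] [Module S M'] [AddCommGroup N'] [Module S N']
  [Module.Finite S M'] [Module.Finite S N'] [Module.Free S N'] (d' : M' →ₗ[S] N')

/-- Over a local ring: if the kernel of `d'` commutes with base change to the residue field, the
cokernel of `d'` is free. -/
theorem free_coker_of_ker_baseChange_le
    (h : LinearMap.ker (d'.baseChange (IsLocalRing.ResidueField S)) ≤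
      LinearMap.range ((LinearMap.ker d').subtype.baseChange (IsLocalRing.ResidueField S))) :
    Module.Free S (N' ⧸ LinearMap.range d') := by
  set Z' := LinearMap.range d' with hZ'
  let π : M' →ₗ[S] Z' := d'.rangeRestrict
  have hπ : Function.Surjective π := d'.surjective_rangeRestrict
  have hd' : d' = Z'.subtype ∘ₗ π := (LinearMap.subtype_comp_codRestrict _ _ _).symm
  haveI : Module.Finite S Z' := Module.Finite.range d'
  refine Module.free_of_lTensor_residueField_injective (f := Z'.subtype) (g := Z'.mkQ)
    Z'.mkQ_surjective (LinearMap.exact_subtype_mkQ Z') ?_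
  rw [injective_iff_map_eq_zero]
  intro x hx
  obtain ⟨y, rfl⟩ := LinearMap.lTensor_surjective (IsLocalRing.ResidueField S) hπ x
  have h1 : (d'.baseChange (IsLocalRing.ResidueField S)) y = 0 := by
    rw [LinearMap.baseChange_eq_ltensor, hd', LinearMap.lTensor_comp, LinearMap.comp_apply]
    exact hx
  obtain ⟨w, hw⟩ := h h1
  rw [← hw, LinearMap.baseChange_eq_ltensor, ← LinearMap.comp_apply, ← LinearMap.lTensor_comp]
  have : π ∘ₗ (LinearMap.ker d').subtype = 0 := by
    ext z
    simpa [π] using z.2
  rw [this, LinearMap.lTensor_zero, LinearMap.zero_apply]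

end Local

section Transfer
variable {R : Type*} [CommRing R] (A : Type*) [CommRing A] [Algebra R A] [Module.Flat R A]
  (B : Type*) [CommRing B] [Algebra R B] [Algebra A B] [IsScalarTower R A B]
  {M N : Type*} [AddCommGroup M] [Module R M] [AddCommGroup N] [Module R N] (d : M →ₗ[R] N)

open TensorProduct.AlgebraTensorModule in
/-- the condition "kernel commutes with base change to `B`" can be tested after a flat base
change -/
theorem ker_baseChange_le_iff :
    LinearMap.ker ((d.baseChange A).baseChange B) ≤
        LinearMap.range ((LinearMap.ker (d.baseChange A)).subtype.baseChange B) ↔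
      LinearMap.ker (d.baseChange B) ≤
        LinearMap.range ((LinearMap.ker d).subtype.baseChange B) := by
  set ι := (LinearMap.ker d).subtype with hι
  set ι' := (LinearMap.ker (d.baseChange A)).subtype with hι'
  -- flatness
  have hflat : LinearMap.ker (d.baseChange A) = LinearMap.range (ι.baseChange A) :=
    Module.Flat.ker_lTensor_eq A A d
  let jt : A ⊗[R] LinearMap.ker d →ₗ[A] LinearMap.ker (d.baseChange A) :=
    (ι.baseChange A).codRestrict _ (fun x => by rw [hflat]; exact ⟨x, rfl⟩)
  have hjt : Function.Surjective jt := by
    rintro ⟨y, hy⟩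
    rw [hflat] at hy
    obtain ⟨x, rfl⟩ := hy
    exact ⟨x, rfl⟩
  have hcomp : ι' ∘ₗ jt = ι.baseChange A := LinearMap.subtype_comp_codRestrict _ _ _
  have hrange : LinearMap.range (ι'.baseChange B) =
      LinearMap.range ((ι.baseChange A).baseChange B) := by
    rw [← hcomp, LinearMap.baseChange_comp, LinearMap.range_comp_of_range_eq_top]
    rw [LinearMap.range_eq_top, LinearMap.baseChange_eq_ltensor]
    exact LinearMap.lTensor_surjective B hjt
  rw [hrange, LinearMap.baseChange_baseChange, LinearMap.baseChange_baseChange]
  constructor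
  · intro h y hy
    have h1 : (cancelBaseChange R A B B M).symm y ∈
        LinearMap.ker ((cancelBaseChange R A B B N).symm.toLinearMap ∘ₗ d.baseChange B ∘ₗ
          (cancelBaseChange R A B B M).toLinearMap) := by
      rw [LinearMap.mem_ker, LinearMap.comp_apply, LinearMap.comp_apply]
      simp only [LinearEquiv.coe_coe, LinearEquiv.apply_symm_apply]
      rw [LinearMap.mem_ker] at hy
      rw [hy, map_zero]
    obtain ⟨w, hw⟩ := h h1
    rw [LinearMap.comp_apply, LinearMap.comp_apply] at hw
    refine ⟨(cancelBaseChange R A B B (LinearMap.ker d)) w, ?_⟩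
    have := congrArg (cancelBaseChange R A B B M) hw
    simpa using this
  · intro h x hx
    rw [LinearMap.mem_ker, LinearMap.comp_apply, LinearMap.comp_apply] at hx
    have h1 : (cancelBaseChange R A B B M) x ∈ LinearMap.ker (d.baseChange B) := by
      rw [LinearMap.mem_ker]
      have := congrArg (cancelBaseChange R A B B N) hx
      simpa using this
    obtain ⟨w, hw⟩ := h h1
    refine ⟨(cancelBaseChange R A B B (LinearMap.ker d)).symm w, ?_⟩
    rw [LinearMap.comp_apply, LinearMap.comp_apply]
    simp only [LinearEquiv.coe_coe, LinearEquiv.apply_symm_apply]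
    rw [hw, LinearEquiv.symm_apply_apply]

omit [Module.Flat R A] in
/-- base change of a cokernel -/
noncomputable def cokerBaseChangeEquiv :
    ((A ⊗[R] N) ⧸ LinearMap.range (d.baseChange A)) ≃ₗ[A] A ⊗[R] (N ⧸ LinearMap.range d) := by
  have hsurj : Function.Surjective ((LinearMap.range d).mkQ.baseChange A) := by
    rw [LinearMap.baseChange_eq_ltensor]
    exact LinearMap.lTensor_surjective A (LinearMap.range d).mkQ_surjective
  have hker : LinearMap.ker ((LinearMap.range d).mkQ.baseChange A) =
      LinearMap.range (d.baseChange A) := by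
    have hex : Function.Exact d (LinearMap.range d).mkQ := by
      intro n
      rw [Submodule.mkQ_apply, Submodule.Quotient.mk_eq_zero]
      rfl
    have := lTensor_exact A hex (LinearMap.range d).mkQ_surjective
    ext x
    rw [LinearMap.mem_ker, LinearMap.baseChange_eq_ltensor, this x]
    constructor
    · rintro ⟨y, hy⟩
      exact ⟨y, by rw [LinearMap.baseChange_eq_ltensor]; exact hy⟩
    · rintro ⟨y, hy⟩
      rw [LinearMap.baseChange_eq_ltensor] at hy
      exact ⟨y, hy⟩
  exact (Submodule.quotEquivOfEq _ _ hker.symm).trans
    (LinearMap.quotKerEquivOfSurjective _ hsurj)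

end Transfer

section Main
variable (R : Type u) [CommRing R] (M : Type v) (N : Type w) [AddCommGroup M] [Module R M]
  [AddCommGroup N] [Module R N] [Module.Finite R M] [Module.Projective R M] [Module.Finite R N]
  [Module.Projective R N] (d : M →ₗ[R] N)

omit [Module.Projective R M] in
theorem finitePresentation_coker : Module.FinitePresentation R (N ⧸ LinearMap.range d) := by
  haveI : Module.FinitePresentation R N := Module.finitePresentation_of_projective R N
  refine Module.finitePresentation_of_surjective (LinearMap.range d).mkQ
    (LinearMap.range d).mkQ_surjective ?_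
  rw [Submodule.ker_mkQ, LinearMap.range_eq_map]
  exact (Module.Finite.fg_top).map d

/-- the key lemma: the cokernel is free at `p` iff the kernel commutes with base change to
`κ(p)` -/
theorem mem_freeLocus_coker_iff (p : PrimeSpectrum R) :
    p ∈ Module.freeLocus R (N ⧸ LinearMap.range d) ↔
      LinearMap.ker (d.baseChange p.asIdeal.ResidueField) ≤
        LinearMap.range ((LinearMap.ker d).subtype.baseChange p.asIdeal.ResidueField) := by
  rw [Module.mem_freeLocus_iff_tensor p (Localization.AtPrime p.asIdeal),
    ← ker_baseChange_le_iff (Localization.AtPrime p.asIdeal) p.asIdeal.ResidueField d]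
  constructor
  · intro hfree
    haveI : Module.Free (Localization.AtPrime p.asIdeal)
        ((Localization.AtPrime p.asIdeal ⊗[R] N) ⧸
          LinearMap.range (d.baseChange (Localization.AtPrime p.asIdeal))) :=
      Module.Free.of_equiv (cokerBaseChangeEquiv (Localization.AtPrime p.asIdeal) d).symm
    exact ker_baseChange_le_of_projective p.asIdeal.ResidueField
      (d.baseChange (Localization.AtPrime p.asIdeal))
  · intro h
    haveI : Module.Free (Localization.AtPrime p.asIdeal) (Localization.AtPrime p.asIdeal ⊗[R] N) :=
      Module.free_of_flat_of_isLocalRing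
    have := free_coker_of_ker_baseChange_le (d.baseChange (Localization.AtPrime p.asIdeal)) h
    exact Module.Free.of_equiv (cokerBaseChangeEquiv (Localization.AtPrime p.asIdeal) d)

/-- S7753 -/
theorem projective_coker_iff :
    Module.Projective R (N ⧸ LinearMap.range d) ↔
      ∀ p : PrimeSpectrum R,
        LinearMap.ker (d.baseChange p.asIdeal.ResidueField) ≤
          LinearMap.range ((LinearMap.ker d).subtype.baseChange p.asIdeal.ResidueField) := by
  haveI := finitePresentation_coker R M N d
  rw [← Module.freeLocus_eq_univ_iff, Set.eq_univ_iff_forall]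
  exact forall_congr' fun p => mem_freeLocus_coker_iff R M N d p

/-- S7754 -/
theorem ker_baseChange_le_iff_exists_away (p : PrimeSpectrum R) :
    LinearMap.ker (d.baseChange p.asIdeal.ResidueField) ≤
        LinearMap.range ((LinearMap.ker d).subtype.baseChange p.asIdeal.ResidueField) ↔
      ∃ f : R, f ∉ p.asIdeal ∧
        Module.Projective (Localization.Away f)
          (LocalizedModule (Submonoid.powers f) (N ⧸ LinearMap.range d)) := by
  haveI := finitePresentation_coker R M N d
  rw [← mem_freeLocus_coker_iff]
  constructor
  · intro hp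
    obtain ⟨_, ⟨_, ⟨f, rfl⟩, rfl⟩, hpf, hsub⟩ :=
      PrimeSpectrum.isBasis_basic_opens.exists_subset_of_mem_open hp
        (Module.isOpen_freeLocus (R := R) (M := N ⧸ LinearMap.range d))
    exact ⟨f, hpf, Module.basicOpen_subset_freeLocus_iff.mp hsub⟩
  · rintro ⟨f, hf, hproj⟩
    exact Module.basicOpen_subset_freeLocus_iff.mpr hproj hf

end Main

end Groth.Agent.Lib.Helper39.CokerProj
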