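import Mathlib

/-!
# Unramified + locally flat implies étale at a prime (helper39)
-/

set_option autoImplicit false
universe u

open TensorProduct IsLocalRing Algebra

namespace Groth.Agent.Lib.Helper39.EtaleAt

local notation "𝓀[" R "]" => ResidueField R

/-- unramified at `q` plus flatness of `B_q` over `A_p` gives étale at `q`; the flatness may be
proved using that `B_q` is unramified and essentially of finite type over `A_p` -/
theorem isEtaleAt_of_isUnramifiedAt_of_flat_localization
    (R S : Type u) [CommRing R] [CommRing S] [Algebra R S] [Algebra.FinitePresentation R S]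
    (p : Ideal R) (q : Ideal S) [p.IsPrime] [q.IsPrime] [q.LiesOver p]
    [Algebra.IsUnramifiedAt R q]
    (hflat : letI := Localization.AtPrime.algebraOfLiesOver p q
      FormallyUnramified (Localization.AtPrime p) (Localization.AtPrime q) →
      EssFiniteType (Localization.AtPrime p) (Localization.AtPrime q) →
      Module.Flat (Localization.AtPrime p) (Localization.AtPrime q)) :
    Algebra.IsEtaleAt R q := by
  let Rp := Localization.AtPrime p
  let Sp := Localization (algebraMapSubmonoid S p.primeCompl)
  let Sq := Localization.AtPrime q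
  let := Localization.AtPrime.algebraOfLiesOver p q
  let f : Sp →ₐ[S] Sq := IsLocalization.liftAlgHom (M := algebraMapSubmonoid S p.primeCompl)
        (f := Algebra.ofId _ _) (by
      rintro ⟨_, x, hx, rfl⟩
      simpa using! IsLocalization.map_units (M := q.primeCompl) Sq ⟨algebraMap _ _ x,
        by simp_all [q.over_def p]⟩)
  algebraize [f.toRingHom]
  have : IsScalarTower R Sp Sq := .to₁₃₄ _ S _ _
  have : IsScalarTower Rp Sp Sq := .of_algebraMap_eq' <| by
    apply IsLocalization.ringHom_ext p.primeCompl
    simp only [RingHom.comp_assoc, ← IsScalarTower.algebraMap_eq]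
  have : IsLocalization (algebraMapSubmonoid Sp q.primeCompl) Sq :=
    .isLocalization_of_submonoid_le _ _ (algebraMapSubmonoid S p.primeCompl) _
    (by rintro _ ⟨x, hx, rfl⟩; simp_all [q.over_def p])
  have : FinitePresentation Rp Sp := by
    have : Algebra.IsPushout R Rp S Sp :=
      .symm <| Algebra.isPushout_of_isLocalization p.primeCompl _ _ _
    exact .equiv (Algebra.IsPushout.equiv R Rp S Sp)
  have hunr : FormallyUnramified R Sq := ‹Algebra.IsUnramifiedAt R q›
  have hunr' : FormallyUnramified Rp Sq := .of_restrictScalars R _ _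
  have hess : EssFiniteType Rp Sq := by
    have : EssFiniteType Sp Sq := .of_isLocalization _ (algebraMapSubmonoid Sp q.primeCompl)
    exact .comp Rp Sp Sq
  have hflat' : Module.Flat Rp Sq := hflat hunr' hess
  have : FormallyUnramified 𝓀[Rp] (𝓀[Rp] ⊗[Rp] Sq) := inferInstance
  have : EssFiniteType 𝓀[Rp] (𝓀[Rp] ⊗[Rp] Sq) := inferInstance
  have : FormallyEtale 𝓀[Rp] (𝓀[Rp] ⊗[Rp] Sq) := .of_formallyUnramified_of_field _ _
  have : FormallySmooth 𝓀[Rp] (𝓀[Rp] ⊗[Rp] Sq) := inferInstance
  have hsm : FormallySmooth Rp Sq := FormallySmooth.of_formallySmooth_residueField_tensor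
    (R := Rp) (S := Sq) (P := Sp) (algebraMapSubmonoid _ q.primeCompl)
  have : FormallySmooth R Sq := .comp R Rp Sq
  exact FormallyEtale.of_formallyUnramified_and_formallySmooth

end Groth.Agent.Lib.Helper39.EtaleAt

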