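import Groth.Agent.Lib.Helper60.LocalCohLES
import Groth.Agent.Lib.Helper60.LocalCohDepth
import Groth.Agent.Lib.Helper60.GrothVanishing
import Groth.Agent.Lib.Helper29.ExtReg

/-!
# `Ext^d(k, M)` is the socle of `H^d_m(M)` when `H^i_m(M) = 0` for `i < d` (helper39)

`ext_residueField_socle`: over a Noetherian local ring `(A, m, k)`, for a finite module `M` with
`H^i_m(M) = 0` for `i < d`: `Ext^i(k, M) = 0` for `i < d` and
`Ext^d(k, M) ≃ₗ {y ∈ H^d_m(M) | m y = 0}`.
-/

set_option autoImplicit false
universe u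
open IsLocalRing CategoryTheory Abelian

namespace Groth.Agent.Lib.Helper39.ExtSocle

open Groth.Agent.Lib.Helper60 Groth.Agent.Lib.Helper29

section Gen
variable {A : Type u} [CommRing A]

/-- transport of the `I`-torsion along a linear equivalence -/
noncomputable def torsionByCongr (I : Ideal A) {X Y : Type u} [AddCommGroup X] [Module A X]
    [AddCommGroup Y] [Module A Y] (e : X ≃ₗ[A] Y) :
    LocCoh.torsionBy I X ≃ₗ[A] LocCoh.torsionBy I Y :=
  LinearEquiv.ofLinear
    (e.toLinearMap.restrict (p := LocCoh.torsionBy I X) (q := LocCoh.torsionBy I Y) (by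
      intro x hx
      rw [Submodule.mem_torsionBySet_iff] at hx ⊢
      intro a
      rw [LinearEquiv.coe_coe, ← map_smul, hx a, map_zero]))
    (e.symm.toLinearMap.restrict (p := LocCoh.torsionBy I Y) (q := LocCoh.torsionBy I X) (by
      intro x hx
      rw [Submodule.mem_torsionBySet_iff] at hx ⊢
      intro a
      rw [LinearEquiv.coe_coe, ← map_smul, hx a, map_zero]))
    (by ext x; simp)
    (by ext x; simp)

/-- `Hom(A/I, M) ≃ M[I]` -/
noncomputable def homQuotEquiv (I : Ideal A) (M : Type u) [AddCommGroup M] [Module A M] :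
    ((A ⧸ I) →ₗ[A] M) ≃ₗ[A] LocCoh.torsionBy I M where
  toFun φ := ⟨φ 1, by
    rw [Submodule.mem_torsionBySet_iff]
    intro a
    rw [← map_smul]
    have : (a : A) • (1 : A ⧸ I) = 0 := by
      rw [Algebra.smul_def, mul_one]
      exact Ideal.Quotient.eq_zero_iff_mem.mpr a.2
    rw [this, map_zero]⟩
  map_add' φ ψ := rfl
  map_smul' a φ := rfl
  invFun x := Submodule.liftQ I (LinearMap.toSpanSingleton A M x.1) (by
    intro a ha
    rw [LinearMap.mem_ker, LinearMap.toSpanSingleton_apply]
    exact ((Submodule.mem_torsionBySet_iff _ _).mp x.2) ⟨a, ha⟩)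
  left_inv φ := by
    apply Submodule.linearMap_qext
    ext
    simp
  right_inv x := by
    apply Subtype.ext
    change Submodule.liftQ I (LinearMap.toSpanSingleton A M x.1) _ (Submodule.Quotient.mk 1) = x.1
    rw [Submodule.liftQ_apply, LinearMap.toSpanSingleton_apply, one_smul]

/-- the `I`-torsion of the `I`-power torsion is the `I`-torsion -/
noncomputable def torsionByTorsionSub (I : Ideal A) (M : Type u) [AddCommGroup M] [Module A M] :
    LocCoh.torsionBy I (DRing.torsionSub I M) ≃ₗ[A] LocCoh.torsionBy I M :=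
  LinearEquiv.ofBijective
    ((DRing.torsionSub I M).subtype.restrict (p := LocCoh.torsionBy I (DRing.torsionSub I M))
      (q := LocCoh.torsionBy I M) (by
        intro x hx
        rw [Submodule.mem_torsionBySet_iff] at hx ⊢
        intro a
        have := congrArg Subtype.val (hx a)
        exact this))
    ⟨by
      intro x y hxy
      apply Subtype.ext
      apply Subtype.ext
      have h := congrArg Subtype.val hxy
      simp only [LinearMap.restrict_coe_apply, Submodule.subtype_apply] at h
      exact h, by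
      rintro ⟨y, hy⟩
      have hy' := (Submodule.mem_torsionBySet_iff _ _).mp hy
      have hmem : y ∈ DRing.torsionSub I M := by
        refine ⟨1, fun r hr => ?_⟩
        rw [pow_one] at hr
        exact hy' ⟨r, hr⟩
      refine ⟨⟨⟨y, hmem⟩, ?_⟩, rfl⟩
      rw [Submodule.mem_torsionBySet_iff]
      intro a
      apply Subtype.ext
      exact hy' a⟩

end Gen

section Local
variable {A : Type u} [CommRing A] [IsNoetherianRing A] [IsLocalRing A]

/-- the base case -/
noncomputable def extZeroEquiv (M : Type u) [AddCommGroup M] [Module A M] :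
    Ext (ModuleCat.of A (ResidueField A)) (ModuleCat.of A M) 0 ≃ₗ[A]
      LocCoh.torsionBy (maximalIdeal A)
        ((localCohomology (maximalIdeal A) 0).obj (ModuleCat.of A M)) :=
  ((Ext.linearEquiv₀ (R := A)).trans ModuleCat.homLinearEquiv) ≪≫ₗ
    (homQuotEquiv (maximalIdeal A) M) ≪≫ₗ (torsionByTorsionSub (maximalIdeal A) M).symm ≪≫ₗ
    torsionByCongr (maximalIdeal A) (lcH0Equiv (maximalIdeal A) (ModuleCat.of A M)).symm

theorem mem_annihilator_residueField {x : A} (hx : x ∈ maximalIdeal A) :
    x ∈ Module.annihilator A (ModuleCat.of A (ResidueField A)) := by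
  rw [Module.mem_annihilator]
  intro c
  obtain ⟨a, rfl⟩ := Ideal.Quotient.mk_surjective c
  change x • (Ideal.Quotient.mk (maximalIdeal A) a) = 0
  rw [Algebra.smul_def]
  change Ideal.Quotient.mk (maximalIdeal A) x * _ = 0
  rw [Ideal.Quotient.eq_zero_iff_mem.mpr hx, zero_mul]

section Step
variable (M : Type u) [AddCommGroup M] [Module A M] (x : A) (hxm : x ∈ maximalIdeal A)
  (hreg : IsSMulRegular M x)

local notation "SS" => ModuleCat.smulShortComplex (ModuleCat.of A M) x

include hreg in
theorem shortExact : (SS).ShortExact :=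
  IsSMulRegular.smulShortComplex_shortExact (M := ModuleCat.of A M) hreg

include hreg in
theorem lc_quot_subsingleton (d : ℕ)
    (hM : ∀ i < d + 1, Subsingleton ((localCohomology (maximalIdeal A) i).obj (SS).X₂))
    (i : ℕ) (hi : i < d) :
    Subsingleton ((localCohomology (maximalIdeal A) i).obj (SS).X₃) := by
  have hS := shortExact M x hreg
  refine ⟨fun y y' => ?_⟩
  suffices H : ∀ y : (localCohomology (maximalIdeal A) i).obj (SS).X₃, y = 0 by
    rw [H y, H y']
  intro y
  have h1 : lcDelta (maximalIdeal A) hS i y = 0 :=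
    @Subsingleton.elim _ (hM (i + 1) (by omega)) _ _
  obtain ⟨y₂, rfl⟩ := lc_exact₃ (maximalIdeal A) hS i y h1
  have hy₂ : y₂ = 0 := @Subsingleton.elim _ (hM i (by omega)) _ _
  rw [hy₂, map_zero]

include hxm in
theorem comp_f_eq_zero (i : ℕ) (x₁ : Ext (ModuleCat.of A (ResidueField A)) (SS).X₁ i) :
    x₁.comp (Ext.mk₀ (SS).f) (add_zero i) = 0 :=
  ext_comp_smul_id_eq_zero (mem_annihilator_residueField hxm) x₁

include hxm hreg in
theorem ext_subsingleton_step (d : ℕ)
    (hE' : ∀ i < d, Subsingleton (Ext (ModuleCat.of A (ResidueField A)) (SS).X₃ i))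
    (i : ℕ) (hi : i < d + 1) :
    Subsingleton (Ext (ModuleCat.of A (ResidueField A)) (SS).X₁ i) := by
  have hS := shortExact M x hreg
  refine ⟨fun y y' => ?_⟩
  suffices H : ∀ y : Ext (ModuleCat.of A (ResidueField A)) (SS).X₁ i, y = 0 by
    rw [H y, H y']
  intro y
  rcases i with _ | j
  · obtain ⟨φ, rfl⟩ := (Ext.mk₀_bijective _ _).2 y
    have h1 := comp_f_eq_zero M x hxm 0 (Ext.mk₀ φ)
    rw [Ext.mk₀_comp_mk₀] at h1
    have h2 : φ ≫ (SS).f = 0 := (Ext.mk₀_bijective _ _).1 (by rw [h1, Ext.mk₀_zero])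
    haveI := hS.mono_f
    have h3 : φ = 0 := by
      rw [← cancel_mono (SS).f, h2, Limits.zero_comp]
    rw [h3, Ext.mk₀_zero]
  · obtain ⟨x₃, rfl⟩ := Ext.covariant_sequence_exact₁ _ hS y (comp_f_eq_zero M x hxm _ y)
      (rfl : j + 1 = j + 1)
    have hx₃ : x₃ = 0 := @Subsingleton.elim _ (hE' j (by omega)) _ _
    rw [hx₃, Ext.zero_comp]

include hxm hreg in
theorem nonempty_ext_shift (d : ℕ)
    (hE : Subsingleton (Ext (ModuleCat.of A (ResidueField A)) (SS).X₂ d)) :
    Nonempty (Ext (ModuleCat.of A (ResidueField A)) (SS).X₃ d ≃ₗ[A]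
      Ext (ModuleCat.of A (ResidueField A)) (SS).X₁ (d + 1)) := by
  have hS := shortExact M x hreg
  let δE : Ext (ModuleCat.of A (ResidueField A)) (SS).X₃ d →ₗ[A]
      Ext (ModuleCat.of A (ResidueField A)) (SS).X₁ (d + 1) :=
    hS.extClass.postcompOfLinear A (ModuleCat.of A (ResidueField A)) (rfl : d + 1 = d + 1)
  have hδE : ∀ y, δE y = y.comp hS.extClass rfl := fun y => rfl
  have hδE_inj : Function.Injective δE := by
    rw [injective_iff_map_eq_zero]
    intro y hy
    rw [hδE] at hy
    obtain ⟨x₂, rfl⟩ := Ext.covariant_sequence_exact₃ _ hS y rfl hy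
    have hx₂ : x₂ = 0 := Subsingleton.elim _ _
    rw [hx₂, Ext.zero_comp]
  have hδE_surj : Function.Surjective δE := by
    intro y
    obtain ⟨x₃, hx₃⟩ := Ext.covariant_sequence_exact₁ _ hS y (comp_f_eq_zero M x hxm _ y)
      (rfl : d + 1 = d + 1)
    exact ⟨x₃, hx₃⟩
  exact ⟨LinearEquiv.ofBijective δE ⟨hδE_inj, hδE_surj⟩⟩

include hxm hreg in
theorem nonempty_socle_shift (d : ℕ)
    (hM : Subsingleton ((localCohomology (maximalIdeal A) d).obj (SS).X₂)) :
    Nonempty (LocCoh.torsionBy (maximalIdeal A) ((localCohomology (maximalIdeal A) d).obj (SS).X₃)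
      ≃ₗ[A] LocCoh.torsionBy (maximalIdeal A)
        ((localCohomology (maximalIdeal A) (d + 1)).obj (SS).X₁)) := by
  have hS := shortExact M x hreg
  have hδL_inj : Function.Injective (lcDelta (maximalIdeal A) hS d) := by
    rw [injective_iff_map_eq_zero]
    intro y hy
    obtain ⟨y₂, rfl⟩ := lc_exact₃ (maximalIdeal A) hS d y hy
    have hy₂ : y₂ = 0 := Subsingleton.elim _ _
    rw [hy₂, map_zero]
  let σ : LocCoh.torsionBy (maximalIdeal A) ((localCohomology (maximalIdeal A) d).obj (SS).X₃)
      →ₗ[A] LocCoh.torsionBy (maximalIdeal A)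
        ((localCohomology (maximalIdeal A) (d + 1)).obj (SS).X₁) :=
    (lcDelta (maximalIdeal A) hS d).restrict (by
      intro y hy
      rw [Submodule.mem_torsionBySet_iff] at hy ⊢
      intro a
      rw [← map_smul, hy a, map_zero])
  have hσ : Function.Bijective σ := by
    constructor
    · intro y y' h
      apply Subtype.ext
      exact hδL_inj (congrArg Subtype.val h)
    · rintro ⟨z, hz⟩
      have hz' := (Submodule.mem_torsionBySet_iff _ _).mp hz
      have h1 : ((localCohomology (maximalIdeal A) (d + 1)).map (SS).f).hom z = 0 := by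
        have h2 : ((localCohomology (maximalIdeal A) (d + 1)).map (SS).f).hom z = x • z :=
          lcMap_smul_id (maximalIdeal A) (d + 1) (ModuleCat.of A M) x z
        rw [h2]
        exact hz' ⟨x, hxm⟩
      obtain ⟨y, hy⟩ := lc_exact₁ (maximalIdeal A) hS d z h1
      refine ⟨⟨y, ?_⟩, Subtype.ext hy⟩
      rw [Submodule.mem_torsionBySet_iff]
      intro a
      apply hδL_inj
      rw [map_smul, hy, map_zero]
      exact hz' a
  exact ⟨LinearEquiv.ofBijective σ hσ⟩

end Step

theorem ext_residueField_socle : ∀ (d : ℕ) (M : Type u) [AddCommGroup M] [Module A M]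
    [Module.Finite A M],
    (∀ i < d, Subsingleton ((localCohomology (maximalIdeal A) i).obj (ModuleCat.of A M))) →
    (∀ i < d, Subsingleton (Ext (ModuleCat.of A (ResidueField A)) (ModuleCat.of A M) i)) ∧
    Nonempty (Ext (ModuleCat.of A (ResidueField A)) (ModuleCat.of A M) d ≃ₗ[A]
      LocCoh.torsionBy (maximalIdeal A)
        ((localCohomology (maximalIdeal A) d).obj (ModuleCat.of A M))) := by
  intro d
  induction d with
  | zero =>
    intro M _ _ _ _
    exact ⟨fun i hi => absurd hi (Nat.not_lt_zero i), ⟨extZeroEquiv M⟩⟩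
  | succ d ih =>
    intro M _ _ _ hM
    have h0 : Subsingleton ((localCohomology (maximalIdeal A) 0).obj (ModuleCat.of A M)) :=
      hM 0 (Nat.succ_pos d)
    have htor : DRing.torsionSub (maximalIdeal A) M = ⊥ := by
      rw [eq_bot_iff]
      intro y hy
      have : (⟨y, hy⟩ : DRing.torsionSub (maximalIdeal A) M) = 0 :=
        (lcH0Equiv (maximalIdeal A) (ModuleCat.of A M)).symm.injective (Subsingleton.elim _ _)
      exact congrArg Subtype.val this
    obtain ⟨x, hxm, hreg⟩ := exists_isSMulRegular_of_torsionSub_eq_bot (maximalIdeal A) M htor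
    have hM' := lc_quot_subsingleton M x hreg d hM
    obtain ⟨hE', ⟨e'⟩⟩ := ih (QuotSMulTop x M) hM'
    have hE := ext_subsingleton_step M x hxm hreg d hE'
    obtain ⟨eE⟩ := nonempty_ext_shift M x hxm hreg d (hE d (by omega))
    obtain ⟨eL⟩ := nonempty_socle_shift M x hxm hreg d (hM d (by omega))
    exact ⟨hE, ⟨eE.symm ≪≫ₗ e' ≪≫ₗ eL⟩⟩

end Local

end Groth.Agent.Lib.Helper39.ExtSocle
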