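import Groth.Agent.Lib.Helper60.BB
import Groth.Agent.Lib.Helper87.BassGraded1
import Groth.Agent.S5790

/-!
# Global finiteness of injective dimension from vanishing of Bass numbers (helper39)
-/

set_option autoImplicit false
universe u
open CategoryTheory CategoryTheory.Limits Opposite Abelian IsLocalRing
open scoped TensorProduct

namespace Groth.Agent.Lib.Helper39.GlobalInjDim

open Groth.Agent.Lib.Helper60

section Local
variable {A : Type u} [CommRing A] [IsLocalRing A] [IsNoetherianRing A]

/-- explicit form of Bass' theorem: `Ext^i(k, M) = 0` for `i ≥ N`, `dim A ≤ d` ⇒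
`injdim M < N + d + 1`. -/
theorem hasInjectiveDimensionLT_of_residueField_le (M : Type u) [AddCommGroup M] [Module A M]
    [Module.Finite A M] (N d : ℕ) (hd : ringKrullDim A ≤ d)
    (hN : ∀ i : ℕ, N ≤ i →
      Subsingleton (Abelian.Ext (ModuleCat.of A (ResidueField A)) (ModuleCat.of A M) i)) :
    HasInjectiveDimensionLT (ModuleCat.of A M) (N + d + 1) := by
  refine (Groth.Agent.S5788.result A M (N + d)).mpr ?_
  intro I
  refine ext_subsingleton_of_forall_prime ⊥ (ModuleCat.of A M) (N + d + 1) ?_ (A ⧸ I) ?_
  · intro q _
    refine ext_quotient_prime_subsingleton_of_residueField M N hN d q ?_ (N + d + 1) (by omega)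
    have h1 : ((Order.coheight q : ℕ∞) : WithBot ℕ∞) ≤ ringKrullDim A :=
      Order.coheight_le_krullDim q
    exact_mod_cast h1.trans hd
  · intro a ha l
    rw [Ideal.mem_bot] at ha
    rw [ha, zero_smul]

end Local

section Global
variable (R : Type u) [CommRing R] [IsNoetherianRing R]

theorem ringKrullDim_localization_le (p : Ideal R) [p.IsPrime] :
    ringKrullDim (Localization.AtPrime p) ≤ ringKrullDim R := by
  rw [IsLocalization.AtPrime.ringKrullDim_eq_height p (Localization.AtPrime p)]
  exact Ideal.height_le_ringKrullDim_of_ne_top (Ideal.IsPrime.ne_top inferInstance)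

/-- if all Bass numbers `μ_i(p, C)` vanish for `i ≥ N` then `injdim C < N + dim R + 1`. -/
theorem hasInjectiveDimensionLT_of_bassNum (C : Type u) [AddCommGroup C] [Module R C]
    [Module.Finite R C] (N d : ℕ) (hd : ringKrullDim R ≤ d)
    (h : ∀ (p : Ideal R) [p.IsPrime], ∀ i : ℕ, N ≤ i → GrLC.bassNum p C i = 0) :
    HasInjectiveDimensionLT (ModuleCat.of R C) (N + d + 1) := by
  refine (Groth.Agent.S5790.result R C (N + d)).mpr ?_
  intro p
  haveI : Module.Finite (Localization.AtPrime p.asIdeal)
      (LocalizedModule p.asIdeal.primeCompl C) :=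
    Module.Finite.of_isLocalizedModule p.asIdeal.primeCompl
      (LocalizedModule.mkLinearMap p.asIdeal.primeCompl C)
  haveI : IsNoetherianRing (Localization.AtPrime p.asIdeal) :=
    IsLocalization.isNoetherianRing p.asIdeal.primeCompl _ inferInstance
  refine hasInjectiveDimensionLT_of_residueField_le _ N d
    ((ringKrullDim_localization_le R p.asIdeal).trans hd) ?_
  intro i hi
  have h1 := h p.asIdeal i hi
  unfold GrLC.bassNum GrLC.bassNumLocal at h1
  exact Module.length_eq_zero_iff.mp h1

/-- Bass numbers of `C` at a prime `p ≤ m` vanish above the injective dimension of `C_m`. -/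
theorem bassNum_eq_zero_of_le (m : Ideal R) [m.IsPrime] (C : Type u) [AddCommGroup C]
    [Module R C] (n : ℕ)
    (hinj : HasInjectiveDimensionLT (ModuleCat.of (Localization.AtPrime m)
      (LocalizedModule m.primeCompl C)) (n + 1))
    (p : Ideal R) [p.IsPrime] (hle : p ≤ m) (i : ℕ) (hi : n + 1 ≤ i) :
    GrLC.bassNum p C i = 0 := by
  haveI : IsNoetherianRing (Localization.AtPrime m) :=
    IsLocalization.isNoetherianRing m.primeCompl _ inferInstance
  have hdisj : Disjoint (m.primeCompl : Set R) (p : Set R) := by
    rw [Set.disjoint_left]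
    intro x hx hxq
    exact hx (hle hxq)
  haveI hprime : (p.map (algebraMap R (Localization.AtPrime m))).IsPrime :=
    IsLocalization.isPrime_of_isPrime_disjoint m.primeCompl _ _ inferInstance hdisj
  have hcomap : (p.map (algebraMap R (Localization.AtPrime m))).comap
      (algebraMap R (Localization.AtPrime m)) = p :=
    IsLocalization.under_map_of_isPrime_disjoint m.primeCompl _ inferInstance hdisj
  have hmax : p.map (algebraMap R (Localization.AtPrime
      (p.map (algebraMap R (Localization.AtPrime m))))) ⊔ Ideal.ofList [] =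
      maximalIdeal (Localization.AtPrime (p.map (algebraMap R (Localization.AtPrime m)))) := by
    rw [Ideal.ofList_nil, sup_bot_eq, IsScalarTower.algebraMap_eq R (Localization.AtPrime m)
      (Localization.AtPrime (p.map (algebraMap R (Localization.AtPrime m)))),
      ← Ideal.map_map, Localization.AtPrime.map_eq_maximalIdeal]
  obtain ⟨-, h2⟩ := Groth.Agent.Lib.Helper87.BassFlat.bassNum_tensor R (Localization.AtPrime m) C
    (p.map (algebraMap R (Localization.AtPrime m))) p hcomap []
    (RingTheory.Sequence.IsWeaklyRegular.nil _ _) hmax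
  have h3 := h2 i
  rw [List.length_nil, add_zero] at h3
  rw [← h3]
  have e : (Localization.AtPrime m) ⊗[R] C ≃ₗ[Localization.AtPrime m]
      LocalizedModule m.primeCompl C :=
    (IsLocalizedModule.isBaseChange m.primeCompl (Localization.AtPrime m)
      (LocalizedModule.mkLinearMap m.primeCompl C)).equiv
  rw [Groth.Agent.Lib.Helper87.BassFlat.bassNum_congr _ e i]
  have h4 := (Groth.Agent.S5790.result (Localization.AtPrime m)
    (LocalizedModule m.primeCompl C) n).mp hinj ⟨p.map (algebraMap R (Localization.AtPrime m)), hprime⟩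
  unfold GrLC.bassNum GrLC.bassNumLocal
  rw [Module.length_eq_zero_iff]
  exact HasInjectiveDimensionLT.subsingleton _ (n + 1) i hi _

end Global

end Groth.Agent.Lib.Helper39.GlobalInjDim
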