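import Groth.Agent.Lib.Helper39.GrStarLocal
import Mathlib.RingTheory.Artinian.Ring
import Mathlib.RingTheory.Jacobson.Ideal

/-!
# *Local positively graded rings with Artinian degree zero part (helper39)

* `le_of_ne_top`: every proper homogeneous ideal lies in the *maximal ideal (Noetherian case);
* `isUnit_deg0_of_notMem`: `R_0` is local;
* `exists_pow_le_irr`: if `R_0` is Artinian, a power of `m` lies in `R_+`;
* `gam_eq_irr`: hence `Γ_m = Γ_{R_+}`.
-/

set_option autoImplicit false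
universe u

namespace Groth.Agent.Lib.Helper39.GrStarLocal

open DirectSum GrLC Groth.Agent.Lib.Helper39 Groth.Agent.Lib.Helper39.GrNak
  Groth.Agent.Lib.Helper39.GrPieces

variable {R : Type u} [CommRing R] {𝒜 : ℤ → AddSubgroup R} [GradedRing 𝒜]
  (hpos : ∀ n : ℤ, n < 0 → 𝒜 n = ⊥)

/-- every proper homogeneous ideal lies in the *maximal ideal -/
theorem le_of_ne_top [IsNoetherianRing R] {m : HomogeneousIdeal 𝒜} (hm : IsStarLocal 𝒜 m)
    (J : HomogeneousIdeal 𝒜) (hJ : J ≠ ⊤) : J ≤ m := by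
  let 𝒮 : Set (Ideal R) := {K | K.IsHomogeneous 𝒜 ∧ K ≠ ⊤ ∧ J.toIdeal ≤ K}
  have hne : 𝒮.Nonempty := ⟨J.toIdeal, J.isHomogeneous, fun h => hJ (by
    apply HomogeneousIdeal.toIdeal_injective
    rw [HomogeneousIdeal.toIdeal_top]
    exact h), le_rfl⟩
  obtain ⟨K, ⟨hKh, hKt, hJK⟩, hKmax⟩ :=
    (set_has_maximal_iff_noetherian (R := R) (M := R)).mpr inferInstance 𝒮 hne
  let K' : HomogeneousIdeal 𝒜 := ⟨K, hKh⟩
  have hco : IsCoatom K' := by
    refine ⟨fun h => hKt (by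
      have := congrArg HomogeneousIdeal.toIdeal h
      rw [HomogeneousIdeal.toIdeal_top] at this
      exact this), fun L hL => ?_⟩
    by_contra hLt
    apply hKmax L.toIdeal
    · refine ⟨L.isHomogeneous, fun h => hLt (by
        apply HomogeneousIdeal.toIdeal_injective
        rw [HomogeneousIdeal.toIdeal_top]
        exact h), hJK.trans hL.le⟩
    · exact hL
  have := hm.2 K' hco
  intro x hx
  have h1 : x ∈ K'.toIdeal := hJK hx
  rw [this] at h1
  exact h1

include hpos in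
/-- the degree zero part of a *local ring is local -/
theorem isUnit_deg0_of_notMem [IsNoetherianRing R] {m : HomogeneousIdeal 𝒜} (hm : IsStarLocal 𝒜 m)
    (y : GrLC.deg0 𝒜) (hy : (y : R) ∉ m.toIdeal) : IsUnit y := by
  let K : HomogeneousIdeal 𝒜 := ⟨Ideal.span {(y : R)}, Ideal.homogeneous_span 𝒜 _ (by
    intro z hz
    rw [Set.mem_singleton_iff] at hz
    rw [hz]
    exact ⟨0, y.2⟩)⟩
  have hK : K = ⊤ := by
    by_contra hne
    apply hy
    exact le_of_ne_top hm K hne (Ideal.subset_span (Set.mem_singleton _))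
  have h1 : (1 : R) ∈ K.toIdeal := by
    rw [hK]
    exact Submodule.mem_top
  obtain ⟨r, hr⟩ := Ideal.mem_span_singleton'.mp h1
  have hy0 : ∀ j : ℤ, j < 0 → (decompose 𝒜 (y : R) j : R) = 0 := fun j hj =>
    decompose_of_mem_ne 𝒜 y.2 (by omega)
  have h2 := decompose_smul_of_ge 𝒜 𝒜 hpos hy0 r
  rw [smul_eq_mul, hr, decompose_of_mem_same 𝒜 (SetLike.GradedOne.one_mem (A := 𝒜)),
    decompose_of_mem_same 𝒜 y.2, smul_eq_mul] at h2
  rw [isUnit_iff_exists_inv']
  exact ⟨⟨(decompose 𝒜 r 0 : R), SetLike.coe_mem _⟩, Subtype.ext h2.symm⟩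

include hpos in
/-- a power of the *maximal ideal lies in the irrelevant ideal when `R_0` is Artinian -/
theorem exists_pow_le_irr [IsNoetherianRing R] [IsArtinianRing (GrLC.deg0 𝒜)]
    {m : HomogeneousIdeal 𝒜} (hm : IsStarLocal 𝒜 m) :
    ∃ N : ℕ, m.toIdeal ^ N ≤ (irr 𝒜).toIdeal := by
  have hmne : (1 : R) ∉ m.toIdeal := by
    intro h
    apply hm.1.1
    apply HomogeneousIdeal.toIdeal_injective
    rw [HomogeneousIdeal.toIdeal_top]
    exact (Ideal.eq_top_iff_one _).mpr h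
  set m₀ : Ideal (GrLC.deg0 𝒜) := m.toIdeal.comap (GrLC.deg0 𝒜).subtype with hm₀
  have h1 : m₀ ≤ Ideal.jacobson (⊥ : Ideal (GrLC.deg0 𝒜)) := by
    intro x hx
    rw [Ideal.mem_jacobson_bot]
    intro y
    apply isUnit_deg0_of_notMem hpos hm
    intro hcon
    apply hmne
    have hx' : (x : R) ∈ m.toIdeal := hx
    have h2 : ((x * y + 1 : GrLC.deg0 𝒜) : R) = (x : R) * (y : R) + 1 := by push_cast; rfl
    rw [h2] at hcon
    have h3 : (x : R) * (y : R) ∈ m.toIdeal := Ideal.mul_mem_right _ _ hx'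
    have : (1 : R) = ((x : R) * (y : R) + 1) - (x : R) * (y : R) := by ring
    rw [this]
    exact sub_mem hcon h3
  obtain ⟨N, hN⟩ := IsArtinianRing.isNilpotent_jacobson_bot (R := GrLC.deg0 𝒜)
  have h2 : m₀ ^ N ≤ ⊥ := by
    rw [← Ideal.zero_eq_bot, ← hN]
    exact Ideal.pow_right_mono h1 N
  set I : Ideal R := Ideal.map (GrLC.deg0 𝒜).subtype m₀ with hI
  have h3 : I ^ N = ⊥ := by
    rw [hI, ← Ideal.map_pow, eq_bot_iff]
    refine (Ideal.map_mono h2).trans ?_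
    rw [Ideal.map_bot]
  have h4 : m.toIdeal ≤ I ⊔ (irr 𝒜).toIdeal := by
    intro μ hμ
    have h5 : (decompose 𝒜 μ 0 : R) ∈ m.toIdeal := m.isHomogeneous 0 hμ
    have h6 : (decompose 𝒜 μ 0 : R) ∈ I :=
      Ideal.mem_map_of_mem (GrLC.deg0 𝒜).subtype
        (show (⟨(decompose 𝒜 μ 0 : R), SetLike.coe_mem _⟩ : GrLC.deg0 𝒜) ∈ m₀ from h5)
    have : μ = (decompose 𝒜 μ 0 : R) + (μ - (decompose 𝒜 μ 0 : R)) := by ring
    rw [this]
    exact Submodule.add_mem_sup h6 (sub_decompose_zero_mem_irr 𝒜 hpos μ)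
  refine ⟨N + 1, (Ideal.pow_right_mono h4 (N + 1)).trans ?_⟩
  refine Ideal.sup_pow_add_le_pow_sup_pow.trans ?_
  rw [h3, pow_one, bot_sup_eq]

omit [GradedRing 𝒜] in
theorem gam_eq_of_le_of_pow_le {a b : Ideal R} (hab : a ≤ b) {N : ℕ} (hN : b ^ N ≤ a)
    (X : Type u) [AddCommGroup X] [Module R X] : gam b X = gam a X := by
  ext x
  constructor
  · rintro ⟨k, hk⟩
    exact ⟨k, fun r hr => hk r (Ideal.pow_right_mono hab k hr)⟩
  · rintro ⟨k, hk⟩
    refine ⟨N * k, fun r hr => hk r ?_⟩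
    rw [pow_mul] at hr
    exact Ideal.pow_right_mono hN k hr

include hpos in
/-- `Γ_m = Γ_{R_+}` for a *local ring with Artinian `R_0` -/
theorem gam_eq_irr [IsNoetherianRing R] [IsArtinianRing (GrLC.deg0 𝒜)]
    {m : HomogeneousIdeal 𝒜} (hm : IsStarLocal 𝒜 m)
    (X : Type u) [AddCommGroup X] [Module R X] :
    gam m.toIdeal X = gam (irr 𝒜).toIdeal X := by
  obtain ⟨N, hN⟩ := exists_pow_le_irr hpos hm
  exact gam_eq_of_le_of_pow_le (irr_le hpos hm) hN X

end Groth.Agent.Lib.Helper39.GrStarLocal
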