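import Mathlib
import Groth.Agent.S2680
import Groth.Agent.Lib.Helper93.GrHeight
import Groth.Agent.Lib.Helper39.GrStarLocal2

/-!
# Height of the *maximal ideal when `R_0` is Artinian (helper39)

For a Noetherian positively graded ring `R` with `R_0` Artinian and *local with *maximal ideal `m`:
`ht m = dim R` (`height_star_eq`).  Adapted from helper93's `GrHeight` (the case `R_0` a field).
-/

set_option autoImplicit false
universe u

namespace Groth.Agent.Lib.Helper39.GrHeightArt

open DirectSum GrLC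

/-- in a domain of finite type over an Artinian ring all maximal ideals have the same height -/
theorem height_eq_of_isMaximal (R₀ A : Type u) [CommRing R₀] [IsArtinianRing R₀] [CommRing A]
    [IsDomain A] [Algebra R₀ A] [Algebra.FiniteType R₀ A] (p q : Ideal A) [hp : p.IsMaximal]
    [hq : q.IsMaximal] : p.height = q.height := by
  let φ : R₀ →+* A := algebraMap R₀ A
  haveI hprime : (RingHom.ker φ).IsPrime := RingHom.ker_isPrime φ
  haveI hmax : (RingHom.ker φ).IsMaximal := IsArtinianRing.isMaximal_of_isPrime _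
  letI : Field (R₀ ⧸ RingHom.ker φ) := Ideal.Quotient.field _
  letI alg : Algebra (R₀ ⧸ RingHom.ker φ) A := (RingHom.kerLift φ).toAlgebra
  haveI : IsScalarTower R₀ (R₀ ⧸ RingHom.ker φ) A := IsScalarTower.of_algebraMap_eq (fun x => by
    change φ x = RingHom.kerLift φ (Ideal.Quotient.mk _ x)
    rw [RingHom.kerLift_mk])
  haveI : Algebra.FiniteType (R₀ ⧸ RingHom.ker φ) A :=
    Algebra.FiniteType.of_restrictScalars_finiteType R₀ _ A
  obtain ⟨N, -, -, hN⟩ := Groth.Agent.S2680.result (R₀ ⧸ RingHom.ker φ) A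
  have e1 := hN p
  have e2 := hN q
  rw [IsLocalization.AtPrime.ringKrullDim_eq_height p] at e1
  rw [IsLocalization.AtPrime.ringKrullDim_eq_height q] at e2
  have : ((p.height : ℕ∞) : WithBot ℕ∞) = q.height := e1.trans e2.symm
  exact_mod_cast this

variable {R : Type u} [CommRing R] (𝒜 : ℤ → AddSubgroup R) [GradedRing 𝒜]

open Groth.Agent.Lib.Helper93 in
/-- every maximal ideal has height at most that of the *maximal ideal -/
theorem height_le_height_star [IsNoetherianRing R] [IsArtinianRing (GrLC.deg0 𝒜)]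
    (hpos : ∀ n : ℤ, n < 0 → 𝒜 n = ⊥) {m : HomogeneousIdeal 𝒜} (hm : IsStarLocal 𝒜 m)
    (q : Ideal R) (hq : q.IsMaximal) : q.height ≤ m.toIdeal.height := by
  haveI hmax : m.toIdeal.IsMaximal := GrStarLocal.isMaximal hpos hm
  haveI hqp : q.IsPrime := hq.isPrime
  haveI hmp : m.toIdeal.IsPrime := hmax.isPrime
  haveI : Algebra.FiniteType (GrLC.deg0 𝒜) R :=
    GrHeight.finiteType_of_noetherian 𝒜 hpos (k := GrLC.deg0 𝒜) (fun x hx => ⟨⟨x, hx⟩, rfl⟩)
  have h1 := PrimeSpectrum.height_eq_orderHeight (⟨q, hqp⟩ : PrimeSpectrum R)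
  change q.height = _ at h1
  rw [h1]
  apply Order.height_le
  intro p hp
  obtain ⟨P, hPmin, hPle⟩ := Ideal.exists_minimalPrimes_le (bot_le : (⊥ : Ideal R) ≤ (p 0).asIdeal)
  haveI hPp : P.IsPrime := hPmin.1.1
  have hPhom : P.IsHomogeneous 𝒜 := GrHeight.isHomogeneous_of_mem_minimalPrimes 𝒜 hPmin
  have hPirr : P ≤ m.toIdeal := by
    have := GrStarLocal.le_of_ne_top hm ⟨P, hPhom⟩ (fun h => hPp.ne_top (by
      have := congrArg HomogeneousIdeal.toIdeal h
      simpa using this))
    exact this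
  let e := P.primeSpectrumQuotientOrderIsoZeroLocus
  have hmemZ : ∀ i, p i ∈ PrimeSpectrum.zeroLocus (R := R) (P : Set R) := by
    intro i
    rw [PrimeSpectrum.mem_zeroLocus]
    have h0i : p 0 ≤ p i := p.monotone (Fin.zero_le i)
    exact fun x hx => h0i (hPle hx)
  let p' : LTSeries (PrimeSpectrum.zeroLocus (R := R) (P : Set R)) :=
    { length := p.length
      toFun := fun i => ⟨p i, hmemZ i⟩
      step := fun i => p.step i }
  let p'' : LTSeries (PrimeSpectrum (R ⧸ P)) := p'.map e.symm e.symm.strictMono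
  have hlen : (p.length : ℕ∞) ≤ Order.height p''.last := Order.length_le_height_last (p := p'')
  have hqZ : (⟨q, hqp⟩ : PrimeSpectrum R) ∈ PrimeSpectrum.zeroLocus (R := R) (P : Set R) := by
    rw [← hp]
    exact hmemZ _
  have hmZ : (⟨m.toIdeal, hmp⟩ : PrimeSpectrum R) ∈
      PrimeSpectrum.zeroLocus (R := R) (P : Set R) := by
    rw [PrimeSpectrum.mem_zeroLocus]
    exact hPirr
  set yq : PrimeSpectrum (R ⧸ P) := e.symm ⟨⟨q, hqp⟩, hqZ⟩ with hyq
  set ym : PrimeSpectrum (R ⧸ P) := e.symm ⟨⟨m.toIdeal, hmp⟩, hmZ⟩ with hym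
  have hlast : p''.last = yq := by
    show e.symm (p'.last) = _
    congr 1
    apply Subtype.ext
    exact hp
  have hcomap_q : yq.asIdeal.comap (Ideal.Quotient.mk P) = q := by
    have : e yq = ⟨⟨q, hqp⟩, hqZ⟩ := e.apply_symm_apply _
    exact congrArg (fun z => z.1.asIdeal) this
  have hcomap_m : ym.asIdeal.comap (Ideal.Quotient.mk P) = m.toIdeal := by
    have : e ym = ⟨⟨m.toIdeal, hmp⟩, hmZ⟩ := e.apply_symm_apply _
    exact congrArg (fun z => z.1.asIdeal) this
  have hmaxq : yq.asIdeal.IsMaximal := by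
    have h2 := Ideal.map_comap_of_surjective (Ideal.Quotient.mk P) Ideal.Quotient.mk_surjective
      yq.asIdeal
    rcases Ideal.map_eq_top_or_isMaximal_of_surjective (Ideal.Quotient.mk P)
      Ideal.Quotient.mk_surjective hq with h | h
    · rw [← hcomap_q, h2] at h
      exact absurd h yq.2.ne_top
    · rw [← hcomap_q, h2] at h
      exact h
  have hmaxm : ym.asIdeal.IsMaximal := by
    have h2 := Ideal.map_comap_of_surjective (Ideal.Quotient.mk P) Ideal.Quotient.mk_surjective
      ym.asIdeal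
    rcases Ideal.map_eq_top_or_isMaximal_of_surjective (Ideal.Quotient.mk P)
      Ideal.Quotient.mk_surjective hmax with h | h
    · rw [← hcomap_m, h2] at h
      exact absurd h ym.2.ne_top
    · rw [← hcomap_m, h2] at h
      exact h
  haveI : Algebra.FiniteType (GrLC.deg0 𝒜) (R ⧸ P) :=
    Algebra.FiniteType.of_surjective (Ideal.Quotient.mkₐ (GrLC.deg0 𝒜) P)
      (Ideal.Quotient.mkₐ_surjective (GrLC.deg0 𝒜) P)
  have e3 : yq.asIdeal.height = ym.asIdeal.height :=
    height_eq_of_isMaximal (GrLC.deg0 𝒜) (R ⧸ P) yq.asIdeal ym.asIdeal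
  rw [PrimeSpectrum.height_eq_orderHeight, PrimeSpectrum.height_eq_orderHeight] at e3
  have h4 : Order.height ym ≤ Order.height (⟨m.toIdeal, hmp⟩ : PrimeSpectrum R) := by
    have hsm : StrictMono (fun y : PrimeSpectrum (R ⧸ P) => ((e y).1 : PrimeSpectrum R)) :=
      fun a b hab => e.strictMono hab
    have := Order.height_le_height_apply_of_strictMono _ hsm ym
    have h5 : ((e ym).1 : PrimeSpectrum R) = ⟨m.toIdeal, hmp⟩ := by
      rw [hym, e.apply_symm_apply]
    rw [h5] at this
    exact this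
  have h6 := PrimeSpectrum.height_eq_orderHeight (⟨m.toIdeal, hmp⟩ : PrimeSpectrum R)
  change m.toIdeal.height = _ at h6
  rw [h6]
  calc (p.length : ℕ∞) ≤ Order.height p''.last := hlen
    _ = Order.height yq := by rw [hlast]
    _ = Order.height ym := e3
    _ ≤ _ := h4

/-- **The *maximal ideal has height `dim R`** (`R_0` Artinian). -/
theorem height_star_eq [IsNoetherianRing R] [IsArtinianRing (GrLC.deg0 𝒜)]
    (hpos : ∀ n : ℤ, n < 0 → 𝒜 n = ⊥) {m : HomogeneousIdeal 𝒜} (hm : IsStarLocal 𝒜 m) :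
    ((m.toIdeal.height : ℕ∞) : WithBot ℕ∞) = ringKrullDim R := by
  have hne : m.toIdeal ≠ ⊤ := (GrStarLocal.isMaximal hpos hm).ne_top
  apply le_antisymm (Ideal.height_le_ringKrullDim_of_ne_top hne)
  rw [ringKrullDim_le_iff_isMaximal_height_le]
  intro q hq
  exact_mod_cast height_le_height_star 𝒜 hpos hm q hq

end Groth.Agent.Lib.Helper39.GrHeightArt
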