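import Groth.Agent.Lib.Helper60.LocalCohBasic
import Groth.Prelude.Def_GrLC
import Mathlib.Algebra.Homology.ShortComplex.ModuleCat

/-!
# Resolutions by `Γ_a`-acyclic graded modules compute local cohomology (helper39)

`nonempty_H_equiv_localCohomology`: for `E : GrLC.StarInjRes 𝒜 ℳ` whose terms are `Γ_a`-acyclic,
`E.H a i ≃ₗ[R] H^i_a(M)` (uses helper60's local cohomology library).
-/

set_option autoImplicit false
universe u

namespace Groth.Agent.Lib.Helper39.Acyclic

open CategoryTheory Abelian DirectSum GrLC Groth.Agent.Lib.Helper60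

section
variable {ι : Type} [AddCommGroup ι] [DecidableEq ι] {R : Type u} [CommRing R]
  {𝒜 : ι → AddSubgroup R} [GradedRing 𝒜]
  {M : Type u} [AddCommGroup M] [Module R M] {ℳ : ι → AddSubgroup M} [DirectSum.Decomposition ℳ]
  [SetLike.GradedSMul 𝒜 ℳ] (E : StarInjRes 𝒜 ℳ) (a : HomogeneousIdeal 𝒜)

/-- cocycles of the resolution -/
abbrev Zk (k : ℕ) : Submodule R (E.X k).carrier := LinearMap.ker (E.d k)

theorem d_d (k : ℕ) (x : (E.X k).carrier) : E.d (k + 1) (E.d k x) = 0 := by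
  have h : E.d k x ∈ LinearMap.range (E.d k) := ⟨x, rfl⟩
  rw [← E.exact_succ k] at h
  exact h

/-- the corestricted differential -/
def qk (k : ℕ) : (E.X k).carrier →ₗ[R] Zk E (k + 1) :=
  (E.d k).codRestrict _ (fun x => d_d E k x)

theorem qk_coe (k : ℕ) (x : (E.X k).carrier) : ((qk E k x : Zk E (k + 1)) : (E.X (k + 1)).carrier) =
    E.d k x := rfl

theorem qk_surjective (k : ℕ) : Function.Surjective (qk E k) := by
  rintro ⟨y, hy⟩
  have : y ∈ LinearMap.range (E.d k) := by rw [← E.exact_succ k]; exact hy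
  obtain ⟨x, rfl⟩ := this
  exact ⟨x, rfl⟩

/-- the short exact sequences `0 → Z^k → X^k → Z^{k+1} → 0` -/
abbrev Sk (k : ℕ) : ShortComplex (ModuleCat.{u} R) where
  X₁ := ModuleCat.of R (Zk E k)
  X₂ := ModuleCat.of R (E.X k).carrier
  X₃ := ModuleCat.of R (Zk E (k + 1))
  f := ModuleCat.ofHom (Zk E k).subtype
  g := ModuleCat.ofHom (qk E k)
  zero := by
    ext x
    exact x.2

theorem Sk_shortExact (k : ℕ) : (Sk E k).ShortExact := by
  refine ModuleCat.shortComplex_shortExact (Sk E k) ?_ Subtype.val_injective (qk_surjective E k)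
  intro y
  constructor
  · intro hy
    have hy' : E.d k y = 0 := congrArg Subtype.val hy
    exact ⟨⟨y, hy'⟩, rfl⟩
  · rintro ⟨z, rfl⟩
    apply Subtype.ext
    exact z.2

end

section Claims
variable {ι : Type} [AddCommGroup ι] [DecidableEq ι] {R : Type u} [CommRing R]
  {𝒜 : ι → AddSubgroup R} [GradedRing 𝒜]
  {M : Type u} [AddCommGroup M] [Module R M] {ℳ : ι → AddSubgroup M} [DirectSum.Decomposition ℳ]
  [SetLike.GradedSMul 𝒜 ℳ] (E : StarInjRes 𝒜 ℳ) (a : HomogeneousIdeal 𝒜)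
  (hac : ∀ n j, 1 ≤ j →
    Subsingleton ((localCohomology a.toIdeal j).obj (ModuleCat.of R (E.X n).carrier)))

include hac in
/-- Claim A: the connecting maps are isomorphisms in positive degrees -/
theorem lcDelta_bijective (k j : ℕ) (hj : 1 ≤ j) :
    Function.Bijective (lcDelta a.toIdeal (Sk_shortExact E k) j) := by
  constructor
  · rw [injective_iff_map_eq_zero]
    intro y hy
    obtain ⟨y₂, rfl⟩ := lc_exact₃ a.toIdeal (Sk_shortExact E k) j y hy
    rw [@Subsingleton.elim _ (hac k j hj) y₂ 0, map_zero]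
  · intro y
    exact lc_exact₁ a.toIdeal (Sk_shortExact E k) j y
      (@Subsingleton.elim _ (hac k (j + 1) (by omega)) _ _)

/-- cocycles of `Γ_a(X^{k+1})` as torsion elements of `Z^{k+1}` -/
def theta (k : ℕ) : E.cocyc a k →ₗ[R] DRing.torsionSub a.toIdeal (Zk E k) where
  toFun z := ⟨⟨z.1, z.2.2⟩, by
    obtain ⟨n, hn⟩ := z.2.1
    exact ⟨n, fun r hr => Subtype.ext (hn r hr)⟩⟩
  map_add' _ _ := rfl
  map_smul' _ _ := rfl

theorem theta_coe (k : ℕ) (z : E.cocyc a k) :
    (((theta E a k z : DRing.torsionSub a.toIdeal (Zk E k)) : Zk E k) : (E.X k).carrier) = z.1 := rfl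

/-- the map `Γ_a(X^{k+1}) ∩ Z^{k+1} → H^1_a(Z^k)` -/
noncomputable def psi (k : ℕ) :
    E.cocyc a (k + 1) →ₗ[R] (localCohomology a.toIdeal 1).obj (ModuleCat.of R (Zk E k)) :=
  (lcDelta a.toIdeal (Sk_shortExact E k) 0) ∘ₗ
    ((lcH0Equiv a.toIdeal (ModuleCat.of R (Zk E (k + 1)))).symm.toLinearMap ∘ₗ theta E a (k + 1))

theorem psi_apply (k : ℕ) (z : E.cocyc a (k + 1)) :
    psi E a k z = lcDelta a.toIdeal (Sk_shortExact E k) 0
      ((lcH0Equiv a.toIdeal (ModuleCat.of R (Zk E (k + 1)))).symm (theta E a (k + 1) z)) := rfl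

theorem lcH0Map_symm_theta (k : ℕ) (z : E.cocyc a k) :
    ((lcH0Map a.toIdeal (ModuleCat.of R (Zk E k))
      ((lcH0Equiv a.toIdeal (ModuleCat.of R (Zk E k))).symm (theta E a k z)) : Zk E k) :
        (E.X k).carrier) = z.1 := by
  rw [← lcH0Equiv_coe, LinearEquiv.apply_symm_apply]
  rfl

include hac in
theorem psi_surjective (k : ℕ) : Function.Surjective (psi E a k) := by
  intro y
  obtain ⟨y₃, rfl⟩ := lc_exact₁ a.toIdeal (Sk_shortExact E k) 0 y
    (@Subsingleton.elim _ (hac k 1 le_rfl) _ _)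
  set t := lcH0Equiv a.toIdeal (ModuleCat.of R (Zk E (k + 1))) y₃ with ht
  have htor : ((t : Zk E (k + 1)) : (E.X (k + 1)).carrier) ∈
      gam a.toIdeal (E.X (k + 1)).carrier := by
    obtain ⟨n, hn⟩ := t.2
    exact ⟨n, fun r hr => congrArg Subtype.val (hn r hr)⟩
  refine ⟨⟨((t : Zk E (k + 1)) : (E.X (k + 1)).carrier), ⟨htor, (t : Zk E (k + 1)).2⟩⟩, ?_⟩
  rw [psi_apply]
  congr 1
  rw [LinearEquiv.symm_apply_eq]
  rfl

theorem ker_psi (k : ℕ) :
    LinearMap.ker (psi E a k) = (E.cobdy a (k + 1)).comap (E.cocyc a (k + 1)).subtype := by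
  ext z
  rw [LinearMap.mem_ker, Submodule.mem_comap, psi_apply]
  constructor
  · intro hz
    obtain ⟨y₂, hy₂⟩ := lc_exact₃ a.toIdeal (Sk_shortExact E k) 0 _ hz
    have h1 := congrArg (fun y => ((lcH0Map a.toIdeal (ModuleCat.of R (Zk E (k + 1))) y :
      Zk E (k + 1)) : (E.X (k + 1)).carrier)) hy₂
    simp only at h1
    rw [lcH0Map_symm_theta] at h1
    have h2 := lcH0Map_naturality a.toIdeal (Sk E k).g y₂
    have h3 : ((lcH0Map a.toIdeal (ModuleCat.of R (Zk E (k + 1)))
        (((localCohomology a.toIdeal 0).map (Sk E k).g).hom y₂) : Zk E (k + 1)) :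
          (E.X (k + 1)).carrier) =
        E.d k (lcH0Map a.toIdeal (ModuleCat.of R (E.X k).carrier) y₂) :=
      congrArg Subtype.val h2
    rw [h3] at h1
    refine ⟨lcH0Map a.toIdeal (ModuleCat.of R (E.X k).carrier) y₂, ?_, h1⟩
    exact lcH0Map_mem_torsionSub a.toIdeal (ModuleCat.of R (E.X k).carrier) y₂
  · rintro ⟨w, hw, hwz⟩
    obtain ⟨n, hn⟩ := hw
    obtain ⟨y₂, hy₂⟩ := exists_lcH0Map_eq a.toIdeal (ModuleCat.of R (E.X k).carrier) w n hn
    have h2 := lcH0Map_naturality a.toIdeal (Sk E k).g y₂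
    have key : ((localCohomology a.toIdeal 0).map (Sk E k).g).hom y₂ =
        (lcH0Equiv a.toIdeal (ModuleCat.of R (Zk E (k + 1)))).symm (theta E a (k + 1) z) := by
      apply lcH0Map_injective a.toIdeal (ModuleCat.of R (Zk E (k + 1)))
      apply Subtype.ext
      rw [lcH0Map_symm_theta]
      have h3 : ((lcH0Map a.toIdeal (ModuleCat.of R (Zk E (k + 1)))
          (((localCohomology a.toIdeal 0).map (Sk E k).g).hom y₂) : Zk E (k + 1)) :
            (E.X (k + 1)).carrier) =
          E.d k (lcH0Map a.toIdeal (ModuleCat.of R (E.X k).carrier) y₂) :=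
        congrArg Subtype.val h2
      rw [h3, hy₂]
      exact hwz
    rw [← key]
    exact lcDelta_comp_map a.toIdeal (Sk_shortExact E k) 0 y₂

include hac in
/-- Claim B -/
theorem nonempty_H_succ_equiv (k : ℕ) :
    Nonempty (E.H a (k + 1) ≃ₗ[R]
      (localCohomology a.toIdeal 1).obj (ModuleCat.of R (Zk E k))) :=
  ⟨(Submodule.quotEquivOfEq _ _ (ker_psi E a k).symm).trans
    ((psi E a k).quotKerEquivOfSurjective (psi_surjective E a hac k))⟩

include hac in
/-- dimension shifting -/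
theorem nonempty_H_equiv (i : ℕ) : ∀ (k n : ℕ), n = k + i + 1 →
    Nonempty (E.H a n ≃ₗ[R]
      (localCohomology a.toIdeal (i + 1)).obj (ModuleCat.of R (Zk E k))) := by
  induction i with
  | zero =>
    intro k n hn
    subst hn
    exact nonempty_H_succ_equiv E a hac k
  | succ i ih =>
    intro k n hn
    obtain ⟨e⟩ := ih (k + 1) n (by omega)
    exact ⟨e.trans (LinearEquiv.ofBijective (lcDelta a.toIdeal (Sk_shortExact E k) (i + 1))
      (lcDelta_bijective E a hac k (i + 1) (by omega)))⟩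

end Claims

section Final
variable {ι : Type} [AddCommGroup ι] [DecidableEq ι] {R : Type u} [CommRing R]
  {𝒜 : ι → AddSubgroup R} [GradedRing 𝒜]
  {M : Type u} [AddCommGroup M] [Module R M] {ℳ : ι → AddSubgroup M} [DirectSum.Decomposition ℳ]
  [SetLike.GradedSMul 𝒜 ℳ] (E : StarInjRes 𝒜 ℳ) (a : HomogeneousIdeal 𝒜)
  (hac : ∀ n j, 1 ≤ j →
    Subsingleton ((localCohomology a.toIdeal j).obj (ModuleCat.of R (E.X n).carrier)))

/-- `M ≃ Z^0` -/
noncomputable def e0 : M ≃ₗ[R] Zk E 0 :=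
  LinearEquiv.ofBijective (E.ε.codRestrict (Zk E 0) (fun m => by
    show E.ε m ∈ LinearMap.ker (E.d 0)
    rw [E.exact_zero]
    exact ⟨m, rfl⟩))
    ⟨fun x y h => E.ε_injective (congrArg Subtype.val h), by
      rintro ⟨z, hz⟩
      have : z ∈ LinearMap.range E.ε := by rw [← E.exact_zero]; exact hz
      obtain ⟨m, rfl⟩ := this
      exact ⟨m, rfl⟩⟩

theorem nonempty_H_zero_equiv :
    Nonempty (E.H a 0 ≃ₗ[R] (localCohomology a.toIdeal 0).obj (ModuleCat.of R M)) := by
  have hbot : (E.cobdy a 0).comap (E.cocyc a 0).subtype = ⊥ := by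
    show (⊥ : Submodule R (E.X 0).carrier).comap (E.cocyc a 0).subtype = ⊥
    rw [Submodule.comap_bot, Submodule.ker_subtype]
  let f : (localCohomology a.toIdeal 0).obj (ModuleCat.of R M) →ₗ[R] E.cocyc a 0 :=
    (E.ε ∘ₗ lcH0Map a.toIdeal (ModuleCat.of R M)).codRestrict (E.cocyc a 0) (fun y => by
      refine ⟨?_, ?_⟩
      · obtain ⟨n, hn⟩ := lcH0Map_mem_torsionSub a.toIdeal (ModuleCat.of R M) y
        refine ⟨n, fun r hr => ?_⟩
        rw [LinearMap.comp_apply, ← map_smul, hn r hr, map_zero]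
      · show _ ∈ LinearMap.ker (E.d 0)
        rw [E.exact_zero]
        exact ⟨_, rfl⟩)
  have hf : Function.Bijective f := by
    constructor
    · intro x y h
      have h1 : E.ε (lcH0Map a.toIdeal (ModuleCat.of R M) x) =
          E.ε (lcH0Map a.toIdeal (ModuleCat.of R M) y) := congrArg Subtype.val h
      exact lcH0Map_injective a.toIdeal (ModuleCat.of R M) (E.ε_injective h1)
    · rintro ⟨z, ⟨n, hn⟩, hz⟩
      have : z ∈ LinearMap.range E.ε := by rw [← E.exact_zero]; exact hz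
      obtain ⟨m, rfl⟩ := this
      have hm : ∀ r ∈ a.toIdeal ^ n, r • m = 0 := fun r hr => by
        apply E.ε_injective
        rw [map_smul, hn r hr, map_zero]
      obtain ⟨y, hy⟩ := exists_lcH0Map_eq a.toIdeal (ModuleCat.of R M) m n hm
      refine ⟨y, Subtype.ext ?_⟩
      show E.ε (lcH0Map a.toIdeal (ModuleCat.of R M) y) = E.ε m
      rw [hy]
  exact ⟨(Submodule.quotEquivOfEqBot _ hbot).trans (LinearEquiv.ofBijective f hf).symm⟩

include hac in
/-- **Comparison**: the cohomology of `Γ_a` of a resolution by `Γ_a`-acyclic modules is local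
cohomology. -/
theorem nonempty_H_equiv_localCohomology (i : ℕ) :
    Nonempty (E.H a i ≃ₗ[R] (localCohomology a.toIdeal i).obj (ModuleCat.of R M)) := by
  cases i with
  | zero => exact nonempty_H_zero_equiv E a
  | succ i =>
    obtain ⟨e⟩ := nonempty_H_equiv E a hac i 0 (i + 1) (by omega)
    exact ⟨e.trans (((localCohomology a.toIdeal (i + 1)).mapIso
      (e0 E).toModuleIso).toLinearEquiv).symm⟩

end Final

end Groth.Agent.Lib.Helper39.Acyclic
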