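import Mathlib.Algebra.Order.Group.PiLex
import Mathlib.LinearAlgebra.Dimension.Free
import Mathlib.LinearAlgebra.FreeModule.Finite.Basic
import Mathlib.Order.PiLex
import Mathlib.Algebra.Order.Group.Int
import Mathlib.LinearAlgebra.FreeModule.StrongRankCondition
import Mathlib.Algebra.Order.Monoid.Defs
import Mathlib.Algebra.Order.Monoid.Unbundled.Basic
import Mathlib.Algebra.Order.Ring.Int

/-!
A translation-invariant linear order on a finitely generated free abelian group
(lexicographic order in a basis), by helper39.
-/

set_option autoImplicit false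

namespace Groth.Agent.Lib.Helper39

variable (ι : Type*) [AddCommGroup ι] [Module.Free ℤ ι] [Module.Finite ℤ ι]

/-- The additive embedding of a f.g. free abelian group into `Lex (Fin n → ℤ)`. -/
noncomputable def lexEmb : ι → Lex (Fin (Module.finrank ℤ ι) → ℤ) :=
  fun x => toLex ((Module.finBasis ℤ ι).equivFun x)

theorem lexEmb_injective : Function.Injective (lexEmb ι) := by
  intro x y h
  have : (Module.finBasis ℤ ι).equivFun x = (Module.finBasis ℤ ι).equivFun y := toLex_inj.mp h
  exact (Module.finBasis ℤ ι).equivFun.injective this

theorem lexEmb_add (x y : ι) : lexEmb ι (x + y) = lexEmb ι x + lexEmb ι y := by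
  unfold lexEmb
  rw [map_add]
  rfl

open Classical in
/-- The lexicographic linear order on a f.g. free abelian group (with a prescribed `DecidableEq`). -/
@[reducible] noncomputable def lexLinearOrder [inst : DecidableEq ι] : LinearOrder ι :=
  { PartialOrder.lift (lexEmb ι) (lexEmb_injective ι) with
    le_total := fun a b => le_total (lexEmb ι a) (lexEmb ι b)
    toDecidableLE := fun _ _ => Classical.propDecidable _
    toDecidableEq := inst
    toDecidableLT := fun _ _ => Classical.propDecidable _ }

theorem lexLinearOrder_isOrderedCancelAddMonoid [DecidableEq ι] :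
    @IsOrderedCancelAddMonoid ι _ (lexLinearOrder ι).toPartialOrder.toPreorder := by
  let _ := lexLinearOrder ι
  refine { add_le_add_left := ?_, le_of_add_le_add_left := ?_ }
  · intro a b hab c
    change lexEmb ι (a + c) ≤ lexEmb ι (b + c)
    rw [lexEmb_add, lexEmb_add]
    have hab' : lexEmb ι a ≤ lexEmb ι b := hab
    exact add_le_add_left hab' _
  · intro a b c h
    change lexEmb ι b ≤ lexEmb ι c
    change lexEmb ι (a + b) ≤ lexEmb ι (a + c) at h
    rw [lexEmb_add, lexEmb_add] at h
    exact le_of_add_le_add_left h

end Groth.Agent.Lib.Helper39
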