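import Groth.Agent.Lib.Helper39.GrSummand
import Groth.Agent.Lib.Helper39.LexOrder
import Groth.Agent.S13211
import Mathlib.RingTheory.GradedAlgebra.Radical
import Mathlib.RingTheory.Noetherian.Defs

/-!
# Graded associated primes: a nonzero graded module over a Noetherian ring graded by a f.g. free
abelian group has a homogeneous element whose annihilator is a homogeneous prime (helper39)
-/

set_option autoImplicit false
universe u

namespace Groth.Agent.Lib.Helper39

open DirectSum GrLC

section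
variable {ι : Type} [AddCommGroup ι] [DecidableEq ι] {R : Type u} [CommRing R]
  (𝒜 : ι → AddSubgroup R) [GradedRing 𝒜]
  {I : Type u} [AddCommGroup I] [Module R I] (ℐ : ι → AddSubgroup I) [DirectSum.Decomposition ℐ]
  [SetLike.GradedSMul 𝒜 ℐ]

/-- the annihilator of a homogeneous element is a homogeneous ideal -/
theorem annihilator_span_singleton_isHomogeneous {g : ι} {m : I} (hm : m ∈ ℐ g) :
    ((Submodule.span R {m}).annihilator).IsHomogeneous 𝒜 := by
  classical
  intro i r hr
  rw [Submodule.mem_annihilator_span_singleton] at hr ⊢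
  have h1 : r • m = ∑ j ∈ (decompose 𝒜 r).support, (decompose 𝒜 r j : R) • m := by
    conv_lhs => rw [← sum_support_decompose 𝒜 r]
    rw [Finset.sum_smul]
  have hmem : ∀ j, (decompose 𝒜 r j : R) • m ∈ ℐ (j + g) :=
    fun j => SetLike.GradedSMul.smul_mem (A := 𝒜) (B := ℐ) (i := j) (j := g)
      (SetLike.coe_mem (decompose 𝒜 r j)) hm
  by_cases hi : i ∈ (decompose 𝒜 r).support
  · rw [h1] at hr
    exact Groth.Agent.S13211.eq_zero_of_sum_eq_zero ℐ _ (fun j => j + g)
      (fun a _ b _ hab => add_right_cancel hab) (fun j => (decompose 𝒜 r j : R) • m)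
      (fun j _ => hmem j) hr i hi
  · rw [DFinsupp.mem_support_iff, not_not] at hi
    rw [hi]
    simp

variable [Module.Free ℤ ι] [Module.Finite ℤ ι] [IsNoetherianRing R]

theorem exists_homogeneous_prime_annihilator [Nontrivial I] :
    ∃ (q : HomogeneousIdeal 𝒜) (g₀ : ι) (m : I), q.toIdeal.IsPrime ∧ m ∈ ℐ g₀ ∧ m ≠ 0 ∧
      (Submodule.span R {m}).annihilator = q.toIdeal := by
  classical
  let S : Set (Ideal R) := {J | ∃ (g : ι) (m : I), m ∈ ℐ g ∧ m ≠ 0 ∧
    J = (Submodule.span R {m}).annihilator}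
  have hSne : S.Nonempty := by
    obtain ⟨y, hy⟩ := exists_ne (0 : I)
    have : (⊤ : Submodule R I) ≠ ⊥ := by
      intro h
      have : y ∈ (⊥ : Submodule R I) := h ▸ Submodule.mem_top
      exact hy ((Submodule.mem_bot R).mp this)
    obtain ⟨i, z, hzi, _, hz0⟩ := exists_homogeneous_mem_ne_zero ℐ
      (P := (⊤ : Submodule R I)) (fun _ _ _ => Submodule.mem_top) this
    exact ⟨_, i, z, hzi, hz0, rfl⟩
  obtain ⟨J, hJS, hJmax⟩ := (set_has_maximal_iff_noetherian (R := R) (M := R)).mpr inferInstance S hSne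
  obtain ⟨g₀, m, hm, hm0, rfl⟩ := hJS
  have hhom := annihilator_span_singleton_isHomogeneous 𝒜 ℐ hm
  have hmem : ∀ {x : I} (r : R), r ∈ (Submodule.span R {x}).annihilator ↔ r • x = 0 :=
    fun r => Submodule.mem_annihilator_span_singleton _ r
  have hne : (Submodule.span R {m}).annihilator ≠ ⊤ := by
    intro h
    apply hm0
    have : (1 : R) ∈ (Submodule.span R {m}).annihilator := h ▸ Submodule.mem_top
    rwa [hmem, one_smul] at this
  let _ := lexLinearOrder ι
  have := lexLinearOrder_isOrderedCancelAddMonoid ι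
  have hprime : ((Submodule.span R {m}).annihilator).IsPrime := by
    refine Ideal.IsHomogeneous.isPrime_of_homogeneous_mem_or_mem (𝒜 := 𝒜) hhom hne ?_
    rintro a b ⟨ia, ha⟩ ⟨ib, hb⟩ hab
    by_contra hcon
    push Not at hcon
    obtain ⟨ha', hb'⟩ := hcon
    apply ha'
    have hbm0 : b • m ≠ 0 := fun h => hb' ((hmem b).mpr h)
    have hbm : b • m ∈ ℐ (ib + g₀) := SetLike.GradedSMul.smul_mem (A := 𝒜) (B := ℐ) hb hm
    have hle : (Submodule.span R {m}).annihilator ≤ (Submodule.span R {b • m}).annihilator := by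
      intro r hr
      rw [hmem] at hr ⊢
      rw [smul_comm, hr, smul_zero]
    have hnlt := hJmax _ ⟨ib + g₀, b • m, hbm, hbm0, rfl⟩
    have hge : (Submodule.span R {b • m}).annihilator ≤ (Submodule.span R {m}).annihilator := by
      by_contra h
      exact hnlt (lt_of_le_not_ge hle h)
    apply hge
    rw [hmem, ← mul_smul]
    exact (hmem _).mp hab
  exact ⟨⟨_, hhom⟩, g₀, m, hprime, hm, hm0, rfl⟩

end

section MapHom
variable {ι : Type} [DecidableEq ι] {R : Type u} [CommRing R]
  {L : Type u} [AddCommGroup L] [Module R L] (𝓛 : ι → AddSubgroup L) [DirectSum.Decomposition 𝓛]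
  {N : Type u} [AddCommGroup N] [Module R N] (𝒩 : ι → AddSubgroup N) [DirectSum.Decomposition 𝒩]

theorem IsGrHom.map_isHomogeneous {f : L →ₗ[R] N} (hf : IsGrHom 𝓛 𝒩 f) {P : Submodule R L}
    (hP : P.IsHomogeneous 𝓛) : (P.map f).IsHomogeneous 𝒩 := by
  rintro i _ ⟨x, hx, rfl⟩
  exact ⟨_, hP i hx, (IsGrHom.decompose_apply 𝓛 𝒩 hf x i).symm⟩

end MapHom

end Groth.Agent.Lib.Helper39
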