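import Groth.Agent.Lib.Helper39.GrMod

/-!
# The induced grading on a homogeneous submodule (helper39)

`subPieces 𝓛 N i = N ∩ 𝓛 i` (as a subgroup of `N`), `subPieces_isInternal`, `subDecomposition`,
`subGradedSMul`, `isGrHom_subtype`.
-/

set_option autoImplicit false
universe u

namespace Groth.Agent.Lib.Helper39

open DirectSum GrLC

section Sub
variable {ι : Type} [DecidableEq ι] {R : Type u} [CommRing R]
  {L : Type u} [AddCommGroup L] [Module R L] (𝓛 : ι → AddSubgroup L) [DirectSum.Decomposition 𝓛]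
  (N : Submodule R L)

/-- The pieces of a submodule of a graded module. -/
def subPieces : ι → AddSubgroup N := fun i => (𝓛 i).comap N.subtype.toAddMonoidHom

omit [DecidableEq ι] [Decomposition 𝓛] in
theorem mem_subPieces {i : ι} {x : N} : x ∈ subPieces 𝓛 N i ↔ (x : L) ∈ 𝓛 i := Iff.rfl

/-- inclusion of pieces -/
def subPieceIncl (i : ι) : subPieces 𝓛 N i →+ 𝓛 i where
  toFun x := ⟨((x : N) : L), x.2⟩
  map_zero' := rfl
  map_add' _ _ := rfl

omit [DecidableEq ι] [Decomposition 𝓛] in
theorem subPieceIncl_injective (i : ι) : Function.Injective (subPieceIncl 𝓛 N i) := by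
  intro x y h
  apply Subtype.ext
  apply Subtype.ext
  exact congrArg (fun z : 𝓛 i => (z : L)) h

omit [Decomposition 𝓛] in
theorem coe_coeAddMonoidHom_sub (x : ⨁ i, subPieces 𝓛 N i) :
    ((DirectSum.coeAddMonoidHom (subPieces 𝓛 N) x : N) : L) =
      DirectSum.coeAddMonoidHom 𝓛 (DirectSum.map (subPieceIncl 𝓛 N) x) := by
  induction x using DirectSum.induction_on with
  | zero => simp
  | of i x =>
    rw [DirectSum.map_of, DirectSum.coeAddMonoidHom_of, DirectSum.coeAddMonoidHom_of]
    rfl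
  | add x y hx hy => rw [map_add, map_add, map_add, Submodule.coe_add, hx, hy]

theorem subPieces_isInternal (hN : N.IsHomogeneous 𝓛) : DirectSum.IsInternal (subPieces 𝓛 N) := by
  constructor
  · intro x y hxy
    have h1 : DirectSum.coeAddMonoidHom 𝓛 (DirectSum.map (subPieceIncl 𝓛 N) x) =
        DirectSum.coeAddMonoidHom 𝓛 (DirectSum.map (subPieceIncl 𝓛 N) y) := by
      rw [← coe_coeAddMonoidHom_sub, ← coe_coeAddMonoidHom_sub, hxy]
    have h2 := (Decomposition.isInternal 𝓛).injective h1
    exact (DirectSum.map_injective (subPieceIncl 𝓛 N)).mpr (subPieceIncl_injective 𝓛 N) h2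
  · intro x
    classical
    refine ⟨∑ i ∈ (decompose 𝓛 (x : L)).support,
      DirectSum.of (fun i => subPieces 𝓛 N i) i ⟨⟨(decompose 𝓛 (x : L) i : L), hN i x.2⟩,
        (SetLike.coe_mem (decompose 𝓛 (x : L) i) : (decompose 𝓛 (x : L) i : L) ∈ 𝓛 i)⟩, ?_⟩
    apply Subtype.ext
    rw [map_sum]
    simp only [DirectSum.coeAddMonoidHom_of]
    rw [AddSubmonoidClass.coe_finsetSum]
    exact DirectSum.sum_support_decompose 𝓛 (x : L)

/-- A homogeneous submodule of a graded module is graded. -/
@[instance_reducible]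
noncomputable def subDecomposition (hN : N.IsHomogeneous 𝓛) :
    DirectSum.Decomposition (subPieces 𝓛 N) :=
  (subPieces_isInternal 𝓛 N hN).chooseDecomposition

omit [DecidableEq ι] [Decomposition 𝓛] in
theorem isGrHom_subtype : IsGrHom (subPieces 𝓛 N) 𝓛 N.subtype := fun _ _ hx => hx

end Sub

section SubSMul
variable {ι : Type} [AddCommMonoid ι] [DecidableEq ι] {R : Type u} [CommRing R]
  (𝒜 : ι → AddSubgroup R) [GradedRing 𝒜]
  {L : Type u} [AddCommGroup L] [Module R L] (𝓛 : ι → AddSubgroup L) [SetLike.GradedSMul 𝒜 𝓛]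
  (N : Submodule R L)

theorem subGradedSMul : SetLike.GradedSMul 𝒜 (subPieces 𝓛 N) where
  smul_mem := by
    intro i j a x ha hx
    show ((a • x : N) : L) ∈ 𝓛 (i + j)
    rw [Submodule.coe_smul]
    exact SetLike.GradedSMul.smul_mem (A := 𝒜) (B := 𝓛) ha hx

end SubSMul

end Groth.Agent.Lib.Helper39
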