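import Groth.Agent.Lib.Helper39.GrShift
import Groth.Agent.Lib.Helper39.GrSub
import Mathlib.Tactic

/-!
# Homogeneous components of linear maps between graded modules (helper39)

`compLin 𝒜 𝓐 ℐ g d` is the degree-`d` part of a linear map `g`; `exists_extension_of_finite` is the
extension lemma: linear maps from finitely generated graded modules into a *injective module extend
along homogeneous injections.
-/

set_option autoImplicit false
universe u

namespace Groth.Agent.Lib.Helper39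

open DirectSum GrLC

section Comp
variable {ι : Type} [AddCommGroup ι] [DecidableEq ι] {R : Type u} [CommRing R]
  (𝒜 : ι → AddSubgroup R) [GradedRing 𝒜]
  {A : Type u} [AddCommGroup A] [Module R A] (𝓐 : ι → AddSubgroup A) [DirectSum.Decomposition 𝓐]
  [SetLike.GradedSMul 𝒜 𝓐]
  {I : Type u} [AddCommGroup I] [Module R I] (ℐ : ι → AddSubgroup I) [DirectSum.Decomposition ℐ]
  [SetLike.GradedSMul 𝒜 ℐ]

/-- multiplication by a homogeneous element shifts components -/
theorem decompose_smul_of_mem {c : ι} {r : R} (hr : r ∈ 𝒜 c) (y : I) (j : ι) :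
    (decompose ℐ (r • y) (c + j) : I) = r • (decompose ℐ y j : I) := by
  induction y using DirectSum.Decomposition.inductionOn ℐ with
  | zero => simp
  | @homogeneous k m =>
    have hrm : r • (m : I) ∈ ℐ (c + k) := SetLike.GradedSMul.smul_mem (A := 𝒜) (B := ℐ) hr m.2
    by_cases hkj : k = j
    · subst hkj
      rw [decompose_of_mem_same ℐ hrm, decompose_of_mem_same ℐ m.2]
    · rw [decompose_of_mem_ne ℐ hrm (fun h => hkj (add_left_cancel h)),
        decompose_of_mem_ne ℐ m.2 hkj, smul_zero]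
  | add m m' hm hm' =>
    rw [smul_add, decompose_add, decompose_add, DirectSum.add_apply, DirectSum.add_apply,
      AddSubgroup.coe_add, AddSubgroup.coe_add, hm, hm', smul_add]

/-- the `j`-th component, as an additive endomorphism -/
def projAdd (j : ι) : I →+ I :=
  (ℐ j).subtype.comp ((DFinsupp.evalAddMonoidHom j).comp (decomposeAddEquiv ℐ).toAddMonoidHom)

theorem projAdd_apply (j : ι) (y : I) : projAdd ℐ j y = (decompose ℐ y j : I) := rfl

/-- the degree-`d` part of a linear map, as an additive map -/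
def compAdd (g : A →ₗ[R] I) (d : ι) : A →+ I :=
  (DirectSum.toAddMonoid (fun e => (projAdd ℐ (e + d)).comp
    (g.toAddMonoidHom.comp (𝓐 e).subtype))).comp (decomposeAddEquiv 𝓐).toAddMonoidHom

theorem compAdd_of_mem (g : A →ₗ[R] I) (d : ι) {e : ι} {x : A} (hx : x ∈ 𝓐 e) :
    compAdd 𝓐 ℐ g d x = (decompose ℐ (g x) (e + d) : I) := by
  unfold compAdd
  simp only [AddMonoidHom.coe_comp, Function.comp_apply]
  have h1 : (decomposeAddEquiv 𝓐).toAddMonoidHom x = DirectSum.of (fun i => 𝓐 i) e ⟨x, hx⟩ :=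
    decompose_of_mem 𝓐 hx
  rw [h1, DirectSum.toAddMonoid_of]
  rfl

include 𝒜 in
theorem compAdd_smul (g : A →ₗ[R] I) (d : ι) (r : R) (x : A) :
    compAdd 𝓐 ℐ g d (r • x) = r • compAdd 𝓐 ℐ g d x := by
  induction r using DirectSum.Decomposition.inductionOn 𝒜 with
  | zero => simp
  | @homogeneous c r =>
    induction x using DirectSum.Decomposition.inductionOn 𝓐 with
    | zero => simp
    | @homogeneous e x =>
      have hrx : (r : R) • (x : A) ∈ 𝓐 (c + e) :=
        SetLike.GradedSMul.smul_mem (A := 𝒜) (B := 𝓐) r.2 x.2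
      rw [compAdd_of_mem 𝓐 ℐ g d hrx, compAdd_of_mem 𝓐 ℐ g d x.2, map_smul, add_assoc,
        decompose_smul_of_mem 𝒜 ℐ r.2]
    | add x x' hx hx' => rw [smul_add, map_add, map_add, hx, hx', smul_add]
  | add r r' hr hr' => rw [add_smul, map_add, hr, hr', add_smul]

/-- the degree-`d` part of a linear map -/
def compLin (g : A →ₗ[R] I) (d : ι) : A →ₗ[R] I where
  toFun := compAdd 𝓐 ℐ g d
  map_add' := map_add _
  map_smul' r x := compAdd_smul 𝒜 𝓐 ℐ g d r x

theorem compLin_of_mem (g : A →ₗ[R] I) (d : ι) {e : ι} {x : A} (hx : x ∈ 𝓐 e) :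
    compLin 𝒜 𝓐 ℐ g d x = (decompose ℐ (g x) (e + d) : I) :=
  compAdd_of_mem 𝓐 ℐ g d hx

theorem compLin_isGrHomDeg (g : A →ₗ[R] I) (d : ι) : IsGrHomDeg 𝓐 ℐ (compLin 𝒜 𝓐 ℐ g d) d := by
  intro e x hx
  rw [compLin_of_mem 𝒜 𝓐 ℐ g d hx]
  exact SetLike.coe_mem _

open Classical in
/-- a finite sum of components recovers the value on a homogeneous element -/
theorem sum_compLin_of_mem (g : A →ₗ[R] I) {e : ι} {x : A} (hx : x ∈ 𝓐 e) (S : Finset ι)
    (hS : ∀ j ∈ (decompose ℐ (g x)).support, j - e ∈ S) :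
    ∑ d ∈ S, compLin 𝒜 𝓐 ℐ g d x = g x := by
  have h1 : ∀ d ∈ S, compLin 𝒜 𝓐 ℐ g d x = (decompose ℐ (g x) (e + d) : I) :=
    fun d _ => compLin_of_mem 𝒜 𝓐 ℐ g d hx
  rw [Finset.sum_congr rfl h1]
  have h2 : ∑ d ∈ S, (decompose ℐ (g x) (e + d) : I) =
      ∑ j ∈ S.image (fun d => e + d), (decompose ℐ (g x) j : I) := by
    rw [Finset.sum_image (fun a _ b _ h => add_left_cancel h)]
  rw [h2]
  conv_rhs => rw [← DirectSum.sum_support_decompose ℐ (g x)]
  symm
  apply Finset.sum_subset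
  · intro j hj
    rw [Finset.mem_image]
    exact ⟨j - e, hS j hj, by abel⟩
  · intro j _ hj
    rw [DFinsupp.mem_support_toFun, not_not] at hj
    rw [hj]
    rfl

end Comp

section Ext
variable {ι : Type} [AddCommGroup ι] [DecidableEq ι] {R : Type u} [CommRing R]
  (𝒜 : ι → AddSubgroup R) [GradedRing 𝒜]
  {A : Type u} [AddCommGroup A] [Module R A] (𝓐 : ι → AddSubgroup A) [DirectSum.Decomposition 𝓐]
  [SetLike.GradedSMul 𝒜 𝓐]
  {B : Type u} [AddCommGroup B] [Module R B] (ℬ : ι → AddSubgroup B) [DirectSum.Decomposition ℬ]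
  [SetLike.GradedSMul 𝒜 ℬ]
  {I : Type u} [AddCommGroup I] [Module R I] (ℐ : ι → AddSubgroup I) [DirectSum.Decomposition ℐ]
  [SetLike.GradedSMul 𝒜 ℐ]

/-- a *injective module has the extension property for homogeneous maps of any degree -/
theorem exists_extension_deg (hI : IsStarInj 𝒜 ℐ) (f : A →ₗ[R] B) (hf : IsGrHom 𝓐 ℬ f)
    (hinj : Function.Injective f) (g : A →ₗ[R] I) (d : ι) (hg : IsGrHomDeg 𝓐 ℐ g d) :
    ∃ h : B →ₗ[R] I, h ∘ₗ f = g := by
  let decA := shiftDecomposition 𝓐 (-d)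
  have smulA := shiftGradedSMul 𝒜 𝓐 (-d)
  let decB := shiftDecomposition ℬ (-d)
  have smulB := shiftGradedSMul 𝒜 ℬ (-d)
  obtain ⟨h, -, hh⟩ := hI (GMod.of 𝒜 A (shiftPieces 𝓐 (-d))) (GMod.of 𝒜 B (shiftPieces ℬ (-d))) f
    (fun i x hx => hf _ x hx) hinj g (fun i x hx => by
      have := hg _ x hx
      rwa [neg_add_cancel_right] at this)
  exact ⟨h, hh⟩

omit [SetLike.GradedSMul 𝒜 𝓐] [AddCommGroup ι] in
/-- a finitely generated graded module has finitely many homogeneous generators -/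
theorem exists_homogeneous_generators [Module.Finite R A] :
    ∃ s : Finset A, (∀ x ∈ s, ∃ e, x ∈ 𝓐 e) ∧ Submodule.span R (s : Set A) = ⊤ := by
  classical
  obtain ⟨t, ht⟩ := (Module.finite_def.mp ‹Module.Finite R A›)
  refine ⟨t.biUnion (fun y => (decompose 𝓐 y).support.image (fun e => (decompose 𝓐 y e : A))),
    ?_, ?_⟩
  · intro x hx
    rw [Finset.mem_biUnion] at hx
    obtain ⟨y, -, hx⟩ := hx
    rw [Finset.mem_image] at hx
    obtain ⟨e, -, rfl⟩ := hx
    exact ⟨e, SetLike.coe_mem _⟩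
  · rw [eq_top_iff, ← ht, Submodule.span_le]
    intro y hy
    rw [SetLike.mem_coe, ← DirectSum.sum_support_decompose 𝓐 y]
    apply Submodule.sum_mem
    intro e he
    apply Submodule.subset_span
    rw [Finset.mem_coe, Finset.mem_biUnion]
    exact ⟨y, hy, Finset.mem_image.mpr ⟨e, he, rfl⟩⟩

/-- **Extension lemma**: a linear (not necessarily homogeneous) map from a finitely generated
graded module to a *injective module extends along homogeneous injections. -/
theorem exists_extension_of_finite (hI : IsStarInj 𝒜 ℐ) [Module.Finite R A] (f : A →ₗ[R] B)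
    (hf : IsGrHom 𝓐 ℬ f) (hinj : Function.Injective f) (g : A →ₗ[R] I) :
    ∃ h : B →ₗ[R] I, h ∘ₗ f = g := by
  classical
  obtain ⟨s, hs, hspan⟩ := exists_homogeneous_generators (R := R) 𝓐
  choose! deg hdeg using hs
  have hext : ∀ d, ∃ h : B →ₗ[R] I, h ∘ₗ f = compLin 𝒜 𝓐 ℐ g d := fun d =>
    exists_extension_deg 𝒜 𝓐 ℬ ℐ hI f hf hinj _ d (compLin_isGrHomDeg 𝒜 𝓐 ℐ g d)
  choose H hH using hext
  let S : Finset ι :=
    s.biUnion (fun x => (decompose ℐ (g x)).support.image (fun j => j - deg x))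
  refine ⟨∑ d ∈ S, H d, ?_⟩
  apply LinearMap.ext_on hspan
  intro x hx
  rw [LinearMap.comp_apply, LinearMap.sum_apply]
  have h1 : ∀ d ∈ S, H d (f x) = compLin 𝒜 𝓐 ℐ g d x := fun d _ => by
    rw [← hH d]; rfl
  rw [Finset.sum_congr rfl h1]
  refine sum_compLin_of_mem 𝒜 𝓐 ℐ g (hdeg x hx) S ?_
  intro j hj
  rw [Finset.mem_biUnion]
  exact ⟨x, hx, Finset.mem_image.mpr ⟨j, by convert hj, rfl⟩⟩

end Ext

end Groth.Agent.Lib.Helper39
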