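import Groth.Agent.Lib.Helper39.GrMod

/-!
# Gradings on quotients and products of graded modules (helper39)

`quotPieces 𝓛 Q`, `quotDecomposition` (for `Q` homogeneous), `quotGradedSMul`;
`prodPieces ℳ ℬ`, `prodDecomposition`, `prodGradedSMul`.
-/

set_option autoImplicit false
universe u

namespace Groth.Agent.Lib.Helper39

open DirectSum GrLC

section Quot
variable {ι : Type} [DecidableEq ι] {R : Type u} [CommRing R]
  {L : Type u} [AddCommGroup L] [Module R L] (𝓛 : ι → AddSubgroup L) [DirectSum.Decomposition 𝓛]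
  (Q : Submodule R L)

/-- The pieces of the quotient of a graded module: images of the pieces. -/
def quotPieces : ι → AddSubgroup (L ⧸ Q) :=
  fun i => (𝓛 i).map (Q.mkQ : L →ₗ[R] L ⧸ Q).toAddMonoidHom

theorem mk_mem_quotPieces {i : ι} {x : L} (hx : x ∈ 𝓛 i) : Q.mkQ x ∈ quotPieces 𝓛 Q i :=
  ⟨x, hx, rfl⟩

/-- the map of pieces -/
def pieceMap (i : ι) : 𝓛 i →+ quotPieces 𝓛 Q i :=
  ((Q.mkQ : L →ₗ[R] L ⧸ Q).toAddMonoidHom.comp (𝓛 i).subtype).codRestrict (quotPieces 𝓛 Q i)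
    (fun x => ⟨x, x.2, rfl⟩)

theorem pieceMap_coe (i : ι) (x : 𝓛 i) : ((pieceMap 𝓛 Q i x : quotPieces 𝓛 Q i) : L ⧸ Q) = Q.mkQ x := rfl

/-- the additive map `L → ⨁ i, (L/Q)_i` -/
def quotDecomposeAux : L →+ ⨁ i, quotPieces 𝓛 Q i :=
  (DirectSum.map (pieceMap 𝓛 Q)).comp (decomposeAddEquiv 𝓛).toAddMonoidHom

theorem quotDecomposeAux_apply (l : L) (i : ι) :
    ((quotDecomposeAux 𝓛 Q l i : quotPieces 𝓛 Q i) : L ⧸ Q) = Q.mkQ (decompose 𝓛 l i : L) := by
  simp [quotDecomposeAux, DirectSum.map_apply, pieceMap_coe]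

variable {𝓛 Q} in
theorem quotDecomposeAux_eq_zero (hQ : Q.IsHomogeneous 𝓛) {l : L} (hl : l ∈ Q) :
    quotDecomposeAux 𝓛 Q l = 0 := by
  ext i
  rw [quotDecomposeAux_apply]
  simp only [DirectSum.zero_apply, ZeroMemClass.coe_zero]
  rw [Submodule.mkQ_apply, Submodule.Quotient.mk_eq_zero]
  exact hQ i hl

/-- the decomposition map of the quotient -/
def quotDecompose (hQ : Q.IsHomogeneous 𝓛) : L ⧸ Q →+ ⨁ i, quotPieces 𝓛 Q i :=
  QuotientAddGroup.lift Q.toAddSubgroup (quotDecomposeAux 𝓛 Q)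
    (fun _ hl => quotDecomposeAux_eq_zero hQ hl)

theorem quotDecompose_mk (hQ : Q.IsHomogeneous 𝓛) (l : L) :
    quotDecompose 𝓛 Q hQ (Q.mkQ l) = quotDecomposeAux 𝓛 Q l := rfl

theorem coe_quotDecomposeAux (l : L) :
    DirectSum.coeAddMonoidHom (quotPieces 𝓛 Q) (quotDecomposeAux 𝓛 Q l) = Q.mkQ l := by
  classical
  have h1 : ∀ x : ⨁ i, 𝓛 i, DirectSum.coeAddMonoidHom (quotPieces 𝓛 Q)
      (DirectSum.map (pieceMap 𝓛 Q) x) = Q.mkQ (DirectSum.coeAddMonoidHom 𝓛 x) := by
    intro x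
    induction x using DirectSum.induction_on with
    | zero => simp
    | of i x =>
      rw [DirectSum.map_of, DirectSum.coeAddMonoidHom_of, DirectSum.coeAddMonoidHom_of, pieceMap_coe]
    | add x y hx hy => rw [map_add, map_add, hx, hy, map_add, map_add]
  have h2 := h1 (decompose 𝓛 l)
  have h3 : DirectSum.coeAddMonoidHom 𝓛 (decompose 𝓛 l) = l := (decompose 𝓛).left_inv l
  rw [h3] at h2
  exact h2

/-- The quotient of a graded module by a homogeneous submodule is graded by the images of the pieces. -/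
@[instance_reducible]
def quotDecomposition (hQ : Q.IsHomogeneous 𝓛) : DirectSum.Decomposition (quotPieces 𝓛 Q) :=
  Decomposition.ofAddHom (quotPieces 𝓛 Q) (quotDecompose 𝓛 Q hQ)
    (by
      ext x
      obtain ⟨l, rfl⟩ := Q.mkQ_surjective x
      simp only [AddMonoidHom.coe_comp, Function.comp_apply, AddMonoidHom.id_apply]
      rw [quotDecompose_mk, coe_quotDecomposeAux])
    (by
      apply DirectSum.addHom_ext
      rintro i ⟨_, y, hy, rfl⟩
      simp only [AddMonoidHom.coe_comp, Function.comp_apply, AddMonoidHom.id_apply]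
      rw [DirectSum.coeAddMonoidHom_of]
      change quotDecompose 𝓛 Q hQ (Q.mkQ y) = _
      rw [quotDecompose_mk]
      unfold quotDecomposeAux
      simp only [AddMonoidHom.coe_comp, Function.comp_apply]
      have : (decomposeAddEquiv 𝓛).toAddMonoidHom y = DirectSum.of (fun i => 𝓛 i) i ⟨y, hy⟩ :=
        decompose_of_mem 𝓛 hy
      rw [this, DirectSum.map_of]
      rfl)

end Quot

section Prod
variable {ι : Type} [DecidableEq ι] {R : Type u} [CommRing R]
  {M : Type u} [AddCommGroup M] [Module R M] (ℳ : ι → AddSubgroup M) [DirectSum.Decomposition ℳ]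
  {B : Type u} [AddCommGroup B] [Module R B] (ℬ : ι → AddSubgroup B) [DirectSum.Decomposition ℬ]

/-- The pieces of the product of two graded modules. -/
def prodPieces : ι → AddSubgroup (M × B) := fun i => (ℳ i).prod (ℬ i)

theorem mem_prodPieces {i : ι} {x : M × B} : x ∈ prodPieces ℳ ℬ i ↔ x.1 ∈ ℳ i ∧ x.2 ∈ ℬ i :=
  Iff.rfl

def inlPiece (i : ι) : ℳ i →+ prodPieces ℳ ℬ i :=
  ((AddMonoidHom.inl M B).comp (ℳ i).subtype).codRestrict (prodPieces ℳ ℬ i)
    (fun x => ⟨x.2, zero_mem _⟩)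

def inrPiece (i : ι) : ℬ i →+ prodPieces ℳ ℬ i :=
  ((AddMonoidHom.inr M B).comp (ℬ i).subtype).codRestrict (prodPieces ℳ ℬ i)
    (fun x => ⟨zero_mem _, x.2⟩)

theorem inlPiece_coe (i : ι) (x : ℳ i) : ((inlPiece ℳ ℬ i x : prodPieces ℳ ℬ i) : M × B) = ((x : M), 0) := rfl
theorem inrPiece_coe (i : ι) (x : ℬ i) : ((inrPiece ℳ ℬ i x : prodPieces ℳ ℬ i) : M × B) = (0, (x : B)) := rfl

def prodDecompose : M × B →+ ⨁ i, prodPieces ℳ ℬ i :=
  ((DirectSum.map (inlPiece ℳ ℬ)).comp (decomposeAddEquiv ℳ).toAddMonoidHom).comp (AddMonoidHom.fst M B) +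
  ((DirectSum.map (inrPiece ℳ ℬ)).comp (decomposeAddEquiv ℬ).toAddMonoidHom).comp (AddMonoidHom.snd M B)

theorem prodDecompose_apply (x : M × B) :
    prodDecompose ℳ ℬ x = DirectSum.map (inlPiece ℳ ℬ) (decompose ℳ x.1) +
      DirectSum.map (inrPiece ℳ ℬ) (decompose ℬ x.2) := rfl

theorem coe_map_inlPiece (x : ⨁ i, ℳ i) :
    DirectSum.coeAddMonoidHom (prodPieces ℳ ℬ) (DirectSum.map (inlPiece ℳ ℬ) x) =
      (DirectSum.coeAddMonoidHom ℳ x, 0) := by
  classical
  induction x using DirectSum.induction_on with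
  | zero => simp only [map_zero]; rfl
  | of i x =>
    rw [DirectSum.map_of, DirectSum.coeAddMonoidHom_of, DirectSum.coeAddMonoidHom_of, inlPiece_coe]
  | add x y hx hy => rw [map_add, map_add, hx, hy, map_add]; simp

theorem coe_map_inrPiece (x : ⨁ i, ℬ i) :
    DirectSum.coeAddMonoidHom (prodPieces ℳ ℬ) (DirectSum.map (inrPiece ℳ ℬ) x) =
      (0, DirectSum.coeAddMonoidHom ℬ x) := by
  classical
  induction x using DirectSum.induction_on with
  | zero => simp only [map_zero]; rfl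
  | of i x =>
    rw [DirectSum.map_of, DirectSum.coeAddMonoidHom_of, DirectSum.coeAddMonoidHom_of, inrPiece_coe]
  | add x y hx hy => rw [map_add, map_add, hx, hy, map_add]; simp

/-- The product of two graded modules is graded. -/
@[instance_reducible]
def prodDecomposition : DirectSum.Decomposition (prodPieces ℳ ℬ) :=
  Decomposition.ofAddHom (prodPieces ℳ ℬ) (prodDecompose ℳ ℬ)
    (by
      ext x
      · simp only [AddMonoidHom.coe_comp, Function.comp_apply, AddMonoidHom.id_apply]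
        rw [prodDecompose_apply, map_add, coe_map_inlPiece, coe_map_inrPiece]
        have h3 : DirectSum.coeAddMonoidHom ℳ (decompose ℳ x.1) = x.1 := (decompose ℳ).left_inv _
        simp [h3]
      · simp only [AddMonoidHom.coe_comp, Function.comp_apply, AddMonoidHom.id_apply]
        rw [prodDecompose_apply, map_add, coe_map_inlPiece, coe_map_inrPiece]
        have h3 : DirectSum.coeAddMonoidHom ℬ (decompose ℬ x.2) = x.2 := (decompose ℬ).left_inv _
        simp [h3])
    (by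
      apply DirectSum.addHom_ext
      rintro i ⟨⟨m, b⟩, hm, hb⟩
      simp only [AddMonoidHom.coe_comp, Function.comp_apply, AddMonoidHom.id_apply]
      rw [DirectSum.coeAddMonoidHom_of, prodDecompose_apply]
      have h1 : decompose ℳ m = DirectSum.of (fun i => ℳ i) i ⟨m, hm⟩ := decompose_of_mem ℳ hm
      have h2 : decompose ℬ b = DirectSum.of (fun i => ℬ i) i ⟨b, hb⟩ := decompose_of_mem ℬ hb
      simp only
      rw [h1, h2, DirectSum.map_of, DirectSum.map_of, ← map_add]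
      congr 1
      apply Subtype.ext
      simp [inlPiece_coe, inrPiece_coe])

end Prod

section SMul
variable {ι : Type} [AddCommGroup ι] [DecidableEq ι] {R : Type u} [CommRing R]
  (𝒜 : ι → AddSubgroup R) [GradedRing 𝒜]
  {L : Type u} [AddCommGroup L] [Module R L] (𝓛 : ι → AddSubgroup L) [SetLike.GradedSMul 𝒜 𝓛]
  (Q : Submodule R L)
  {B : Type u} [AddCommGroup B] [Module R B] (ℬ : ι → AddSubgroup B) [SetLike.GradedSMul 𝒜 ℬ]

theorem quotGradedSMul : SetLike.GradedSMul 𝒜 (quotPieces 𝓛 Q) where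
  smul_mem := by
    rintro i j a _ ha ⟨y, hy, rfl⟩
    refine ⟨a • y, SetLike.GradedSMul.smul_mem (A := 𝒜) (B := 𝓛) ha hy, ?_⟩
    simp

theorem prodGradedSMul : SetLike.GradedSMul 𝒜 (prodPieces 𝓛 ℬ) where
  smul_mem := by
    rintro i j a ⟨x, y⟩ ha ⟨hx, hy⟩
    exact ⟨SetLike.GradedSMul.smul_mem (A := 𝒜) (B := 𝓛) ha hx,
      SetLike.GradedSMul.smul_mem (A := 𝒜) (B := ℬ) ha hy⟩

end SMul

section Homs
variable {ι : Type} {R : Type u} [CommRing R]
  {L : Type u} [AddCommGroup L] [Module R L] (𝓛 : ι → AddSubgroup L)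
  (Q : Submodule R L)
  {B : Type u} [AddCommGroup B] [Module R B] (ℬ : ι → AddSubgroup B)

theorem isGrHom_mkQ : IsGrHom 𝓛 (quotPieces 𝓛 Q) Q.mkQ := fun _ _ hx => ⟨_, hx, rfl⟩

theorem isGrHom_inl : IsGrHom 𝓛 (prodPieces 𝓛 ℬ) (LinearMap.inl R L B) :=
  fun _ _ hx => ⟨hx, zero_mem _⟩

theorem isGrHom_inr : IsGrHom ℬ (prodPieces 𝓛 ℬ) (LinearMap.inr R L B) :=
  fun _ _ hx => ⟨zero_mem _, hx⟩

end Homs

end Groth.Agent.Lib.Helper39
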