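import Groth.Agent.Lib.Helper39.GrQuot

/-!
# Maximal *essential extensions inside a *injective module are graded direct summands (helper39)
-/

set_option autoImplicit false
universe u

namespace Groth.Agent.Lib.Helper39

open DirectSum GrLC

section Basic
variable {ι : Type} [DecidableEq ι] {R : Type u} [CommRing R]
  {L : Type u} [AddCommGroup L] [Module R L] (𝓛 : ι → AddSubgroup L) [DirectSum.Decomposition 𝓛]
  {N : Type u} [AddCommGroup N] [Module R N] (𝒩 : ι → AddSubgroup N) [DirectSum.Decomposition 𝒩]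

theorem isHomogeneous_inf {P X : Submodule R L} (hP : P.IsHomogeneous 𝓛) (hX : X.IsHomogeneous 𝓛) :
    (P ⊓ X).IsHomogeneous 𝓛 :=
  fun i _ hx => ⟨hP i hx.1, hX i hx.2⟩

theorem isHomogeneous_bot : (⊥ : Submodule R L).IsHomogeneous 𝓛 := by
  intro i x hx
  rw [Submodule.mem_bot] at hx
  rw [hx, decompose_zero]
  exact Submodule.zero_mem _

theorem IsGrHom.comap_isHomogeneous {f : L →ₗ[R] N} (hf : IsGrHom 𝓛 𝒩 f) {P : Submodule R N}
    (hP : P.IsHomogeneous 𝒩) : (P.comap f).IsHomogeneous 𝓛 := by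
  intro i x hx
  show f (decompose 𝓛 x i : L) ∈ P
  rw [← IsGrHom.decompose_apply 𝓛 𝒩 hf]
  exact hP i hx

theorem isHomogeneous_sSup_of_directed {c : Set (Submodule R L)} (hne : c.Nonempty)
    (hdir : DirectedOn (· ≤ ·) c) (hc : ∀ X ∈ c, X.IsHomogeneous 𝓛) :
    (sSup c).IsHomogeneous 𝓛 := by
  intro i x hx
  obtain ⟨Q', hQ'c, hxQ'⟩ := (Submodule.mem_sSup_of_directed hne hdir).mp hx
  exact (Submodule.mem_sSup_of_directed hne hdir).mpr ⟨Q', hQ'c, hc Q' hQ'c i hxQ'⟩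

/-- a nonzero homogeneous submodule contains a nonzero homogeneous element -/
theorem exists_homogeneous_mem_ne_zero {P : Submodule R L} (hP : P.IsHomogeneous 𝓛) (hne : P ≠ ⊥) :
    ∃ (i : ι) (z : L), z ∈ 𝓛 i ∧ z ∈ P ∧ z ≠ 0 := by
  classical
  obtain ⟨y, hy, hy0⟩ := (Submodule.ne_bot_iff _).mp hne
  by_contra hcon
  push Not at hcon
  apply hy0
  rw [← sum_support_decompose 𝓛 y]
  apply Finset.sum_eq_zero
  intro i _
  exact hcon i _ (SetLike.coe_mem _) (hP i hy)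

end Basic

section Span
variable {ι : Type} [AddCommGroup ι] [DecidableEq ι] {R : Type u} [CommRing R]
  (𝒜 : ι → AddSubgroup R) [GradedRing 𝒜]
  {L : Type u} [AddCommGroup L] [Module R L] (𝓛 : ι → AddSubgroup L) [DirectSum.Decomposition 𝓛]
  [SetLike.GradedSMul 𝒜 𝓛]

include 𝒜 in
/-- the submodule generated by a homogeneous element is homogeneous -/
theorem span_singleton_isHomogeneous {k : ι} {z : L} (hz : z ∈ 𝓛 k) :
    (Submodule.span R {z}).IsHomogeneous 𝓛 := by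
  classical
  intro i w hw
  obtain ⟨c, rfl⟩ := Submodule.mem_span_singleton.mp hw
  have h1 : c • z = ∑ j ∈ (decompose 𝒜 c).support, (decompose 𝒜 c j : R) • z := by
    conv_lhs => rw [← sum_support_decompose 𝒜 c]
    rw [Finset.sum_smul]
  rw [h1, decompose_sum, DFinsupp.finsetSum_apply, AddSubmonoidClass.coe_finsetSum]
  apply Submodule.sum_mem
  intro j _
  have hmem : (decompose 𝒜 c j : R) • z ∈ 𝓛 (j + k) :=
    SetLike.GradedSMul.smul_mem (A := 𝒜) (B := 𝓛) (i := j) (j := k)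
      (SetLike.coe_mem (decompose 𝒜 c j)) hz
  by_cases hjk : j + k = i
  · rw [← hjk, decompose_of_mem_same 𝓛 hmem]
    exact Submodule.smul_mem _ _ (Submodule.mem_span_singleton_self z)
  · rw [decompose_of_mem_ne 𝓛 hmem hjk]
    exact Submodule.zero_mem _

end Span

section Main
variable {ι : Type} [AddCommGroup ι] [DecidableEq ι] {R : Type u} [CommRing R]
  (𝒜 : ι → AddSubgroup R) [GradedRing 𝒜]
  {I : Type u} [AddCommGroup I] [Module R I] (ℐ : ι → AddSubgroup I) [DirectSum.Decomposition ℐ]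
  [SetLike.GradedSMul 𝒜 ℐ]

/-- `X` is a *essential extension of `M₀` inside `I`. -/
def IsEssOver (M₀ X : Submodule R I) : Prop :=
  ∀ P : Submodule R I, P.IsHomogeneous ℐ → P ≤ X → P ≠ ⊥ → P ⊓ M₀ ≠ ⊥

include 𝒜 in
theorem exists_max_essOver (M₀ : Submodule R I) (hM₀ : M₀.IsHomogeneous ℐ) :
    ∃ X : Submodule R I, M₀ ≤ X ∧
      Maximal (fun X : Submodule R I => X.IsHomogeneous ℐ ∧ IsEssOver ℐ M₀ X) X := by
  refine zorn_le_nonempty₀ {X : Submodule R I | X.IsHomogeneous ℐ ∧ IsEssOver ℐ M₀ X} ?_ M₀ ⟨hM₀, ?_⟩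
  · intro c hc hchain y hy
    have hne : c.Nonempty := ⟨y, hy⟩
    have hdir : DirectedOn (· ≤ ·) c := hchain.directedOn
    refine ⟨sSup c, ⟨isHomogeneous_sSup_of_directed ℐ hne hdir (fun X hX => (hc hX).1), ?_⟩,
      fun z hz => le_sSup hz⟩
    intro P hPhom hPle hPne
    obtain ⟨i, z, hzi, hzP, hz0⟩ := exists_homogeneous_mem_ne_zero ℐ hPhom hPne
    obtain ⟨X, hXc, hzX⟩ := (Submodule.mem_sSup_of_directed hne hdir).mp (hPle hzP)
    have h1 := (hc hXc).2 (Submodule.span R {z}) (span_singleton_isHomogeneous 𝒜 ℐ hzi)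
      ((Submodule.span_singleton_le_iff_mem z X).mpr hzX)
      (by
        intro h
        apply hz0
        have : z ∈ (⊥ : Submodule R I) := h ▸ Submodule.mem_span_singleton_self z
        exact (Submodule.mem_bot R).mp this)
    intro hbot
    apply h1
    rw [eq_bot_iff, ← hbot]
    exact inf_le_inf_right _ ((Submodule.span_singleton_le_iff_mem z P).mpr hzP)
  · intro P _ hPle hPne
    rwa [inf_eq_left.mpr hPle]

theorem exists_max_disjoint (X : Submodule R I) :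
    ∃ Q : Submodule R I,
      Maximal (fun Q : Submodule R I => Q.IsHomogeneous ℐ ∧ Q ⊓ X = ⊥) Q := by
  have hz := zorn_le_nonempty₀ {Q : Submodule R I | Q.IsHomogeneous ℐ ∧ Q ⊓ X = ⊥} (by
    intro c hc hchain y hy
    have hne : c.Nonempty := ⟨y, hy⟩
    have hdir : DirectedOn (· ≤ ·) c := hchain.directedOn
    refine ⟨sSup c, ⟨isHomogeneous_sSup_of_directed ℐ hne hdir (fun X hX => (hc hX).1), ?_⟩,
      fun z hz => le_sSup hz⟩
    rw [eq_bot_iff]
    rintro x ⟨hx, hxM⟩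
    obtain ⟨Q', hQ'c, hxQ'⟩ := (Submodule.mem_sSup_of_directed hne hdir).mp hx
    have : x ∈ Q' ⊓ X := ⟨hxQ', hxM⟩
    rw [(hc hQ'c).2] at this
    exact this) ⊥ ⟨isHomogeneous_bot ℐ, bot_inf_eq _⟩
  obtain ⟨Q, _, hQ⟩ := hz
  exact ⟨Q, hQ⟩

/-- Inside a *injective graded module `I`, any homogeneous submodule `M₀` has a *injective envelope
which is a graded direct summand: there are a homogeneous `Q` and a graded retraction pair
`π = mkQ : I → I ⧸ Q`, `θ : I ⧸ Q → I` with `π ∘ θ = id`, `θ ∘ π = id` on `M₀`, `I ⧸ Q` *injective and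
*essential over the image of `M₀`. -/
theorem exists_hull_summand (hI : IsStarInj 𝒜 ℐ) (M₀ : Submodule R I) (hM₀ : M₀.IsHomogeneous ℐ) :
    ∃ (Q : Submodule R I) (hQ : Q.IsHomogeneous ℐ) (θ : (I ⧸ Q) →ₗ[R] I),
      IsGrHom (quotPieces ℐ Q) ℐ θ ∧ Q.mkQ ∘ₗ θ = LinearMap.id ∧ (∀ x ∈ M₀, θ (Q.mkQ x) = x) ∧
      IsCompl (LinearMap.range θ) Q ∧
      (letI := quotDecomposition ℐ Q hQ
       haveI := quotGradedSMul 𝒜 ℐ Q
       IsStarInj 𝒜 (quotPieces ℐ Q) ∧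
       ∀ P : Submodule R (I ⧸ Q), P.IsHomogeneous (quotPieces ℐ Q) → P ≠ ⊥ →
        P ⊓ M₀.map Q.mkQ ≠ ⊥) := by
  obtain ⟨X, hM₀X, hXmax⟩ := exists_max_essOver 𝒜 ℐ M₀ hM₀
  obtain ⟨hXhom, hXess⟩ := hXmax.prop
  obtain ⟨Q, hQmax⟩ := exists_max_disjoint ℐ X
  obtain ⟨hQhom, hQX⟩ := hQmax.prop
  refine ⟨Q, hQhom, ?_⟩
  let decN := quotDecomposition ℐ Q hQhom
  have smulN := quotGradedSMul 𝒜 ℐ Q
  -- Claim A
  have claimA : ∀ P : Submodule R (I ⧸ Q), P.IsHomogeneous (quotPieces ℐ Q) → P ≠ ⊥ →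
      ∃ x ∈ X, x ≠ 0 ∧ Q.mkQ x ∈ P := by
    intro P hPhom hPne
    have hQ''hom : (P.comap Q.mkQ).IsHomogeneous ℐ :=
      IsGrHom.comap_isHomogeneous ℐ (quotPieces ℐ Q) (isGrHom_mkQ ℐ Q) hPhom
    have hQle : Q ≤ P.comap Q.mkQ := by
      intro x hx
      show Q.mkQ x ∈ P
      rw [Submodule.mkQ_apply, (Submodule.Quotient.mk_eq_zero Q).mpr hx]
      exact Submodule.zero_mem _
    have hne : P.comap Q.mkQ ≠ Q := by
      intro h
      apply hPne
      rw [eq_bot_iff]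
      intro y hy
      obtain ⟨x, rfl⟩ := Q.mkQ_surjective y
      have hx : x ∈ P.comap Q.mkQ := hy
      rw [h] at hx
      rw [Submodule.mkQ_apply, (Submodule.Quotient.mk_eq_zero Q).mpr hx]
      exact Submodule.zero_mem _
    have hmeet : P.comap Q.mkQ ⊓ X ≠ ⊥ := by
      intro hbot
      have h1 : P.comap Q.mkQ ≤ Q := hQmax.le_of_ge ⟨hQ''hom, hbot⟩ hQle
      exact hne (le_antisymm h1 hQle)
    obtain ⟨x, hx, hx0⟩ := (Submodule.ne_bot_iff _).mp hmeet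
    exact ⟨x, hx.2, hx0, hx.1⟩
  have hmk_ne : ∀ x ∈ X, x ≠ 0 → Q.mkQ x ≠ 0 := by
    intro x hx hx0 h
    rw [Submodule.mkQ_apply, Submodule.Quotient.mk_eq_zero] at h
    have : x ∈ Q ⊓ X := ⟨h, hx⟩
    rw [hQX] at this
    exact hx0 this
  -- the retraction θ
  let decN' := quotDecomposition ℐ X hXhom
  have smulN' := quotGradedSMul 𝒜 ℐ X
  let decP := prodDecomposition (quotPieces ℐ Q) (quotPieces ℐ X)
  have smulP := prodGradedSMul 𝒜 (quotPieces ℐ Q) (quotPieces ℐ X)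
  let F : I →ₗ[R] (I ⧸ Q) × (I ⧸ X) := LinearMap.prod Q.mkQ X.mkQ
  have hFgr : IsGrHom ℐ (prodPieces (quotPieces ℐ Q) (quotPieces ℐ X)) F :=
    fun i y hy => ⟨isGrHom_mkQ ℐ Q i y hy, isGrHom_mkQ ℐ X i y hy⟩
  have hFinj : Function.Injective F := by
    rw [← LinearMap.ker_eq_bot, eq_bot_iff]
    intro y hy
    have h1 : F y = 0 := hy
    have h2 : Q.mkQ y = 0 := congrArg Prod.fst h1
    have h3 : X.mkQ y = 0 := congrArg Prod.snd h1
    rw [Submodule.mkQ_apply, Submodule.Quotient.mk_eq_zero] at h2 h3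
    have : y ∈ Q ⊓ X := ⟨h2, h3⟩
    rw [hQX] at this
    exact this
  obtain ⟨h, hhgr, hh⟩ : ∃ h : (I ⧸ Q) × (I ⧸ X) →ₗ[R] I,
      IsGrHom (prodPieces (quotPieces ℐ Q) (quotPieces ℐ X)) ℐ h ∧ h ∘ₗ F = LinearMap.id :=
    hI (GMod.of 𝒜 I ℐ)
      (GMod.of 𝒜 ((I ⧸ Q) × (I ⧸ X)) (prodPieces (quotPieces ℐ Q) (quotPieces ℐ X))) F hFgr hFinj
      LinearMap.id (fun _ _ hm => hm)
  let θ : (I ⧸ Q) →ₗ[R] I := h ∘ₗ LinearMap.inl R (I ⧸ Q) (I ⧸ X)
  have hθgr : IsGrHom (quotPieces ℐ Q) ℐ θ :=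
    fun i n hn => hhgr i _ (isGrHom_inl (quotPieces ℐ Q) (quotPieces ℐ X) i n hn)
  have hθX : ∀ x ∈ X, θ (Q.mkQ x) = x := by
    intro x hx
    have h1 : h (F x) = x := LinearMap.congr_fun hh x
    have h2 : F x = LinearMap.inl R (I ⧸ Q) (I ⧸ X) (Q.mkQ x) := by
      have : X.mkQ x = 0 := by
        rw [Submodule.mkQ_apply, Submodule.Quotient.mk_eq_zero]
        exact hx
      ext
      · rfl
      · simp [F, this]
    rw [h2] at h1
    exact h1
  have hθinj : Function.Injective θ := by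
    rw [← LinearMap.ker_eq_bot]
    by_contra hne
    have hhom : (LinearMap.ker θ).IsHomogeneous (quotPieces ℐ Q) :=
      IsGrHom.ker_isHomogeneous (quotPieces ℐ Q) ℐ hθgr
    obtain ⟨x, hxX, hx0, hxk⟩ := claimA _ hhom hne
    have h1 : θ (Q.mkQ x) = 0 := hxk
    rw [hθX x hxX] at h1
    exact hx0 h1
  have hXY : X ≤ LinearMap.range θ := fun x hx => ⟨Q.mkQ x, hθX x hx⟩
  have hYhom : (LinearMap.range θ).IsHomogeneous ℐ :=
    IsGrHom.range_isHomogeneous (quotPieces ℐ Q) ℐ hθgr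
  have hYess : IsEssOver ℐ M₀ (LinearMap.range θ) := by
    intro P hPhom hPY hPne
    have hP'hom : (P.comap θ).IsHomogeneous (quotPieces ℐ Q) :=
      IsGrHom.comap_isHomogeneous (quotPieces ℐ Q) ℐ hθgr hPhom
    have hP'ne : P.comap θ ≠ ⊥ := by
      obtain ⟨y, hy, hy0⟩ := (Submodule.ne_bot_iff _).mp hPne
      obtain ⟨n, rfl⟩ := hPY hy
      intro hbot
      have : n ∈ P.comap θ := hy
      rw [hbot] at this
      apply hy0
      rw [(Submodule.mem_bot R).mp this, map_zero]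
    obtain ⟨x, hxX, hx0, hxP'⟩ := claimA _ hP'hom hP'ne
    have hxP : x ∈ P := by
      have : θ (Q.mkQ x) ∈ P := hxP'
      rwa [hθX x hxX] at this
    have h1 := hXess (P ⊓ X) (isHomogeneous_inf ℐ hPhom hXhom) inf_le_right
      (by
        intro hbot
        have : x ∈ P ⊓ X := ⟨hxP, hxX⟩
        rw [hbot] at this
        exact hx0 this)
    intro hbot
    apply h1
    rw [eq_bot_iff, ← hbot]
    exact inf_le_inf_right _ inf_le_left
  have hYX : LinearMap.range θ ≤ X := hXmax.le_of_ge ⟨hYhom, hYess⟩ hXY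
  have hπθ : ∀ n, Q.mkQ (θ n) = n := by
    intro n
    have hx : θ n ∈ X := hYX ⟨n, rfl⟩
    exact hθinj (hθX _ hx)
  refine ⟨θ, hθgr, LinearMap.ext hπθ, fun x hx => hθX x (hM₀X hx), ?_, ?_, ?_⟩
  · constructor
    · rw [disjoint_iff, eq_bot_iff]
      rintro y ⟨hy1, hy2⟩
      have : y ∈ Q ⊓ X := ⟨hy2, hYX hy1⟩
      rw [hQX] at this
      exact this
    · rw [codisjoint_iff, eq_top_iff]
      intro y _
      have h1 : y = θ (Q.mkQ y) + (y - θ (Q.mkQ y)) := by abel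
      rw [h1]
      refine Submodule.add_mem_sup ⟨_, rfl⟩ ?_
      rw [← Submodule.Quotient.mk_eq_zero Q, ← Submodule.mkQ_apply, map_sub, hπθ, sub_self]
  · -- *injective as a retract
    intro A B f hf hfinj g hg
    obtain ⟨h', hh'gr, hh'⟩ : ∃ h' : B.carrier →ₗ[R] I, IsGrHom B.gr ℐ h' ∧ h' ∘ₗ f = θ ∘ₗ g :=
      hI A B f hf hfinj (θ ∘ₗ g) (fun i a ha => hθgr i _ (hg i a ha))
    refine ⟨Q.mkQ ∘ₗ h', fun i b hb => isGrHom_mkQ ℐ Q i _ (hh'gr i b hb), ?_⟩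
    ext a
    have := LinearMap.congr_fun hh' a
    simp only [LinearMap.comp_apply] at this ⊢
    rw [this, hπθ]
  · intro P hPhom hPne
    obtain ⟨x, hxX, hx0, hxP⟩ := claimA P hPhom hPne
    have hP'hom : (P.comap Q.mkQ).IsHomogeneous ℐ :=
      IsGrHom.comap_isHomogeneous ℐ (quotPieces ℐ Q) (isGrHom_mkQ ℐ Q) hPhom
    have h1 := hXess (P.comap Q.mkQ ⊓ X) (isHomogeneous_inf ℐ hP'hom hXhom) inf_le_right
      (by
        intro hbot
        have : x ∈ P.comap Q.mkQ ⊓ X := ⟨hxP, hxX⟩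
        rw [hbot] at this
        exact hx0 this)
    obtain ⟨z, hz, hz0⟩ := (Submodule.ne_bot_iff _).mp h1
    obtain ⟨⟨hzP, hzX⟩, hzM⟩ := hz
    intro hbot
    have : Q.mkQ z ∈ P ⊓ M₀.map Q.mkQ := ⟨hzP, z, hzM, rfl⟩
    rw [hbot] at this
    exact hmk_ne z hzX hz0 this

end Main

end Groth.Agent.Lib.Helper39
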