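import Mathlib.Algebra.Homology.DerivedCategory.Ext.ExactSequences
import Mathlib.Algebra.Homology.DerivedCategory.Ext.EnoughProjectives
import Mathlib.Algebra.Category.ModuleCat.Ext.HasExt
import Mathlib.Algebra.Category.ModuleCat.Projective
import Mathlib.Algebra.Homology.ShortComplex.ModuleCat
import Groth.Agent.Lib.Helper39.GrHomComp
import Groth.Agent.Lib.Helper39.GrQuot
import Groth.Agent.Lib.Helper39.GrSummand
import Groth.Agent.Lib.Helper39.GrAss

/-!
# Vanishing of `Ext^i(M, I)` for `I` *injective and `M` finitely generated graded (helper39)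
-/

set_option autoImplicit false
universe u

namespace Groth.Agent.Lib.Helper39

open CategoryTheory Abelian DirectSum GrLC

section Hom
variable {R : Type u} [CommRing R]

/-- two-out-of-three for the vanishing of `Ext(-, Y)` -/
theorem ext_subsingleton_of_shortExact {S : ShortComplex (ModuleCat.{u} R)} (hS : S.ShortExact)
    (Y : ModuleCat.{u} R) (m : ℕ) (h₁ : Subsingleton (Ext.{u} S.X₁ Y m))
    (h₃ : Subsingleton (Ext.{u} S.X₃ Y m)) : Subsingleton (Ext.{u} S.X₂ Y m) := by
  refine ⟨fun a b => ?_⟩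
  have key : ∀ x₂ : Ext.{u} S.X₂ Y m, x₂ = 0 := by
    intro x₂
    obtain ⟨x₃, hx₃⟩ := Ext.contravariant_sequence_exact₂ hS Y x₂ (Subsingleton.elim _ _)
    rw [← hx₃, Subsingleton.elim x₃ 0, Ext.comp_zero]
  rw [key a, key b]

/-- dimension shifting along `0 → X₁ → P → X₃ → 0` with `P` projective -/
theorem ext_subsingleton_succ_of_shortExact {S : ShortComplex (ModuleCat.{u} R)}
    (hS : S.ShortExact) [Projective S.X₂] (Y : ModuleCat.{u} R) (n : ℕ)
    (h₁ : 1 ≤ n → Subsingleton (Ext.{u} S.X₁ Y n))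
    (h₀ : n = 0 → ∀ g : S.X₁ ⟶ Y, ∃ h : S.X₂ ⟶ Y, S.f ≫ h = g) :
    Subsingleton (Ext.{u} S.X₃ Y (n + 1)) := by
  refine ⟨fun a b => ?_⟩
  have key : ∀ x₃ : Ext.{u} S.X₃ Y (n + 1), x₃ = 0 := by
    intro x₃
    obtain ⟨x₁, hx₁⟩ := Ext.contravariant_sequence_exact₃ hS Y x₃
      (Ext.eq_zero_of_projective _) (add_comm 1 n)
    rcases Nat.eq_zero_or_pos n with hn | hn
    · subst hn
      obtain ⟨g, rfl⟩ := (Ext.mk₀_bijective S.X₁ Y).2 x₁
      obtain ⟨h, rfl⟩ := h₀ rfl g
      rw [← hx₁, ← Ext.mk₀_comp_mk₀]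
      exact hS.extClass_comp_assoc (Ext.mk₀ h)
    · have := h₁ hn
      rw [← hx₁, Subsingleton.elim x₁ 0, Ext.comp_zero]
  rw [key a, key b]

end Hom

section Main
variable {ι : Type} [AddCommGroup ι] [DecidableEq ι] {R : Type u} [CommRing R] [IsNoetherianRing R]
  (𝒜 : ι → AddSubgroup R) [GradedRing 𝒜]
  {I : Type u} [AddCommGroup I] [Module R I] (ℐ : ι → AddSubgroup I) [DirectSum.Decomposition ℐ]
  [SetLike.GradedSMul 𝒜 ℐ]

variable (I) in
/-- `Ext^{n+1}(M, I) = 0` for all finitely generated graded modules `M` -/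
def ExtVanish (n : ℕ) : Prop :=
  ∀ (M : Type u) [AddCommGroup M] [Module R M] (ℳ : ι → AddSubgroup M)
    [DirectSum.Decomposition ℳ] [SetLike.GradedSMul 𝒜 ℳ] [Module.Finite R M],
    Subsingleton (Ext.{u} (ModuleCat.of R M) (ModuleCat.of R I) (n + 1))

include ℐ in
/-- the cyclic case -/
theorem ext_subsingleton_cyclic (hI : IsStarInj 𝒜 ℐ) (n : ℕ)
    (hJ : 1 ≤ n → ∀ J : Ideal R, J.IsHomogeneous 𝒜 →
      Subsingleton (Ext.{u} (ModuleCat.of R J) (ModuleCat.of R I) n))
    {C : Type u} [AddCommGroup C] [Module R C] (φ : R →ₗ[R] C) (hφ : Function.Surjective φ)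
    (hker : (LinearMap.ker φ).IsHomogeneous 𝒜) :
    Subsingleton (Ext.{u} (ModuleCat.of R C) (ModuleCat.of R I) (n + 1)) := by
  have hS := LinearMap.shortExact_shortComplexKer hφ
  haveI : Projective (φ.shortComplexKer).X₂ :=
    (inferInstance : Projective (ModuleCat.of R R))
  refine ext_subsingleton_succ_of_shortExact hS (ModuleCat.of R I) n ?_ ?_
  · intro hn
    exact hJ hn (LinearMap.ker φ) hker
  · intro _ g
    letI decJ := subDecomposition 𝒜 (LinearMap.ker φ) hker
    haveI smulJ := subGradedSMul 𝒜 𝒜 (LinearMap.ker φ)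
    obtain ⟨h, hh⟩ := exists_extension_of_finite 𝒜 (subPieces 𝒜 (LinearMap.ker φ)) 𝒜 ℐ hI
      (LinearMap.ker φ).subtype (isGrHom_subtype 𝒜 (LinearMap.ker φ)) Subtype.val_injective g.hom
    refine ⟨ModuleCat.ofHom h, ?_⟩
    ext x
    exact LinearMap.congr_fun hh x

end Main

section Main2
variable {ι : Type} [AddCommGroup ι] [DecidableEq ι] {R : Type u} [CommRing R] [IsNoetherianRing R]
  (𝒜 : ι → AddSubgroup R) [GradedRing 𝒜]
  {I : Type u} [AddCommGroup I] [Module R I] (ℐ : ι → AddSubgroup I) [DirectSum.Decomposition ℐ]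
  [SetLike.GradedSMul 𝒜 ℐ]

include ℐ in
/-- induction on the number of homogeneous generators -/
theorem ext_subsingleton_of_generators (hI : IsStarInj 𝒜 ℐ) (n : ℕ)
    (hJ : 1 ≤ n → ∀ J : Ideal R, J.IsHomogeneous 𝒜 →
      Subsingleton (Ext.{u} (ModuleCat.of R J) (ModuleCat.of R I) n)) :
    ∀ (k : ℕ) (M : Type u) [AddCommGroup M] [Module R M] (ℳ : ι → AddSubgroup M)
      [DirectSum.Decomposition ℳ] [SetLike.GradedSMul 𝒜 ℳ] (x : Fin k → M),
      (∀ j, ∃ e, x j ∈ ℳ e) → Submodule.span R (Set.range x) = ⊤ →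
      Subsingleton (Ext.{u} (ModuleCat.of R M) (ModuleCat.of R I) (n + 1)) := by
  intro k
  induction k with
  | zero =>
    intro M _ _ ℳ _ _ x _ hspan
    have hsub : Subsingleton M := by
      rw [Set.range_eq_empty, Submodule.span_empty] at hspan
      exact (Submodule.subsingleton_iff R).mp (subsingleton_of_bot_eq_top hspan)
    haveI : Module.Projective R M := Module.Projective.of_free
    exact Ext.subsingleton_of_projective _ _ n
  | succ k ih =>
    intro M _ _ ℳ _ _ x hx hspan
    obtain ⟨e₀, he₀⟩ := hx 0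
    set M' : Submodule R M := Submodule.span R {x 0} with hM'
    have hM'h : M'.IsHomogeneous ℳ := span_singleton_isHomogeneous 𝒜 ℳ he₀
    -- the quotient
    letI decQ := quotDecomposition ℳ M' hM'h
    haveI smulQ := quotGradedSMul 𝒜 ℳ M'
    have h3 : Subsingleton (Ext.{u} (ModuleCat.of R (M ⧸ M')) (ModuleCat.of R I) (n + 1)) := by
      refine ih (M ⧸ M') (quotPieces ℳ M') (fun j => M'.mkQ (x j.succ)) ?_ ?_
      · intro j
        obtain ⟨e, he⟩ := hx j.succ
        exact ⟨e, mk_mem_quotPieces ℳ M' he⟩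
      · rw [eq_top_iff]
        rintro y -
        obtain ⟨m, rfl⟩ := M'.mkQ_surjective y
        have hm : m ∈ Submodule.span R (Set.range x) := by rw [hspan]; trivial
        induction hm using Submodule.span_induction with
        | mem z hz =>
          obtain ⟨j, rfl⟩ := hz
          refine Fin.cases ?_ (fun j' => ?_) j
          · have : M'.mkQ (x 0) = 0 := by
              rw [Submodule.mkQ_apply, Submodule.Quotient.mk_eq_zero]
              exact Submodule.mem_span_singleton_self _
            rw [this]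
            exact zero_mem _
          · exact Submodule.subset_span ⟨j', rfl⟩
        | zero => rw [map_zero]; exact zero_mem _
        | add a b _ _ ha hb => rw [map_add]; exact add_mem ha hb
        | smul r a _ ha => rw [map_smul]; exact Submodule.smul_mem _ r ha
    -- the cyclic submodule
    have h1 : Subsingleton (Ext.{u} (ModuleCat.of R M') (ModuleCat.of R I) (n + 1)) := by
      let φ : R →ₗ[R] M' := (LinearMap.toSpanSingleton R M (x 0)).codRestrict M' (fun r => by
        rw [LinearMap.toSpanSingleton_apply]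
        exact Submodule.smul_mem _ r (Submodule.mem_span_singleton_self _))
      have hφ : Function.Surjective φ := by
        rintro ⟨y, hy⟩
        obtain ⟨r, rfl⟩ := Submodule.mem_span_singleton.mp hy
        exact ⟨r, Subtype.ext (by simp [φ])⟩
      have hker : (LinearMap.ker φ).IsHomogeneous 𝒜 := by
        have h0 : LinearMap.ker φ = (Submodule.span R {x 0}).annihilator := by
          ext r
          rw [LinearMap.mem_ker, Submodule.mem_annihilator_span_singleton]
          constructor
          · intro h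
            have := congrArg Subtype.val h
            simpa [φ] using this
          · intro h
            apply Subtype.ext
            simpa [φ] using h
        rw [h0]
        exact annihilator_span_singleton_isHomogeneous 𝒜 ℳ he₀
      exact ext_subsingleton_cyclic 𝒜 ℐ hI n hJ φ hφ hker
    -- two out of three
    let S : ShortComplex (ModuleCat.{u} R) :=
      ShortComplex.moduleCatMk M'.subtype M'.mkQ (by ext; simp)
    have hS : S.ShortExact := ModuleCat.shortComplex_shortExact S
      (LinearMap.exact_subtype_mkQ M') Subtype.val_injective M'.mkQ_surjective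
    exact ext_subsingleton_of_shortExact hS (ModuleCat.of R I) (n + 1) h1 h3

include ℐ in
theorem extVanish_of (hI : IsStarInj 𝒜 ℐ) (n : ℕ)
    (hJ : 1 ≤ n → ∀ J : Ideal R, J.IsHomogeneous 𝒜 →
      Subsingleton (Ext.{u} (ModuleCat.of R J) (ModuleCat.of R I) n)) : ExtVanish 𝒜 I n := by
  intro M _ _ ℳ _ _ _
  obtain ⟨s, hs, hspan⟩ := exists_homogeneous_generators (R := R) ℳ
  classical
  let x : Fin s.card → M := fun j => (s.equivFin.symm j : M)
  refine ext_subsingleton_of_generators 𝒜 ℐ hI n hJ s.card M ℳ x ?_ ?_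
  · intro j
    exact hs _ (s.equivFin.symm j).2
  · have : Set.range x = (s : Set M) := by
      ext y
      constructor
      · rintro ⟨j, rfl⟩
        exact (s.equivFin.symm j).2
      · intro hy
        exact ⟨s.equivFin ⟨y, hy⟩, by simp [x]⟩
    rw [this, hspan]

include ℐ in
/-- **Ext vanishing**: `Ext^{n+1}(M, I) = 0` for `I` *injective and `M` finitely generated graded. -/
theorem extVanish (hI : IsStarInj 𝒜 ℐ) (n : ℕ) : ExtVanish 𝒜 I n := by
  induction n with
  | zero => exact extVanish_of 𝒜 ℐ hI 0 (fun h => absurd h (by omega))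
  | succ m ih =>
    refine extVanish_of 𝒜 ℐ hI (m + 1) (fun _ J hJh => ?_)
    letI := subDecomposition 𝒜 J hJh
    haveI := subGradedSMul 𝒜 𝒜 J
    exact ih ↥J (subPieces 𝒜 J)

end Main2

end Groth.Agent.Lib.Helper39
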