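import Groth.Agent.Lib.Helper39.GrAss

/-!
# Graded local cohomology from a *injective resolution is internally graded (helper39)
-/

set_option autoImplicit false
universe u

namespace Groth.Agent.Lib.Helper39

open DirectSum GrLC

section Gam
variable {ι : Type} [AddCommGroup ι] [DecidableEq ι] {R : Type u} [CommRing R]
  (𝒜 : ι → AddSubgroup R) [GradedRing 𝒜]
  {L : Type u} [AddCommGroup L] [Module R L] (𝓛 : ι → AddSubgroup L) [DirectSum.Decomposition 𝓛]
  [SetLike.GradedSMul 𝒜 𝓛]

/-- if a homogeneous element kills `x` then it kills every component of `x` -/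
theorem smul_decompose_eq_zero_of_mem {k : ι} {r : R} (hr : r ∈ 𝒜 k) {x : L} (hx : r • x = 0)
    (g : ι) : r • (decompose 𝓛 x g : L) = 0 := by
  classical
  have h1 : r • x = ∑ j ∈ (decompose 𝓛 x).support, r • (decompose 𝓛 x j : L) := by
    conv_lhs => rw [← sum_support_decompose 𝓛 x]
    rw [Finset.smul_sum]
  have hmem : ∀ j, r • (decompose 𝓛 x j : L) ∈ 𝓛 (k + j) :=
    fun j => SetLike.GradedSMul.smul_mem (A := 𝒜) (B := 𝓛) hr (SetLike.coe_mem _)
  by_cases hg : g ∈ (decompose 𝓛 x).support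
  · rw [h1] at hx
    exact Groth.Agent.S13211.eq_zero_of_sum_eq_zero 𝓛 _ (fun j => k + j)
      (fun a _ b _ hab => add_left_cancel hab) (fun j => r • (decompose 𝓛 x j : L))
      (fun j _ => hmem j) hx g hg
  · rw [DFinsupp.mem_support_iff, not_not] at hg
    rw [hg]
    simp

/-- if a homogeneous ideal kills `x` then it kills every component of `x` -/
theorem smul_decompose_eq_zero_of_ideal {J : Ideal R} (hJ : J.IsHomogeneous 𝒜) {x : L}
    (hx : ∀ r ∈ J, r • x = 0) (g : ι) : ∀ r ∈ J, r • (decompose 𝓛 x g : L) = 0 := by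
  classical
  intro r hr
  rw [← sum_support_decompose 𝒜 r, Finset.sum_smul]
  apply Finset.sum_eq_zero
  intro k _
  exact smul_decompose_eq_zero_of_mem 𝒜 𝓛 (SetLike.coe_mem _) (hx _ (hJ k hr)) g

theorem isHomogeneous_pow {J : Ideal R} (hJ : J.IsHomogeneous 𝒜) (n : ℕ) :
    (J ^ n).IsHomogeneous 𝒜 := by
  induction n with
  | zero =>
    rw [pow_zero, Ideal.one_eq_top]
    exact Ideal.IsHomogeneous.top 𝒜
  | succ n ih =>
    rw [pow_succ]
    exact ih.mul hJ

/-- the torsion submodule of a homogeneous ideal is homogeneous -/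
theorem gam_isHomogeneous (a : HomogeneousIdeal 𝒜) : (GrLC.gam a.toIdeal L).IsHomogeneous 𝓛 := by
  rintro g x ⟨n, hn⟩
  exact ⟨n, smul_decompose_eq_zero_of_ideal 𝒜 𝓛 (isHomogeneous_pow 𝒜 a.isHomogeneous n) hn g⟩

end Gam

section HGr
variable {ι : Type} [AddCommGroup ι] [DecidableEq ι] {R : Type u} [CommRing R]
  {𝒜 : ι → AddSubgroup R} [GradedRing 𝒜]
  {M : Type u} [AddCommGroup M] [Module R M] {ℳ : ι → AddSubgroup M} [DirectSum.Decomposition ℳ]
  [SetLike.GradedSMul 𝒜 ℳ] (E : GrLC.StarInjRes 𝒜 ℳ) (a : HomogeneousIdeal 𝒜)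

theorem cocyc_isHomogeneous (i : ℕ) : (E.cocyc a i).IsHomogeneous (E.X i).gr :=
  isHomogeneous_inf (E.X i).gr (gam_isHomogeneous 𝒜 (E.X i).gr a)
    (IsGrHom.ker_isHomogeneous (E.X i).gr (E.X (i + 1)).gr (E.d_grHom i))

theorem cobdy_isHomogeneous (i : ℕ) : (E.cobdy a i).IsHomogeneous (E.X i).gr := by
  cases i with
  | zero => exact isHomogeneous_bot (E.X 0).gr
  | succ n =>
    exact IsGrHom.map_isHomogeneous (E.X n).gr (E.X (n + 1)).gr (E.d_grHom n)
      (gam_isHomogeneous 𝒜 (E.X n).gr a)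

theorem toH_eq_zero_iff (i : ℕ) (z : E.cocyc a i) :
    E.toH a i z = 0 ↔ (z : (E.X i).carrier) ∈ E.cobdy a i := by
  rw [Submodule.mkQ_apply, Submodule.Quotient.mk_eq_zero]
  rfl

theorem mem_Hgr_iff (i : ℕ) (g : ι) (x : E.H a i) :
    x ∈ E.Hgr a i g ↔ ∃ z : E.cocyc a i, (z : (E.X i).carrier) ∈ (E.X i).gr g ∧ E.toH a i z = x :=
  Iff.rfl

/-- graded local cohomology computed from a *injective resolution is internally graded -/
theorem Hgr_isInternal (i : ℕ) : DirectSum.IsInternal (E.Hgr a i) := by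
  classical
  constructor
  · -- injective
    rw [injective_iff_map_eq_zero]
    intro x hx
    -- choose representatives
    have hrep : ∀ g, ∃ z : E.cocyc a i, (z : (E.X i).carrier) ∈ (E.X i).gr g ∧
        E.toH a i z = (x g : E.H a i) := fun g => (mem_Hgr_iff E a i g _).mp (x g).2
    choose z hzg hzx using hrep
    rw [DirectSum.coeAddMonoidHom_eq_dfinsuppSum] at hx
    have h1 : E.toH a i (∑ g ∈ x.support, z g) = 0 := by
      rw [map_sum, ← hx]
      exact Finset.sum_congr rfl (fun g _ => hzx g)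
    rw [toH_eq_zero_iff, Submodule.coe_sum] at h1
    ext g
    by_cases hg : g ∈ x.support
    · have h2 := cobdy_isHomogeneous E a i g h1
      have key : (decompose (E.X i).gr (∑ k ∈ x.support, ((z k : E.cocyc a i) : (E.X i).carrier)) g :
          (E.X i).carrier) = ((z g : E.cocyc a i) : (E.X i).carrier) :=
        Groth.Agent.S13211.decompose_sum_apply (E.X i).gr x.support id (Set.injOn_id _)
          (fun g => ((z g : E.cocyc a i) : (E.X i).carrier)) (fun g _ => hzg g) g hg
      rw [key] at h2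
      have h3 : E.toH a i (z g) = 0 := (toH_eq_zero_iff E a i (z g)).mpr h2
      rw [hzx g] at h3
      rw [DirectSum.zero_apply, h3]
      rfl
    · rw [DFinsupp.mem_support_iff, not_not] at hg
      rw [hg]
      rfl
  · -- surjective
    intro y
    obtain ⟨z, rfl⟩ := Submodule.mkQ_surjective _ y
    have hcomp : ∀ g, (decompose (E.X i).gr (z : (E.X i).carrier) g : (E.X i).carrier) ∈ E.cocyc a i :=
      fun g => cocyc_isHomogeneous E a i g z.2
    let w : ι → E.cocyc a i := fun g => ⟨_, hcomp g⟩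
    have hw : ∀ g, E.toH a i (w g) ∈ E.Hgr a i g := fun g => ⟨w g, SetLike.coe_mem _, rfl⟩
    refine ⟨∑ g ∈ (decompose (E.X i).gr (z : (E.X i).carrier)).support,
      DirectSum.of (fun g => E.Hgr a i g) g ⟨E.toH a i (w g), hw g⟩, ?_⟩
    rw [map_sum]
    simp only [DirectSum.coeAddMonoidHom_of]
    rw [← map_sum]
    congr 1
    apply Subtype.ext
    rw [Submodule.coe_sum]
    exact sum_support_decompose (E.X i).gr (z : (E.X i).carrier)

end HGr

end Groth.Agent.Lib.Helper39
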