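import Groth.Agent.S17770
import Groth.Agent.S14424
import Groth.Agent.S13224
import Groth.Agent.Lib.Helper39.GrHeightArt
import Groth.Agent.Lib.Helper60.LocalCohDepth

/-!
# The a-invariant and the Hilbert function of a Cohen–Macaulay standard graded ring (helper39)

`R` standard graded, `R_0` Artinian, *local with *maximal ideal `m`, Cohen–Macaulay of dimension `d`.
* `H_subsingleton_of_cm`: `H^i_m(R) = 0` for `i < d`;
* `formula`: `H_R(n) - P_R(n) = (-1)^d ℓ(H^d_m(R)_n)` for every `n`;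
* `Hgr_ne_bot_iff`: `H^d_m(R)_n ≠ 0 ↔ P_R(n) ≠ H_R(n)`.
-/

set_option autoImplicit false
universe u

namespace Groth.Agent.Lib.Helper39.GrAInvHilb

open DirectSum GrLC Groth.Agent.Lib.Helper39

variable (R : Type u) [CommRing R] [LocCoh.IsCohenMacaulayRing R] (𝒜 : ℤ → AddSubgroup R)
  [GradedRing 𝒜] (hpos : ∀ n : ℤ, n < 0 → 𝒜 n = ⊥) [IsArtinianRing (GrLC.deg0 𝒜)]
  (m : HomogeneousIdeal 𝒜) (hm : GrLC.IsStarLocal 𝒜 m) (d : ℕ) (hd : ringKrullDim R = d)
  (I : GrLC.StarInjRes 𝒜 𝒜)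

include hpos hm hd in
theorem H_subsingleton_of_cm (i : ℕ) (hi : i < d) : Subsingleton (I.H m i) := by
  have hne : m.toIdeal ≠ ⊤ := (GrStarLocal.isMaximal hpos hm).ne_top
  have hht := GrHeightArt.height_star_eq 𝒜 hpos hm
  have hht' : m.toIdeal.height = (d : ℕ∞) := by
    rw [hd] at hht
    exact_mod_cast hht
  have hdepth : LocCoh.idealDepth m.toIdeal R = (d : ℕ∞) := by
    rw [(Groth.Agent.S14424.result R).mp inferInstance m.toIdeal hne, hht']
  have hsm : m.toIdeal • (⊤ : Submodule R R) ≠ ⊤ := by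
    rw [smul_eq_mul, Ideal.mul_top]
    exact hne
  have h := ((Groth.Agent.Lib.Helper60.idealDepth_eq_iff_lc m.toIdeal R hsm d).mp hdepth).1 i hi
  obtain ⟨e⟩ := Groth.Agent.S13224.result R 𝒜 m R 𝒜 I i
  have h' : Subsingleton (LocCoh.H m.toIdeal i R) := h
  exact e.toEquiv.subsingleton

include hpos hm in
theorem length_Hcomp_ne_top (k : ℕ) (n : ℤ) :
    Module.length (GrLC.deg0 𝒜) (I.Hcomp m k n) ≠ ⊤ := by
  have hgam : ∀ (X : Type u) [AddCommGroup X] [Module R X],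
      GrLC.gam m.toIdeal X = GrLC.gam (GrStarLocal.irr 𝒜).toIdeal X :=
    fun X _ _ => GrStarLocal.gam_eq_irr hpos hm X
  rw [GrSerre.length_piece_eq (GrLC.deg0 𝒜) (GrHcongr.Hcongr I hgam k) (I.Hcomp m k n)
    (I.Hcomp (GrStarLocal.irr 𝒜) k n) (GrHcongr.Hcongr_mem_iff I hgam k n)]
  exact GrSerre.length_Hcomp_ne_top hpos (GrStarLocal.irr 𝒜) rfl I k n

variable (hstd : Ideal.span (⋃ n ∈ Set.Ioi (0 : ℤ), (𝒜 n : Set R)) =
    Ideal.span ((𝒜 1 : AddSubgroup R) : Set R))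
  (P : Polynomial ℚ) (hP : ∃ N : ℤ, ∀ n : ℤ, N ≤ n →
    P.eval (n : ℚ) = ((Module.length (GrLC.deg0 𝒜) (GrLC.comp 𝒜 𝒜 n)).toNat : ℚ))

include hpos hm hd hstd hP in
theorem formula (n : ℤ) :
    ((Module.length (GrLC.deg0 𝒜) (GrLC.comp 𝒜 𝒜 n)).toNat : ℚ) - P.eval (n : ℚ) =
      (-1 : ℚ) ^ d * ((Module.length (GrLC.deg0 𝒜) (I.Hcomp m d n)).toNat : ℚ) := by
  rw [Groth.Agent.S17770.result R 𝒜 hpos hstd m hm d hd R 𝒜 I P hP n]
  apply Finset.sum_eq_single d
  · intro i hi hid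
    have hlt : i < d := by
      have := Finset.mem_range.mp hi
      omega
    haveI := H_subsingleton_of_cm R 𝒜 hpos m hm d hd I i hlt
    have : Module.length (GrLC.deg0 𝒜) (I.Hcomp m i n) = 0 := by
      rw [Module.length_eq_zero_iff]
      exact ⟨fun x y => Subtype.ext (Subsingleton.elim _ _)⟩
    rw [this]
    simp
  · intro h
    exact absurd (Finset.mem_range.mpr (Nat.lt_succ_self d)) h

include hpos hm hd hstd hP in
theorem Hgr_ne_bot_iff (n : ℤ) :
    I.Hgr m d n ≠ ⊥ ↔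
      P.eval (n : ℚ) ≠ ((Module.length (GrLC.deg0 𝒜) (GrLC.comp 𝒜 𝒜 n)).toNat : ℚ) := by
  have hf := formula R 𝒜 hpos m hm d hd I hstd P hP n
  have hfin := length_Hcomp_ne_top R 𝒜 hpos m hm I d n
  have h1 : I.Hgr m d n = ⊥ ↔ I.Hcomp m d n = ⊥ := by
    unfold GrLC.StarInjRes.Hgr
    rw [← Submodule.bot_toAddSubgroup (R := GrLC.deg0 𝒜)]
    exact Submodule.toAddSubgroup_injective.eq_iff
  have h2 : I.Hcomp m d n = ⊥ ↔ Module.length (GrLC.deg0 𝒜) (I.Hcomp m d n) = 0 := by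
    rw [Module.length_eq_zero_iff, Submodule.subsingleton_iff_eq_bot]
  have h3 : Module.length (GrLC.deg0 𝒜) (I.Hcomp m d n) = 0 ↔
      (Module.length (GrLC.deg0 𝒜) (I.Hcomp m d n)).toNat = 0 := by
    rw [ENat.toNat_eq_zero]
    constructor
    · intro h; exact Or.inl h
    · rintro (h | h)
      · exact h
      · exact absurd h hfin
  rw [not_iff_not, h1, h2, h3]
  constructor
  · intro h
    rw [h] at hf
    simp only [Nat.cast_zero, mul_zero] at hf
    linarith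
  · intro h
    rw [h, sub_self] at hf
    have hpow : (-1 : ℚ) ^ d ≠ 0 := pow_ne_zero _ (by norm_num)
    rcases mul_eq_zero.mp hf.symm with h' | h'
    · exact absurd h' hpow
    · exact_mod_cast h'

end Groth.Agent.Lib.Helper39.GrAInvHilb
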