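import Groth.Agent.Lib.Helper39.GrHilbExist
import Mathlib.RingTheory.KrullDimension.Regular

/-!
# The degree of the Hilbert polynomial is at most `dim M − 1` (helper39)

`mu_le_of_supportDim_le`: for a Noetherian positively graded ring `R` with `R_0` Artinian and a
finitely generated graded module `M` with Hilbert polynomial `P`: `supportDim M ≤ D → mu P ≤ D`,
where `mu P = deg P + 1` (`0` for `P = 0`).
-/

set_option autoImplicit false
universe u

namespace Groth.Agent.Lib.Helper39.GrHilbDeg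

open DirectSum GrLC Polynomial Groth.Agent.Lib.Helper39 Groth.Agent.Lib.Helper39.GrLes
  Groth.Agent.Lib.Helper39.GrRegVanish Groth.Agent.Lib.Helper39.GrPieces
  Groth.Agent.Lib.Helper39.GrSerre Groth.Agent.Lib.Helper39.GrQuasi
  Groth.Agent.Lib.Helper39.HilbPolyAux Groth.Agent.Lib.Helper39.GrHilbExist
open scoped Pointwise

theorem wb_succ_le_succ {x : WithBot ℕ∞} {D : ℕ} (h : x + 1 ≤ ((D + 1 : ℕ) : WithBot ℕ∞)) :
    x ≤ (D : WithBot ℕ∞) := by
  induction x using WithBot.recBotCoe with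
  | bot => exact bot_le
  | coe d =>
    have h' : ((d + 1 : ℕ∞) : WithBot ℕ∞) ≤ ((D + 1 : ℕ∞) : WithBot ℕ∞) := by exact_mod_cast h
    have h'' : d + 1 ≤ (D : ℕ∞) + 1 := WithBot.coe_le_coe.mp h'
    have h4 : d ≤ (D : ℕ∞) := (ENat.add_le_add_iff_right ENat.one_ne_top).mp h''
    exact_mod_cast WithBot.coe_le_coe.mpr h4

theorem wb_succ_le_zero {x : WithBot ℕ∞} (h : x + 1 ≤ ((0 : ℕ) : WithBot ℕ∞)) : x = ⊥ := by
  induction x using WithBot.recBotCoe with
  | bot => rfl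
  | coe d =>
    exfalso
    have h' : ((d + 1 : ℕ∞) : WithBot ℕ∞) ≤ ((0 : ℕ∞) : WithBot ℕ∞) := by exact_mod_cast h
    have h'' : d + 1 ≤ (0 : ℕ∞) := WithBot.coe_le_coe.mp h'
    simp at h''

theorem eq_zero_of_eventually (P : ℚ[X]) (N : ℤ) (h : ∀ n : ℤ, N ≤ n → P.eval (n : ℚ) = 0) :
    P = 0 := by
  apply eq_of_infinite_eval_eq
  have hinj : Function.Injective (fun k : ℕ => ((N + k : ℤ) : ℚ)) := by
    intro a b hab
    have hab' : ((N + a : ℤ) : ℚ) = ((N + b : ℤ) : ℚ) := hab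
    have : (N + a : ℤ) = N + b := by exact_mod_cast hab'
    omega
  refine Set.infinite_of_injective_forall_mem hinj (fun k => ?_)
  simp only [Set.mem_setOf_eq, eval_zero]
  exact h _ (by omega)

variable {R : Type u} [CommRing R] [IsNoetherianRing R] {𝒜 : ℤ → AddSubgroup R} [GradedRing 𝒜]
  (hpos : ∀ n : ℤ, n < 0 → 𝒜 n = ⊥) [IsArtinianRing (GrLC.deg0 𝒜)]
  (a : HomogeneousIdeal 𝒜) (ha : a.toIdeal = Ideal.span (⋃ n ∈ Set.Ioi (0 : ℤ), (𝒜 n : Set R)))

attribute [local instance] shiftDecomposition shiftGradedSMul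

include hpos ha in
/-- the step for modules without `R_+`-torsion: `D = 0` (with `IH = none`) is impossible, and
`D = D' + 1` uses the induction hypothesis for `D'` -/
theorem mu_le_step (D : ℕ)
    (IH : ∀ D' : ℕ, D = D' + 1 → ∀ (M : Type u) [AddCommGroup M] [Module R M] [Module.Finite R M]
      (ℳ : ℤ → AddSubgroup M) [DirectSum.Decomposition ℳ] [SetLike.GradedSMul 𝒜 ℳ] (P : ℚ[X]),
      (∃ N : ℤ, ∀ n : ℤ, N ≤ n → P.eval (n : ℚ) = hfun 𝒜 ℳ n) →
      Module.supportDim R M ≤ D' → mu P ≤ D')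
    (M : Type u) [AddCommGroup M] [Module R M] [Module.Finite R M]
    (ℳ : ℤ → AddSubgroup M) [DirectSum.Decomposition ℳ] [SetLike.GradedSMul 𝒜 ℳ]
    (hΓ : gam a.toIdeal M = ⊥) (P : ℚ[X]) (hP0 : P ≠ 0)
    (hP : ∃ N : ℤ, ∀ n : ℤ, N ≤ n → P.eval (n : ℚ) = hfun 𝒜 ℳ n)
    (hdim : Module.supportDim R M ≤ D) : mu P ≤ D := by
  classical
  obtain ⟨e, x, he, hxe, hreg⟩ := exists_homogeneous_regular 𝒜 (M := M) a.toIdeal ha hpos hΓ
  have hQeq : x • (⊤ : Submodule R M) = LinearMap.range (x • (LinearMap.id : M →ₗ[R] M)) := by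
    ext y
    rw [Submodule.mem_smul_pointwise_iff_exists]
    constructor
    · rintro ⟨m, -, rfl⟩
      exact ⟨m, rfl⟩
    · rintro ⟨m, rfl⟩
      exact ⟨m, trivial, rfl⟩
  have hQh : (x • (⊤ : Submodule R M)).IsHomogeneous ℳ := by
    rw [hQeq]
    exact range_smul_isHomogeneous hxe
  have hKbot : LinearMap.ker (x • (LinearMap.id : M →ₗ[R] M)) = ⊥ :=
    LinearMap.ker_eq_bot.mpr hreg
  have hKh : (⊥ : Submodule R M).IsHomogeneous ℳ := by
    rw [← hKbot]
    exact ker_smul_isHomogeneous hxe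
  have hdrop : Module.supportDim R (QuotSMulTop x M) + 1 ≤ Module.supportDim R M :=
    Module.supportDim_quotSMulTop_succ_le_of_notMem_minimalPrimes
      (fun p hp => hreg.notMem_of_mem_minimalPrimes hp)
  have hxa : x ∈ a.toIdeal := mem_irrelevant_of_pos 𝒜 a.toIdeal ha he hxe
  have hQle : x • (⊤ : Submodule R M) ≤ a.toIdeal • (⊤ : Submodule R M) := by
    intro y hy
    rw [Submodule.mem_smul_pointwise_iff_exists] at hy
    obtain ⟨m, -, rfl⟩ := hy
    exact Submodule.smul_mem_smul hxa trivial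
  generalize hQdef : x • (⊤ : Submodule R M) = Q at hQh hQeq hQle
  have hdrop' : Module.supportDim R (M ⧸ Q) + 1 ≤ Module.supportDim R M := by
    rw [← hQdef]
    exact hdrop
  obtain ⟨N, hN⟩ := hP
  rcases D with _ | D'
  · -- impossible by graded Nakayama
    exfalso
    have hbot : Module.supportDim R (M ⧸ Q) = ⊥ := wb_succ_le_zero (le_trans hdrop' hdim)
    rw [Module.supportDim_eq_bot_iff_subsingleton, Submodule.Quotient.subsingleton_iff]
      at hbot
    have htop : a.toIdeal • (⊤ : Submodule R M) ⊔ ⊥ = ⊤ := by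
      rw [sup_bot_eq, eq_top_iff]
      exact le_trans (le_of_eq hbot.symm) hQle
    have := GrNak.eq_top_of_smul_sup_eq_top 𝒜 ℳ a.toIdeal ha hpos ⊥ hKh htop
    have hsub : Subsingleton M := by
      rw [← Submodule.subsingleton_iff R]
      exact subsingleton_of_bot_eq_top this
    apply hP0
    apply eq_zero_of_eventually P N
    intro n hn
    rw [hN n hn]
    apply hfun_eq_zero_of_eq_bot
    rw [eq_bot_iff]
    intro y _
    rw [AddSubgroup.mem_bot]
    exact Subsingleton.elim _ _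
  letI decQ := quotDecomposition ℳ Q hQh
  haveI smulQ := quotGradedSMul 𝒜 ℳ Q
  letI decK := subDecomposition ℳ (⊥ : Submodule R M) hKh
  haveI smulK := subGradedSMul 𝒜 ℳ (⊥ : Submodule R M)
  have hdiff := hfun_diff hpos hxe (⊥ : Submodule R M) Q hKbot.symm hQeq hKh hQh
  have hK0 : ∀ n, hfun 𝒜 (subPieces ℳ (⊥ : Submodule R M)) n = 0 := by
    intro n
    apply hfun_eq_zero_of_eq_bot
    rw [eq_bot_iff]
    intro y _
    rw [AddSubgroup.mem_bot]
    exact Subsingleton.elim _ _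
  have hfunN : ∀ n, hfun 𝒜 (quotPieces ℳ Q) n = hfun 𝒜 ℳ n - hfun 𝒜 ℳ (n + -e) := by
    intro n
    have := hdiff n
    rw [hK0, sub_zero] at this
    exact this.symm
  have hPN' : ∃ N' : ℤ, ∀ n : ℤ, N' ≤ n →
      (Δ (e : ℚ) P).eval (n : ℚ) = hfun 𝒜 (quotPieces ℳ Q) n := by
    refine ⟨N + e, fun n hn => ?_⟩
    rw [Δ_eval, hfunN, hN n (by omega), ← hN (n + -e) (by omega)]
    push_cast
    rw [sub_eq_add_neg (n : ℚ)]
  have hle := mu_le_mu_Δ_add_one (e : ℚ) (by exact_mod_cast he.ne') P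
  have h1 := IH D' rfl (M ⧸ Q) (quotPieces ℳ Q) (Δ (e : ℚ) P) hPN'
    (wb_succ_le_succ (le_trans hdrop' hdim))
  omega

include hpos ha in
/-- reduction to the torsion-free case -/
theorem mu_le_red (D : ℕ)
    (IH : ∀ D' : ℕ, D = D' + 1 → ∀ (M : Type u) [AddCommGroup M] [Module R M] [Module.Finite R M]
      (ℳ : ℤ → AddSubgroup M) [DirectSum.Decomposition ℳ] [SetLike.GradedSMul 𝒜 ℳ] (P : ℚ[X]),
      (∃ N : ℤ, ∀ n : ℤ, N ≤ n → P.eval (n : ℚ) = hfun 𝒜 ℳ n) →
      Module.supportDim R M ≤ D' → mu P ≤ D')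
    (M : Type u) [AddCommGroup M] [Module R M] [Module.Finite R M]
    (ℳ : ℤ → AddSubgroup M) [DirectSum.Decomposition ℳ] [SetLike.GradedSMul 𝒜 ℳ] (P : ℚ[X])
    (hP : ∃ N : ℤ, ∀ n : ℤ, N ≤ n → P.eval (n : ℚ) = hfun 𝒜 ℳ n)
    (hdim : Module.supportDim R M ≤ D) : mu P ≤ D := by
  classical
  by_cases hP0 : P = 0
  · subst hP0
    unfold mu
    simp
  have hT := gam_isHomogeneous 𝒜 ℳ a
  letI decT := subDecomposition ℳ (gam a.toIdeal M) hT
  haveI smulT := subGradedSMul 𝒜 ℳ (gam a.toIdeal M)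
  letI decQ := quotDecomposition ℳ (gam a.toIdeal M) hT
  haveI smulQ := quotGradedSMul 𝒜 ℳ (gam a.toIdeal M)
  have S : GrSES (subPieces ℳ (gam a.toIdeal M)) ℳ (quotPieces ℳ (gam a.toIdeal M))
      (gam a.toIdeal M).subtype (gam a.toIdeal M).mkQ :=
    { i_grHom := isGrHom_subtype ℳ (gam a.toIdeal M)
      p_grHom := isGrHom_mkQ ℳ (gam a.toIdeal M)
      i_inj := Subtype.val_injective
      p_surj := Submodule.mkQ_surjective _
      exact := by rw [Submodule.ker_mkQ, Submodule.range_subtype] }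
  haveI : IsNoetherian R M := isNoetherian_of_isNoetherianRing_of_finite R M
  haveI : Module.Finite R (gam a.toIdeal M) := Module.Finite.of_fg (IsNoetherian.noetherian _)
  have htor : ∀ x : gam a.toIdeal M, ∃ k : ℕ, ∀ r ∈ a.toIdeal ^ k, r • x = 0 := by
    rintro ⟨x, k, hk⟩
    exact ⟨k, fun r hr => Subtype.ext (hk r hr)⟩
  have e3 := hfun_ses hpos S
  obtain ⟨NT, hNT⟩ := eventually_bot_of_torsion' 𝒜 (subPieces ℳ (gam a.toIdeal M)) a.toIdeal ha htor
  have hΓ : gam a.toIdeal (M ⧸ gam a.toIdeal M) = ⊥ :=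
    Groth.Agent.Lib.Helper60.torsionSub_quotient_eq_bot a.toIdeal M
  obtain ⟨N, hN⟩ := hP
  have hPQ : ∃ N' : ℤ, ∀ n : ℤ, N' ≤ n →
      P.eval (n : ℚ) = hfun 𝒜 (quotPieces ℳ (gam a.toIdeal M)) n := by
    refine ⟨max N NT, fun n hn => ?_⟩
    rw [hN n (le_trans (le_max_left _ _) hn), e3 n,
      hfun_eq_zero_of_eq_bot (hNT n (le_trans (le_max_right _ _) hn)), zero_add]
  have hdim' : Module.supportDim R (M ⧸ gam a.toIdeal M) ≤ D :=
    le_trans (Module.supportDim_le_of_surjective (gam a.toIdeal M).mkQ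
      (Submodule.mkQ_surjective _)) hdim
  exact mu_le_step hpos a ha D IH (M ⧸ gam a.toIdeal M) (quotPieces ℳ (gam a.toIdeal M)) hΓ P hP0
    hPQ hdim'

include hpos ha in
/-- **The degree of the Hilbert polynomial is less than the dimension.** -/
theorem mu_le_of_supportDim_le : ∀ (D : ℕ) (M : Type u) [AddCommGroup M] [Module R M]
    [Module.Finite R M] (ℳ : ℤ → AddSubgroup M) [DirectSum.Decomposition ℳ]
    [SetLike.GradedSMul 𝒜 ℳ] (P : ℚ[X]),
    (∃ N : ℤ, ∀ n : ℤ, N ≤ n → P.eval (n : ℚ) = hfun 𝒜 ℳ n) →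
    Module.supportDim R M ≤ D → mu P ≤ D := by
  intro D
  induction D with
  | zero =>
    intro M _ _ _ ℳ _ _ P hP hdim
    exact mu_le_red hpos a ha 0 (fun D' h => absurd h (by omega)) M ℳ P hP hdim
  | succ D ih =>
    intro M _ _ _ ℳ _ _ P hP hdim
    refine mu_le_red hpos a ha (D + 1) (fun D' h => ?_) M ℳ P hP hdim
    have : D' = D := by omega
    subst this
    exact ih

end Groth.Agent.Lib.Helper39.GrHilbDeg
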