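import Groth.Agent.Lib.Helper39.GrAInvHilb
import Groth.Agent.Lib.Helper39.GrHilbDeg

/-!
# a-invariant and Hilbert polynomial of a CM standard graded ring, packaged (helper39)
-/

set_option autoImplicit false
universe u

namespace Groth.Agent.Lib.Helper39.GrAInvHilb

open DirectSum GrLC Polynomial Groth.Agent.Lib.Helper39 Groth.Agent.Lib.Helper39.GrSerre

variable (R : Type u) [CommRing R] [LocCoh.IsCohenMacaulayRing R] (𝒜 : ℤ → AddSubgroup R)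
  [GradedRing 𝒜] (hpos : ∀ n : ℤ, n < 0 → 𝒜 n = ⊥) [IsArtinianRing (GrLC.deg0 𝒜)]
  (m : HomogeneousIdeal 𝒜) (hm : GrLC.IsStarLocal 𝒜 m) (d : ℕ) (hd : ringKrullDim R = d)
  (I : GrLC.StarInjRes 𝒜 𝒜)
  (hstd : Ideal.span (⋃ n ∈ Set.Ioi (0 : ℤ), (𝒜 n : Set R)) =
    Ideal.span ((𝒜 1 : AddSubgroup R) : Set R))

include hpos hm hd hstd in
/-- the Hilbert polynomial exists, has degree `< d`, and detects the nonzero degrees of `H^d_m(R)` -/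
theorem hilb_facts : ∃ P : ℚ[X],
    (∃ N : ℤ, ∀ n : ℤ, N ≤ n → P.eval (n : ℚ) = hfun 𝒜 𝒜 n) ∧ mu P ≤ d ∧
    (∀ n : ℤ, hfun 𝒜 𝒜 n - P.eval (n : ℚ) =
      (-1 : ℚ) ^ d * ((Module.length (GrLC.deg0 𝒜) (I.Hcomp m d n)).toNat : ℚ)) ∧
    ∀ n : ℤ, I.Hgr m d n ≠ ⊥ ↔ P.eval (n : ℚ) ≠ hfun 𝒜 𝒜 n := by
  obtain ⟨P, N, hP⟩ := GrHilbExist.exists_hilbertPoly hpos (GrStarLocal.irr 𝒜) rfl hstd R 𝒜
  refine ⟨P, ⟨N, hP⟩, ?_, ?_, ?_⟩
  · apply GrHilbDeg.mu_le_of_supportDim_le hpos (GrStarLocal.irr 𝒜) rfl d R 𝒜 P ⟨N, hP⟩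
    rw [Module.supportDim_self_eq_ringKrullDim, hd]
  · exact formula R 𝒜 hpos m hm d hd I hstd P ⟨N, hP⟩
  · exact Hgr_ne_bot_iff R 𝒜 hpos m hm d hd I hstd P ⟨N, hP⟩

omit [LocCoh.IsCohenMacaulayRing R] [IsArtinianRing (GrLC.deg0 𝒜)] in
include hpos in
theorem hfun_neg (n : ℤ) (hn : n < 0) : hfun 𝒜 𝒜 n = 0 :=
  hfun_eq_zero_of_eq_bot (hpos n hn)

/-- a polynomial of degree `< d` vanishing at `-1, …, -d` is zero -/
theorem eq_zero_of_roots (P : ℚ[X]) (d : ℕ) (hμ : mu P ≤ d)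
    (h : ∀ k : ℕ, k < d → P.eval (-((k : ℚ) + 1)) = 0) : P = 0 := by
  classical
  have hinj : Function.Injective (fun k : ℕ => -((k : ℚ) + 1)) := by
    intro a b hab
    have : (a : ℚ) = b := by
      have h1 : -((a : ℚ) + 1) = -((b : ℚ) + 1) := hab
      linarith
    exact_mod_cast this
  apply eq_zero_of_degree_lt_of_eval_finset_eq_zero ((Finset.range d).image
    (fun k : ℕ => -((k : ℚ) + 1)))
  · rw [Finset.card_image_of_injective _ hinj, Finset.card_range]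
    exact (HilbPolyAux.mu_le_iff P d).mp hμ
  · intro x hx
    obtain ⟨k, hk, rfl⟩ := Finset.mem_image.mp hx
    exact h k (Finset.mem_range.mp hk)

end Groth.Agent.Lib.Helper39.GrAInvHilb
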