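import Groth.Agent.Lib.Helper39.GrSerre4

/-!
# Difference calculus for rational polynomials (helper39)

`Δ r P = P − P(X − r)`.  Antidifferences exist with degree control (`exists_antidiff`),
`mu P ≤ mu (Δ r P) + 1` for `r ≠ 0`, and a function whose first difference is eventually polynomial is
eventually polynomial (`exists_poly_of_diff`).
-/

set_option autoImplicit false

namespace Groth.Agent.Lib.Helper39.HilbPolyAux

open Polynomial Groth.Agent.Lib.Helper39.GrSerre

/-- the backward difference with step `r` -/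
noncomputable def Δ (r : ℚ) (P : ℚ[X]) : ℚ[X] := P - taylor (-r) P

theorem Δ_eval (r : ℚ) (P : ℚ[X]) (x : ℚ) : (Δ r P).eval x = P.eval x - P.eval (x - r) := by
  unfold Δ
  rw [eval_sub, taylor_eval, sub_eq_add_neg x r]

theorem Δ_add (r : ℚ) (P Q : ℚ[X]) : Δ r (P + Q) = Δ r P + Δ r Q := by
  unfold Δ
  rw [map_add]
  ring

theorem Δ_sub (r : ℚ) (P Q : ℚ[X]) : Δ r (P - Q) = Δ r P - Δ r Q := by
  unfold Δ
  rw [map_sub]
  ring

theorem Δ_C_mul (r c : ℚ) (P : ℚ[X]) : Δ r (C c * P) = C c * Δ r P := by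
  unfold Δ
  rw [taylor_mul, taylor_C]
  ring

theorem Δ_C (r c : ℚ) : Δ r (C c) = 0 := by
  unfold Δ
  rw [taylor_C, sub_self]

/-- the shifted rising factorial basis `(X + r)(X + 2r)⋯(X + kr)` -/
noncomputable def bas (r : ℚ) (k : ℕ) : ℚ[X] := ∏ i ∈ Finset.range k, (X + C (((i : ℚ) + 1) * r))

theorem bas_monic (r : ℚ) (k : ℕ) : (bas r k).Monic :=
  monic_prod_of_monic _ _ (fun i _ => monic_X_add_C _)

theorem natDegree_bas (r : ℚ) (k : ℕ) : (bas r k).natDegree = k := by
  unfold bas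
  rw [natDegree_prod_of_monic _ _ (fun i _ => monic_X_add_C _),
    Finset.sum_congr rfl (fun i _ => natDegree_X_add_C _)]
  simp

theorem Δ_bas (r : ℚ) (k : ℕ) : Δ r (bas r (k + 1)) = C (((k : ℚ) + 1) * r) * bas r k := by
  have hT : ∀ p : ℚ[X], taylorAlgHom (-r) p = taylor (-r) p := fun p => rfl
  have h1 : taylor (-r) (bas r (k + 1)) = X * bas r k := by
    rw [← hT]
    unfold bas
    rw [map_prod, Finset.prod_range_succ']
    have h0 : (taylorAlgHom (-r)) (X + C ((((0 : ℕ) : ℚ) + 1) * r)) = X := by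
      rw [hT, map_add, taylor_X, taylor_C]
      simp
    rw [h0, mul_comm]
    congr 1
    refine Finset.prod_congr rfl fun i _ => ?_
    rw [hT, map_add, taylor_X, taylor_C, add_assoc, ← C_add]
    congr 2
    push_cast
    ring
  unfold Δ
  rw [h1]
  unfold bas
  rw [Finset.prod_range_succ]
  ring

theorem mu_le_iff (P : ℚ[X]) (k : ℕ) : mu P ≤ k ↔ P.degree < k := by
  unfold mu
  split_ifs with h
  · subst h
    simp [WithBot.bot_lt_coe]
  · rw [degree_eq_natDegree h]
    constructor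
    · intro h'
      exact_mod_cast (by omega : P.natDegree < k)
    · intro h'
      have : P.natDegree < k := by exact_mod_cast h'
      omega

theorem mu_add_le (P Q : ℚ[X]) (k : ℕ) (hP : mu P ≤ k) (hQ : mu Q ≤ k) : mu (P + Q) ≤ k := by
  rw [mu_le_iff] at *
  exact lt_of_le_of_lt (degree_add_le P Q) (max_lt hP hQ)

theorem mu_C_mul_le (c : ℚ) (P : ℚ[X]) : mu (C c * P) ≤ mu P := by
  rw [mu_le_iff]
  by_cases hc : c = 0
  · subst hc
    simp [WithBot.bot_lt_coe]
  · rw [degree_C_mul hc]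
    exact (mu_le_iff P (mu P)).mp le_rfl

theorem mu_bas (r : ℚ) (k : ℕ) : mu (bas r k) = k + 1 := by
  unfold mu
  rw [if_neg (bas_monic r k).ne_zero, natDegree_bas]

theorem mu_C_le (c : ℚ) : mu (C c) ≤ 1 := by
  rw [mu_le_iff]
  exact lt_of_le_of_lt degree_C_le (by norm_num)

/-- antidifferences exist, with control of the degree -/
theorem exists_antidiff (r : ℚ) (hr : r ≠ 0) : ∀ (μ : ℕ) (Q : ℚ[X]), mu Q ≤ μ →
    ∃ S : ℚ[X], Δ r S = Q ∧ mu S ≤ μ + 1 := by
  intro μ
  induction μ with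
  | zero =>
    intro Q hQ
    have : Q = 0 := (mu_eq_zero_iff Q).mp (by omega)
    subst this
    exact ⟨0, by unfold Δ; simp, by unfold mu; simp⟩
  | succ μ ih =>
    intro Q hQ
    by_cases hQ0 : Q = 0
    · subst hQ0
      exact ⟨0, by unfold Δ; simp, by unfold mu; simp⟩
    set k := Q.natDegree with hk
    have hkμ : k ≤ μ := by
      unfold mu at hQ
      rw [if_neg hQ0] at hQ
      omega
    set Q₁ := Q - C Q.leadingCoeff * bas r k with hQ₁
    have hdeg : Q₁.degree < Q.degree := by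
      apply degree_sub_lt _ hQ0
      · rw [leadingCoeff_mul, leadingCoeff_C, (bas_monic r k).leadingCoeff, mul_one]
      · rw [degree_C_mul (leadingCoeff_ne_zero.mpr hQ0), degree_eq_natDegree hQ0,
          degree_eq_natDegree (bas_monic r k).ne_zero, natDegree_bas]
    have hμ₁ : mu Q₁ ≤ μ := by
      rw [mu_le_iff]
      refine lt_of_lt_of_le hdeg ?_
      rw [degree_eq_natDegree hQ0]
      exact_mod_cast hkμ
    obtain ⟨S₁, hS₁, hS₁μ⟩ := ih Q₁ hμ₁
    have hne : ((k : ℚ) + 1) * r ≠ 0 := mul_ne_zero (by positivity) hr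
    refine ⟨S₁ + C (Q.leadingCoeff / (((k : ℚ) + 1) * r)) * bas r (k + 1), ?_, ?_⟩
    · rw [Δ_add, Δ_C_mul, Δ_bas, hS₁, hQ₁, ← mul_assoc, ← C_mul, div_mul_cancel₀ _ hne]
      ring
    · apply mu_add_le
      · omega
      · refine le_trans (mu_C_mul_le _ _) ?_
        rw [mu_bas]
        omega

/-- a polynomial with vanishing difference is constant -/
theorem eq_C_of_Δ_eq_zero (r : ℚ) (hr : r ≠ 0) (T : ℚ[X]) (h : Δ r T = 0) : T = C (T.eval 0) := by
  have key : ∀ n : ℕ, T.eval ((n : ℚ) * r) = T.eval 0 := by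
    intro n
    induction n with
    | zero => simp
    | succ n ih =>
      have := Δ_eval r T (((n + 1 : ℕ) : ℚ) * r)
      rw [h, eval_zero] at this
      have h2 : ((n + 1 : ℕ) : ℚ) * r - r = (n : ℚ) * r := by push_cast; ring
      rw [h2, ih] at this
      linarith
  apply eq_of_infinite_eval_eq
  have hinj : Function.Injective (fun n : ℕ => (n : ℚ) * r) := by
    intro a b hab
    have : (a : ℚ) = b := mul_right_cancel₀ hr hab
    exact_mod_cast this
  refine Set.infinite_of_injective_forall_mem hinj (fun n => ?_)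
  simp only [Set.mem_setOf_eq, eval_C]
  exact key n

theorem mu_le_mu_Δ_add_one (r : ℚ) (hr : r ≠ 0) (P : ℚ[X]) : mu P ≤ mu (Δ r P) + 1 := by
  obtain ⟨S, hS, hSμ⟩ := exists_antidiff r hr (mu (Δ r P)) (Δ r P) le_rfl
  have h0 : Δ r (P - S) = 0 := by rw [Δ_sub, hS, sub_self]
  have h1 := eq_C_of_Δ_eq_zero r hr (P - S) h0
  have h2 : P = S + C ((P - S).eval 0) := by
    rw [← h1]
    ring
  have h3 : mu (S + C ((P - S).eval 0)) ≤ mu (Δ r P) + 1 := by
    apply mu_add_le _ _ _ hSμ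
    exact le_trans (mu_C_le _) (by omega)
  rwa [← h2] at h3

/-- a function on `ℤ` whose first difference is eventually polynomial is eventually polynomial -/
theorem exists_poly_of_diff (f : ℤ → ℚ) (Q : ℚ[X]) (N : ℤ)
    (h : ∀ n : ℤ, N ≤ n → f n - f (n - 1) = Q.eval (n : ℚ)) :
    ∃ P : ℚ[X], ∀ n : ℤ, N ≤ n → P.eval (n : ℚ) = f n := by
  obtain ⟨S, hS, -⟩ := exists_antidiff 1 one_ne_zero (mu Q) Q le_rfl
  have hSe : ∀ n : ℤ, S.eval (n : ℚ) - S.eval (((n - 1 : ℤ)) : ℚ) = Q.eval (n : ℚ) := by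
    intro n
    rw [← hS, Δ_eval]
    push_cast
    rfl
  have key : ∀ k : ℕ, f (N - 1 + k) - S.eval (((N - 1 + k : ℤ)) : ℚ) =
      f (N - 1) - S.eval (((N - 1 : ℤ)) : ℚ) := by
    intro k
    induction k with
    | zero => simp
    | succ k ih =>
      have h1 := h (N - 1 + (k + 1 : ℕ)) (by push_cast; omega)
      have h2 := hSe (N - 1 + (k + 1 : ℕ))
      have h3 : N - 1 + ((k + 1 : ℕ) : ℤ) - 1 = N - 1 + k := by push_cast; ring
      rw [h3] at h1 h2
      linarith
  refine ⟨S + C (f (N - 1) - S.eval (((N - 1 : ℤ)) : ℚ)), fun n hn => ?_⟩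
  obtain ⟨k, hk⟩ : ∃ k : ℕ, n = N - 1 + k := ⟨(n - (N - 1)).toNat, by
    rw [Int.toNat_of_nonneg (by omega)]; ring⟩
  rw [eval_add, eval_C, hk]
  have := key k
  linarith

end Groth.Agent.Lib.Helper39.HilbPolyAux
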