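import Groth.Agent.Lib.Helper39.GrStdPoly
import Groth.Agent.Lib.Helper39.HilbPolyAux
import Groth.Agent.Lib.Helper39.GrHilbDeg

/-!
# Auxiliary facts for the characterisation of polynomial rings by the a-invariant (helper39)
-/

set_option autoImplicit false
universe u

namespace Groth.Agent.Lib.Helper39.GrAInvPoly

open DirectSum GrLC Polynomial Groth.Agent.Lib.Helper39 Groth.Agent.Lib.Helper39.GrSerre
  Groth.Agent.Lib.Helper39.HilbPolyAux

section Field

theorem length_self_of_isField (K : Type u) [CommRing K] (hK : IsField K) :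
    Module.length K K = 1 := by
  letI : Field K := hK.toField
  rw [Module.length_eq_finrank, Module.finrank_self]
  rfl

/-- a module of length `r` over a field is spanned by `r` elements -/
theorem exists_span_of_length (K : Type u) [CommRing K] (hK : IsField K) (V : Type u)
    [AddCommGroup V] [Module K V] (r : ℕ) (h : Module.length K V = r) :
    ∃ x : Fin r → V, Submodule.span K (Set.range x) = ⊤ := by
  letI : Field K := hK.toField
  have hfin : Module.length K V ≠ ⊤ := by rw [h]; exact ENat.coe_ne_top r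
  haveI : IsFiniteLength K V := Module.length_ne_top_iff.mp hfin
  haveI : Module.Finite K V := by
    have := (isFiniteLength_iff_isNoetherian_isArtinian.mp ‹IsFiniteLength K V›).1
    infer_instance
  have hfr : Module.finrank K V = r := by
    rw [Module.length_eq_finrank] at h
    exact_mod_cast h
  exact ⟨Module.finBasisOfFinrankEq K V hfr, (Module.finBasisOfFinrankEq K V hfr).span_eq⟩

theorem mvPoly_facts (K : Type u) [CommRing K] (hK : IsField K) (s : ℕ) :
    IsDomain (MvPolynomial (Fin s) K) ∧ ringKrullDim (MvPolynomial (Fin s) K) = s ∧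
      IsRegularRing (MvPolynomial (Fin s) K) := by
  letI : Field K := hK.toField
  refine ⟨inferInstance, ?_, inferInstance⟩
  rw [MvPolynomial.ringKrullDim_of_isNoetherianRing, ringKrullDim_eq_zero_of_field]
  simp

end Field

section Poly

theorem bas_eval_nat (r' n : ℕ) :
    (bas 1 r').eval (n : ℚ) = (r'.factorial : ℚ) * (((n + r').choose r' : ℕ) : ℚ) := by
  unfold bas
  rw [eval_prod]
  have h1 : ∀ i ∈ Finset.range r', (X + C (((i : ℚ) + 1) * 1)).eval (n : ℚ) =
      (((n + 1 + i : ℕ)) : ℚ) := by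
    intro i _
    simp
    ring
  rw [Finset.prod_congr rfl h1, ← Nat.cast_prod, ← Nat.ascFactorial_eq_prod_range,
    Nat.ascFactorial_eq_factorial_mul_choose]
  push_cast
  ring

theorem bas_eval_neg (r' k : ℕ) (hk : 1 ≤ k) (hk' : k ≤ r') :
    (bas 1 r').eval (-(k : ℚ)) = 0 := by
  unfold bas
  rw [eval_prod]
  apply Finset.prod_eq_zero (i := k - 1) (Finset.mem_range.mpr (by omega))
  simp only [eval_add, eval_X, eval_C]
  have : ((k - 1 : ℕ) : ℚ) = (k : ℚ) - 1 := by
    rw [Nat.cast_sub hk]
    simp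
  rw [this]
  ring

theorem bas_eval_neg_succ (r' : ℕ) : (bas 1 r').eval (-((r' : ℚ) + 1)) ≠ 0 := by
  unfold bas
  rw [eval_prod, Finset.prod_ne_zero_iff]
  intro i hi
  have hi' : i < r' := Finset.mem_range.mp hi
  simp only [eval_add, eval_X, eval_C]
  have : (i : ℚ) < r' := by exact_mod_cast hi'
  intro h
  linarith

theorem eq_of_eventually_eq (P Q : ℚ[X]) (N : ℤ)
    (h : ∀ n : ℤ, N ≤ n → P.eval (n : ℚ) = Q.eval (n : ℚ)) : P = Q := by
  have := GrHilbDeg.eq_zero_of_eventually (P - Q) N (fun n hn => by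
    rw [eval_sub, h n hn, sub_self])
  exact sub_eq_zero.mp this

/-- a polynomial of degree `< d` vanishing at `0, -1, …, -(d-1)` is zero -/
theorem eq_zero_of_roots' (P : ℚ[X]) (d : ℕ) (hμ : mu P ≤ d)
    (h : ∀ k : ℕ, k < d → P.eval (-(k : ℚ)) = 0) : P = 0 := by
  classical
  have hinj : Function.Injective (fun k : ℕ => -(k : ℚ)) := by
    intro a b hab
    have : (a : ℚ) = b := neg_injective hab
    exact_mod_cast this
  apply eq_zero_of_degree_lt_of_eval_finset_eq_zero ((Finset.range d).image
    (fun k : ℕ => -(k : ℚ)))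
  · rw [Finset.card_image_of_injective _ hinj, Finset.card_range]
    exact (mu_le_iff P d).mp hμ
  · intro x hx
    obtain ⟨k, hk, rfl⟩ := Finset.mem_image.mp hx
    exact h k (Finset.mem_range.mp hk)

/-- the polynomial `binom(X + r', r')` -/
noncomputable def binPoly (r' : ℕ) : ℚ[X] := C (1 / (r'.factorial : ℚ)) * bas 1 r'

theorem binPoly_eval_nat (r' n : ℕ) :
    (binPoly r').eval (n : ℚ) = (((n + r').choose r' : ℕ) : ℚ) := by
  unfold binPoly
  rw [eval_mul, eval_C, bas_eval_nat, ← mul_assoc, one_div,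
    inv_mul_cancel₀ (by exact_mod_cast r'.factorial_ne_zero), one_mul]

theorem binPoly_eval_neg (r' k : ℕ) (hk : 1 ≤ k) (hk' : k ≤ r') :
    (binPoly r').eval (-(k : ℚ)) = 0 := by
  unfold binPoly
  rw [eval_mul, bas_eval_neg r' k hk hk', mul_zero]

theorem binPoly_eval_neg_succ (r' : ℕ) : (binPoly r').eval (-((r' : ℚ) + 1)) ≠ 0 := by
  unfold binPoly
  rw [eval_mul, eval_C]
  exact mul_ne_zero (by positivity) (bas_eval_neg_succ r')

theorem mu_binPoly (r' : ℕ) : mu (binPoly r') ≤ r' + 1 := by
  unfold binPoly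
  exact le_trans (mu_C_mul_le _ _) (le_of_eq (mu_bas 1 r'))

/-- a polynomial of degree `≤ r'` with value `1` at `0` and roots `-1, …, -r'` is `binPoly r'` -/
theorem eq_binPoly (P : ℚ[X]) (r' : ℕ) (hμ : mu P ≤ r' + 1) (h0 : P.eval 0 = 1)
    (h : ∀ k : ℕ, 1 ≤ k → k ≤ r' → P.eval (-(k : ℚ)) = 0) : P = binPoly r' := by
  have hz : P - binPoly r' = 0 := by
    apply eq_zero_of_roots' _ (r' + 1)
    · have : P - binPoly r' = P + C (-1) * binPoly r' := by
        rw [C_neg, C_1]; ring
      rw [this]
      exact mu_add_le _ _ _ hμ (le_trans (mu_C_mul_le _ _) (mu_binPoly r'))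
    · intro k hk
      rcases Nat.eq_zero_or_pos k with rfl | hk0
      · have := binPoly_eval_nat r' 0
        simp only [Nat.cast_zero, zero_add, Nat.choose_self, Nat.cast_one] at this
        simp only [Nat.cast_zero, neg_zero, eval_sub, h0, this, sub_self]
      · rw [eval_sub, h k hk0 (by omega), binPoly_eval_neg r' k hk0 (by omega), sub_self]
  exact sub_eq_zero.mp hz

end Poly

end Groth.Agent.Lib.Helper39.GrAInvPoly
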