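import Groth.Agent.Lib.Helper39.GrAInvPoly1

/-!
# Standard graded algebras over a field generated by `dim R` linear forms (helper39)
-/

set_option autoImplicit false
universe u

namespace Groth.Agent.Lib.Helper39.GrAInvPoly

open DirectSum GrLC Polynomial Groth.Agent.Lib.Helper39 Groth.Agent.Lib.Helper39.GrSerre
  Groth.Agent.Lib.Helper39.HilbPolyAux Groth.Agent.Lib.Helper39.GrStdPoly

variable {R : Type u} [CommRing R] {𝒜 : ℤ → AddSubgroup R} [GradedRing 𝒜]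
  (hpos : ∀ n : ℤ, n < 0 → 𝒜 n = ⊥)
  (hstd : Ideal.span (⋃ n ∈ Set.Ioi (0 : ℤ), (𝒜 n : Set R)) =
    Ideal.span ((𝒜 1 : AddSubgroup R) : Set R))
  (h0 : IsField (GrLC.deg0 𝒜))

/-- `R_0` as a module over itself is the degree zero piece -/
def e0 : (GrLC.deg0 𝒜) ≃ₗ[GrLC.deg0 𝒜] ↥(GrLC.comp 𝒜 𝒜 0) where
  toFun c := ⟨(c : R), c.2⟩
  invFun y := ⟨(y : R), y.2⟩
  map_add' _ _ := rfl
  map_smul' _ _ := rfl
  left_inv _ := rfl
  right_inv _ := rfl

include h0 in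
theorem hfun_zero : hfun 𝒜 𝒜 0 = 1 := by
  unfold hfun
  rw [← (e0 (𝒜 := 𝒜)).length_eq, length_self_of_isField _ h0]
  simp

include hpos hstd h0 in
/-- `r = dim R` linear forms spanning `R_1` induce an isomorphism from the polynomial ring -/
theorem bijective_of_span {r : ℕ} (hr : ringKrullDim R = r) (x : Fin r → R)
    (hspan : ∀ y ∈ 𝒜 1, y ∈ Submodule.span (GrLC.deg0 𝒜) (Set.range x)) :
    Function.Bijective
      (MvPolynomial.aeval x : MvPolynomial (Fin r) (GrLC.deg0 𝒜) →ₐ[GrLC.deg0 𝒜] R) := by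
  obtain ⟨hdom, hdim, -⟩ := mvPoly_facts (GrLC.deg0 𝒜) h0 r
  have hsurj := aeval_surjective hpos hstd x hspan
  refine ⟨?_, hsurj⟩
  exact injective_of_dim
    ((MvPolynomial.aeval x : MvPolynomial (Fin r) (GrLC.deg0 𝒜) →ₐ[GrLC.deg0 𝒜] R) : _ →+* R)
    hsurj r hdim hr

include hpos hstd h0 in
/-- if `dim_k R_1 = dim R` then `R` is a polynomial ring -/
theorem exists_bijective_of_hfun_one {r : ℕ} (hr : ringKrullDim R = r)
    (h1 : hfun 𝒜 𝒜 1 = r) [IsNoetherianRing R] [IsArtinianRing (GrLC.deg0 𝒜)] :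
    ∃ x : Fin r → R, (∀ i, x i ∈ 𝒜 1) ∧ Function.Bijective
      (MvPolynomial.aeval x : MvPolynomial (Fin r) (GrLC.deg0 𝒜) →ₐ[GrLC.deg0 𝒜] R) := by
  have hlen : Module.length (GrLC.deg0 𝒜) ↥(GrLC.comp 𝒜 𝒜 1) = r := by
    unfold hfun at h1
    have hfin := length_comp_ne_top (𝒜 := 𝒜) (ℳ := 𝒜) hpos 1
    have h2 : (Module.length (GrLC.deg0 𝒜) ↥(GrLC.comp 𝒜 𝒜 1)).toNat = r := by exact_mod_cast h1
    rw [← h2]
    exact (ENat.coe_toNat hfin).symm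
  obtain ⟨y, hy⟩ := exists_span_of_length (GrLC.deg0 𝒜) h0 ↥(GrLC.comp 𝒜 𝒜 1) r hlen
  refine ⟨fun i => ((y i : GrLC.comp 𝒜 𝒜 1) : R), fun i => (y i).2, ?_⟩
  apply bijective_of_span hpos hstd h0 hr
  intro z hz
  have hmem : (⟨z, hz⟩ : GrLC.comp 𝒜 𝒜 1) ∈ Submodule.span (GrLC.deg0 𝒜) (Set.range y) := by
    rw [hy]; trivial
  have := Submodule.apply_mem_span_image_of_mem_span (GrLC.comp 𝒜 𝒜 1).subtype hmem
  rw [← Set.range_comp] at this
  exact this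

end Groth.Agent.Lib.Helper39.GrAInvPoly
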