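import Groth.Agent.Lib.Helper39.GrAInvPoly2
import Groth.Agent.Lib.Helper39.GrHeightArt

/-!
# A regular standard graded algebra over a field is generated by `dim R` linear forms (helper39)
-/

set_option autoImplicit false
universe u

namespace Groth.Agent.Lib.Helper39.GrAInvPoly

open DirectSum GrLC Groth.Agent.Lib.Helper39 Groth.Agent.Lib.Helper39.GrSerre

variable {R : Type u} [CommRing R] {𝒜 : ℤ → AddSubgroup R} [GradedRing 𝒜]
  (hpos : ∀ n : ℤ, n < 0 → 𝒜 n = ⊥)

include hpos in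
/-- if `u x ∈ J` with `u ∉ m`, `x ∈ R_1`, `J ⊆ m`, then `x` is an `R_0`-combination of the degree one
components of generators of `J` -/
theorem mem_span_of_smul_mem [IsNoetherianRing R] {m : HomogeneousIdeal 𝒜}
    (hm : IsStarLocal 𝒜 m) {ι : Type*} (g : ι → R) (hg : ∀ i, g i ∈ m.toIdeal)
    (hm1 : ∀ z ∈ m.toIdeal, ∀ j : ℤ, j < 1 → (decompose 𝒜 z j : R) = 0)
    {u x : R} (hu : u ∉ m.toIdeal) (hx : x ∈ 𝒜 1)
    (hux : u * x ∈ Ideal.span (Set.range g)) :
    x ∈ Submodule.span (GrLC.deg0 𝒜) (Set.range fun i => (decompose 𝒜 (g i) 1 : R)) := by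
  classical
  set L := Submodule.span (GrLC.deg0 𝒜) (Set.range fun i => (decompose 𝒜 (g i) 1 : R)) with hL
  -- degree one components of elements of `J` lie in `L`
  have key : ∀ a ∈ Ideal.span (Set.range g), a ∈ m.toIdeal ∧ (decompose 𝒜 a 1 : R) ∈ L := by
    intro a ha
    induction ha using Submodule.span_induction with
    | mem a ha =>
      obtain ⟨i, rfl⟩ := ha
      exact ⟨hg i, Submodule.subset_span ⟨i, rfl⟩⟩
    | zero => exact ⟨zero_mem _, by rw [decompose_zero, DirectSum.zero_apply]; exact zero_mem _⟩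
    | add a b _ _ iha ihb =>
      refine ⟨add_mem iha.1 ihb.1, ?_⟩
      rw [decompose_add, DirectSum.add_apply, AddSubgroup.coe_add]
      exact add_mem iha.2 ihb.2
    | smul c a _ iha =>
      refine ⟨Ideal.mul_mem_left _ c iha.1, ?_⟩
      have h := GrPieces.decompose_smul_of_ge 𝒜 𝒜 hpos (n := 1) (s := a) (hm1 a iha.1) c
      rw [h]
      exact Submodule.smul_mem L (⟨(decompose 𝒜 c 0 : R), SetLike.coe_mem _⟩ : GrLC.deg0 𝒜) iha.2
  have h1 := (key _ hux).2
  have hx1 : ∀ j : ℤ, j < 1 → (decompose 𝒜 x j : R) = 0 := fun j hj =>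
    decompose_of_mem_ne 𝒜 hx (by omega)
  have h2 := GrPieces.decompose_smul_of_ge 𝒜 𝒜 hpos (n := 1) (s := x) hx1 u
  rw [smul_eq_mul] at h2
  rw [h2, decompose_of_mem_same 𝒜 hx] at h1
  -- `u_0` is a unit of `R_0`
  have hu0 : (decompose 𝒜 u 0 : R) ∉ m.toIdeal := by
    intro h
    apply hu
    have h3 := GrStarLocal.irr_le hpos hm (GrStarLocal.sub_decompose_zero_mem_irr 𝒜 hpos u)
    have : u = (u - (decompose 𝒜 u 0 : R)) + (decompose 𝒜 u 0 : R) := by ring
    rw [this]
    exact add_mem h3 h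
  have hunit := GrStarLocal.isUnit_deg0_of_notMem hpos hm
    (⟨(decompose 𝒜 u 0 : R), SetLike.coe_mem _⟩ : GrLC.deg0 𝒜) hu0
  obtain ⟨v, hv⟩ := hunit
  have h4 := Submodule.smul_mem L (↑v⁻¹ : GrLC.deg0 𝒜) h1
  have h5 : (↑v⁻¹ : GrLC.deg0 𝒜) • ((decompose 𝒜 u 0 : R) • x) = x := by
    have e1 : ((↑v⁻¹ : GrLC.deg0 𝒜) * (↑v : GrLC.deg0 𝒜)) = 1 := by
      rw [← Units.val_mul, inv_mul_cancel, Units.val_one]
    have e2 : (((↑v⁻¹ : GrLC.deg0 𝒜) : R)) * (decompose 𝒜 u 0 : R) = 1 := by
      have := congrArg (Subtype.val) e1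
      rw [hv] at this
      exact this
    change (((↑v⁻¹ : GrLC.deg0 𝒜) : R)) * ((decompose 𝒜 u 0 : R) * x) = x
    rw [← mul_assoc, e2, one_mul]
  rw [h5] at h4
  exact h4

include hpos in
/-- a regular *local standard graded algebra over a field of dimension `r` is generated by `r`
linear forms -/
theorem exists_span_of_regular [IsRegularRing R] [IsArtinianRing (GrLC.deg0 𝒜)]
    (m : HomogeneousIdeal 𝒜) (hm : IsStarLocal 𝒜 m)
    (hmsp : m.toIdeal = Ideal.span (⋃ n ∈ Set.Ioi (0 : ℤ), (𝒜 n : Set R)))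
    {r : ℕ} (hr : ringKrullDim R = r) :
    ∃ x : Fin r → R, (∀ i, x i ∈ 𝒜 1) ∧
      ∀ y ∈ 𝒜 1, y ∈ Submodule.span (GrLC.deg0 𝒜) (Set.range x) := by
  classical
  haveI hmax : m.toIdeal.IsMaximal := GrStarLocal.isMaximal hpos hm
  haveI hprime : m.toIdeal.IsPrime := hmax.isPrime
  haveI hreg : IsRegularLocalRing (Localization.AtPrime m.toIdeal) :=
    IsRegularRing.isRegularLocalRing_localization m.toIdeal
  have hdimA : ringKrullDim (Localization.AtPrime m.toIdeal) = r := by
    rw [IsLocalization.AtPrime.ringKrullDim_eq_height m.toIdeal (Localization.AtPrime m.toIdeal),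
      GrHeightArt.height_star_eq 𝒜 hpos hm, hr]
  have hrank : (IsLocalRing.maximalIdeal (Localization.AtPrime m.toIdeal)).spanFinrank = r := by
    have := IsRegularLocalRing.spanFinrank_maximalIdeal (R := Localization.AtPrime m.toIdeal)
    rw [hdimA] at this
    exact_mod_cast this
  obtain ⟨T, hTcard, hTspan⟩ := Submodule.FG.exists_span_finset_card_eq_spanFinrank
    (IsNoetherian.noetherian (IsLocalRing.maximalIdeal (Localization.AtPrime m.toIdeal)))
  rw [hrank] at hTcard
  -- numerators and denominators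
  have hnum : ∀ t : Localization.AtPrime m.toIdeal, ∃ (y : R) (u : m.toIdeal.primeCompl),
      t * algebraMap R _ (u : R) = algebraMap R _ y := fun t => by
    obtain ⟨⟨y, u⟩, h⟩ := IsLocalization.surj m.toIdeal.primeCompl t
    exact ⟨y, u, h⟩
  choose num den hnd using hnum
  let g : T → R := fun t => num t.1
  have hgm : ∀ t, g t ∈ m.toIdeal := by
    intro t
    rw [← IsLocalization.AtPrime.to_map_mem_maximal_iff (Localization.AtPrime m.toIdeal) m.toIdeal,
      ← hnd t.1]
    apply Ideal.mul_mem_right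
    rw [← hTspan]
    exact Submodule.subset_span t.2
  -- every element of the maximal ideal has a multiple in `J`
  have hJ : ∀ z ∈ IsLocalRing.maximalIdeal (Localization.AtPrime m.toIdeal),
      ∃ (u : m.toIdeal.primeCompl) (a : R), a ∈ Ideal.span (Set.range g) ∧
        z * algebraMap R _ (u : R) = algebraMap R _ a := by
    intro z hz
    rw [← hTspan] at hz
    induction hz using Submodule.span_induction with
    | mem z hz => exact ⟨den z, num z, Ideal.subset_span ⟨⟨z, hz⟩, rfl⟩, hnd z⟩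
    | zero => exact ⟨1, 0, zero_mem _, by simp⟩
    | add z w _ _ ihz ihw =>
      obtain ⟨u, a, ha, e1⟩ := ihz
      obtain ⟨v, b, hb, e2⟩ := ihw
      refine ⟨u * v, a * v + b * u, add_mem (Ideal.mul_mem_right _ _ ha)
        (Ideal.mul_mem_right _ _ hb), ?_⟩
      have hc : ((u * v : m.toIdeal.primeCompl) : R) = (u : R) * (v : R) := rfl
      rw [hc, map_add, map_mul, map_mul, map_mul, ← e1, ← e2]
      ring
    | smul c z _ ihz =>
      obtain ⟨u, a, ha, e1⟩ := ihz
      refine ⟨den c * u, num c * a, Ideal.mul_mem_left _ _ ha, ?_⟩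
      have hc : ((den c * u : m.toIdeal.primeCompl) : R) = (den c : R) * (u : R) := rfl
      rw [hc, map_mul, map_mul, ← e1, ← hnd c, smul_eq_mul]
      ring
  have hm1 : ∀ z ∈ m.toIdeal, ∀ j : ℤ, j < 1 → (decompose 𝒜 z j : R) = 0 := by
    intro z hz
    apply GrStarLocal.decompose_eq_zero_of_mem_irr 𝒜 hpos
    rw [GrStarLocal.irr_toIdeal, ← hmsp]
    exact hz
  have hspan : ∀ y ∈ 𝒜 1, y ∈ Submodule.span (GrLC.deg0 𝒜)
      (Set.range fun t : T => (decompose 𝒜 (g t) 1 : R)) := by
    intro y hy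
    have hym : y ∈ m.toIdeal := by
      rw [hmsp]
      apply Ideal.subset_span
      simp only [Set.mem_iUnion, Set.mem_Ioi]
      exact ⟨1, by norm_num, hy⟩
    have hyA : algebraMap R (Localization.AtPrime m.toIdeal) y ∈
        IsLocalRing.maximalIdeal (Localization.AtPrime m.toIdeal) :=
      (IsLocalization.AtPrime.to_map_mem_maximal_iff _ m.toIdeal y).mpr hym
    obtain ⟨u, a, ha, e1⟩ := hJ _ hyA
    rw [← map_mul, IsLocalization.eq_iff_exists m.toIdeal.primeCompl] at e1
    obtain ⟨w, hw⟩ := e1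
    have hwu : (w : R) * (u : R) ∉ m.toIdeal := fun h =>
      (hprime.mem_or_mem h).elim w.2 u.2
    refine mem_span_of_smul_mem hpos hm g hgm hm1 hwu hy ?_
    have : (w : R) * (u : R) * y = (w : R) * a := by
      rw [← hw]; ring
    rw [this]
    exact Ideal.mul_mem_left _ _ ha
  -- reindex by `Fin r`
  let eT : T ≃ Fin r := T.equivFin.trans (finCongr hTcard)
  refine ⟨fun i => (decompose 𝒜 (g (eT.symm i)) 1 : R), fun i => SetLike.coe_mem _, ?_⟩
  intro y hy
  have := hspan y hy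
  have hrange : (Set.range fun t : T => (decompose 𝒜 (g t) 1 : R)) =
      Set.range (fun i : Fin r => (decompose 𝒜 (g (eT.symm i)) 1 : R)) := by
    ext z
    constructor
    · rintro ⟨t, rfl⟩
      exact ⟨eT t, by simp⟩
    · rintro ⟨i, rfl⟩
      exact ⟨eT.symm i, rfl⟩
  rw [hrange] at this
  exact this

end Groth.Agent.Lib.Helper39.GrAInvPoly
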