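import Groth.Agent.Lib.Helper39.GrAInvPoly3
import Groth.Agent.Lib.Helper39.GrAInvHilb2

/-!
# `a(R) = -dim R` iff `R` is a polynomial ring (`R_0` a field) (helper39)
-/

set_option autoImplicit false
universe u

namespace Groth.Agent.Lib.Helper39.GrAInvPoly

open DirectSum GrLC Polynomial Groth.Agent.Lib.Helper39 Groth.Agent.Lib.Helper39.GrSerre
  Groth.Agent.Lib.Helper39.HilbPolyAux Groth.Agent.Lib.Helper39.GrStdPoly

theorem isArtinianRing_of_isField (K : Type u) [CommRing K] (hK : IsField K) :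
    IsArtinianRing K := by
  letI : Field K := hK.toField
  infer_instance

section EndDeg
variable {M : Type u} [AddCommGroup M]

theorem endDeg_eq (𝒢 : ℤ → AddSubgroup M) (a : ℤ) (h1 : 𝒢 a ≠ ⊥) (h2 : ∀ n, a < n → 𝒢 n = ⊥) :
    GrLC.endDeg 𝒢 = ((a : WithTop ℤ) : WithBot (WithTop ℤ)) := by
  unfold GrLC.endDeg
  apply le_antisymm
  · refine iSup₂_le fun n hn => ?_
    have : n ≤ a := by
      by_contra hlt
      exact hn (h2 n (by omega))
    exact WithBot.coe_le_coe.mpr (WithTop.coe_le_coe.mpr this)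
  · exact le_iSup₂ (f := fun (n : ℤ) (_ : 𝒢 n ≠ ⊥) => ((n : WithTop ℤ) : WithBot (WithTop ℤ))) a h1

theorem eq_bot_of_endDeg (𝒢 : ℤ → AddSubgroup M) (a : ℤ)
    (h : GrLC.endDeg 𝒢 = ((a : WithTop ℤ) : WithBot (WithTop ℤ))) (n : ℤ) (hn : a < n) :
    𝒢 n = ⊥ := by
  by_contra hne
  have h1 : ((n : WithTop ℤ) : WithBot (WithTop ℤ)) ≤ GrLC.endDeg 𝒢 :=
    le_iSup₂ (f := fun (n : ℤ) (_ : 𝒢 n ≠ ⊥) => ((n : WithTop ℤ) : WithBot (WithTop ℤ))) n hne
  rw [h] at h1
  have : n ≤ a := WithTop.coe_le_coe.mp (WithBot.coe_le_coe.mp h1)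
  omega

end EndDeg

variable (R : Type u) [CommRing R] [LocCoh.IsCohenMacaulayRing R] (𝒜 : ℤ → AddSubgroup R)
  [GradedRing 𝒜] (hpos : ∀ n : ℤ, n < 0 → 𝒜 n = ⊥) (h0 : IsField (GrLC.deg0 𝒜))
  (m : HomogeneousIdeal 𝒜) (hm : GrLC.IsStarLocal 𝒜 m)
  (hmsp : m.toIdeal = Ideal.span (⋃ n ∈ Set.Ioi (0 : ℤ), (𝒜 n : Set R)))
  (hstd : Ideal.span (⋃ n ∈ Set.Ioi (0 : ℤ), (𝒜 n : Set R)) =
    Ideal.span ((𝒜 1 : AddSubgroup R) : Set R))
  (r : ℕ) (hr : ringKrullDim R = r) (I : GrLC.StarInjRes 𝒜 𝒜)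

include hpos h0 hm hstd hr in
theorem forward (ha : GrLC.endDeg (I.Hgr m r) =
      (((-(r : ℤ) : ℤ) : WithTop ℤ) : WithBot (WithTop ℤ))) :
    ∃ x : Fin r → R, (∀ i, x i ∈ 𝒜 1) ∧ Function.Bijective
      (MvPolynomial.aeval x : MvPolynomial (Fin r) (GrLC.deg0 𝒜) →ₐ[GrLC.deg0 𝒜] R) := by
  classical
  haveI : IsArtinianRing (GrLC.deg0 𝒜) := isArtinianRing_of_isField _ h0
  obtain ⟨P, ⟨N, hP⟩, hμ, -, hiff⟩ := GrAInvHilb.hilb_facts R 𝒜 hpos m hm r hr I hstd
  have hvan := eq_bot_of_endDeg (I.Hgr m r) (-(r : ℤ)) ha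
  have hPe : ∀ n : ℤ, -(r : ℤ) < n → P.eval (n : ℚ) = hfun 𝒜 𝒜 n := by
    intro n hn
    by_contra hne
    exact (hiff n).mpr hne (hvan n hn)
  apply exists_bijective_of_hfun_one hpos hstd h0 hr
  rcases r with _ | r'
  · have hP0 : P = 0 := (mu_eq_zero_iff P).mp (by omega)
    have := hPe 1 (by norm_num)
    rw [hP0, eval_zero] at this
    rw [← this]
    simp
  · have hPb : P = binPoly r' := by
      apply eq_binPoly P r' hμ
      · have := hPe 0 (by push_cast; omega)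
        rw [hfun_zero h0] at this
        exact_mod_cast this
      · intro k hk hk'
        have := hPe (-(k : ℤ)) (by push_cast; omega)
        rw [GrAInvHilb.hfun_neg R 𝒜 hpos _ (by omega)] at this
        push_cast at this
        exact this
    have h1 := hPe 1 (by push_cast; omega)
    rw [← h1, hPb]
    have h2 := binPoly_eval_nat r' 1
    rw [Nat.cast_one] at h2
    push_cast
    rw [h2, add_comm 1 r', Nat.choose_succ_self_right]
    push_cast
    ring

include hpos h0 hm hmsp hstd hr in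
theorem backward (e : R ≃+* MvPolynomial (Fin r) (GrLC.deg0 𝒜)) :
    GrLC.endDeg (I.Hgr m r) = (((-(r : ℤ) : ℤ) : WithTop ℤ) : WithBot (WithTop ℤ)) := by
  classical
  haveI : IsArtinianRing (GrLC.deg0 𝒜) := isArtinianRing_of_isField _ h0
  obtain ⟨-, -, hregS⟩ := mvPoly_facts (GrLC.deg0 𝒜) h0 r
  haveI : IsRegularRing R := IsRegularRing.of_ringEquiv e.symm
  obtain ⟨x, hx, hspan⟩ := exists_span_of_regular hpos m hm hmsp hr
  have hbij := bijective_of_span hpos hstd h0 hr x hspan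
  obtain ⟨P, ⟨N, hP⟩, hμ, -, hiff⟩ := GrAInvHilb.hilb_facts R 𝒜 hpos m hm r hr I hstd
  rcases r with _ | r'
  · -- `R = R_0`
    have hP0 : P = 0 := (mu_eq_zero_iff P).mp (by omega)
    have h1bot : ∀ y ∈ 𝒜 1, y = 0 := by
      intro y hy
      have := hspan y hy
      have hempty : Set.range x = ∅ := Set.range_eq_empty x
      rw [hempty, Submodule.span_empty] at this
      exact this
    have hirr : Ideal.span (⋃ n ∈ Set.Ioi (0 : ℤ), (𝒜 n : Set R)) = ⊥ := by
      rw [hstd, Ideal.span_eq_bot]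
      exact h1bot
    have hbot : ∀ n : ℤ, 0 < n → 𝒜 n = ⊥ := by
      intro n hn
      rw [eq_bot_iff]
      intro y hy
      have : y ∈ Ideal.span (⋃ n ∈ Set.Ioi (0 : ℤ), (𝒜 n : Set R)) := by
        apply Ideal.subset_span
        simp only [Set.mem_iUnion, Set.mem_Ioi]
        exact ⟨n, hn, hy⟩
      rw [hirr] at this
      exact this
    have := endDeg_eq (I.Hgr m 0) 0 ((hiff 0).mpr (by
        rw [hP0, eval_zero, hfun_zero h0]; norm_num)) (fun n hn => by
        by_contra hne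
        have := (hiff n).mp hne
        rw [hP0, eval_zero, hfun_eq_zero_of_eq_bot (hbot n hn)] at this
        exact this rfl)
    simpa using this
  · have hchoose := hfun_eq_choose (𝒜 := 𝒜) h0 x hx hbij
    have hPb : P = binPoly r' := by
      apply eq_of_eventually_eq P (binPoly r') (max N 0)
      intro n hn
      obtain ⟨k, rfl⟩ : ∃ k : ℕ, n = (k : ℤ) := ⟨n.toNat, by
        rw [Int.toNat_of_nonneg (le_trans (le_max_right _ _) hn)]⟩
      rw [hP _ (le_trans (le_max_left _ _) hn), hchoose k]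
      have := binPoly_eval_nat r' k
      push_cast at this ⊢
      rw [this]
    apply endDeg_eq
    · rw [hiff, hPb, GrAInvHilb.hfun_neg R 𝒜 hpos _ (by push_cast; omega)]
      have := binPoly_eval_neg_succ r'
      push_cast at this ⊢
      exact this
    · intro n hn
      by_contra hne
      have h1 := (hiff n).mp hne
      apply h1
      rw [hPb]
      by_cases hn0 : 0 ≤ n
      · obtain ⟨k, rfl⟩ : ∃ k : ℕ, n = (k : ℤ) := ⟨n.toNat, by rw [Int.toNat_of_nonneg hn0]⟩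
        rw [hchoose k]
        have := binPoly_eval_nat r' k
        push_cast at this ⊢
        rw [this]
      · obtain ⟨k, hk1, hk2, rfl⟩ : ∃ k : ℕ, 1 ≤ k ∧ k ≤ r' ∧ n = -(k : ℤ) :=
          ⟨(-n).toNat, by omega, by push_cast at hn; omega, by
            rw [Int.toNat_of_nonneg (by omega)]; ring⟩
        rw [GrAInvHilb.hfun_neg R 𝒜 hpos _ (by omega)]
        have := binPoly_eval_neg r' k hk1 hk2
        push_cast at this ⊢
        exact this

end Groth.Agent.Lib.Helper39.GrAInvPoly
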