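import Groth.Agent.Lib.Helper39.GrCofree
import Groth.Agent.Lib.Helper39.GrQuot

/-!
# Existence of *injective resolutions (helper39)
-/

set_option autoImplicit false
universe u

namespace Groth.Agent.Lib.Helper39

open DirectSum GrLC

noncomputable section Res
variable {ι : Type} [AddCommGroup ι] [DecidableEq ι] {R : Type u} [CommRing R]
  (𝒜 : ι → AddSubgroup R) [GradedRing 𝒜]

/-- one stage of the construction of a *injective resolution -/
structure Stage where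
  C : GMod.{u} 𝒜
  X : GMod.{u} 𝒜
  j : C.carrier →ₗ[R] X.carrier
  hj : IsGrHom C.gr X.gr j
  hinj : Function.Injective j
  hX : IsStarInj 𝒜 X.gr

variable {𝒜}

theorem exists_stage (C : GMod.{u} 𝒜) :
    ∃ (X : GMod.{u} 𝒜) (j : C.carrier →ₗ[R] X.carrier), IsGrHom C.gr X.gr j ∧ Function.Injective j ∧
      IsStarInj 𝒜 X.gr :=
  exists_starInj_embedding 𝒜 C.gr

def mkStage (C : GMod.{u} 𝒜) : Stage 𝒜 where
  C := C
  X := (exists_stage C).choose
  j := (exists_stage C).choose_spec.choose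
  hj := (exists_stage C).choose_spec.choose_spec.1
  hinj := (exists_stage C).choose_spec.choose_spec.2.1
  hX := (exists_stage C).choose_spec.choose_spec.2.2

def nextC (s : Stage 𝒜) : GMod.{u} 𝒜 :=
  letI := quotDecomposition s.X.gr (LinearMap.range s.j)
    (IsGrHom.range_isHomogeneous s.C.gr s.X.gr s.hj)
  haveI := quotGradedSMul 𝒜 s.X.gr (LinearMap.range s.j)
  GMod.of 𝒜 (s.X.carrier ⧸ LinearMap.range s.j) (quotPieces s.X.gr (LinearMap.range s.j))

def stage (C₀ : GMod.{u} 𝒜) : ℕ → Stage 𝒜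
  | 0 => mkStage C₀
  | n + 1 => mkStage (nextC (stage C₀ n))

/-- the quotient map `X_n → C_{n+1} = X_n / im j_n` -/
def stageQ (C₀ : GMod.{u} 𝒜) (n : ℕ) :
    (stage C₀ n).X.carrier →ₗ[R] (stage C₀ (n + 1)).C.carrier :=
  (LinearMap.range (stage C₀ n).j).mkQ

theorem stageQ_surjective (C₀ : GMod.{u} 𝒜) (n : ℕ) : Function.Surjective (stageQ C₀ n) :=
  Submodule.mkQ_surjective _

theorem stageQ_eq_zero_iff (C₀ : GMod.{u} 𝒜) (n : ℕ) (x : (stage C₀ n).X.carrier) :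
    stageQ C₀ n x = 0 ↔ x ∈ LinearMap.range (stage C₀ n).j :=
  Submodule.Quotient.mk_eq_zero _

theorem stageQ_grHom (C₀ : GMod.{u} 𝒜) (n : ℕ) :
    IsGrHom (stage C₀ n).X.gr (stage C₀ (n + 1)).C.gr (stageQ C₀ n) :=
  isGrHom_mkQ (stage C₀ n).X.gr _

/-- the differential -/
def stageD (C₀ : GMod.{u} 𝒜) (n : ℕ) :
    (stage C₀ n).X.carrier →ₗ[R] (stage C₀ (n + 1)).X.carrier :=
  (stage C₀ (n + 1)).j ∘ₗ stageQ C₀ n

theorem stageD_grHom (C₀ : GMod.{u} 𝒜) (n : ℕ) :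
    IsGrHom (stage C₀ n).X.gr (stage C₀ (n + 1)).X.gr (stageD C₀ n) := by
  intro i x hx
  exact (stage C₀ (n + 1)).hj i _ (stageQ_grHom C₀ n i x hx)

theorem ker_stageD (C₀ : GMod.{u} 𝒜) (n : ℕ) :
    LinearMap.ker (stageD C₀ n) = LinearMap.range (stage C₀ n).j := by
  ext x
  rw [LinearMap.mem_ker, ← stageQ_eq_zero_iff]
  unfold stageD
  rw [LinearMap.comp_apply]
  constructor
  · intro h
    exact (stage C₀ (n + 1)).hinj (by rw [h, map_zero])
  · intro h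
    rw [h, map_zero]

theorem range_stageD (C₀ : GMod.{u} 𝒜) (n : ℕ) :
    LinearMap.range (stageD C₀ n) = LinearMap.range (stage C₀ (n + 1)).j := by
  ext y
  constructor
  · rintro ⟨x, rfl⟩
    exact ⟨stageQ C₀ n x, rfl⟩
  · rintro ⟨c, rfl⟩
    obtain ⟨x, rfl⟩ := stageQ_surjective C₀ n c
    exact ⟨x, rfl⟩


/-- every graded module has a *injective resolution -/
def starInjRes {M : Type u} [AddCommGroup M] [Module R M] (ℳ : ι → AddSubgroup M)
    [DirectSum.Decomposition ℳ] [SetLike.GradedSMul 𝒜 ℳ] : GrLC.StarInjRes 𝒜 ℳ where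
  X n := (stage (GMod.of 𝒜 M ℳ) n).X
  d n := stageD (GMod.of 𝒜 M ℳ) n
  ε := (stage (GMod.of 𝒜 M ℳ) 0).j
  d_grHom n := stageD_grHom (GMod.of 𝒜 M ℳ) n
  ε_grHom := (stage (GMod.of 𝒜 M ℳ) 0).hj
  ε_injective := (stage (GMod.of 𝒜 M ℳ) 0).hinj
  exact_zero := ker_stageD (GMod.of 𝒜 M ℳ) 0
  exact_succ n := by
    rw [ker_stageD, range_stageD]
  starInj n := (stage (GMod.of 𝒜 M ℳ) n).hX

end Res

end Groth.Agent.Lib.Helper39
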