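import Groth.Agent.Lib.Helper39.GrNak
import Mathlib.RingTheory.Ideal.AssociatedPrime.Finiteness

/-!
# Pieces of finitely generated graded modules over a positively graded Noetherian ring (helper39)
-/

set_option autoImplicit false
universe u

namespace Groth.Agent.Lib.Helper39.GrPieces

open DirectSum GrLC Groth.Agent.Lib.Helper39 Groth.Agent.Lib.Helper39.GrNak

variable {R : Type u} [CommRing R] (𝒜 : ℤ → AddSubgroup R) [GradedRing 𝒜]
  {M : Type u} [AddCommGroup M] [Module R M] (ℳ : ℤ → AddSubgroup M) [DirectSum.Decomposition ℳ]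
  [SetLike.GradedSMul 𝒜 ℳ]

/-- the degree-`n` component of `r • s` when `s` has no components below `n` -/
theorem decompose_smul_of_ge (hpos : ∀ n : ℤ, n < 0 → 𝒜 n = ⊥) {n : ℤ} {s : M}
    (hs : ∀ j, j < n → (decompose ℳ s j : M) = 0) (r : R) :
    (decompose ℳ (r • s) n : M) = (decompose 𝒜 r 0 : R) • (decompose ℳ s n : M) := by
  classical
  conv_lhs => rw [← sum_support_decompose ℳ s]
  rw [Finset.smul_sum, decompose_sum, DFinsupp.finsetSum_apply, AddSubmonoidClass.coe_finsetSum]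
  have key : ∀ j ∈ (decompose ℳ s).support, (decompose ℳ (r • (decompose ℳ s j : M)) n : M) =
      if j = n then (decompose 𝒜 r 0 : R) • (decompose ℳ s n : M) else 0 := by
    intro j _
    have h := decompose_smul_of_right_mem 𝒜 ℳ (SetLike.coe_mem (decompose ℳ s j)) r (n - j)
    rw [sub_add_cancel] at h
    rw [h]
    split_ifs with hjn
    · subst hjn
      rw [sub_self]
    · rcases lt_or_gt_of_ne hjn with hlt | hgt
      · rw [hs j hlt, smul_zero]
      · have : (decompose 𝒜 r (n - j) : R) = 0 := by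
          have h1 : (decompose 𝒜 r (n - j) : R) ∈ 𝒜 (n - j) := SetLike.coe_mem _
          have h2 : 𝒜 (n - j) = ⊥ := hpos (n - j) (by omega)
          have h3 : (decompose 𝒜 r (n - j) : R) ∈ (⊥ : AddSubgroup R) := h2 ▸ h1
          exact h3
        rw [this, zero_smul]
  rw [Finset.sum_congr rfl key, Finset.sum_ite_eq']
  split_ifs with hn
  · rfl
  · rw [DFinsupp.mem_support_iff, not_not] at hn
    rw [hn]
    simp

/-- **Pieces are finitely generated over `R_0`.** -/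
theorem finite_comp [IsNoetherianRing R] [Module.Finite R M] (hpos : ∀ n : ℤ, n < 0 → 𝒜 n = ⊥)
    (n : ℤ) : Module.Finite (GrLC.deg0 𝒜) (GrLC.comp 𝒜 ℳ n) := by
  classical
  have hfg : (geSub (R := R) ℳ n).FG := IsNoetherian.noetherian _
  obtain ⟨S, hS⟩ := hfg
  -- the degree n components of the generators
  let T : Finset (GrLC.comp 𝒜 ℳ n) := S.image (fun s => ⟨(decompose ℳ s n : M), SetLike.coe_mem _⟩)
  refine ⟨⟨T, ?_⟩⟩
  rw [eq_top_iff]
  rintro ⟨m, hm⟩ -
  have hmN : m ∈ geSub (R := R) ℳ n := mem_geSub_of_mem ℳ le_rfl hm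
  rw [← hS] at hmN
  obtain ⟨N, f, g, hfg⟩ := Submodule.mem_span_set'.mp hmN
  have hg : ∀ l, ∀ j, j < n → (decompose ℳ ((g l : M)) j : M) = 0 := fun l =>
    decompose_eq_zero_of_mem_geSub 𝒜 ℳ hpos (hS ▸ Submodule.subset_span (g l).2)
  have h1 : m = ∑ l, (decompose 𝒜 (f l) 0 : R) • (decompose ℳ ((g l : M)) n : M) := by
    have h2 := decompose_of_mem_same ℳ hm
    rw [← h2, ← hfg, decompose_sum, DFinsupp.finsetSum_apply, AddSubmonoidClass.coe_finsetSum]
    exact Finset.sum_congr rfl (fun l _ => decompose_smul_of_ge 𝒜 ℳ hpos (hg l) (f l))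
  have h3 : (⟨m, hm⟩ : GrLC.comp 𝒜 ℳ n) = ∑ l, (⟨(decompose 𝒜 (f l) 0 : R), SetLike.coe_mem _⟩ : GrLC.deg0 𝒜) •
      (⟨(decompose ℳ ((g l : M)) n : M), SetLike.coe_mem _⟩ : GrLC.comp 𝒜 ℳ n) := by
    apply Subtype.ext
    rw [Submodule.coe_sum]
    exact h1
  rw [h3]
  refine Submodule.sum_mem _ (fun l _ => Submodule.smul_mem _ _ (Submodule.subset_span ?_))
  exact Finset.mem_coe.mpr (Finset.mem_image.mpr ⟨(g l : M), (g l).2, rfl⟩)

/-- the degree-zero subring of a Noetherian graded ring is Noetherian -/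
theorem isNoetherianRing_deg0 [IsNoetherianRing R] : IsNoetherianRing (GrLC.deg0 𝒜) := by
  classical
  rw [isNoetherianRing_iff_ideal_fg]
  intro I
  have hJ : (Ideal.span (Subtype.val '' (I : Set (GrLC.deg0 𝒜))) : Ideal R).FG :=
    IsNoetherian.noetherian _
  obtain ⟨T, hTsub, hT⟩ := (Submodule.fg_span_iff_fg_span_finset_subset _).mp hJ
  have hpre : ∀ t ∈ T, ∃ y : GrLC.deg0 𝒜, y ∈ I ∧ (y : R) = t := fun t ht => by
    obtain ⟨y, hy, rfl⟩ := hTsub ht
    exact ⟨y, hy, rfl⟩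
  choose! pre hpreI hpre_eq using hpre
  refine ⟨T.image pre, le_antisymm ?_ ?_⟩
  · rw [Submodule.span_le]
    intro y hy
    obtain ⟨t, ht, rfl⟩ := Finset.mem_image.mp (Finset.mem_coe.mp hy)
    exact hpreI t ht
  · intro x hx
    have hxJ : (x : R) ∈ Ideal.span (Subtype.val '' (I : Set (GrLC.deg0 𝒜))) :=
      Ideal.subset_span ⟨x, hx, rfl⟩
    have hxJ' : (x : R) ∈ Submodule.span R (T : Set R) := by
      rw [← hT]
      exact hxJ
    obtain ⟨N, f, g, hfg⟩ := Submodule.mem_span_set'.mp hxJ'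
    have hg0 : ∀ l, ((g l : R)) ∈ 𝒜 0 := fun l => by
      rw [← hpre_eq _ (g l).2]
      exact (pre (g l)).2
    have h1 : (x : R) = ∑ l, (decompose 𝒜 (f l) 0 : R) * (g l : R) := by
      have h2 := decompose_of_mem_same 𝒜 x.2
      rw [← h2, ← hfg, decompose_sum, DFinsupp.finsetSum_apply, AddSubmonoidClass.coe_finsetSum]
      exact Finset.sum_congr rfl (fun l _ => by
        rw [smul_eq_mul, coe_decompose_mul_of_right_mem_zero 𝒜 (hg0 l)])
    have h3 : x = ∑ l, (⟨(decompose 𝒜 (f l) 0 : R), SetLike.coe_mem _⟩ : GrLC.deg0 𝒜) • pre (g l) := by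
      apply Subtype.ext
      rw [h1]
      simp only [smul_eq_mul]
      rw [AddSubmonoidClass.coe_finsetSum]
      exact Finset.sum_congr rfl (fun l _ => by rw [Subring.coe_mul, hpre_eq _ (g l).2])
    rw [h3]
    refine Submodule.sum_mem _ (fun l _ => Submodule.smul_mem _ _ (Submodule.subset_span ?_))
    exact Finset.mem_coe.mpr (Finset.mem_image.mpr ⟨(g l : R), (g l).2, rfl⟩)

section Irrelevant
variable (a : Ideal R) (ha : a = Ideal.span (⋃ n ∈ Set.Ioi (0 : ℤ), (𝒜 n : Set R)))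

include ha in
theorem mem_irrelevant_of_pos {m : ℤ} (hm : 0 < m) {r : R} (hr : r ∈ 𝒜 m) : r ∈ a := by
  rw [ha]
  apply Ideal.subset_span
  simp only [Set.mem_iUnion, Set.mem_Ioi]
  exact ⟨m, hm, hr⟩

include ha in
/-- elements of large degree lie in high powers of the irrelevant ideal -/
theorem exists_degree_bound [IsNoetherianRing R] :
    ∃ D : ℤ, 0 ≤ D ∧ ∀ (k : ℕ) (m : ℤ), (k : ℤ) * D < m → ∀ r ∈ 𝒜 m, r ∈ a ^ (k + 1) := by
  classical
  have hfg : (Ideal.span (⋃ n ∈ Set.Ioi (0 : ℤ), (𝒜 n : Set R)) : Ideal R).FG :=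
    IsNoetherian.noetherian _
  obtain ⟨T, hTsub, hT⟩ := (Submodule.fg_span_iff_fg_span_finset_subset _).mp hfg
  have hdeg : ∀ t ∈ T, ∃ n : ℤ, 0 < n ∧ t ∈ 𝒜 n := fun t ht => by
    have := hTsub ht
    simp only [Set.mem_iUnion, Set.mem_Ioi] at this
    obtain ⟨n, hn, htn⟩ := this
    exact ⟨n, hn, htn⟩
  choose! deg hdegpos hdegmem using hdeg
  obtain ⟨D₀, hD₀⟩ := (T.image deg).exists_le
  refine ⟨max D₀ 0, le_max_right _ _, ?_⟩
  intro k
  induction k with
  | zero =>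
    intro m hm r hr
    rw [zero_add, pow_one]
    exact mem_irrelevant_of_pos 𝒜 a ha (by simpa using hm) hr
  | succ k ih =>
    intro m hm r hr
    have hD : (0 : ℤ) ≤ max D₀ 0 := le_max_right _ _
    have hmpos : 0 < m := lt_of_le_of_lt (mul_nonneg (by positivity) hD) hm
    have hra : r ∈ a := mem_irrelevant_of_pos 𝒜 a ha hmpos hr
    have hra' : r ∈ Submodule.span R (T : Set R) := by
      rw [← hT]
      rw [ha] at hra
      exact hra
    obtain ⟨N, f, g, rfl⟩ := Submodule.mem_span_set'.mp hra'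
    have h1 := decompose_of_mem_same 𝒜 hr
    rw [← h1, decompose_sum, DFinsupp.finsetSum_apply, AddSubmonoidClass.coe_finsetSum]
    refine Ideal.sum_mem _ (fun l _ => ?_)
    have hgl : (g l : R) ∈ 𝒜 (deg (g l)) := hdegmem _ (g l).2
    have h2 := coe_decompose_mul_add_of_right_mem 𝒜 (a := f l) (i := m - deg (g l)) hgl
    rw [sub_add_cancel] at h2
    rw [smul_eq_mul, h2, pow_succ]
    refine Ideal.mul_mem_mul (ih _ ?_ _ (SetLike.coe_mem _)) ?_
    · have hle : deg (g l) ≤ max D₀ 0 :=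
        (hD₀ _ (Finset.mem_image_of_mem _ (g l).2)).trans (le_max_left _ _)
      push_cast at hm
      linarith
    · exact mem_irrelevant_of_pos 𝒜 a ha (hdegpos _ (g l).2) hgl

include ha in
/-- a finitely generated `R_+`-power torsion graded module over a positively graded Noetherian ring
vanishes in high degrees -/
theorem eventually_bot_of_torsion' [IsNoetherianRing R] [Module.Finite R M]
    (htor : ∀ x : M, ∃ k : ℕ, ∀ r ∈ a ^ k, r • x = 0) :
    ∃ n₀ : ℤ, ∀ n, n₀ ≤ n → ℳ n = ⊥ := by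
  classical
  obtain ⟨S, hSdeg, hSspan⟩ := exists_homogeneous_generators (R := R) ℳ
  choose! deg hdeg using hSdeg
  choose k hk using htor
  have hK : ∀ s ∈ S, ∀ r ∈ a ^ (S.sup k), r • s = 0 := fun s hs r hr =>
    hk s r (Ideal.pow_le_pow_right (Finset.le_sup hs) hr)
  obtain ⟨Dg, hDg⟩ := (S.image deg).exists_le
  obtain ⟨D, hD0, hD⟩ := exists_degree_bound 𝒜 a ha
  refine ⟨Dg + (S.sup k : ℕ) * D + 1, fun n hn => ?_⟩
  rw [eq_bot_iff]
  intro m hm
  have hmS : m ∈ Submodule.span R (S : Set M) := hSspan ▸ Submodule.mem_top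
  obtain ⟨N, f, g, rfl⟩ := Submodule.mem_span_set'.mp hmS
  have h1 := decompose_of_mem_same ℳ hm
  rw [AddSubgroup.mem_bot, ← h1, decompose_sum, DFinsupp.finsetSum_apply,
    AddSubmonoidClass.coe_finsetSum]
  apply Finset.sum_eq_zero
  intro l _
  have hg : (g l : M) ∈ ℳ (deg (g l)) := hdeg _ (g l).2
  have h2 := decompose_smul_of_right_mem 𝒜 ℳ hg (f l) (n - deg (g l))
  rw [sub_add_cancel] at h2
  rw [h2]
  have hdl : deg (g l) ≤ Dg := hDg _ (Finset.mem_image_of_mem _ (g l).2)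
  have h3 : (decompose 𝒜 (f l) (n - deg (g l)) : R) ∈ a ^ (S.sup k + 1) :=
    hD (S.sup k) (n - deg (g l)) (by linarith) _ (SetLike.coe_mem _)
  exact hK _ (g l).2 _ (Ideal.pow_le_pow_right (Nat.le_succ _) h3)

theorem deg_nonneg_of_ne_zero (hpos : ∀ n : ℤ, n < 0 → 𝒜 n = ⊥) {j : ℤ} {y : R} (hy : y ∈ 𝒜 j)
    (hy0 : y ≠ 0) : 0 ≤ j := by
  by_contra h
  rw [not_le] at h
  have h1 : y ∈ (⊥ : AddSubgroup R) := hpos j h ▸ hy
  exact hy0 h1

include ha in
theorem exists_aux_y (hpos : ∀ n : ℤ, n < 0 → 𝒜 n = ⊥) (Q : Ideal R) [hQp : Q.IsPrime]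
    (hQ : ¬ a ≤ Q) (S' : Finset (Ideal R)) :
    ∃ (e : ℤ) (y : R), 0 < e ∧ y ∈ 𝒜 e ∧ y ∉ Q ∧
      ∀ P ∈ S', (∃ (j : ℤ) (y' : R), y' ∈ 𝒜 j ∧ y' ∈ P ∧ y' ∉ Q) → y ∈ P := by
  classical
  induction S' using Finset.induction_on with
  | empty =>
    have : ¬ (⋃ n ∈ Set.Ioi (0 : ℤ), (𝒜 n : Set R)) ⊆ (Q : Set R) := fun h =>
      hQ (ha ▸ Ideal.span_le.mpr h)
    rw [Set.not_subset] at this
    obtain ⟨y, hy, hyQ⟩ := this
    simp only [Set.mem_iUnion, Set.mem_Ioi] at hy
    obtain ⟨n, hn, hyn⟩ := hy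
    exact ⟨n, y, hn, hyn, hyQ, fun P hP => absurd hP (Finset.notMem_empty P)⟩
  | insert P S' _ ih =>
    obtain ⟨e, y, he, hye, hyQ, hyP⟩ := ih
    by_cases hex : ∃ (j : ℤ) (y' : R), y' ∈ 𝒜 j ∧ y' ∈ P ∧ y' ∉ Q
    · obtain ⟨j, y', hy'j, hy'P, hy'Q⟩ := hex
      have hj : 0 ≤ j := deg_nonneg_of_ne_zero 𝒜 hpos hy'j (fun h => hy'Q (h ▸ Q.zero_mem))
      refine ⟨e + j, y * y', by omega, SetLike.GradedMul.mul_mem hye hy'j, ?_, ?_⟩
      · intro h
        rcases hQp.mem_or_mem h with h | h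
        · exact hyQ h
        · exact hy'Q h
      · intro P' hP' hex'
        rcases Finset.mem_insert.mp hP' with rfl | hP'
        · exact Ideal.mul_mem_left _ _ hy'P
        · exact Ideal.mul_mem_right _ _ (hyP P' hP' hex')
    · refine ⟨e, y, he, hye, hyQ, ?_⟩
      intro P' hP' hex'
      rcases Finset.mem_insert.mp hP' with rfl | hP'
      · exact absurd hex' hex
      · exact hyP P' hP' hex'

include ha in
/-- **Homogeneous prime avoidance** for the irrelevant ideal. -/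
theorem exists_homogeneous_notMem (hpos : ∀ n : ℤ, n < 0 → 𝒜 n = ⊥) (S : Finset (Ideal R))
    (hS : ∀ P ∈ S, P.IsPrime ∧ ¬ a ≤ P) :
    ∃ (d : ℤ) (x : R), 0 < d ∧ x ∈ 𝒜 d ∧ ∀ P ∈ S, x ∉ P := by
  classical
  induction S using Finset.induction_on with
  | empty => exact ⟨1, 0, one_pos, zero_mem _, fun P hP => absurd hP (Finset.notMem_empty P)⟩
  | insert Q S' _ ih =>
    obtain ⟨d, x, hd, hxd, hxS⟩ := ih (fun P hP => hS P (Finset.mem_insert_of_mem hP))
    haveI hQp : Q.IsPrime := (hS Q (Finset.mem_insert_self _ _)).1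
    have hQ : ¬ a ≤ Q := (hS Q (Finset.mem_insert_self _ _)).2
    by_cases hxQ : x ∈ Q
    · obtain ⟨e, y, he, hye, hyQ, hyP⟩ := exists_aux_y 𝒜 a ha hpos Q hQ S'
      -- z = x^e + y^d
      have hxe : x ^ e.toNat ∈ 𝒜 (d * e) := by
        have := SetLike.pow_mem_graded e.toNat hxd
        rwa [nsmul_eq_mul, Int.toNat_of_nonneg he.le, mul_comm] at this
      have hyd : y ^ d.toNat ∈ 𝒜 (d * e) := by
        have := SetLike.pow_mem_graded d.toNat hye
        rwa [nsmul_eq_mul, Int.toNat_of_nonneg hd.le] at this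
      have he' : e.toNat ≠ 0 := by omega
      have hd' : d.toNat ≠ 0 := by omega
      refine ⟨d * e, x ^ e.toNat + y ^ d.toNat, mul_pos hd he, add_mem hxe hyd, ?_⟩
      have hzQ : x ^ e.toNat + y ^ d.toNat ∉ Q := by
        intro h
        have h1 : x ^ e.toNat ∈ Q := Ideal.pow_mem_of_mem _ hxQ _ (Nat.pos_of_ne_zero he')
        have h2 : y ^ d.toNat ∈ Q := (Ideal.add_mem_iff_right _ h1).mp h
        exact hyQ (hQp.mem_of_pow_mem _ h2)
      intro P hP
      rcases Finset.mem_insert.mp hP with rfl | hP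
      · exact hzQ
      · haveI hPp : P.IsPrime := (hS P (Finset.mem_insert_of_mem hP)).1
        by_cases hex : ∃ (j : ℤ) (y' : R), y' ∈ 𝒜 j ∧ y' ∈ P ∧ y' ∉ Q
        · have hyP' : y ∈ P := hyP P hP hex
          intro h
          have h2 : y ^ d.toNat ∈ P := Ideal.pow_mem_of_mem _ hyP' _ (Nat.pos_of_ne_zero hd')
          have h1 : x ^ e.toNat ∈ P := (Ideal.add_mem_iff_left _ h2).mp h
          exact hxS P hP (hPp.mem_of_pow_mem _ h1)
        · intro h
          exact hex ⟨d * e, _, add_mem hxe hyd, h, hzQ⟩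
    · refine ⟨d, x, hd, hxd, fun P hP => ?_⟩
      rcases Finset.mem_insert.mp hP with rfl | hP
      · exact hxQ
      · exact hxS P hP

include ha in
/-- a finitely generated graded module without `R_+`-torsion has a homogeneous non-zerodivisor of
positive degree -/
theorem exists_homogeneous_regular [IsNoetherianRing R] [Module.Finite R M]
    (hpos : ∀ n : ℤ, n < 0 → 𝒜 n = ⊥) (hΓ : GrLC.gam a M = ⊥) :
    ∃ (d : ℤ) (x : R), 0 < d ∧ x ∈ 𝒜 d ∧ IsSMulRegular M x := by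
  classical
  have hfin : (associatedPrimes R M).Finite := associatedPrimes.finite R M
  obtain ⟨d, x, hd, hxd, hx⟩ := exists_homogeneous_notMem 𝒜 a ha hpos hfin.toFinset (by
    intro P hP
    rw [Set.Finite.mem_toFinset] at hP
    refine ⟨hP.isPrime, fun hle => ?_⟩
    obtain ⟨hPp, m, hm⟩ := (isAssociatedPrime_iff).mp hP
    have hmΓ : m ∈ GrLC.gam a M := by
      refine ⟨1, fun r hr => ?_⟩
      rw [pow_one] at hr
      have := hle hr
      rw [hm, Submodule.mem_colon_singleton, Submodule.mem_bot] at this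
      exact this
    rw [hΓ, Submodule.mem_bot] at hmΓ
    apply hPp.ne_top
    rw [hm, hmΓ, eq_top_iff]
    intro r _
    rw [Submodule.mem_colon_singleton, smul_zero]
    exact Submodule.zero_mem _)
  refine ⟨d, x, hd, hxd, ?_⟩
  have hzd : x ∉ { r : R | ∃ m : M, m ≠ 0 ∧ r • m = 0 } := by
    rw [← biUnion_associatedPrimes_eq_zero_divisors]
    simp only [Set.mem_iUnion, not_exists]
    intro P hP hxP
    exact hx P (hfin.mem_toFinset.mpr hP) hxP
  intro m m' hmm
  by_contra hne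
  apply hzd
  refine ⟨m - m', sub_ne_zero.mpr hne, ?_⟩
  rw [smul_sub, sub_eq_zero]
  exact hmm

end Irrelevant

end Groth.Agent.Lib.Helper39.GrPieces
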