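import Groth.Agent.Lib.Helper39.GrLes6
import Groth.Agent.Lib.Helper39.GrPieces
import Groth.Agent.Lib.Helper39.GrSub
import Groth.Agent.S13224
import Groth.Agent.S13215
import Groth.Agent.Lib.Helper60.GrothVanishing

/-!
# Finiteness and vanishing of the pieces of graded local cohomology w.r.t. the irrelevant ideal
(helper39)
-/

set_option autoImplicit false
universe u

namespace Groth.Agent.Lib.Helper39.GrRegVanish

open DirectSum GrLC Groth.Agent.Lib.Helper39 Groth.Agent.Lib.Helper39.GrLes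
  Groth.Agent.Lib.Helper39.GrPieces

section General
variable {ι : Type} [AddCommGroup ι] [DecidableEq ι] {R : Type u} [CommRing R]
  {𝒜 : ι → AddSubgroup R} [GradedRing 𝒜]
  {M : Type u} [AddCommGroup M] [Module R M] {ℳ : ι → AddSubgroup M} [DirectSum.Decomposition ℳ]
  [SetLike.GradedSMul 𝒜 ℳ]

/-- graded local cohomology is torsion -/
theorem exists_pow_smul_eq_zero (E : StarInjRes 𝒜 ℳ) (a : HomogeneousIdeal 𝒜) (k : ℕ)
    (y : E.H a k) {x : R} (hx : x ∈ a.toIdeal) : ∃ j : ℕ, x ^ j • y = 0 := by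
  obtain ⟨z, rfl⟩ := Submodule.mkQ_surjective _ y
  obtain ⟨j, hj⟩ := z.2.1
  refine ⟨j, ?_⟩
  rw [← map_smul]
  have : x ^ j • z = 0 := by
    apply Subtype.ext
    rw [Submodule.coe_smul, hj _ (Ideal.pow_mem_pow hx j)]
    rfl
  rw [this, map_zero]

/-- a preimage under a homogeneous map of degree `g` of a homogeneous element can be chosen
homogeneous -/
theorem exists_mem_of_isInternal_deg {A B : Type u} [AddCommGroup A] [Module R A]
    [AddCommGroup B] [Module R B] {𝓐 : ι → AddSubgroup A} {ℬ : ι → AddSubgroup B}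
    (hA : DirectSum.IsInternal 𝓐) (hB : DirectSum.IsInternal ℬ)
    (f : A →ₗ[R] B) {g : ι} (hf : IsGrHomDeg 𝓐 ℬ f g) {h : ι} {b : B} (hb : b ∈ ℬ (h + g)) (y : A)
    (hy : f y = b) : ∃ y' ∈ 𝓐 h, f y' = b := by
  letI := hB.chooseDecomposition
  letI := shiftDecomposition ℬ g
  exact exists_mem_of_isInternal hA (DirectSum.Decomposition.isInternal (shiftPieces ℬ g)) f
    (fun j x hx => hf j x hx) (h := h) hb y hy

/-- the zeroth graded local cohomology: classes of `ε m` with `m` torsion -/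
theorem exists_eq_toH_ε (E : StarInjRes 𝒜 ℳ) (a : HomogeneousIdeal 𝒜) (n : ι) (y : E.H a 0)
    (hy : y ∈ E.Hgr a 0 n) :
    ∃ (m : M) (hm : E.ε m ∈ E.cocyc a 0), m ∈ ℳ n ∧ m ∈ gam a.toIdeal M ∧ E.toH a 0 ⟨E.ε m, hm⟩ = y := by
  obtain ⟨z, hzn, rfl⟩ := hy
  have hz : (z : (E.X 0).carrier) ∈ LinearMap.range E.ε := by
    rw [← E.exact_zero]
    exact z.2.2
  obtain ⟨m, hm⟩ := hz
  have hmc : E.ε m ∈ E.cocyc a 0 := hm ▸ z.2
  refine ⟨m, hmc, ?_, ?_, ?_⟩
  · exact IsGrHom.mem_of_injective ℳ (E.X 0).gr E.ε_grHom E.ε_injective (hm ▸ hzn)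
  · obtain ⟨j, hj⟩ := z.2.1
    refine ⟨j, fun r hr => ?_⟩
    apply E.ε_injective
    rw [map_smul, hm, hj r hr, map_zero]
  · congr 1
    exact Subtype.ext hm

/-- multiplication by a homogeneous element shifts the degree on graded local cohomology -/
theorem smul_mem_Hgr (E : StarInjRes 𝒜 ℳ) (a : HomogeneousIdeal 𝒜) (k : ℕ) {d n : ι} {x : R}
    (hx : x ∈ 𝒜 d) {y : E.H a k} (hy : y ∈ E.Hgr a k n) : x • y ∈ E.Hgr a k (n + d) := by
  have := Hmap_isGrHomDeg (E := E) (F := E) a (isGrHomDeg_smul hx) k n y hy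
  rwa [Hmap_smul a hx] at this

theorem range_smul_isHomogeneous {d : ι} {x : R} (hx : x ∈ 𝒜 d) :
    (LinearMap.range (x • (LinearMap.id : M →ₗ[R] M))).IsHomogeneous ℳ := by
  rintro j _ ⟨m, rfl⟩
  refine ⟨(decompose ℳ m (j - d) : M), ?_⟩
  have := decompose_smul_of_mem 𝒜 ℳ hx m (j - d)
  rw [add_sub_cancel] at this
  simp only [LinearMap.smul_apply, LinearMap.id_coe, id_eq]
  exact this.symm

variable [Module.Free ℤ ι] [Module.Finite ℤ ι] [IsNoetherianRing R]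

/-- **Reduction modulo torsion**: `H^i_a(M) → H^i_a(M/Γ_a(M))` is injective for `i ≥ 1`. -/
theorem Hmap_mkQ_gam_injective (a : HomogeneousIdeal 𝒜) (E : StarInjRes 𝒜 ℳ) (i : ℕ) (hi : 1 ≤ i) :
    letI := quotDecomposition ℳ (gam a.toIdeal M) (gam_isHomogeneous 𝒜 ℳ a)
    haveI := quotGradedSMul 𝒜 ℳ (gam a.toIdeal M)
    ∀ F : StarInjRes 𝒜 (quotPieces ℳ (gam a.toIdeal M)),
      Function.Injective (Hmap₀ E F a (gam a.toIdeal M).mkQ (isGrHom_mkQ ℳ (gam a.toIdeal M)) i) := by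
  letI := quotDecomposition ℳ (gam a.toIdeal M) (gam_isHomogeneous 𝒜 ℳ a)
  haveI := quotGradedSMul 𝒜 ℳ (gam a.toIdeal M)
  letI decΓ := subDecomposition ℳ (gam a.toIdeal M) (gam_isHomogeneous 𝒜 ℳ a)
  haveI smulΓ := subGradedSMul 𝒜 ℳ (gam a.toIdeal M)
  intro F
  obtain ⟨EΓ⟩ := Groth.Agent.S13215.result R 𝒜 (gam a.toIdeal M) (subPieces ℳ (gam a.toIdeal M))
  have S : GrSES (subPieces ℳ (gam a.toIdeal M)) ℳ (quotPieces ℳ (gam a.toIdeal M))
      (gam a.toIdeal M).subtype (gam a.toIdeal M).mkQ :=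
    { i_grHom := isGrHom_subtype ℳ (gam a.toIdeal M)
      p_grHom := isGrHom_mkQ ℳ (gam a.toIdeal M)
      i_inj := Subtype.val_injective
      p_surj := Submodule.mkQ_surjective _
      exact := by rw [Submodule.ker_mkQ, Submodule.range_subtype] }
  obtain ⟨δ, hδ, h1, h2, h3⟩ := exists_les S EΓ E F a
  have htor : ∀ x : gam a.toIdeal M, ∃ k : ℕ, ∀ r ∈ a.toIdeal ^ k, r • x = 0 := by
    rintro ⟨x, k, hk⟩
    exact ⟨k, fun r hr => Subtype.ext (hk r hr)⟩
  have hsub : Subsingleton (EΓ.H a i) := by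
    obtain ⟨e⟩ := Groth.Agent.S13224.result R 𝒜 a (gam a.toIdeal M) (subPieces ℳ (gam a.toIdeal M)) EΓ i
    have := Groth.Agent.Lib.Helper60.lc_subsingleton_of_torsion a.toIdeal i (by omega)
      (ModuleCat.of R (gam a.toIdeal M)) htor
    exact e.injective.subsingleton
  rw [← LinearMap.ker_eq_bot, eq_bot_iff]
  intro y hy
  obtain ⟨w, hw⟩ := (h1 i y).mp (LinearMap.mem_ker.mp hy)
  rw [Submodule.mem_bot, ← hw, Subsingleton.elim w 0, map_zero]

end General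

section Irrelevant
variable {R : Type u} [CommRing R] [IsNoetherianRing R] (𝒜 : ℤ → AddSubgroup R) [GradedRing 𝒜]
  (hpos : ∀ n : ℤ, n < 0 → 𝒜 n = ⊥) (a : HomogeneousIdeal 𝒜)
  (ha : a.toIdeal = Ideal.span (⋃ n ∈ Set.Ioi (0 : ℤ), (𝒜 n : Set R)))

/-- the map `Γ_a(M) → H^0` -/
def psiGam {M : Type u} [AddCommGroup M] [Module R M] {ℳ : ℤ → AddSubgroup M}
    [DirectSum.Decomposition ℳ] [SetLike.GradedSMul 𝒜 ℳ] (E : StarInjRes 𝒜 ℳ) :
    gam a.toIdeal M →ₗ[R] E.H a 0 :=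
  (E.toH a 0) ∘ₗ (LinearMap.codRestrict (E.cocyc a 0) (E.ε ∘ₗ (gam a.toIdeal M).subtype)
    (fun m => ⟨gam_map a.toIdeal E.ε m.2, LinearMap.mem_ker.mpr (d_ε E m)⟩))

include hpos ha in
theorem zero_case (M : Type u) [AddCommGroup M] [Module R M] [Module.Finite R M]
    (ℳ : ℤ → AddSubgroup M) [DirectSum.Decomposition ℳ] [SetLike.GradedSMul 𝒜 ℳ]
    (E : StarInjRes 𝒜 ℳ) :
    (∃ r : ℤ, ∀ n, r ≤ n → E.Hcomp a 0 n = ⊥) ∧ ∀ n, (E.Hcomp a 0 n).FG := by
  classical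
  letI decΓ := subDecomposition ℳ (gam a.toIdeal M) (gam_isHomogeneous 𝒜 ℳ a)
  haveI smulΓ := subGradedSMul 𝒜 ℳ (gam a.toIdeal M)
  have htor : ∀ x : gam a.toIdeal M, ∃ k : ℕ, ∀ r ∈ a.toIdeal ^ k, r • x = 0 := by
    rintro ⟨x, k, hk⟩
    exact ⟨k, fun r hr => Subtype.ext (hk r hr)⟩
  constructor
  · obtain ⟨n₀, hn₀⟩ := eventually_bot_of_torsion' 𝒜 (subPieces ℳ (gam a.toIdeal M)) a.toIdeal ha htor
    refine ⟨n₀, fun n hn => ?_⟩
    rw [eq_bot_iff]
    intro y hy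
    obtain ⟨m, hmc, hmn, hmΓ, rfl⟩ := exists_eq_toH_ε E a n y hy
    have h1 : (⟨m, hmΓ⟩ : gam a.toIdeal M) ∈ subPieces ℳ (gam a.toIdeal M) n := hmn
    rw [hn₀ n hn] at h1
    have h2 : m = 0 := congrArg Subtype.val (AddSubgroup.mem_bot.mp h1)
    subst h2
    rw [Submodule.mem_bot]
    have : (⟨E.ε 0, hmc⟩ : E.cocyc a 0) = 0 := Subtype.ext (map_zero _)
    rw [this, map_zero]
  · intro n
    have hfin := finite_comp 𝒜 (subPieces ℳ (gam a.toIdeal M)) hpos n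
    have hfg : (GrLC.comp 𝒜 (subPieces ℳ (gam a.toIdeal M)) n).FG := Module.Finite.iff_fg.mp hfin
    have heq : E.Hcomp a 0 n = (GrLC.comp 𝒜 (subPieces ℳ (gam a.toIdeal M)) n).map
        ((psiGam 𝒜 a E).restrictScalars (GrLC.deg0 𝒜)) := by
      apply le_antisymm
      · intro y hy
        obtain ⟨m, hmc, hmn, hmΓ, rfl⟩ := exists_eq_toH_ε E a n y hy
        exact ⟨⟨m, hmΓ⟩, hmn, rfl⟩
      · rintro _ ⟨⟨m, hmΓ⟩, hmn, rfl⟩
        exact ⟨⟨E.ε m, _⟩, E.ε_grHom n m hmn, rfl⟩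
    rw [heq]
    exact hfg.map _

theorem fg_of_le_of_fg {S : Type*} [CommRing S] [IsNoetherianRing S] {P : Type*} [AddCommGroup P]
    [Module S P] {p q : Submodule S P} (hle : p ≤ q) (hq : q.FG) : p.FG := by
  haveI : IsNoetherian S q := isNoetherian_of_fg_of_noetherian q hq
  have h1 : (p.comap q.subtype).FG := IsNoetherian.noetherian _
  have h2 := h1.map q.subtype
  rwa [Submodule.map_comap_subtype, inf_eq_right.mpr hle] at h2

include hpos ha in
/-- the step of the induction using a homogeneous non-zerodivisor of positive degree -/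
theorem reg_step {M : Type u} [AddCommGroup M] [Module R M]
    {ℳ : ℤ → AddSubgroup M} [DirectSum.Decomposition ℳ] [SetLike.GradedSMul 𝒜 ℳ]
    {N : Type u} [AddCommGroup N] [Module R N]
    {𝒩 : ℤ → AddSubgroup N} [DirectSum.Decomposition 𝒩] [SetLike.GradedSMul 𝒜 𝒩]
    {d : ℤ} (hd : 0 < d) {x : R} (hx : x ∈ 𝒜 d) (hreg : IsSMulRegular M x)
    (π : M →ₗ[R] N) (hπ : Function.Surjective π) (hπg : IsGrHom ℳ 𝒩 π)
    (hker : LinearMap.ker π = LinearMap.range (x • (LinearMap.id : M →ₗ[R] M)))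
    (E : StarInjRes 𝒜 ℳ) (F : StarInjRes 𝒜 𝒩) (i : ℕ)
    (IH : (∃ r : ℤ, ∀ n, r ≤ n → F.Hcomp a i n = ⊥) ∧ ∀ n, (F.Hcomp a i n).FG) :
    (∃ r : ℤ, ∀ n, r ≤ n → E.Hcomp a (i + 1) n = ⊥) ∧ ∀ n, (E.Hcomp a (i + 1) n).FG := by
  classical
  haveI := isNoetherianRing_deg0 𝒜
  obtain ⟨⟨r', hr'⟩, hfgF⟩ := IH
  have hxa : x ∈ a.toIdeal := mem_irrelevant_of_pos 𝒜 a.toIdeal ha hd hx
  obtain ⟨δ, hδ, h1, h2, h3, h4⟩ := exists_les_smul hx hreg π hπ hπg hker E F a
  -- key fact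
  have K : ∀ n : ℤ, ∀ y ∈ E.Hgr a (i + 1) n, x • y = 0 → ∃ w ∈ F.Hgr a i (n + d), δ i w = y := by
    intro n y hy hxy
    obtain ⟨w₀, hw₀⟩ := (h3 i y).mp hxy
    have hy' : y ∈ E.Hgr a (i + 1) (n + d + -d) := by rwa [add_neg_cancel_right]
    exact exists_mem_of_isInternal_deg (Hgr_isInternal F a i) (Hgr_isInternal E a (i + 1)) (δ i)
      (hδ i) hy' w₀ hw₀
  -- vanishing
  have aux : ∀ j : ℕ, ∀ n, r' - d ≤ n → ∀ y ∈ E.Hgr a (i + 1) n, x ^ j • y = 0 → y = 0 := by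
    intro j
    induction j with
    | zero =>
      intro n _ y _ hj
      simpa using hj
    | succ j ih =>
      intro n hn y hy' hj
      have hxy : x • y = 0 := by
        apply ih (n + d) (by omega) (x • y) (smul_mem_Hgr E a (i + 1) hx hy')
        rw [← mul_smul, ← pow_succ]
        exact hj
      obtain ⟨w, hw, rfl⟩ := K n y hy' hxy
      have hw' : w ∈ F.Hcomp a i (n + d) := hw
      rw [hr' (n + d) (by omega), Submodule.mem_bot] at hw'
      rw [hw', map_zero]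
  have hvan : ∀ n, r' - d ≤ n → E.Hcomp a (i + 1) n = ⊥ := by
    intro n hn
    rw [eq_bot_iff]
    intro y hy
    rw [Submodule.mem_bot]
    obtain ⟨j, hj⟩ := exists_pow_smul_eq_zero E a (i + 1) y hxa
    exact aux j n hn y hy hj
  refine ⟨⟨r' - d, hvan⟩, ?_⟩
  -- finiteness
  have hfg : ∀ t : ℕ, ∀ n : ℤ, r' - d - t * d ≤ n → (E.Hcomp a (i + 1) n).FG := by
    intro t
    induction t with
    | zero =>
      intro n hn
      rw [hvan n (by simpa using hn)]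
      exact Submodule.fg_bot
    | succ t ih =>
      intro n hn
      have hnext : (E.Hcomp a (i + 1) (n + d)).FG := ih (n + d) (by push_cast at hn; linarith)
      let f : E.H a (i + 1) →ₗ[GrLC.deg0 𝒜] E.H a (i + 1) :=
        (x • (LinearMap.id : E.H a (i + 1) →ₗ[R] E.H a (i + 1))).restrictScalars (GrLC.deg0 𝒜)
      apply Submodule.fg_of_fg_map_of_fg_inf_ker f
      · refine fg_of_le_of_fg ?_ hnext
        rintro _ ⟨y, hy, rfl⟩
        exact smul_mem_Hgr E a (i + 1) hx hy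
      · have heq : E.Hcomp a (i + 1) n ⊓ LinearMap.ker f =
            (F.Hcomp a i (n + d)).map ((δ i).restrictScalars (GrLC.deg0 𝒜)) := by
          apply le_antisymm
          · rintro y ⟨hy, hyk⟩
            have hxy : x • y = 0 := LinearMap.mem_ker.mp hyk
            obtain ⟨w, hw, hwy⟩ := K n y hy hxy
            exact ⟨w, hw, hwy⟩
          · rintro _ ⟨w, hw, rfl⟩
            refine ⟨?_, ?_⟩
            · have := hδ i (n + d) w hw
              rwa [add_neg_cancel_right] at this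
            · exact LinearMap.mem_ker.mpr ((h3 i (δ i w)).mpr ⟨w, rfl⟩)
        rw [heq]
        exact (hfgF (n + d)).map _
  intro n
  by_cases hn : r' - d ≤ n
  · exact hfg 0 n (by simpa using hn)
  · have hdpos : (0 : ℤ) < d := hd
    refine hfg (r' - d - n).toNat n ?_
    have h5 : ((r' - d - n).toNat : ℤ) = r' - d - n := Int.toNat_of_nonneg (by omega)
    rw [h5]
    nlinarith

include hpos ha in
/-- **Main theorem**: for a finitely generated graded module over a positively graded Noetherian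
ring, the pieces of `H^i_{R_+}(M)` are finitely generated over `R_0` and vanish in high degrees. -/
theorem main (i : ℕ) : ∀ (M : Type u) [AddCommGroup M] [Module R M] [Module.Finite R M]
    (ℳ : ℤ → AddSubgroup M) [DirectSum.Decomposition ℳ] [SetLike.GradedSMul 𝒜 ℳ]
    (E : StarInjRes 𝒜 ℳ),
    (∃ r : ℤ, ∀ n, r ≤ n → E.Hcomp a i n = ⊥) ∧ ∀ n, (E.Hcomp a i n).FG := by
  classical
  haveI := isNoetherianRing_deg0 𝒜
  induction i with
  | zero =>
    intro M _ _ _ ℳ _ _ E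
    exact zero_case 𝒜 hpos a ha M ℳ E
  | succ i ih =>
    intro M _ _ _ ℳ _ _ E
    -- reduce modulo torsion
    letI decQ := quotDecomposition ℳ (gam a.toIdeal M) (gam_isHomogeneous 𝒜 ℳ a)
    haveI smulQ := quotGradedSMul 𝒜 ℳ (gam a.toIdeal M)
    obtain ⟨Ebar⟩ := Groth.Agent.S13215.result R 𝒜 (M ⧸ gam a.toIdeal M)
      (quotPieces ℳ (gam a.toIdeal M))
    have hinj := Hmap_mkQ_gam_injective a E (i + 1) (by omega) Ebar
    have hgr := Hmap₀_isGrHom E Ebar a (gam a.toIdeal M).mkQ (isGrHom_mkQ ℳ (gam a.toIdeal M)) (i + 1)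
    suffices hbar : (∃ r : ℤ, ∀ n, r ≤ n → Ebar.Hcomp a (i + 1) n = ⊥) ∧
        ∀ n, (Ebar.Hcomp a (i + 1) n).FG by
      obtain ⟨⟨r, hr⟩, hfg⟩ := hbar
      refine ⟨⟨r, fun n hn => ?_⟩, fun n => ?_⟩
      · rw [eq_bot_iff]
        intro y hy
        have h1 : Hmap₀ E Ebar a (gam a.toIdeal M).mkQ (isGrHom_mkQ ℳ (gam a.toIdeal M)) (i + 1) y ∈
            Ebar.Hcomp a (i + 1) n := hgr n y hy
        rw [hr n hn, Submodule.mem_bot] at h1
        rw [Submodule.mem_bot]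
        exact hinj (by rw [h1, map_zero])
      · -- injective image inside a finitely generated module over a Noetherian ring
        let f : E.H a (i + 1) →ₗ[GrLC.deg0 𝒜] Ebar.H a (i + 1) :=
          (Hmap₀ E Ebar a (gam a.toIdeal M).mkQ (isGrHom_mkQ ℳ (gam a.toIdeal M)) (i + 1)).restrictScalars
            (GrLC.deg0 𝒜)
        apply Submodule.fg_of_fg_map_of_fg_inf_ker f
        · refine fg_of_le_of_fg ?_ (hfg n)
          rintro _ ⟨y, hy, rfl⟩
          exact hgr n y hy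
        · have : LinearMap.ker f = ⊥ := LinearMap.ker_eq_bot.mpr hinj
          rw [this, inf_bot_eq]
          exact Submodule.fg_bot
    -- now `M/Γ` has no torsion
    have hΓ : gam a.toIdeal (M ⧸ gam a.toIdeal M) = ⊥ :=
      Groth.Agent.Lib.Helper60.torsionSub_quotient_eq_bot a.toIdeal M
    obtain ⟨d, x, hd, hxd, hreg⟩ := exists_homogeneous_regular 𝒜
      (M := M ⧸ gam a.toIdeal M) a.toIdeal ha hpos hΓ
    -- the quotient by `x`
    let Q : Submodule R (M ⧸ gam a.toIdeal M) :=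
      LinearMap.range (x • (LinearMap.id : (M ⧸ gam a.toIdeal M) →ₗ[R] (M ⧸ gam a.toIdeal M)))
    have hQ : Q.IsHomogeneous (quotPieces ℳ (gam a.toIdeal M)) :=
      range_smul_isHomogeneous (𝒜 := 𝒜) hxd
    letI decN := quotDecomposition (quotPieces ℳ (gam a.toIdeal M)) Q hQ
    haveI smulN := quotGradedSMul 𝒜 (quotPieces ℳ (gam a.toIdeal M)) Q
    obtain ⟨F⟩ := Groth.Agent.S13215.result R 𝒜 ((M ⧸ gam a.toIdeal M) ⧸ Q)
      (quotPieces (quotPieces ℳ (gam a.toIdeal M)) Q)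
    exact reg_step 𝒜 hpos a ha hd hxd hreg Q.mkQ (Submodule.mkQ_surjective _)
      (isGrHom_mkQ _ Q) (Submodule.ker_mkQ Q) Ebar F i
      (ih ((M ⧸ gam a.toIdeal M) ⧸ Q) (quotPieces (quotPieces ℳ (gam a.toIdeal M)) Q) F)

end Irrelevant

end Groth.Agent.Lib.Helper39.GrRegVanish
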