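import Groth.Agent.Lib.Helper39.GrRegVanish
import Groth.Agent.S0325

/-!
# Right exactness of the top graded local cohomology (helper39)

* `H_subsingleton_of_torsion`, `H_subsingleton_of_dim`: vanishing of graded local cohomology of
  torsion modules in positive degrees, and above the dimension of the ring.
* `surjective_of_subsingleton`: `H^k(M) → H^k(M'')` is onto if `H^{k+1}(M') = 0`.
* `top_smul`: if `H^{k+1}` vanishes on all graded modules, then for a homogeneous `x` (not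
  necessarily regular) `H^k(M) → H^k(M/xM)` is onto with kernel `x H^k(M)` (graded form).
* `top_ker_list`: the same for a finite list of homogeneous elements.
-/

set_option autoImplicit false
universe u

namespace Groth.Agent.Lib.Helper39.GrTop

open DirectSum GrLC Groth.Agent.Lib.Helper39 Groth.Agent.Lib.Helper39.GrLes
  Groth.Agent.Lib.Helper39.GrRegVanish

section General
variable {ι : Type} [AddCommGroup ι] [DecidableEq ι] [Module.Free ℤ ι] [Module.Finite ℤ ι]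
  {R : Type u} [CommRing R] [IsNoetherianRing R] {𝒜 : ι → AddSubgroup R} [GradedRing 𝒜]

/-- graded local cohomology of a torsion module vanishes in positive degrees -/
theorem H_subsingleton_of_torsion (a : HomogeneousIdeal 𝒜) {N : Type u} [AddCommGroup N] [Module R N]
    {𝒩 : ι → AddSubgroup N} [DirectSum.Decomposition 𝒩] [SetLike.GradedSMul 𝒜 𝒩]
    (F : StarInjRes 𝒜 𝒩) (htor : ∀ x : N, ∃ k : ℕ, ∀ r ∈ a.toIdeal ^ k, r • x = 0) (i : ℕ)
    (hi : 1 ≤ i) : Subsingleton (F.H a i) := by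
  obtain ⟨e⟩ := Groth.Agent.S13224.result R 𝒜 a N 𝒩 F i
  have := Groth.Agent.Lib.Helper60.lc_subsingleton_of_torsion a.toIdeal i (by omega)
    (ModuleCat.of R N) htor
  exact e.injective.subsingleton

/-- graded Grothendieck vanishing -/
theorem H_subsingleton_of_dim (a : HomogeneousIdeal 𝒜) {d : ℕ} (hd : ringKrullDim R ≤ d)
    {N : Type u} [AddCommGroup N] [Module R N]
    {𝒩 : ι → AddSubgroup N} [DirectSum.Decomposition 𝒩] [SetLike.GradedSMul 𝒜 𝒩]
    (F : StarInjRes 𝒜 𝒩) (i : ℕ) (hi : d < i) : Subsingleton (F.H a i) := by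
  obtain ⟨e⟩ := Groth.Agent.S13224.result R 𝒜 a N 𝒩 F i
  have := Groth.Agent.S0325.result R a.toIdeal d hd N i hi
  exact e.injective.subsingleton

end General

section Top
variable {ι : Type} [AddCommGroup ι] [DecidableEq ι]
  {R : Type u} [CommRing R] {𝒜 : ι → AddSubgroup R} [GradedRing 𝒜]

/-- `H^k` vanishes on all graded modules -/
def VanishAll (a : HomogeneousIdeal 𝒜) (k : ℕ) : Prop :=
  ∀ (P : Type u) [AddCommGroup P] [Module R P] (𝓟 : ι → AddSubgroup P)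
    [DirectSum.Decomposition 𝓟] [SetLike.GradedSMul 𝒜 𝓟] (G : StarInjRes 𝒜 𝓟),
    Subsingleton (G.H a k)

variable
  {M' : Type u} [AddCommGroup M'] [Module R M'] {ℳ' : ι → AddSubgroup M'} [DirectSum.Decomposition ℳ']
  [SetLike.GradedSMul 𝒜 ℳ']
  {M : Type u} [AddCommGroup M] [Module R M] {ℳ : ι → AddSubgroup M} [DirectSum.Decomposition ℳ]
  [SetLike.GradedSMul 𝒜 ℳ]
  {M'' : Type u} [AddCommGroup M''] [Module R M''] {ℳ'' : ι → AddSubgroup M''}
  [DirectSum.Decomposition ℳ''] [SetLike.GradedSMul 𝒜 ℳ'']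
  {i : M' →ₗ[R] M} {p : M →ₗ[R] M''}

theorem surjective_of_subsingleton (S : GrSES ℳ' ℳ ℳ'' i p) (E' : StarInjRes 𝒜 ℳ')
    (E : StarInjRes 𝒜 ℳ) (E'' : StarInjRes 𝒜 ℳ'') (a : HomogeneousIdeal 𝒜) (k : ℕ)
    (h : Subsingleton (E'.H a (k + 1))) :
    Function.Surjective (Hmap₀ E E'' a p S.p_grHom k) := by
  obtain ⟨δ, -, -, h2, -⟩ := exists_les S E' E E'' a
  intro y
  exact (h2 k y).mp (Subsingleton.elim _ _)

theorem Hmap₀_congr (E' : StarInjRes 𝒜 ℳ') (E : StarInjRes 𝒜 ℳ) (a : HomogeneousIdeal 𝒜)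
    {f f' : M' →ₗ[R] M} (hf : IsGrHom ℳ' ℳ f) (hf' : IsGrHom ℳ' ℳ f') (hff : f = f') (k : ℕ) :
    Hmap₀ E' E a f hf k = Hmap₀ E' E a f' hf' k := by
  subst hff
  rfl

end Top

section TopSmul
variable {ι : Type} [AddCommGroup ι] [DecidableEq ι] [Module.Free ℤ ι] [Module.Finite ℤ ι]
  {R : Type u} [CommRing R] [IsNoetherianRing R] {𝒜 : ι → AddSubgroup R} [GradedRing 𝒜]
  {M : Type u} [AddCommGroup M] [Module R M] {ℳ : ι → AddSubgroup M} [DirectSum.Decomposition ℳ]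
  [SetLike.GradedSMul 𝒜 ℳ]
  {N : Type u} [AddCommGroup N] [Module R N] {𝒩 : ι → AddSubgroup N} [DirectSum.Decomposition 𝒩]
  [SetLike.GradedSMul 𝒜 𝒩]

attribute [local instance] shiftDecomposition shiftGradedSMul

/-- **Right exactness at the top for multiplication by a homogeneous element.** -/
theorem top_smul {d : ι} {x : R} (hx : x ∈ 𝒜 d)
    (π : M →ₗ[R] N) (hπ : Function.Surjective π) (hπg : IsGrHom ℳ 𝒩 π)
    (hker : LinearMap.ker π = LinearMap.range (x • (LinearMap.id : M →ₗ[R] M)))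
    (E : StarInjRes 𝒜 ℳ) (F : StarInjRes 𝒜 𝒩) (a : HomogeneousIdeal 𝒜) (k : ℕ)
    (hvan : VanishAll a (k + 1)) :
    Function.Surjective (Hmap₀ E F a π hπg k) ∧
      ∀ (h : ι) (y : E.H a k), y ∈ E.Hgr a k h → Hmap₀ E F a π hπg k y = 0 →
        ∃ z ∈ E.Hgr a k (h + -d), x • z = y := by
  classical
  have hIh : (LinearMap.range (x • (LinearMap.id : M →ₗ[R] M))).IsHomogeneous ℳ :=
    range_smul_isHomogeneous (𝒜 := 𝒜) hx
  generalize hI : LinearMap.range (x • (LinearMap.id : M →ₗ[R] M)) = I at hIh hker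
  letI decI := subDecomposition ℳ I hIh
  haveI smulI := subGradedSMul 𝒜 ℳ I
  obtain ⟨EI⟩ := Groth.Agent.S13215.result R 𝒜 I (subPieces ℳ I)
  have S2 : GrSES (subPieces ℳ I) ℳ 𝒩 I.subtype π :=
    { i_grHom := isGrHom_subtype ℳ I
      p_grHom := hπg
      i_inj := Subtype.val_injective
      p_surj := hπ
      exact := by rw [hker, Submodule.range_subtype] }
  let μ : M →ₗ[R] I := LinearMap.codRestrict I (x • (LinearMap.id : M →ₗ[R] M))
    (fun m => hI ▸ LinearMap.mem_range_self _ m)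
  have hμs : Function.Surjective μ := by
    rintro ⟨w, hw⟩
    rw [← hI] at hw
    obtain ⟨m, rfl⟩ := hw
    exact ⟨m, rfl⟩
  have hμg : IsGrHom (shiftPieces ℳ (-d)) (subPieces ℳ I) μ := by
    intro j m hm
    have := SetLike.GradedSMul.smul_mem (A := 𝒜) (B := ℳ) hx hm
    rw [vadd_eq_add, add_neg_cancel_comm_assoc] at this
    exact this
  have hKh : (LinearMap.ker μ).IsHomogeneous (shiftPieces ℳ (-d)) :=
    IsGrHom.ker_isHomogeneous _ _ hμg
  generalize hK : LinearMap.ker μ = K at hKh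
  letI decK := subDecomposition (shiftPieces ℳ (-d)) K hKh
  haveI smulK := subGradedSMul 𝒜 (shiftPieces ℳ (-d)) K
  obtain ⟨EK⟩ := Groth.Agent.S13215.result R 𝒜 K (subPieces (shiftPieces ℳ (-d)) K)
  have S1 : GrSES (subPieces (shiftPieces ℳ (-d)) K) (shiftPieces ℳ (-d)) (subPieces ℳ I)
      K.subtype μ :=
    { i_grHom := isGrHom_subtype (shiftPieces ℳ (-d)) K
      p_grHom := hμg
      i_inj := Subtype.val_injective
      p_surj := hμs
      exact := by rw [hK, Submodule.range_subtype] }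
  have hs1 := surjective_of_subsingleton S1 EK (shiftRes E (-d)) EI a k (hvan _ _ EK)
  have hs2 := surjective_of_subsingleton S2 EI E F a k (hvan _ _ EI)
  obtain ⟨δ, -, h1, -, -⟩ := exists_les S2 EI E F a
  have hcg : IsGrHom (shiftPieces ℳ (-d)) ℳ (I.subtype ∘ₗ μ) :=
    IsGrHom.comp _ _ _ hμg (isGrHom_subtype ℳ I)
  have hcomp := Hmap₀_comp (shiftRes E (-d)) EI E a μ hμg I.subtype (isGrHom_subtype ℳ I) k
  have hc : (shiftSmulChain E hx).Lifts (I.subtype ∘ₗ μ) := fun m => by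
    show x • E.ε m = E.ε (x • m)
    rw [map_smul]
  have hmul : ∀ z, Hmap₀ (shiftRes E (-d)) E a (I.subtype ∘ₗ μ) hcg k z =
      x • shiftHEquiv E (-d) a k z := by
    intro z
    rw [Hmap₀_eq_of_lifts (shiftRes E (-d)) E a _ hcg (shiftSmulChain E hx) hc k, shiftSmulChain_H]
  refine ⟨hs2, ?_⟩
  intro h y hy h0
  obtain ⟨w, hw⟩ := (h1 k y).mp h0
  obtain ⟨v, hv⟩ := hs1 w
  have hvy : Hmap₀ (shiftRes E (-d)) E a (I.subtype ∘ₗ μ) hcg k v = y := by
    have := LinearMap.congr_fun hcomp v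
    rw [LinearMap.comp_apply, hv, hw] at this
    exact this
  obtain ⟨v', hv', hvy'⟩ := exists_mem_of_isInternal (Hgr_isInternal (shiftRes E (-d)) a k)
    (Hgr_isInternal E a k) _ (Hmap₀_isGrHom (shiftRes E (-d)) E a _ hcg k) hy v hvy
  refine ⟨shiftHEquiv E (-d) a k v', hv', ?_⟩
  rw [← hmul]
  exact hvy'

end TopSmul

section TopList
variable {ι : Type} [AddCommGroup ι] [DecidableEq ι] [Module.Free ℤ ι] [Module.Finite ℤ ι]
  {R : Type u} [CommRing R] [IsNoetherianRing R] {𝒜 : ι → AddSubgroup R} [GradedRing 𝒜]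

/-- a bijective homogeneous map induces an injective map on graded local cohomology -/
theorem Hmap₀_injective_of_bijective
    {M : Type u} [AddCommGroup M] [Module R M] {ℳ : ι → AddSubgroup M} [DirectSum.Decomposition ℳ]
    [SetLike.GradedSMul 𝒜 ℳ]
    {N : Type u} [AddCommGroup N] [Module R N] {𝒩 : ι → AddSubgroup N} [DirectSum.Decomposition 𝒩]
    [SetLike.GradedSMul 𝒜 𝒩]
    (π : M →ₗ[R] N) (hπ : Function.Bijective π) (hπg : IsGrHom ℳ 𝒩 π)
    (E : StarInjRes 𝒜 ℳ) (F : StarInjRes 𝒜 𝒩) (a : HomogeneousIdeal 𝒜) (k : ℕ) :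
    Function.Injective (Hmap₀ E F a π hπg k) := by
  let e : M ≃ₗ[R] N := LinearEquiv.ofBijective π hπ
  have heg : IsGrHom 𝒩 ℳ e.symm.toLinearMap := by
    intro j n hn
    apply IsGrHom.mem_of_injective ℳ 𝒩 hπg hπ.1
    have : π (e.symm n) = n := e.apply_symm_apply n
    show π (e.symm n) ∈ 𝒩 j
    rw [this]
    exact hn
  have h1 := Hmap₀_comp E F E a π hπg e.symm.toLinearMap heg k
  have h2 : e.symm.toLinearMap ∘ₗ π = LinearMap.id := by
    ext m
    exact e.symm_apply_apply m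
  have h3 := Hmap₀_congr E E a (IsGrHom.comp ℳ 𝒩 ℳ hπg heg) (IsGrHom.id ℳ) h2 k
  rw [h3, Hmap₀_id] at h1
  intro y y' hyy
  have := LinearMap.congr_fun h1 y
  have := LinearMap.congr_fun h1 y'
  simp only [LinearMap.id_coe, id_eq, LinearMap.coe_comp, Function.comp_apply] at *
  rw [‹y = _›, ‹y' = _›, hyy]

/-- **Right exactness at the top for a finite list of homogeneous elements.** -/
theorem top_ker_list (a : HomogeneousIdeal 𝒜) (k : ℕ) (hvan : VanishAll a (k + 1)) :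
    ∀ (l : List (R × ι)), (∀ p ∈ l, p.1 ∈ 𝒜 p.2) →
    ∀ (M : Type u) [AddCommGroup M] [Module R M] (ℳ : ι → AddSubgroup M)
      [DirectSum.Decomposition ℳ] [SetLike.GradedSMul 𝒜 ℳ]
      (N : Type u) [AddCommGroup N] [Module R N] (𝒩 : ι → AddSubgroup N)
      [DirectSum.Decomposition 𝒩] [SetLike.GradedSMul 𝒜 𝒩]
      (π : M →ₗ[R] N) (_ : Function.Surjective π) (hπg : IsGrHom ℳ 𝒩 π)
      (_ : LinearMap.ker π = Ideal.ofList (l.map Prod.fst) • (⊤ : Submodule R M))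
      (E : StarInjRes 𝒜 ℳ) (F : StarInjRes 𝒜 𝒩) (h : ι) (y : E.H a k), y ∈ E.Hgr a k h →
      Hmap₀ E F a π hπg k y = 0 →
      y ∈ AddSubgroup.closure {w | ∃ p ∈ l, ∃ z ∈ E.Hgr a k (h + -p.2), w = p.1 • z} := by
  classical
  intro l
  induction l with
  | nil =>
    intro _ M _ _ ℳ _ _ N _ _ 𝒩 _ _ π hπ hπg hker E F h y hy h0
    have hinj : Function.Injective π := by
      rw [← LinearMap.ker_eq_bot, hker]
      simp
    have := Hmap₀_injective_of_bijective π ⟨hinj, hπ⟩ hπg E F a k (by rw [h0, map_zero] : _ = Hmap₀ E F a π hπg k 0)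
    rw [this]
    exact zero_mem _
  | cons p l ih =>
    intro hl M _ _ ℳ _ _ N _ _ 𝒩 _ _ π hπ hπg hker E F h y hy h0
    obtain ⟨x, d⟩ := p
    have hx : x ∈ 𝒜 d := hl (x, d) (List.mem_cons_self)
    have hl' : ∀ p ∈ l, p.1 ∈ 𝒜 p.2 := fun p hp => hl p (List.mem_cons_of_mem _ hp)
    -- the first quotient
    have hQh : (LinearMap.range (x • (LinearMap.id : M →ₗ[R] M))).IsHomogeneous ℳ :=
      range_smul_isHomogeneous (𝒜 := 𝒜) hx
    have hQspan : Ideal.span {x} • (⊤ : Submodule R M) =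
        LinearMap.range (x • (LinearMap.id : M →ₗ[R] M)) := by
      rw [Submodule.ideal_span_singleton_smul]
      ext m
      simp [Submodule.mem_smul_pointwise_iff_exists]
    generalize hQ : LinearMap.range (x • (LinearMap.id : M →ₗ[R] M)) = Q at hQh hQspan
    letI decQ := quotDecomposition ℳ Q hQh
    haveI smulQ := quotGradedSMul 𝒜 ℳ Q
    obtain ⟨E₁⟩ := Groth.Agent.S13215.result R 𝒜 (M ⧸ Q) (quotPieces ℳ Q)
    have hkerc : LinearMap.ker π = Q ⊔ Ideal.ofList (l.map Prod.fst) • (⊤ : Submodule R M) := by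
      rw [hker, List.map_cons, Ideal.ofList_cons, Submodule.sup_smul, hQspan]
    have hQle : Q ≤ LinearMap.ker π := by rw [hkerc]; exact le_sup_left
    let π' : (M ⧸ Q) →ₗ[R] N := Q.liftQ π hQle
    have hπ's : Function.Surjective π' := by
      intro n
      obtain ⟨m, rfl⟩ := hπ n
      exact ⟨Q.mkQ m, rfl⟩
    have hπ'g : IsGrHom (quotPieces ℳ Q) 𝒩 π' := by
      rintro j _ ⟨m, hm, rfl⟩
      exact hπg j m hm
    have hker' : LinearMap.ker π' = Ideal.ofList (l.map Prod.fst) • (⊤ : Submodule R (M ⧸ Q)) := by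
      show LinearMap.ker (Q.liftQ π hQle) = _
      rw [Submodule.ker_liftQ, hkerc, Submodule.map_sup, Submodule.mkQ_map_self, bot_sup_eq,
        Submodule.map_smul'', Submodule.map_top, Submodule.range_mkQ]
    have hfac : π' ∘ₗ Q.mkQ = π := Submodule.liftQ_mkQ Q π hQle
    have hcomp := Hmap₀_comp E E₁ F a Q.mkQ (isGrHom_mkQ ℳ Q) π' hπ'g k
    rw [Hmap₀_congr E F a (IsGrHom.comp ℳ (quotPieces ℳ Q) 𝒩 (isGrHom_mkQ ℳ Q) hπ'g) hπg hfac k]
      at hcomp
    obtain ⟨hsurj, hkerx⟩ := top_smul hx Q.mkQ (Submodule.mkQ_surjective Q) (isGrHom_mkQ ℳ Q)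
      (by rw [Submodule.ker_mkQ, hQ]) E E₁ a k hvan
    have hgr₁ := Hmap₀_isGrHom E E₁ a Q.mkQ (isGrHom_mkQ ℳ Q) k
    set f₁ := Hmap₀ E E₁ a Q.mkQ (isGrHom_mkQ ℳ Q) k with hf₁
    have hy₁ : f₁ y ∈ E₁.Hgr a k h := hgr₁ h y hy
    have h0₁ : Hmap₀ E₁ F a π' hπ'g k (f₁ y) = 0 := by
      have := LinearMap.congr_fun hcomp y
      rw [LinearMap.comp_apply] at this
      rw [← this, h0]
    have IH := ih hl' (M ⧸ Q) (quotPieces ℳ Q) N 𝒩 π' hπ's hπ'g hker' E₁ F h (f₁ y) hy₁ h0₁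
    -- lift the closure
    have hlift : AddSubgroup.closure {w | ∃ p ∈ l, ∃ z ∈ E₁.Hgr a k (h + -p.2), w = p.1 • z} ≤
        ((AddSubgroup.closure {w | ∃ p ∈ l, ∃ z ∈ E.Hgr a k (h + -p.2), w = p.1 • z}) ⊓
          E.Hgr a k h).map f₁.toAddMonoidHom := by
      rw [AddSubgroup.closure_le]
      rintro _ ⟨p, hp, z₁, hz₁, rfl⟩
      obtain ⟨z₀, hz₀⟩ := hsurj z₁
      obtain ⟨z, hz, hzz⟩ := exists_mem_of_isInternal (Hgr_isInternal E a k) (Hgr_isInternal E₁ a k)
        f₁ hgr₁ hz₁ z₀ hz₀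
      refine ⟨p.1 • z, ⟨AddSubgroup.subset_closure ⟨p, hp, z, hz, rfl⟩, ?_⟩, ?_⟩
      · have := smul_mem_Hgr E a k (hl' p hp) hz
        rwa [neg_add_cancel_right] at this
      · show f₁ (p.1 • z) = p.1 • z₁
        rw [map_smul, hzz]
    obtain ⟨u, ⟨hu, huh⟩, huy⟩ := hlift IH
    have huy' : f₁ u = f₁ y := huy
    have hyu : y - u ∈ E.Hgr a k h := sub_mem hy huh
    obtain ⟨z, hz, hxz⟩ := hkerx h (y - u) hyu (by rw [map_sub, huy', sub_self])
    have hmono : AddSubgroup.closure {w | ∃ p ∈ l, ∃ z ∈ E.Hgr a k (h + -p.2), w = p.1 • z} ≤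
        AddSubgroup.closure {w | ∃ p ∈ (x, d) :: l, ∃ z ∈ E.Hgr a k (h + -p.2), w = p.1 • z} := by
      apply AddSubgroup.closure_mono
      rintro _ ⟨p, hp, z, hz, rfl⟩
      exact ⟨p, List.mem_cons_of_mem _ hp, z, hz, rfl⟩
    have : y = x • z + u := by rw [hxz]; abel
    rw [this]
    exact add_mem (AddSubgroup.subset_closure ⟨(x, d), List.mem_cons_self, z, hz, rfl⟩) (hmono hu)

end TopList

end Groth.Agent.Lib.Helper39.GrTop
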