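import Groth.Agent.Lib.Helper39.GrRegVanish
import Groth.Agent.Lib.Helper39.GrAInvPoly4
import Groth.Agent.S13215
import Groth.Agent.S18645

/-!
# The a-invariant of a graded ring whose irrelevant ideal is generated by a regular sequence
(helper39)

`endDeg_eq_neg_sum`: if `m = (f_1, …, f_n)` with `f` a homogeneous regular sequence, `n = dim R`,
then `a(R) = -(deg f_1 + ⋯ + deg f_n)`.
-/

set_option autoImplicit false
universe u

namespace Groth.Agent.Lib.Helper39.GrAInvRegSeq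

open DirectSum GrLC Groth.Agent.Lib.Helper39 Groth.Agent.Lib.Helper39.GrLes
  Groth.Agent.Lib.Helper39.GrRegVanish Groth.Agent.Lib.Helper39.GrAInvPoly

variable (R : Type u) [CommRing R] [LocCoh.IsCohenMacaulayRing R] (𝒜 : ℤ → AddSubgroup R)
  [GradedRing 𝒜] (hpos : ∀ n : ℤ, n < 0 → 𝒜 n = ⊥) (h0 : IsField (GrLC.deg0 𝒜))
  (m : HomogeneousIdeal 𝒜) (hm : GrLC.IsStarLocal 𝒜 m)
  (hmsp : m.toIdeal = Ideal.span (⋃ n ∈ Set.Ioi (0 : ℤ), (𝒜 n : Set R)))

include hm hmsp in
/-- `H^0_m(R/m)` lives in degree `0` exactly -/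
theorem endDeg_H_zero_quot
    [DirectSum.Decomposition (quotPieces 𝒜 (m.toIdeal : Submodule R R))]
    [SetLike.GradedSMul 𝒜 (quotPieces 𝒜 (m.toIdeal : Submodule R R))]
    (F : StarInjRes 𝒜 (quotPieces 𝒜 (m.toIdeal : Submodule R R))) :
    GrLC.endDeg (F.Hgr m 0) = (((0 : ℤ) : WithTop ℤ) : WithBot (WithTop ℤ)) := by
  classical
  have hmtop : m.toIdeal ≠ ⊤ := by
    intro h
    apply hm.1.1
    apply HomogeneousIdeal.toIdeal_injective
    rw [h, HomogeneousIdeal.toIdeal_top]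
  apply endDeg_eq
  · -- degree zero is nonzero
    let x1 : R ⧸ (m.toIdeal : Submodule R R) := (m.toIdeal : Submodule R R).mkQ 1
    have hx1 : x1 ∈ quotPieces 𝒜 (m.toIdeal : Submodule R R) 0 :=
      mk_mem_quotPieces 𝒜 _ (SetLike.GradedOne.one_mem (A := 𝒜))
    have hkill : ∀ r ∈ m.toIdeal, r • x1 = 0 := by
      intro r hr
      show r • (m.toIdeal : Submodule R R).mkQ 1 = 0
      rw [← map_smul, Submodule.mkQ_apply, Submodule.Quotient.mk_eq_zero, smul_eq_mul, mul_one]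
      exact hr
    have hz : F.ε x1 ∈ F.cocyc m 0 := by
      refine ⟨⟨1, fun r hr => ?_⟩, LinearMap.mem_ker.mpr (d_ε F x1)⟩
      rw [pow_one] at hr
      rw [← map_smul, hkill r hr, map_zero]
    intro hbot
    have hmem : F.toH m 0 ⟨F.ε x1, hz⟩ ∈ F.Hgr m 0 0 :=
      ⟨⟨F.ε x1, hz⟩, F.ε_grHom 0 x1 hx1, rfl⟩
    rw [hbot, AddSubgroup.mem_bot, toH_eq_zero_iff] at hmem
    have h1 : F.ε x1 = 0 := by
      have : F.ε x1 ∈ (⊥ : Submodule R (F.X 0).carrier) := hmem
      exact this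
    have h2 : x1 = 0 := F.ε_injective (by rw [h1, map_zero])
    have h3 : (1 : R) ∈ (m.toIdeal : Submodule R R) := by
      have : (m.toIdeal : Submodule R R).mkQ 1 = 0 := h2
      rwa [Submodule.mkQ_apply, Submodule.Quotient.mk_eq_zero] at this
    exact hmtop ((Ideal.eq_top_iff_one _).mpr h3)
  · intro n hn
    rw [eq_bot_iff]
    intro y hy
    obtain ⟨x, hxc, hxn, -, rfl⟩ := exists_eq_toH_ε F m n y hy
    obtain ⟨r, hr, rfl⟩ := hxn
    have hrm : r ∈ m.toIdeal := by
      rw [hmsp]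
      apply Ideal.subset_span
      simp only [Set.mem_iUnion, Set.mem_Ioi]
      exact ⟨n, hn, hr⟩
    have h1 : (m.toIdeal : Submodule R R).mkQ r = 0 := by
      rw [Submodule.mkQ_apply, Submodule.Quotient.mk_eq_zero]
      exact hrm
    rw [AddSubgroup.mem_bot, toH_eq_zero_iff]
    show F.ε ((m.toIdeal : Submodule R R).mkQ r) ∈ F.cobdy m 0
    rw [h1, map_zero]
    exact zero_mem _

include hpos h0 hm hmsp in
theorem endDeg_eq_neg_sum (n : ℕ) (hn : ringKrullDim R = n) (I : StarInjRes 𝒜 𝒜)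
    (f : Fin n → R) (deg : Fin n → ℤ) (hfdeg : ∀ i, f i ∈ 𝒜 (deg i))
    (hfm : ∀ i, f i ∈ m.toIdeal) (hreg : RingTheory.Sequence.IsRegular R (List.ofFn f))
    (hspan : Ideal.span (Set.range f) = m.toIdeal) :
    GrLC.endDeg (I.Hgr m n) =
      (((-((Finset.univ : Finset (Fin n)).sum deg) : ℤ) : WithTop ℤ) : WithBot (WithTop ℤ)) := by
  classical
  have hmh : (m.toIdeal : Submodule R R).IsHomogeneous 𝒜 := m.isHomogeneous
  letI decN := quotDecomposition 𝒜 (m.toIdeal : Submodule R R) hmh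
  haveI smulN := quotGradedSMul 𝒜 𝒜 (m.toIdeal : Submodule R R)
  obtain ⟨F⟩ := Groth.Agent.S13215.result R 𝒜 (R ⧸ (m.toIdeal : Submodule R R))
    (quotPieces 𝒜 (m.toIdeal : Submodule R R))
  have key := Groth.Agent.S18645.result R 𝒜 hpos h0 m hm hmsp n hn I n le_rfl f deg hfdeg hfm hreg
    (R ⧸ (m.toIdeal : Submodule R R)) (quotPieces 𝒜 (m.toIdeal : Submodule R R))
    (m.toIdeal : Submodule R R).mkQ (isGrHom_mkQ 𝒜 _) (Submodule.mkQ_surjective _)
    (by rw [Submodule.ker_mkQ]; exact hspan.symm) F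
  rw [Nat.sub_self, endDeg_H_zero_quot R 𝒜 m hm hmsp F] at key
  -- arithmetic in `WithBot (WithTop ℤ)`
  generalize GrLC.endDeg (I.Hgr m n) = x at key ⊢
  generalize (Finset.univ : Finset (Fin n)).sum deg = s at key ⊢
  induction x using WithBot.recBotCoe with
  | bot => simp at key
  | coe x =>
    induction x using WithTop.recTopCoe with
    | top =>
      exfalso
      have : (((0 : ℤ) : WithTop ℤ) : WithBot (WithTop ℤ)) =
          (((⊤ : WithTop ℤ) + ((s : ℤ) : WithTop ℤ) : WithTop ℤ) : WithBot (WithTop ℤ)) := by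
        rw [key]; rfl
      rw [WithTop.top_add] at this
      have h2 := WithBot.coe_injective this
      exact WithTop.coe_ne_top h2
    | coe x =>
      have : (((0 : ℤ) : WithTop ℤ) : WithBot (WithTop ℤ)) =
          (((x + s : ℤ) : WithTop ℤ) : WithBot (WithTop ℤ)) := by
        rw [key]; rfl
      have h2 : (0 : ℤ) = x + s := WithTop.coe_injective (WithBot.coe_injective this)
      have h3 : x = -s := by omega
      rw [h3]

end Groth.Agent.Lib.Helper39.GrAInvRegSeq
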