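import Groth.Agent.Lib.Helper39.GrNak
import Groth.Agent.Lib.Helper39.GrPieces

/-!
# Pieces of Artinian graded modules (helper39)

`isArtinian_piece`: a homogeneous piece of an Artinian graded module over a positively graded ring is
Artinian over `R_0`.
-/

set_option autoImplicit false
universe u

namespace Groth.Agent.Lib.Helper39.GrArtPieces

open DirectSum GrLC Groth.Agent.Lib.Helper39 Groth.Agent.Lib.Helper39.GrNak
  Groth.Agent.Lib.Helper39.GrPieces

variable {R : Type u} [CommRing R] (𝒜 : ℤ → AddSubgroup R) [GradedRing 𝒜]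
  {H : Type u} [AddCommGroup H] [Module R H] (𝓗 : ℤ → AddSubgroup H) [DirectSum.Decomposition 𝓗]
  [SetLike.GradedSMul 𝒜 𝓗] (hpos : ∀ n : ℤ, n < 0 → 𝒜 n = ⊥)

include hpos in
theorem key (n : ℤ) (P : Submodule (GrLC.deg0 𝒜) H) (hP : ∀ x, x ∈ P ↔ x ∈ 𝓗 n)
    (Q : Submodule (GrLC.deg0 𝒜) P) (x : H)
    (hx : x ∈ Submodule.span R (Subtype.val '' (Q : Set P))) :
    (∀ j : ℤ, j < n → (decompose 𝓗 x j : H) = 0) ∧
      ∃ q ∈ Q, (decompose 𝓗 x n : H) = (q : H) := by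
  induction hx using Submodule.span_induction with
  | mem x hx =>
    obtain ⟨q, hq, rfl⟩ := hx
    have hqn : (q : H) ∈ 𝓗 n := (hP _).mp q.2
    refine ⟨fun j hj => decompose_of_mem_ne 𝓗 hqn (by omega), q, hq, ?_⟩
    rw [decompose_of_mem_same 𝓗 hqn]
  | zero =>
    refine ⟨fun j _ => by rw [decompose_zero]; rfl, 0, zero_mem _, ?_⟩
    rw [decompose_zero]
    rfl
  | add x y _ _ hx hy =>
    obtain ⟨hx0, q, hq, ex⟩ := hx
    obtain ⟨hy0, q', hq', ey⟩ := hy
    refine ⟨fun j hj => ?_, q + q', add_mem hq hq', ?_⟩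
    · rw [decompose_add, DirectSum.add_apply, AddSubgroup.coe_add, hx0 j hj, hy0 j hj, add_zero]
    · rw [decompose_add, DirectSum.add_apply, AddSubgroup.coe_add, ex, ey]
      rfl
  | smul r x _ hx =>
    obtain ⟨hx0, q, hq, ex⟩ := hx
    refine ⟨decompose_smul_eq_zero_of_lt 𝒜 𝓗 hpos hx0 r,
      (⟨(decompose 𝒜 r 0 : R), SetLike.coe_mem _⟩ : GrLC.deg0 𝒜) • q, Submodule.smul_mem _ _ hq, ?_⟩
    rw [decompose_smul_of_ge 𝒜 𝓗 hpos hx0 r, ex]
    rfl

include hpos in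
/-- a homogeneous piece of an Artinian graded module is Artinian over `R_0` -/
theorem isArtinian_piece [IsArtinian R H] (n : ℤ) (P : Submodule (GrLC.deg0 𝒜) H)
    (hP : ∀ x, x ∈ P ↔ x ∈ 𝓗 n) : IsArtinian (GrLC.deg0 𝒜) P := by
  let f : Submodule (GrLC.deg0 𝒜) P → Submodule R H :=
    fun Q => Submodule.span R (Subtype.val '' (Q : Set P))
  have hf : StrictMono f := by
    intro Q₁ Q₂ hlt
    refine lt_of_le_of_ne (Submodule.span_mono (Set.image_mono hlt.le)) ?_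
    intro heq
    apply hlt.not_ge
    intro q hq
    have h1 : (q : H) ∈ f Q₂ := Submodule.subset_span ⟨q, hq, rfl⟩
    rw [← heq] at h1
    obtain ⟨-, q₁, hq₁, e⟩ := key 𝒜 𝓗 hpos n P hP Q₁ _ h1
    have hqn : (q : H) ∈ 𝓗 n := (hP _).mp q.2
    rw [decompose_of_mem_same 𝓗 hqn] at e
    have : q = q₁ := Subtype.ext e
    rw [this]
    exact hq₁
  exact hf.wellFoundedLT

end Groth.Agent.Lib.Helper39.GrArtPieces
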