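import Groth.Agent.Lib.Helper39.GrLes6

/-!
# Bridge: gradings by arbitrary subobjects (`Submodule k R`, …) versus gradings by additive
subgroups (helper39)

The prelude's `GrLC` is stated for gradings `𝒜 : ι → σ` by any `AddSubgroupClass`; the libraries
`Groth.Agent.Lib.Helper39.GrLes*` are written for `ι → AddSubgroup R`.  This file converts:
`toSub 𝒜 i = AddSubgroup.ofClass (𝒜 i)`, the instances (`toSubDecomposition`, `toSubGradedRing`,
`toSubGradedSMul`), `convRes E : StarInjRes (toSub 𝒜) (toSub ℳ)`, `convIdeal a`.  The cohomology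
modules are definitionally the same (`convRes_H`), and the pieces have the same elements
(`mem_convRes_Hcomp`).
-/

set_option autoImplicit false
universe u

namespace Groth.Agent.Lib.Helper39.GrBridge

open DirectSum GrLC

section Sub
variable {ι : Type} [DecidableEq ι] {M : Type u} [AddCommGroup M] {τ : Type u} [SetLike τ M]
  [AddSubgroupClass τ M] (ℳ : ι → τ)

/-- the underlying family of additive subgroups -/
def toSub : ι → AddSubgroup M := fun i => AddSubgroup.ofClass (ℳ i)

omit [DecidableEq ι] in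
theorem mem_toSub {i : ι} {x : M} : x ∈ toSub ℳ i ↔ x ∈ ℳ i := Iff.rfl

def pieceHom (i : ι) : ℳ i →+ toSub ℳ i where
  toFun x := ⟨x.1, x.2⟩
  map_zero' := rfl
  map_add' _ _ := rfl

theorem coe_map_pieceHom (x : ⨁ i, ℳ i) :
    DirectSum.coeAddMonoidHom (toSub ℳ) (DirectSum.map (pieceHom ℳ) x) =
      DirectSum.coeAddMonoidHom ℳ x := by
  induction x using DirectSum.induction_on with
  | zero => simp
  | of i x =>
    rw [DirectSum.map_of, DirectSum.coeAddMonoidHom_of, DirectSum.coeAddMonoidHom_of]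
    rfl
  | add x y hx hy => rw [map_add, map_add, hx, hy, map_add]

/-- the converted family is again a grading -/
@[instance_reducible]
noncomputable def toSubDecomposition [DirectSum.Decomposition ℳ] :
    DirectSum.Decomposition (toSub ℳ) :=
  Decomposition.ofAddHom (toSub ℳ)
    ((DirectSum.map (pieceHom ℳ)).comp (decomposeAddEquiv ℳ).toAddMonoidHom)
    (by
      ext x
      simp only [AddMonoidHom.coe_comp, Function.comp_apply, AddMonoidHom.id_apply]
      rw [coe_map_pieceHom]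
      exact (decompose ℳ).left_inv x)
    (by
      apply DirectSum.addHom_ext
      rintro i ⟨y, hy⟩
      simp only [AddMonoidHom.coe_comp, Function.comp_apply, AddMonoidHom.id_apply]
      rw [DirectSum.coeAddMonoidHom_of]
      have h1 : (decomposeAddEquiv ℳ).toAddMonoidHom y =
          DirectSum.of (fun i => ℳ i) i ⟨y, hy⟩ := decompose_of_mem ℳ hy
      rw [h1, DirectSum.map_of]
      rfl)

theorem decompose_toSub [DirectSum.Decomposition ℳ] (x : M) (i : ι) :
    letI := toSubDecomposition ℳ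
    ((decompose (toSub ℳ) x i : toSub ℳ i) : M) = (decompose ℳ x i : M) := by
  letI := toSubDecomposition ℳ
  show ((DirectSum.map (pieceHom ℳ) (decompose ℳ x)) i : M) = _
  rw [DirectSum.map_apply]
  rfl

end Sub

section Ring
variable {ι : Type} [AddCommGroup ι] [DecidableEq ι] {R : Type u} [CommRing R]
  {σ : Type u} [SetLike σ R] [AddSubgroupClass σ R] (𝒜 : ι → σ) [GradedRing 𝒜]

theorem toSubGradedMonoid : SetLike.GradedMonoid (toSub 𝒜) where
  one_mem := SetLike.GradedOne.one_mem (A := 𝒜)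
  mul_mem := fun _ _ _ _ ha hb => SetLike.GradedMul.mul_mem (A := 𝒜) ha hb

/-- the converted family is again a graded ring -/
@[instance_reducible]
noncomputable def toSubGradedRing : GradedRing (toSub 𝒜) :=
  { toSubGradedMonoid 𝒜, toSubDecomposition 𝒜 with }

variable {M : Type u} [AddCommGroup M] [Module R M] {τ : Type u} [SetLike τ M]
  [AddSubgroupClass τ M] (ℳ : ι → τ)

theorem toSubGradedSMul [SetLike.GradedSMul 𝒜 ℳ] : SetLike.GradedSMul (toSub 𝒜) (toSub ℳ) where
  smul_mem := fun _ _ _ _ ha hx => SetLike.GradedSMul.smul_mem (A := 𝒜) (B := ℳ) ha hx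

theorem gsmul_toSub (𝒳 : ι → AddSubgroup M) [SetLike.GradedSMul 𝒜 𝒳] :
    SetLike.GradedSMul (toSub 𝒜) 𝒳 where
  smul_mem := fun _ _ _ _ ha hx => SetLike.GradedSMul.smul_mem (A := 𝒜) (B := 𝒳) ha hx

theorem gsmul_of_toSub (𝒳 : ι → AddSubgroup M) [SetLike.GradedSMul (toSub 𝒜) 𝒳] :
    SetLike.GradedSMul 𝒜 𝒳 where
  smul_mem := fun _ _ _ _ ha hx => SetLike.GradedSMul.smul_mem (A := toSub 𝒜) (B := 𝒳) ha hx

end Ring

section Res
variable {ι : Type} [AddCommGroup ι] [DecidableEq ι] {R : Type u} [CommRing R]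
  {σ : Type u} [SetLike σ R] [AddSubgroupClass σ R] {𝒜 : ι → σ} [GradedRing 𝒜]

attribute [local instance] toSubGradedRing toSubDecomposition toSubGradedSMul

/-- a graded module over `𝒜` as a graded module over `toSub 𝒜` -/
noncomputable def convGMod (X : GMod.{u} 𝒜) : GMod.{u} (toSub 𝒜) :=
  { carrier := X.carrier
    gr := X.gr
    dec := X.dec
    gsmul := gsmul_toSub 𝒜 X.gr }

/-- a graded module over `toSub 𝒜` as a graded module over `𝒜` -/
noncomputable def unconvGMod (X : GMod.{u} (toSub 𝒜)) : GMod.{u} 𝒜 :=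
  { carrier := X.carrier
    gr := X.gr
    dec := X.dec
    gsmul := gsmul_of_toSub 𝒜 X.gr }

theorem isStarInj_conv {X : Type u} [AddCommGroup X] [Module R X] (𝒳 : ι → AddSubgroup X)
    [DirectSum.Decomposition 𝒳] [SetLike.GradedSMul 𝒜 𝒳] (h : IsStarInj 𝒜 𝒳) :
    @IsStarInj ι _ _ R _ _ _ _ (toSub 𝒜) _ X _ _ _ _ _ 𝒳 _ (gsmul_toSub 𝒜 𝒳) := by
  intro A B f hf hinj g hg
  exact h (unconvGMod A) (unconvGMod B) f hf hinj g hg

variable {M : Type u} [AddCommGroup M] [Module R M] {τ : Type u} [SetLike τ M]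
  [AddSubgroupClass τ M] {ℳ : ι → τ} [DirectSum.Decomposition ℳ] [SetLike.GradedSMul 𝒜 ℳ]

/-- a *injective resolution over `𝒜` as one over `toSub 𝒜` -/
noncomputable def convRes (E : StarInjRes 𝒜 ℳ) : StarInjRes (toSub 𝒜) (toSub ℳ) where
  X n := convGMod (E.X n)
  d := E.d
  ε := E.ε
  d_grHom := E.d_grHom
  ε_grHom := fun j m hm => E.ε_grHom j m hm
  ε_injective := E.ε_injective
  exact_zero := E.exact_zero
  exact_succ := E.exact_succ
  starInj := fun n =>
    @isStarInj_conv ι _ _ R _ σ _ _ 𝒜 _ (E.X n).carrier _ _ (E.X n).gr (E.X n).dec (E.X n).gsmul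
      (E.starInj n)

/-- a homogeneous ideal for `𝒜` as one for `toSub 𝒜` -/
noncomputable def convIdeal (a : HomogeneousIdeal 𝒜) : HomogeneousIdeal (toSub 𝒜) :=
  ⟨a.toIdeal, fun i r hr => by
    rw [decompose_toSub]
    exact a.isHomogeneous i hr⟩

@[simp] theorem convIdeal_toIdeal (a : HomogeneousIdeal 𝒜) : (convIdeal a).toIdeal = a.toIdeal := rfl

theorem convRes_H (E : StarInjRes 𝒜 ℳ) (a : HomogeneousIdeal 𝒜) (i : ℕ) :
    (convRes E).H (convIdeal a) i = E.H a i := rfl

theorem mem_convRes_Hcomp (E : StarInjRes 𝒜 ℳ) (a : HomogeneousIdeal 𝒜) (i : ℕ) (g : ι)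
    (x : E.H a i) : x ∈ (convRes E).Hcomp (convIdeal a) i g ↔ x ∈ E.Hcomp a i g := Iff.rfl

theorem convRes_Hcomp_eq_bot_iff (E : StarInjRes 𝒜 ℳ) (a : HomogeneousIdeal 𝒜) (i : ℕ) (g : ι) :
    (convRes E).Hcomp (convIdeal a) i g = ⊥ ↔ E.Hcomp a i g = ⊥ := by
  rw [eq_bot_iff, eq_bot_iff]
  exact Iff.rfl

end Res

end Groth.Agent.Lib.Helper39.GrBridge
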