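import Groth.Agent.Lib.Helper39.GrBridge

/-!
# Bridge, part 2: *local, *injective hull and *canonical conversions (helper39)
-/

set_option autoImplicit false
universe u

namespace Groth.Agent.Lib.Helper39.GrBridge

open DirectSum GrLC

section Conv
variable {ι : Type} [AddCommGroup ι] [DecidableEq ι] {R : Type u} [CommRing R]
  {σ : Type u} [SetLike σ R] [AddSubgroupClass σ R] {𝒜 : ι → σ} [GradedRing 𝒜]

attribute [local instance] toSubGradedRing toSubDecomposition toSubGradedSMul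

/-- a homogeneous ideal for `toSub 𝒜` as one for `𝒜` -/
noncomputable def unconvIdeal (b : HomogeneousIdeal (toSub 𝒜)) : HomogeneousIdeal 𝒜 :=
  ⟨b.toIdeal, fun i r hr => by
    have := b.isHomogeneous i hr
    rwa [decompose_toSub] at this⟩

noncomputable def convIdealIso : HomogeneousIdeal 𝒜 ≃o HomogeneousIdeal (toSub 𝒜) where
  toFun := convIdeal
  invFun := unconvIdeal
  left_inv _ := rfl
  right_inv _ := rfl
  map_rel_iff' := Iff.rfl

theorem isStarLocal_conv {m : HomogeneousIdeal 𝒜} (hm : IsStarLocal 𝒜 m) :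
    IsStarLocal (toSub 𝒜) (convIdeal m) := by
  constructor
  · exact (OrderIso.isCoatom_iff (convIdealIso (𝒜 := 𝒜)) m).mpr hm.1
  · intro n hn
    have h1 : IsCoatom ((convIdealIso (𝒜 := 𝒜)).symm n) :=
      (OrderIso.isCoatom_iff (convIdealIso (𝒜 := 𝒜)).symm n).mpr hn
    have h2 := hm.2 _ h1
    have h3 : n = convIdealIso ((convIdealIso (𝒜 := 𝒜)).symm n) :=
      ((convIdealIso (𝒜 := 𝒜)).apply_symm_apply n).symm
    rw [h3, h2]
    rfl

variable {m : HomogeneousIdeal 𝒜} {E' : Type u} [AddCommGroup E'] [Module R E']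
  (𝓔 : ι → AddSubgroup E') [DirectSum.Decomposition 𝓔] [SetLike.GradedSMul 𝒜 𝓔]

theorem isStarInjHull_conv (e : (R ⧸ m.toIdeal) →ₗ[R] E')
    (he : IsStarInjHull 𝒜 (quotGr 𝒜 m) 𝓔 e) :
    haveI := gsmul_toSub 𝒜 𝓔
    IsStarInjHull (toSub 𝒜) (quotGr (toSub 𝒜) (convIdeal m)) 𝓔 e := by
  haveI := gsmul_toSub 𝒜 𝓔
  refine { injective := he.injective, grHom := ?_, essential := he.essential, starInj := ?_ }
  · rintro g _ ⟨y, hy, rfl⟩
    exact he.grHom g _ ⟨y, hy, rfl⟩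
  · exact isStarInj_conv 𝓔 he.starInj

variable {C : Type u} [AddCommGroup C] [Module R C] (𝒞 : ι → AddSubgroup C)
  [DirectSum.Decomposition 𝒞] [SetLike.GradedSMul 𝒜 𝒞]

theorem isStarCanonical_conv (n : ℕ) (I : StarInjRes 𝒜 𝒜)
    (hC : IsStarCanonical 𝒜 𝒞 𝓔 m n I) :
    haveI := gsmul_toSub 𝒜 𝓔
    haveI := gsmul_toSub 𝒜 𝒞
    IsStarCanonical (toSub 𝒜) 𝒞 𝓔 (convIdeal m) n (convRes I) := by
  haveI := gsmul_toSub 𝒜 𝓔
  haveI := gsmul_toSub 𝒜 𝒞
  obtain ⟨hfin, φ, hφ⟩ := hC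
  exact ⟨hfin, φ, fun d ψ hψ => hφ d ψ hψ⟩

end Conv

end Groth.Agent.Lib.Helper39.GrBridge
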