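import Groth.Agent.Lib.Helper39.CanonPointwise
import Groth.Agent.Lib.Helper39.GrHomComp
import Groth.Agent.Lib.Helper79.DescentDual

/-!
# Pointwise canonical graded modules over a *local CM ring are isomorphic up to shift (helper39)
-/

set_option autoImplicit false
universe u

namespace Groth.Agent.Lib.Helper39.GrPC

open DirectSum GrLC Groth.Agent.Lib.Helper39

section Graded

variable {ι : Type} [AddCommGroup ι] [DecidableEq ι] {R : Type u} [CommRing R]
  (𝒜 : ι → AddSubgroup R) [GradedRing 𝒜]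

/-- every proper homogeneous ideal lies in the *maximal ideal -/
theorem le_of_ne_top [IsNoetherianRing R] {m : HomogeneousIdeal 𝒜} (hm : IsStarLocal 𝒜 m)
    (J : HomogeneousIdeal 𝒜) (hJ : J ≠ ⊤) : J ≤ m := by
  let 𝒮 : Set (Ideal R) := {K | K.IsHomogeneous 𝒜 ∧ K ≠ ⊤ ∧ J.toIdeal ≤ K}
  have hne : 𝒮.Nonempty := ⟨J.toIdeal, J.isHomogeneous, fun h => hJ (by
    apply HomogeneousIdeal.toIdeal_injective
    rw [HomogeneousIdeal.toIdeal_top]
    exact h), le_rfl⟩
  obtain ⟨K, ⟨hKh, hKt, hJK⟩, hKmax⟩ :=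
    (set_has_maximal_iff_noetherian (R := R) (M := R)).mpr inferInstance 𝒮 hne
  let K' : HomogeneousIdeal 𝒜 := ⟨K, hKh⟩
  have hco : IsCoatom K' := by
    refine ⟨fun h => hKt (by
      have := congrArg HomogeneousIdeal.toIdeal h
      rw [HomogeneousIdeal.toIdeal_top] at this
      exact this), fun L hL => ?_⟩
    by_contra hLt
    apply hKmax L.toIdeal
    · refine ⟨L.isHomogeneous, fun h => hLt (by
        apply HomogeneousIdeal.toIdeal_injective
        rw [HomogeneousIdeal.toIdeal_top]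
        exact h), hJK.trans hL.le⟩
    · exact hL
  have := hm.2 K' hco
  intro x hx
  have h1 : x ∈ K'.toIdeal := hJK hx
  rw [this] at h1
  exact h1

variable {N : Type u} [AddCommGroup N] [Module R N] (𝒩 : ι → AddSubgroup N)
  [DirectSum.Decomposition 𝒩] [SetLike.GradedSMul 𝒜 𝒩]

/-- components of `a • y` for homogeneous `y` -/
theorem decompose_smul_of_right_mem {c : ι} {y : N} (hy : y ∈ 𝒩 c) (a : R) (e : ι) :
    (decompose 𝒩 (a • y) (e + c) : N) = (decompose 𝒜 a e : R) • y := by
  induction a using DirectSum.Decomposition.inductionOn 𝒜 with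
  | zero => simp
  | @homogeneous k r =>
    have hry : (r : R) • y ∈ 𝒩 (k + c) := SetLike.GradedSMul.smul_mem (A := 𝒜) (B := 𝒩) r.2 hy
    by_cases hke : k = e
    · subst hke
      rw [decompose_of_mem_same 𝒩 hry, decompose_of_mem_same 𝒜 r.2]
    · rw [decompose_of_mem_ne 𝒩 hry (fun h => hke (add_right_cancel h)),
        decompose_of_mem_ne 𝒜 r.2 hke, zero_smul]
  | add r r' hr hr' =>
    rw [add_smul, decompose_add, decompose_add, DirectSum.add_apply, DirectSum.add_apply,
      AddSubgroup.coe_add, AddSubgroup.coe_add, hr, hr', add_smul]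

/-- **graded local-global principle**: if `s • y ∈ P` for a graded submodule `P`, a homogeneous `y`
and `s` outside an ideal `𝔫` containing the *maximal ideal, then `y ∈ P`. -/
theorem mem_of_smul_mem [IsNoetherianRing R] {m : HomogeneousIdeal 𝒜} (hm : IsStarLocal 𝒜 m)
    (𝔫 : Ideal R) (h𝔫 : m.toIdeal ≤ 𝔫) (P : Submodule R N)
    (hP : ∀ z ∈ P, ∀ j, (decompose 𝒩 z j : N) ∈ P)
    {c : ι} {y : N} (hy : y ∈ 𝒩 c) {s : R} (hs : s ∉ 𝔫) (hsy : s • y ∈ P) : y ∈ P := by
  let I : Ideal R := P.comap (LinearMap.toSpanSingleton R N y)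
  have hImem : ∀ a : R, a ∈ I ↔ a • y ∈ P := fun a => by
    simp only [I, Submodule.mem_comap, LinearMap.toSpanSingleton_apply]
  have hIhom : I.IsHomogeneous 𝒜 := by
    intro e a ha
    rw [hImem] at ha ⊢
    rw [← decompose_smul_of_right_mem 𝒜 𝒩 hy a e]
    exact hP _ ha _
  have hItop : I = ⊤ := by
    by_contra hne
    have hJ : (⟨I, hIhom⟩ : HomogeneousIdeal 𝒜) ≠ ⊤ := by
      intro h
      apply hne
      have := congrArg HomogeneousIdeal.toIdeal h
      rwa [HomogeneousIdeal.toIdeal_top] at this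
    have hle := le_of_ne_top 𝒜 hm ⟨I, hIhom⟩ hJ
    exact hs (h𝔫 (hle ((hImem s).mpr hsy)))
  have h1 : (1 : R) ∈ I := hItop ▸ Submodule.mem_top
  rw [hImem, one_smul] at h1
  exact h1

variable {C : Type u} [AddCommGroup C] [Module R C] (𝒞 : ι → AddSubgroup C)
  [DirectSum.Decomposition 𝒞] [SetLike.GradedSMul 𝒜 𝒞]

omit [SetLike.GradedSMul 𝒜 𝒩] [SetLike.GradedSMul 𝒜 𝒞] [GradedRing 𝒜] in
/-- components of `φ x` for a homogeneous map `φ` -/
theorem decompose_apply_of_isGrHomDeg (φ : C →ₗ[R] N) {g : ι} (hφ : IsGrHomDeg 𝒞 𝒩 φ g)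
    (x : C) (j : ι) : (decompose 𝒩 (φ x) (j + g) : N) = φ (decompose 𝒞 x j : C) := by
  induction x using DirectSum.Decomposition.inductionOn 𝒞 with
  | zero => simp
  | @homogeneous k x =>
    have hx : φ (x : C) ∈ 𝒩 (k + g) := hφ k x x.2
    by_cases hkj : k = j
    · subst hkj
      rw [decompose_of_mem_same 𝒩 hx, decompose_of_mem_same 𝒞 x.2]
    · rw [decompose_of_mem_ne 𝒩 hx (fun h => hkj (add_right_cancel h)),
        decompose_of_mem_ne 𝒞 x.2 hkj, map_zero]
  | add x x' hx hx' =>
    rw [map_add, decompose_add, decompose_add, DirectSum.add_apply, DirectSum.add_apply,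
      AddSubgroup.coe_add, AddSubgroup.coe_add, hx, hx', map_add]

/-- A homogeneous map between graded modules over a *local Noetherian ring which becomes bijective
after localizing at a prime containing the *maximal ideal is bijective. -/
theorem bijective_of_localized_bijective [IsNoetherianRing R] {m : HomogeneousIdeal 𝒜}
    (hm : IsStarLocal 𝒜 m) (𝔫 : Ideal R) [𝔫.IsPrime] (h𝔫 : m.toIdeal ≤ 𝔫)
    (φ : C →ₗ[R] N) {g : ι} (hφ : IsGrHomDeg 𝒞 𝒩 φ g)
    (hloc : Function.Bijective (LocalizedModule.map 𝔫.primeCompl φ)) : Function.Bijective φ := by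
  classical
  constructor
  · rw [injective_iff_map_eq_zero]
    intro x hx
    rw [← DirectSum.sum_support_decompose 𝒞 x]
    apply Finset.sum_eq_zero
    intro j _
    have h1 : φ (decompose 𝒞 x j : C) = 0 := by
      rw [← decompose_apply_of_isGrHomDeg 𝒩 𝒞 φ hφ x j, hx, decompose_zero]
      rfl
    have h2 : LocalizedModule.mk (decompose 𝒞 x j : C) (1 : 𝔫.primeCompl) = 0 := by
      apply hloc.1
      rw [LocalizedModule.map_mk, h1, map_zero, LocalizedModule.zero_mk]
    rw [← LocalizedModule.zero_mk (1 : 𝔫.primeCompl), LocalizedModule.mk_eq] at h2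
    obtain ⟨s, hs⟩ := h2
    rw [one_smul, one_smul, smul_zero] at hs
    have h3 := mem_of_smul_mem 𝒜 𝒞 hm 𝔫 h𝔫 ⊥ (fun z hz j => by
      rw [Submodule.mem_bot] at hz
      rw [hz, decompose_zero]
      exact Submodule.zero_mem _) (SetLike.coe_mem (decompose 𝒞 x j)) s.2
      (by rw [Submodule.mem_bot]; exact hs)
    exact (Submodule.mem_bot R).mp h3
  · intro y
    have hrange : ∀ j, (decompose 𝒩 y j : N) ∈ LinearMap.range φ := by
      intro j
      obtain ⟨z, hz⟩ := hloc.2 (LocalizedModule.mk (decompose 𝒩 y j : N) 1)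
      induction z using LocalizedModule.induction_on with
      | h x t =>
        rw [LocalizedModule.map_mk, LocalizedModule.mk_eq] at hz
        obtain ⟨u, hu⟩ := hz
        rw [one_smul] at hu
        refine mem_of_smul_mem 𝒜 𝒩 hm 𝔫 h𝔫 (LinearMap.range φ) ?_
          (SetLike.coe_mem (decompose 𝒩 y j)) (u * t).2 ?_
        · rintro _ ⟨x', rfl⟩ k
          refine ⟨(decompose 𝒞 x' (k - g) : C), ?_⟩
          rw [← decompose_apply_of_isGrHomDeg 𝒩 𝒞 φ hφ x' (k - g), sub_add_cancel]
        · refine ⟨(u : R) • x, ?_⟩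
          rw [map_smul]
          have : ((u * t : 𝔫.primeCompl) : R) • (decompose 𝒩 y j : N) =
              u • t • (decompose 𝒩 y j : N) := by
            rw [Submonoid.coe_mul, mul_smul]
            rfl
          rw [this]
          exact hu
    have : y ∈ LinearMap.range φ := by
      rw [← DirectSum.sum_support_decompose 𝒩 y]
      exact Submodule.sum_mem _ (fun j _ => hrange j)
    exact this

open Classical in
/-- a linear map out of a finitely generated graded module is a finite sum of its homogeneous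
components -/
theorem exists_finset_sum_compLin [Module.Finite R C] (h : C →ₗ[R] N) :
    ∃ S : Finset ι, h = ∑ d ∈ S, compLin 𝒜 𝒞 𝒩 h d := by
  obtain ⟨s, hs, hspan⟩ := exists_homogeneous_generators (R := R) 𝒞
  choose! deg hdeg using hs
  let S : Finset ι :=
    s.biUnion (fun x => (decompose 𝒩 (h x)).support.image (fun j => j - deg x))
  refine ⟨S, ?_⟩
  apply LinearMap.ext_on hspan
  intro x hx
  rw [LinearMap.sum_apply]
  symm
  refine sum_compLin_of_mem 𝒜 𝒞 𝒩 h (hdeg x hx) S ?_
  intro j hj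
  rw [Finset.mem_biUnion]
  exact ⟨x, hx, Finset.mem_image.mpr ⟨j, by convert hj, rfl⟩⟩

end Graded

end Groth.Agent.Lib.Helper39.GrPC
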