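import Groth.Agent.Lib.Helper39.GrPieces
import Groth.Agent.Lib.Helper39.GrPointwiseCanon
import Groth.Agent.Lib.Helper39.GrHomComp
import Mathlib.RingTheory.QuotSMulTop

/-!
# Pieces of a graded module of depth `≥ 2` over a standard graded ring have dimension `≥ 2`
above the initial degree (helper39)
-/

set_option autoImplicit false
universe u

namespace Groth.Agent.Lib.Helper39.GrCanonDim2

open DirectSum GrLC Groth.Agent.Lib.Helper39 Groth.Agent.Lib.Helper39.GrNak Pointwise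

variable {R : Type u} [CommRing R] (𝒜 : ℤ → AddSubgroup R) [GradedRing 𝒜]
  (hpos : ∀ n : ℤ, n < 0 → 𝒜 n = ⊥)
  (hstd : Ideal.span (⋃ n ∈ Set.Ioi (0 : ℤ), (𝒜 n : Set R)) =
    Ideal.span ((𝒜 1 : AddSubgroup R) : Set R))

/-- products `α β` with `α ∈ R_s`, `β ∈ R_t` -/
def prodSet (s t : ℤ) : Set R := {z | ∃ α ∈ 𝒜 s, ∃ β ∈ 𝒜 t, z = α * β}

include hstd in
theorem mem_closure_succ {n : ℤ} (hn : 0 ≤ n) {ρ : R} (hρ : ρ ∈ 𝒜 (n + 1)) :
    ρ ∈ AddSubgroup.closure (prodSet 𝒜 n 1) := by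
  classical
  have h1 : ρ ∈ Ideal.span ((𝒜 1 : AddSubgroup R) : Set R) := by
    rw [← hstd]
    apply Ideal.subset_span
    simp only [Set.mem_iUnion, Set.mem_Ioi]
    exact ⟨n + 1, by omega, hρ⟩
  obtain ⟨N, f, g, hfg⟩ := Submodule.mem_span_set'.mp h1
  have h2 : ρ = ∑ l, (decompose 𝒜 (f l) n : R) * (g l : R) := by
    have h3 := decompose_of_mem_same 𝒜 hρ
    rw [← h3, ← hfg, decompose_sum, DFinsupp.finsetSum_apply, AddSubmonoidClass.coe_finsetSum]
    refine Finset.sum_congr rfl (fun l _ => ?_)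
    have := GrPC.decompose_smul_of_right_mem 𝒜 𝒜 (g l).2 (f l) n
    rwa [smul_eq_mul, smul_eq_mul] at this
  rw [h2]
  refine AddSubgroup.sum_mem _ (fun l _ => AddSubgroup.subset_closure ?_)
  exact ⟨_, SetLike.coe_mem _, _, (g l).2, rfl⟩

theorem closure_mul_right {s t : ℤ} {β : R} (hβ : β ∈ 𝒜 1) :
    ∀ z ∈ AddSubgroup.closure (prodSet 𝒜 s t), z * β ∈ AddSubgroup.closure (prodSet 𝒜 (s + 1) t) := by
  intro z hz
  induction hz using AddSubgroup.closure_induction with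
  | mem z' hz' =>
    obtain ⟨α', hα', β', hβ', rfl⟩ := hz'
    apply AddSubgroup.subset_closure
    exact ⟨α' * β, SetLike.GradedMul.mul_mem (A := 𝒜) hα' hβ, β', hβ', by ring⟩
  | zero => rw [zero_mul]; exact zero_mem _
  | add u v _ _ hu hv => rw [add_mul]; exact add_mem hu hv
  | neg u _ hu => rw [neg_mul]; exact neg_mem hu

include hstd in
theorem mem_closure_prod (t : ℤ) (ht : 0 ≤ t) : ∀ (s : ℕ) {ρ : R}, ρ ∈ 𝒜 ((s : ℤ) + t) →
    ρ ∈ AddSubgroup.closure (prodSet 𝒜 (s : ℤ) t) := by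
  intro s
  induction s with
  | zero =>
    intro ρ hρ
    apply AddSubgroup.subset_closure
    refine ⟨1, SetLike.GradedOne.one_mem (A := 𝒜), ρ, ?_, (one_mul ρ).symm⟩
    simpa using hρ
  | succ s ih =>
    intro ρ hρ
    have h1 : ρ ∈ 𝒜 (((s : ℤ) + t) + 1) := by
      have : ((s + 1 : ℕ) : ℤ) + t = ((s : ℤ) + t) + 1 := by push_cast; ring
      rwa [this] at hρ
    have h2 := mem_closure_succ 𝒜 hstd (by omega : (0 : ℤ) ≤ (s : ℤ) + t) h1
    have key : ∀ z ∈ AddSubgroup.closure (prodSet 𝒜 ((s : ℤ) + t) 1),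
        z ∈ AddSubgroup.closure (prodSet 𝒜 ((s : ℤ) + 1) t) := by
      intro z hz
      induction hz using AddSubgroup.closure_induction with
      | mem z' hz' =>
        obtain ⟨α, hα, β, hβ, rfl⟩ := hz'
        exact closure_mul_right 𝒜 hβ α (ih hα)
      | zero => exact zero_mem _
      | add u v _ _ hu hv => exact add_mem hu hv
      | neg u _ hu => exact neg_mem hu
    have e : ((s + 1 : ℕ) : ℤ) = (s : ℤ) + 1 := by push_cast; ring
    rw [e]
    exact key ρ h2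

variable {C : Type u} [AddCommGroup C] [Module R C] (𝒞 : ℤ → AddSubgroup C)
  [DirectSum.Decomposition 𝒞] [SetLike.GradedSMul 𝒜 𝒞]

include hstd in
/-- if `x` of positive degree is regular then every nonzero element has a nonzero multiple by an
element of each degree `s ≥ 0` -/
theorem exists_smul_ne_zero {d : ℤ} {x : R} (hd : 0 < d) (hx : x ∈ 𝒜 d) (hxreg : IsSMulRegular C x)
    {u : C} (hu : u ≠ 0) : ∀ s : ℕ, ∃ r ∈ 𝒜 (s : ℤ), r • u ≠ 0 := by
  classical
  intro s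
  induction s with
  | zero =>
    exact ⟨1, SetLike.GradedOne.one_mem (A := 𝒜), by rwa [one_smul]⟩
  | succ s ih =>
    obtain ⟨r, hr, hru⟩ := ih
    by_contra hcon
    push Not at hcon
    have hkill : ∀ r' ∈ 𝒜 1, r' • (r • u) = 0 := by
      intro r' hr'
      have := hcon (r' * r) (by
        have := SetLike.GradedMul.mul_mem (A := 𝒜) hr' hr
        have e : ((s + 1 : ℕ) : ℤ) = 1 + (s : ℤ) := by push_cast; ring
        rwa [e])
      rwa [mul_smul] at this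
    have h1 : x ∈ Ideal.span ((𝒜 1 : AddSubgroup R) : Set R) := by
      rw [← hstd]
      apply Ideal.subset_span
      simp only [Set.mem_iUnion, Set.mem_Ioi]
      exact ⟨d, hd, hx⟩
    obtain ⟨N, f, g, hfg⟩ := Submodule.mem_span_set'.mp h1
    have h2 : x • (r • u) = 0 := by
      rw [← hfg, Finset.sum_smul]
      refine Finset.sum_eq_zero (fun l _ => ?_)
      rw [smul_eq_mul, mul_smul, hkill _ (g l).2, smul_zero]
    apply hru
    apply hxreg
    show x • (r • u) = x • 0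
    rw [h2, smul_zero]

include hstd in
/-- if `R_T u0` is one-dimensional, spanned by `μ u0`, then `R_{cT} u0` is spanned by `μ^c u0` -/
theorem smul_eq_of_one_dim (T : ℕ) {u0 : C} {μ : R}
    (h1 : ∀ α ∈ 𝒜 (T : ℤ), ∃ l ∈ 𝒜 0, α • u0 = (l * μ) • u0) :
    ∀ (c : ℕ) {ρ : R}, ρ ∈ 𝒜 ((c * T : ℕ) : ℤ) → ∃ l ∈ 𝒜 0, ρ • u0 = (l * μ ^ c) • u0 := by
  intro c
  induction c with
  | zero =>
    intro ρ hρ
    refine ⟨ρ, by simpa using hρ, by rw [pow_zero, mul_one]⟩
  | succ c ih =>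
    intro ρ hρ
    have hρ' : ρ ∈ 𝒜 ((T : ℤ) + ((c * T : ℕ) : ℤ)) := by
      have e : (((c + 1) * T : ℕ) : ℤ) = (T : ℤ) + ((c * T : ℕ) : ℤ) := by push_cast; ring
      rwa [e] at hρ
    have h2 := mem_closure_prod 𝒜 hstd ((c * T : ℕ) : ℤ) (Int.natCast_nonneg _) T hρ'
    have key : ∀ z ∈ AddSubgroup.closure (prodSet 𝒜 (T : ℤ) ((c * T : ℕ) : ℤ)),
        ∃ l ∈ 𝒜 0, z • u0 = (l * μ ^ (c + 1)) • u0 := by
      intro z hz
      induction hz using AddSubgroup.closure_induction with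
      | mem z' hz' =>
        obtain ⟨α, hα, β, hβ, rfl⟩ := hz'
        obtain ⟨l1, hl1, e1⟩ := ih hβ
        obtain ⟨l2, hl2, e2⟩ := h1 α hα
        refine ⟨l1 * l2, ?_, ?_⟩
        · have := SetLike.GradedMul.mul_mem (A := 𝒜) hl1 hl2
          rwa [add_zero] at this
        · calc (α * β) • u0 = α • (β • u0) := mul_smul _ _ _
            _ = α • ((l1 * μ ^ c) • u0) := by rw [e1]
            _ = (l1 * μ ^ c) • (α • u0) := smul_comm _ _ _
            _ = (l1 * μ ^ c) • ((l2 * μ) • u0) := by rw [e2]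
            _ = (l1 * l2 * μ ^ (c + 1)) • u0 := by
              rw [← mul_smul]
              congr 1
              ring
      | zero => exact ⟨0, zero_mem _, by rw [zero_smul, zero_mul, zero_smul]⟩
      | add u v _ _ hu hv =>
        obtain ⟨l, hl, el⟩ := hu
        obtain ⟨l', hl', el'⟩ := hv
        exact ⟨l + l', add_mem hl hl', by rw [add_smul, el, el', ← add_smul, add_mul]⟩
      | neg u _ hu =>
        obtain ⟨l, hl, el⟩ := hu
        exact ⟨-l, neg_mem hl, by rw [neg_smul, el, ← neg_smul, neg_mul]⟩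
    exact key ρ h2

include hpos hstd in
/-- the key contradiction: a graded module with a homogeneous regular sequence of length two over a
standard graded ring cannot have a one-dimensional piece above its initial degree -/
theorem false_of_one_dim (h0 : IsField (GrLC.deg0 𝒜)) (a j : ℤ) (hj : -a < j)
    (hlow : ∀ i, i < -a → 𝒞 i = ⊥) {u0 : C} (hu0 : u0 ∈ 𝒞 (-a)) (hu0ne : u0 ≠ 0)
    {d d' : ℤ} {x y : R} (hd : 0 < d) (hx : x ∈ 𝒜 d) (hd' : 0 < d') (hy : y ∈ 𝒜 d')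
    (hxreg : IsSMulRegular C x) (hyreg : IsSMulRegular (QuotSMulTop x C) y)
    (w0 : C) (h1 : ∀ v ∈ 𝒞 j, ∃ l ∈ 𝒜 0, v = l • w0) : False := by
  classical
  obtain ⟨T, hT⟩ : ∃ T : ℕ, (T : ℤ) = j + a := ⟨(j + a).toNat, Int.toNat_of_nonneg (by omega)⟩
  have hT1 : 1 ≤ T := by omega
  obtain ⟨D, hD⟩ : ∃ D : ℕ, (D : ℤ) = d := ⟨d.toNat, Int.toNat_of_nonneg hd.le⟩
  obtain ⟨D', hD'⟩ : ∃ D' : ℕ, (D' : ℤ) = d' := ⟨d'.toNat, Int.toNat_of_nonneg hd'.le⟩
  have hD1 : 1 ≤ D := by omega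
  have hD'1 : 1 ≤ D' := by omega
  have hmemj : ∀ α ∈ 𝒜 (T : ℤ), α • u0 ∈ 𝒞 j := by
    intro α hα
    have := SetLike.GradedSMul.smul_mem (A := 𝒜) (B := 𝒞) hα hu0
    rw [vadd_eq_add] at this
    have e : (T : ℤ) + -a = j := by omega
    rwa [e] at this
  have hmul0 : ∀ {p q : R}, p ∈ 𝒜 0 → q ∈ 𝒜 0 → p * q ∈ 𝒜 0 := by
    intro p q hp hq
    have := SetLike.GradedMul.mul_mem (A := 𝒜) hp hq
    rwa [add_zero] at this
  obtain ⟨μ, hμ, hμu⟩ := exists_smul_ne_zero 𝒜 hstd hd hx hxreg hu0ne T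
  obtain ⟨lμ, hlμ, elμ⟩ := h1 _ (hmemj μ hμ)
  have hlμ0 : (⟨lμ, hlμ⟩ : GrLC.deg0 𝒜) ≠ 0 := by
    intro h
    have h' : lμ = 0 := congrArg Subtype.val h
    rw [h', zero_smul] at elμ
    exact hμu elμ
  obtain ⟨lμ', hlμ'⟩ := h0.mul_inv_cancel hlμ0
  have hinv : lμ * (lμ' : R) = 1 := congrArg Subtype.val hlμ'
  have hw0 : w0 = (lμ' : R) • (μ • u0) := by
    rw [elμ, ← mul_smul, mul_comm, hinv, one_smul]
  have h1' : ∀ α ∈ 𝒜 (T : ℤ), ∃ l ∈ 𝒜 0, α • u0 = (l * μ) • u0 := by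
    intro α hα
    obtain ⟨l, hl, el⟩ := h1 _ (hmemj α hα)
    refine ⟨l * (lμ' : R), hmul0 hl lμ'.2, ?_⟩
    rw [el, hw0, ← mul_smul, ← mul_smul, mul_assoc]
  have claim := smul_eq_of_one_dim 𝒜 hstd T h1'
  have hX : x ^ (T * D') ∈ 𝒜 (((D * D') * T : ℕ) : ℤ) := by
    have := SetLike.pow_mem_graded (T * D') hx
    have e : (T * D') • d = (((D * D') * T : ℕ) : ℤ) := by
      rw [← hD, nsmul_eq_mul]
      push_cast
      ring
    rwa [e] at this
  have hY : y ^ (T * D) ∈ 𝒜 (((D * D') * T : ℕ) : ℤ) := by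
    have := SetLike.pow_mem_graded (T * D) hy
    have e : (T * D) • d' = (((D * D') * T : ℕ) : ℤ) := by
      rw [← hD', nsmul_eq_mul]
      push_cast
      ring
    rwa [e] at this
  obtain ⟨l1, hl1, e1⟩ := claim (D * D') hX
  obtain ⟨l2, hl2, e2⟩ := claim (D * D') hY
  have hXu : x ^ (T * D') • u0 ≠ 0 := by
    intro h
    apply hu0ne
    apply hxreg.pow (T * D')
    show x ^ (T * D') • u0 = x ^ (T * D') • 0
    rw [h, smul_zero]
  have hl10 : (⟨l1, hl1⟩ : GrLC.deg0 𝒜) ≠ 0 := by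
    intro h
    have h' : l1 = 0 := congrArg Subtype.val h
    rw [h', zero_mul, zero_smul] at e1
    exact hXu e1
  obtain ⟨l1', hl1'⟩ := h0.mul_inv_cancel hl10
  have hinv1 : l1 * (l1' : R) = 1 := congrArg Subtype.val hl1'
  have hYx : y ^ (T * D) • u0 ∈ x • (⊤ : Submodule R C) := by
    have hTD : T * D' = (T * D' - 1) + 1 := by
      have : 1 ≤ T * D' := Nat.mul_pos hT1 hD'1
      omega
    have e3 : y ^ (T * D) • u0 = x • ((l2 * (l1' : R) * x ^ (T * D' - 1)) • u0) := by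
      rw [e2]
      have e4 : (l2 * μ ^ (D * D')) • u0 = (l2 * (l1' : R)) • ((l1 * μ ^ (D * D')) • u0) := by
        rw [← mul_smul]
        congr 1
        calc l2 * μ ^ (D * D') = l2 * (l1 * (l1' : R)) * μ ^ (D * D') := by rw [hinv1, mul_one]
          _ = l2 * (l1' : R) * (l1 * μ ^ (D * D')) := by ring
      rw [e4, ← e1, ← mul_smul, ← mul_smul]
      congr 1
      conv_lhs => rw [hTD, pow_succ]
      ring
    rw [e3]
    exact Submodule.smul_mem_pointwise_smul _ _ _ Submodule.mem_top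
  have hq : (x • (⊤ : Submodule R C)).mkQ u0 = 0 := by
    apply hyreg.pow (T * D)
    show y ^ (T * D) • (x • (⊤ : Submodule R C)).mkQ u0 = y ^ (T * D) • 0
    rw [smul_zero, ← map_smul, Submodule.mkQ_apply, Submodule.Quotient.mk_eq_zero]
    exact hYx
  rw [Submodule.mkQ_apply, Submodule.Quotient.mk_eq_zero] at hq
  obtain ⟨c', -, hc'⟩ := (Submodule.mem_smul_pointwise_iff_exists _ _ _).mp hq
  have h5 := decompose_smul_of_mem 𝒜 𝒞 hx c' (-a - d)
  have e5 : d + (-a - d) = -a := by ring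
  rw [e5, hc', decompose_of_mem_same 𝒞 hu0] at h5
  have h6 : (decompose 𝒞 c' (-a - d) : C) = 0 := by
    have h7 : (decompose 𝒞 c' (-a - d) : C) ∈ 𝒞 (-a - d) := SetLike.coe_mem _
    have h8 : (decompose 𝒞 c' (-a - d) : C) ∈ (⊥ : AddSubgroup C) :=
      (hlow (-a - d) (by omega)) ▸ h7
    exact h8
  rw [h6, smul_zero] at h5
  exact hu0ne h5

/-- the end degree is attained -/
theorem ne_bot_of_endDeg {M : Type u} [AddCommGroup M] (𝒢 : ℤ → AddSubgroup M) (a : ℤ)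
    (ha : GrLC.endDeg 𝒢 = ((a : WithTop ℤ) : WithBot (WithTop ℤ))) : 𝒢 a ≠ ⊥ := by
  intro hbot
  have hle : GrLC.endDeg 𝒢 ≤ (((a - 1 : ℤ) : WithTop ℤ) : WithBot (WithTop ℤ)) := by
    unfold GrLC.endDeg
    apply iSup_le
    intro j
    apply iSup_le
    intro hj
    have hja : (((j : ℤ) : WithTop ℤ) : WithBot (WithTop ℤ)) ≤
        ((a : WithTop ℤ) : WithBot (WithTop ℤ)) := by
      rw [← ha]
      unfold GrLC.endDeg
      exact le_iSup₂_of_le j hj le_rfl
    have hja' : j ≤ a := by exact_mod_cast hja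
    have hne : j ≠ a := fun h => hj (h ▸ hbot)
    have : j ≤ a - 1 := by omega
    exact_mod_cast this
  rw [ha] at hle
  have : a ≤ a - 1 := by exact_mod_cast hle
  omega

end Groth.Agent.Lib.Helper39.GrCanonDim2
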