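import Groth.Agent.Lib.Helper39.GrHomComp
import Groth.Agent.Lib.Helper39.GrH

set_option autoImplicit false
universe u

namespace Groth.Agent.Lib.Helper39.GrNak

open DirectSum GrLC Groth.Agent.Lib.Helper39

variable {R : Type u} [CommRing R] (𝒜 : ℤ → AddSubgroup R) [GradedRing 𝒜]
  {M : Type u} [AddCommGroup M] [Module R M] (ℳ : ℤ → AddSubgroup M) [DirectSum.Decomposition ℳ]
  [SetLike.GradedSMul 𝒜 ℳ]

/-- the submodule generated by homogeneous elements of degree `≥ t` -/
def geSub (t : ℤ) : Submodule R M := Submodule.span R (⋃ j ∈ Set.Ici t, (ℳ j : Set M))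

theorem geSub_anti {s t : ℤ} (h : s ≤ t) : geSub (R := R) ℳ t ≤ geSub ℳ s := by
  apply Submodule.span_mono
  intro x hx
  simp only [Set.mem_iUnion, Set.mem_Ici] at hx ⊢
  obtain ⟨j, hj, hx⟩ := hx
  exact ⟨j, h.trans hj, hx⟩

theorem mem_geSub_of_mem {j t : ℤ} (h : t ≤ j) {x : M} (hx : x ∈ ℳ j) : x ∈ geSub (R := R) ℳ t := by
  apply Submodule.subset_span
  simp only [Set.mem_iUnion, Set.mem_Ici]
  exact ⟨j, h, hx⟩

omit [SetLike.GradedSMul 𝒜 ℳ] in
theorem geSub_eq_bot {n₀ : ℤ} (h : ∀ n, n₀ ≤ n → ℳ n = ⊥) : geSub (R := R) ℳ n₀ = ⊥ := by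
  rw [geSub, Submodule.span_eq_bot]
  intro x hx
  simp only [Set.mem_iUnion, Set.mem_Ici] at hx
  obtain ⟨j, hj, hx⟩ := hx
  rw [h j hj] at hx
  exact hx

theorem exists_mem_geSub (x : M) : ∃ t, x ∈ geSub (R := R) ℳ t := by
  induction x using DirectSum.Decomposition.inductionOn ℳ with
  | zero => exact ⟨0, Submodule.zero_mem _⟩
  | @homogeneous j m => exact ⟨j, mem_geSub_of_mem ℳ le_rfl m.2⟩
  | add m m' hm hm' =>
    obtain ⟨t, ht⟩ := hm
    obtain ⟨t', ht'⟩ := hm'
    exact ⟨min t t', Submodule.add_mem _ (geSub_anti ℳ (min_le_left _ _) ht)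
      (geSub_anti ℳ (min_le_right _ _) ht')⟩

variable (a : Ideal R) (ha : a = Ideal.span (⋃ n ∈ Set.Ioi (0 : ℤ), (𝒜 n : Set R)))

include ha in
theorem smul_geSub_le (t : ℤ) : a • geSub (R := R) ℳ t ≤ geSub ℳ (t + 1) := by
  rw [ha, geSub, Submodule.span_smul_span, Submodule.span_le]
  rintro x ⟨r, hr, m, hm, rfl⟩
  simp only [Set.mem_iUnion, Set.mem_Ioi, Set.mem_Ici] at hr hm
  obtain ⟨n, hn, hr⟩ := hr
  obtain ⟨j, hj, hm⟩ := hm
  exact mem_geSub_of_mem ℳ (by omega : t + 1 ≤ n + j)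
    (SetLike.GradedSMul.smul_mem (A := 𝒜) (B := ℳ) hr hm)

include ha in
theorem pow_smul_geSub_le (k : ℕ) (t : ℤ) : a ^ k • geSub (R := R) ℳ t ≤ geSub ℳ (t + k) := by
  induction k generalizing t with
  | zero => simp
  | succ k ih =>
    rw [pow_succ, mul_smul]
    refine (Submodule.smul_mono le_rfl (smul_geSub_le 𝒜 ℳ a ha t)).trans ?_
    refine (ih (t + 1)).trans (le_of_eq ?_)
    congr 1
    push_cast
    ring

include ha in
/-- a graded module vanishing in high degrees is `R_+`-power torsion -/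
theorem torsion_of_eventually_bot {n₀ : ℤ} (h : ∀ n, n₀ ≤ n → ℳ n = ⊥) (x : M) :
    ∃ k : ℕ, ∀ r ∈ a ^ k, r • x = 0 := by
  obtain ⟨t, ht⟩ := exists_mem_geSub (R := R) ℳ x
  refine ⟨(n₀ - t).toNat, fun r hr => ?_⟩
  have h1 : r • x ∈ a ^ (n₀ - t).toNat • geSub (R := R) ℳ t := Submodule.smul_mem_smul hr ht
  have h2 := pow_smul_geSub_le 𝒜 ℳ a ha (n₀ - t).toNat t h1
  have h3 : geSub (R := R) ℳ (t + ((n₀ - t).toNat : ℤ)) ≤ geSub ℳ n₀ :=
    geSub_anti ℳ (by omega)
  have h4 := h3 h2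
  rw [geSub_eq_bot ℳ h] at h4
  exact h4


variable (hpos : ∀ n : ℤ, n < 0 → 𝒜 n = ⊥)

include hpos in
theorem decompose_smul_eq_zero_of_lt {t : ℤ} {x : M}
    (hx : ∀ j, j < t → (decompose ℳ x j : M) = 0) (r : R) :
    ∀ j, j < t → (decompose ℳ (r • x) j : M) = 0 := by
  induction r using DirectSum.Decomposition.inductionOn 𝒜 with
  | zero => intro j _; simp
  | @homogeneous i r =>
    intro j hj
    by_cases hi : i < 0
    · have : (r : R) = 0 := by
        have h1 : (r : R) ∈ (⊥ : AddSubgroup R) := (hpos i hi) ▸ r.2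
        exact h1
      rw [this, zero_smul, decompose_zero]
      rfl
    · have h := decompose_smul_of_mem 𝒜 ℳ r.2 x (j - i)
      rw [show i + (j - i) = j by ring] at h
      rw [h, hx (j - i) (by omega), smul_zero]
  | add r r' hr hr' =>
    intro j hj
    rw [add_smul, decompose_add, DirectSum.add_apply, AddSubgroup.coe_add, hr j hj, hr' j hj,
      add_zero]

include hpos in
theorem decompose_eq_zero_of_mem_geSub {t : ℤ} {x : M} (hx : x ∈ geSub (R := R) ℳ t) :
    ∀ j, j < t → (decompose ℳ x j : M) = 0 := by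
  induction hx using Submodule.span_induction with
  | mem x hx =>
    simp only [Set.mem_iUnion, Set.mem_Ici] at hx
    obtain ⟨i, hi, hx⟩ := hx
    intro j hj
    exact decompose_of_mem_ne ℳ hx (by omega)
  | zero => intro j _; simp
  | add x y _ _ hx hy =>
    intro j hj
    rw [decompose_add, DirectSum.add_apply, AddSubgroup.coe_add, hx j hj, hy j hj, add_zero]
  | smul r x _ hx => exact decompose_smul_eq_zero_of_lt 𝒜 ℳ hpos hx r


theorem exists_span_le_geSub (S : Finset M) :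
    ∃ b, Submodule.span R (S : Set M) ≤ geSub (R := R) ℳ b := by
  classical
  induction S using Finset.induction_on with
  | empty => exact ⟨0, by simp⟩
  | insert x S _ ih =>
    obtain ⟨b, hb⟩ := ih
    obtain ⟨t, ht⟩ := exists_mem_geSub (R := R) ℳ x
    refine ⟨min t b, ?_⟩
    rw [Finset.coe_insert, Submodule.span_insert]
    refine sup_le ?_ (hb.trans (geSub_anti ℳ (min_le_right _ _)))
    rw [Submodule.span_singleton_le_iff_mem]
    exact geSub_anti ℳ (min_le_left _ _) ht

theorem exists_top_le_geSub [Module.Finite R M] : ∃ b, (⊤ : Submodule R M) ≤ geSub (R := R) ℳ b := by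
  obtain ⟨S, hS⟩ := Module.finite_def.mp ‹Module.Finite R M›
  obtain ⟨b, hb⟩ := exists_span_le_geSub (R := R) ℳ S
  exact ⟨b, hS ▸ hb⟩

include ha hpos in
/-- graded Nakayama: if `M = R_+ M + T` with `T` homogeneous and `M` finitely generated then
`T = M` -/
theorem eq_top_of_smul_sup_eq_top [Module.Finite R M] (T : Submodule R M)
    (hT : T.IsHomogeneous ℳ) (h : a • (⊤ : Submodule R M) ⊔ T = ⊤) : T = ⊤ := by
  classical
  obtain ⟨b, hb⟩ := exists_top_le_geSub (R := R) ℳ
  have h2 : ∀ k : ℕ, (⊤ : Submodule R M) ≤ T ⊔ geSub (R := R) ℳ (b + k) := by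
    intro k
    induction k with
    | zero =>
      simp only [Nat.cast_zero, add_zero]
      exact hb.trans le_sup_right
    | succ k ih =>
      calc (⊤ : Submodule R M) = a • (⊤ : Submodule R M) ⊔ T := h.symm
        _ ≤ a • (T ⊔ geSub (R := R) ℳ (b + k)) ⊔ T :=
            sup_le_sup_right (Submodule.smul_mono le_rfl ih) _
        _ ≤ T ⊔ geSub (R := R) ℳ (b + (k + 1 : ℕ)) := by
            rw [Submodule.smul_sup]
            refine sup_le (sup_le (Submodule.smul_le_right.trans le_sup_left) ?_) le_sup_left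
            refine (smul_geSub_le 𝒜 ℳ a ha _).trans (le_trans (le_of_eq ?_) le_sup_right)
            congr 1
            push_cast
            ring
  rw [eq_top_iff]
  intro x _
  have hx : ∀ j, (decompose ℳ x j : M) ∈ T := by
    intro j
    have h3 := h2 (j + 1 - b).toNat (Submodule.mem_top (x := x))
    obtain ⟨y, hy, z, hz, rfl⟩ := Submodule.mem_sup.mp h3
    rw [decompose_add, DirectSum.add_apply, AddSubgroup.coe_add,
      decompose_eq_zero_of_mem_geSub 𝒜 ℳ hpos hz j (by omega), add_zero]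
    exact hT j hy
  rw [← sum_support_decompose ℳ x]
  exact Submodule.sum_mem _ (fun j _ => hx j)


theorem decompose_smul_of_right_mem {d : ℤ} {s : M} (hs : s ∈ ℳ d) (r : R) (j : ℤ) :
    (decompose ℳ (r • s) (j + d) : M) = (decompose 𝒜 r j : R) • s := by
  induction r using DirectSum.Decomposition.inductionOn 𝒜 with
  | zero => simp
  | @homogeneous i r =>
    have hrs : (r : R) • s ∈ ℳ (i + d) := SetLike.GradedSMul.smul_mem (A := 𝒜) (B := ℳ) r.2 hs
    by_cases hij : i = j
    · subst hij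
      rw [decompose_of_mem_same ℳ hrs, decompose_of_mem_same 𝒜 r.2]
    · rw [decompose_of_mem_ne ℳ hrs (fun h => hij (add_right_cancel h)),
        decompose_of_mem_ne 𝒜 r.2 hij, zero_smul]
  | add r r' hr hr' =>
    rw [add_smul, decompose_add, decompose_add, DirectSum.add_apply, DirectSum.add_apply,
      AddSubgroup.coe_add, AddSubgroup.coe_add, hr, hr', add_smul]

variable (hhom : a = Ideal.span ((𝒜 1 : AddSubgroup R) : Set R))

include ha hhom in
theorem mem_pow_of_mem_deg : ∀ (i : ℕ) (r : R), r ∈ 𝒜 (i : ℤ) → r ∈ a ^ i := by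
  intro i
  induction i with
  | zero => intro r _; simp
  | succ i ih =>
    intro r hr
    have hr' : r ∈ 𝒜 ((i : ℤ) + 1) := by exact_mod_cast hr
    have hra : r ∈ a := by
      rw [ha]
      apply Ideal.subset_span
      simp only [Set.mem_iUnion, Set.mem_Ioi]
      exact ⟨(i : ℤ) + 1, by omega, hr'⟩
    rw [hhom] at hra
    obtain ⟨n, f, g, rfl⟩ := Submodule.mem_span_set'.mp hra
    have h1 := decompose_of_mem_same 𝒜 hr'
    rw [← h1, decompose_sum, DFinsupp.finsetSum_apply, AddSubmonoidClass.coe_finsetSum]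
    refine Ideal.sum_mem _ (fun l _ => ?_)
    rw [smul_eq_mul, coe_decompose_mul_add_of_right_mem 𝒜 (g l).2, pow_succ]
    refine Ideal.mul_mem_mul (ih _ (SetLike.coe_mem _)) ?_
    rw [hhom]
    exact Ideal.subset_span (g l).2


include ha hhom in
/-- a finitely generated `R_+`-power torsion graded module over a homogeneous ring vanishes in high
degrees -/
theorem eventually_bot_of_torsion [Module.Finite R M]
    (htor : ∀ x : M, ∃ k : ℕ, ∀ r ∈ a ^ k, r • x = 0) :
    ∃ n₀ : ℤ, ∀ n, n₀ ≤ n → ℳ n = ⊥ := by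
  classical
  obtain ⟨S, hSdeg, hSspan⟩ := exists_homogeneous_generators (R := R) ℳ
  choose! deg hdeg using hSdeg
  choose k hk using htor
  have hK : ∀ s ∈ S, ∀ r ∈ a ^ (S.sup k), r • s = 0 := fun s hs r hr =>
    hk s r (Ideal.pow_le_pow_right (Finset.le_sup hs) hr)
  obtain ⟨D, hD⟩ := (S.image deg).exists_le
  refine ⟨D + (S.sup k : ℕ), fun n hn => ?_⟩
  rw [eq_bot_iff]
  intro m hm
  have hmS : m ∈ Submodule.span R (S : Set M) := hSspan ▸ Submodule.mem_top
  obtain ⟨N, f, g, rfl⟩ := Submodule.mem_span_set'.mp hmS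
  have h1 := decompose_of_mem_same ℳ hm
  rw [AddSubgroup.mem_bot, ← h1, decompose_sum, DFinsupp.finsetSum_apply,
    AddSubmonoidClass.coe_finsetSum]
  apply Finset.sum_eq_zero
  intro l _
  have hg : (g l : M) ∈ ℳ (deg (g l)) := hdeg _ (g l).2
  have h2 := decompose_smul_of_right_mem 𝒜 ℳ hg (f l) (n - deg (g l))
  rw [sub_add_cancel] at h2
  rw [h2]
  have hdl : deg (g l) ≤ D := hD _ (Finset.mem_image_of_mem _ (g l).2)
  have h3 : (decompose 𝒜 (f l) (n - deg (g l)) : R) ∈ a ^ (n - deg (g l)).toNat :=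
    mem_pow_of_mem_deg 𝒜 a ha hhom _ _ (by
      rw [Int.toNat_of_nonneg (by omega)]
      exact SetLike.coe_mem _)
  exact hK _ (g l).2 _ (Ideal.pow_le_pow_right (by omega) h3)

end Groth.Agent.Lib.Helper39.GrNak
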