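import Groth.Agent.Lib.Helper39.GrStarLocal2
import Groth.Agent.Lib.Helper39.GrPieces
import Groth.Agent.Lib.Helper39.GrNak

/-!
# A graded module over a positively graded *local ring whose localisation at `m` is free of rank
one is a shift of the ring (helper39)
-/

set_option autoImplicit false
universe u
open IsLocalRing DirectSum

namespace Groth.Agent.Lib.Helper39.GrCanonGor

open Groth.Agent.Lib.Helper39 GrLC

variable {R : Type u} [CommRing R] [IsNoetherianRing R] (𝒜 : ℤ → AddSubgroup R) [GradedRing 𝒜]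
  (hpos : ∀ n : ℤ, n < 0 → 𝒜 n = ⊥) (m : HomogeneousIdeal 𝒜) (hm : GrLC.IsStarLocal 𝒜 m)

include hpos hm in
/-- the degree zero component of an element outside `m` is invertible -/
theorem exists_mul_decompose_zero_eq_one (s : R) (hs : s ∉ m.toIdeal) :
    ∃ t : R, t * (decompose 𝒜 s 0 : R) = 1 := by
  have h1 : ((decompose 𝒜 s 0 : 𝒜 0) : R) ∉ m.toIdeal := by
    intro h
    apply hs
    have h2 := GrStarLocal.irr_le hpos hm (GrStarLocal.sub_decompose_zero_mem_irr 𝒜 hpos s)
    have h3 := m.toIdeal.add_mem h2 h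
    rwa [sub_add_cancel] at h3
  have hu := GrStarLocal.isUnit_deg0_of_notMem hpos hm
    (⟨(decompose 𝒜 s 0 : R), (decompose 𝒜 s 0).2⟩ : GrLC.deg0 𝒜) h1
  obtain ⟨t, ht⟩ := hu.exists_left_inv
  exact ⟨(t : R), congrArg Subtype.val ht⟩

variable [hmax : m.toIdeal.IsMaximal]
  {C : Type u} [AddCommGroup C] [Module R C] (𝒞 : ℤ → AddSubgroup C)
  [DirectSum.Decomposition 𝒞] [SetLike.GradedSMul 𝒜 𝒞]

include hpos hm in
theorem exists_bijective_of_localization_free
    (θ : LocalizedModule m.toIdeal.primeCompl C ≃ₗ[Localization.AtPrime m.toIdeal]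
      Localization.AtPrime m.toIdeal) :
    ∃ (a : ℤ) (f : R →ₗ[R] C), Function.Bijective f ∧ GrLC.IsGrHomDeg 𝒜 𝒞 f a := by
  classical
  set S := m.toIdeal.primeCompl with hS
  set A := Localization.AtPrime m.toIdeal with hA
  -- a homogeneous element whose image is a unit
  have hex : ∃ (d : ℤ) (c : C), c ∈ 𝒞 d ∧ IsUnit (θ (LocalizedModule.mkLinearMap S C c)) := by
    by_contra hcon
    push Not at hcon
    have h1 : ∀ c : C, θ (LocalizedModule.mkLinearMap S C c) ∈ maximalIdeal A := by
      intro c
      rw [← sum_support_decompose 𝒞 c, map_sum, map_sum]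
      refine Ideal.sum_mem _ (fun j _ => ?_)
      exact hcon j _ (SetLike.coe_mem _)
    have h2 : ∀ x : LocalizedModule S C, θ x ∈ maximalIdeal A := by
      intro x
      induction x using LocalizedModule.induction_on with
      | h c s =>
        have : LocalizedModule.mk c s = (IsLocalization.mk' A (1 : R) s) •
            LocalizedModule.mkLinearMap S C c := by
          rw [LocalizedModule.mkLinearMap_apply, ← Localization.mk_eq_mk'_apply,
            LocalizedModule.mk_smul_mk, one_smul, mul_one]
        rw [this, map_smul]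
        exact Ideal.mul_mem_left _ _ (h1 c)
    obtain ⟨x, hx⟩ := θ.surjective 1
    have := h2 x
    rw [hx] at this
    exact (Ideal.ne_top_iff_one _).mp (IsLocalRing.maximalIdeal.isMaximal A).ne_top this
  obtain ⟨d, c, hc, hu⟩ := hex
  have hmk : ∀ (r : R), θ (LocalizedModule.mkLinearMap S C (r • c)) =
      algebraMap R A r * θ (LocalizedModule.mkLinearMap S C c) := by
    intro r
    rw [map_smul, ← algebraMap_smul A r, map_smul, smul_eq_mul]
  refine ⟨d, LinearMap.toSpanSingleton R C c, ⟨?_, ?_⟩, ?_⟩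
  · -- injectivity
    rw [injective_iff_map_eq_zero]
    intro r hr
    rw [LinearMap.toSpanSingleton_apply] at hr
    have hcomp : ∀ j : ℤ, (decompose 𝒜 r j : R) = 0 := by
      intro j
      have h1 : (decompose 𝒜 r j : R) • c = 0 := by
        rw [← GrNak.decompose_smul_of_right_mem 𝒜 𝒞 hc r j, hr, decompose_zero]
        rfl
      have h2 : algebraMap R A (decompose 𝒜 r j : R) = 0 := by
        have h3 := hmk (decompose 𝒜 r j : R)
        rw [h1, map_zero, map_zero] at h3
        exact (hu.mul_left_eq_zero).mp h3.symm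
      obtain ⟨s, hs⟩ := (IsLocalization.map_eq_zero_iff S A _).mp h2
      obtain ⟨t, ht⟩ := exists_mul_decompose_zero_eq_one 𝒜 hpos m hm (s : R) s.2
      have h4 : (decompose 𝒜 ((s : R) • (decompose 𝒜 r j : R)) j : R) =
          (decompose 𝒜 (s : R) 0 : R) • (decompose 𝒜 (decompose 𝒜 r j : R) j : R) := by
        apply GrPieces.decompose_smul_of_ge 𝒜 𝒜 hpos
        intro i hi
        rw [decompose_of_mem_ne 𝒜 (SetLike.coe_mem _) (ne_of_gt hi)]
      rw [smul_eq_mul, hs, decompose_zero, decompose_of_mem_same 𝒜 (SetLike.coe_mem _)] at h4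
      have h5 : (decompose 𝒜 (s : R) 0 : R) * (decompose 𝒜 r j : R) = 0 := by
        rw [← smul_eq_mul]
        exact h4.symm
      calc (decompose 𝒜 r j : R) = (t * (decompose 𝒜 (s : R) 0 : R)) * (decompose 𝒜 r j : R) := by
            rw [ht, one_mul]
        _ = 0 := by rw [mul_assoc, h5, mul_zero]
    rw [← sum_support_decompose 𝒜 r]
    exact Finset.sum_eq_zero (fun j _ => hcomp j)
  · -- surjectivity
    have hhom : ∀ (g : ℤ) (x : C), x ∈ 𝒞 g → x ∈ LinearMap.range (LinearMap.toSpanSingleton R C c) := by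
      intro g x hx
      obtain ⟨u, hu'⟩ := hu
      set a : A := θ (LocalizedModule.mkLinearMap S C x) * (↑u⁻¹ : A) with ha
      have h1 : LocalizedModule.mkLinearMap S C x = a • LocalizedModule.mkLinearMap S C c := by
        apply θ.injective
        rw [map_smul, smul_eq_mul, ← hu', ha, mul_assoc, Units.inv_mul, mul_one]
      obtain ⟨⟨r, s⟩, hrs⟩ := IsLocalization.mk'_surjective S a
      have h2 : LocalizedModule.mkLinearMap S C ((s : R) • x) =
          LocalizedModule.mkLinearMap S C (r • c) := by
        rw [map_smul, h1, ← hrs, map_smul, ← algebraMap_smul A (s : R), ← algebraMap_smul A r,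
          smul_smul]
        congr 1
        exact IsLocalization.mk'_spec' A r s
      obtain ⟨s', hs'⟩ := (IsLocalizedModule.eq_iff_exists S
        (LocalizedModule.mkLinearMap S C)).mp h2
      have h3 : ((s' : R) * (s : R)) • x = ((s' : R) * r) • c := by
        rw [mul_smul, mul_smul]
        exact hs'
      obtain ⟨t, ht⟩ := exists_mul_decompose_zero_eq_one 𝒜 hpos m hm ((s' : R) * (s : R))
        (s' * s).2
      have h4 : (decompose 𝒞 (((s' : R) * (s : R)) • x) g : C) =
          (decompose 𝒜 ((s' : R) * (s : R)) 0 : R) • (decompose 𝒞 x g : C) := by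
        apply GrPieces.decompose_smul_of_ge 𝒜 𝒞 hpos
        intro i hi
        rw [decompose_of_mem_ne 𝒞 hx (ne_of_gt hi)]
      have h5 : (decompose 𝒞 (((s' : R) * r) • c) g : C) =
          (decompose 𝒜 ((s' : R) * r) (g - d) : R) • c := by
        have := GrNak.decompose_smul_of_right_mem 𝒜 𝒞 hc ((s' : R) * r) (g - d)
        rwa [sub_add_cancel] at this
      rw [h3, h5, decompose_of_mem_same 𝒞 hx] at h4
      refine ⟨t * (decompose 𝒜 ((s' : R) * r) (g - d) : R), ?_⟩
      rw [LinearMap.toSpanSingleton_apply, mul_smul, h4, ← mul_smul, ht, one_smul]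
    intro x
    rw [← LinearMap.mem_range, ← sum_support_decompose 𝒞 x]
    exact Submodule.sum_mem _ (fun j _ => hhom j _ (SetLike.coe_mem _))
  · intro g r hr
    rw [LinearMap.toSpanSingleton_apply]
    have := SetLike.GradedSMul.smul_mem (A := 𝒜) (B := 𝒞) hr hc
    rwa [vadd_eq_add] at this

end Groth.Agent.Lib.Helper39.GrCanonGor
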