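import Groth.Agent.Lib.Helper39.CanonLocMax
import Groth.Agent.Lib.Helper39.GrHeightArt
import Groth.Agent.Lib.Helper39.GrAInvPoly4
import Groth.Agent.S13224
import Groth.Agent.S18637

/-!
# From a *canonical module over a field to a canonical module of the local ring `R_m` (helper39)

`bridge`: for a positively `ℤ`-graded Noetherian ring with `R_0` a field and *maximal ideal `m`
(a maximal ideal), a *canonical module `C` localises to a canonical-module datum over
`A = R_m`: `dim A = n`, `E'_m` is an injective hull of the residue field and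
`Hom_A(C_m, E'_m) ≃ H^n_{m_A}(A)`.
-/

set_option autoImplicit false
universe u
open IsLocalRing CategoryTheory

namespace Groth.Agent.Lib.Helper39.GrCanonLoc

open Groth.Agent.Lib.Helper39 InjHull

theorem bridge (R : Type u) [CommRing R] [IsNoetherianRing R] (𝒜 : ℤ → AddSubgroup R)
    [GradedRing 𝒜] (hpos : ∀ n : ℤ, n < 0 → 𝒜 n = ⊥) (h0 : IsField (GrLC.deg0 𝒜))
    (m : HomogeneousIdeal 𝒜) (hm : GrLC.IsStarLocal 𝒜 m) [hmax : m.toIdeal.IsMaximal]
    (n : ℕ) (hn : ringKrullDim R = n) (I : GrLC.StarInjRes 𝒜 𝒜)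
    (E' : Type u) [AddCommGroup E'] [Module R E'] (𝓔 : ℤ → AddSubgroup E')
    [DirectSum.Decomposition 𝓔] [SetLike.GradedSMul 𝒜 𝓔] (e : (R ⧸ m.toIdeal) →ₗ[R] E')
    (he : GrLC.IsStarInjHull 𝒜 (GrLC.quotGr 𝒜 m) 𝓔 e)
    (C : Type u) [AddCommGroup C] [Module R C] (𝒞 : ℤ → AddSubgroup C)
    [DirectSum.Decomposition 𝒞] [SetLike.GradedSMul 𝒜 𝒞]
    (hC : GrLC.IsStarCanonical 𝒜 𝒞 𝓔 m n I) :
    ringKrullDim (Localization.AtPrime m.toIdeal) = n ∧ Module.Finite R C ∧
    ∃ f : ResidueField (Localization.AtPrime m.toIdeal) →ₗ[Localization.AtPrime m.toIdeal]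
        LocalizedModule m.toIdeal.primeCompl E',
      IsInjectiveHull f ∧
      Nonempty ((LocalizedModule m.toIdeal.primeCompl C →ₗ[Localization.AtPrime m.toIdeal]
          LocalizedModule m.toIdeal.primeCompl E') ≃ₗ[Localization.AtPrime m.toIdeal]
        LocCoh.H (maximalIdeal (Localization.AtPrime m.toIdeal)) n
          (Localization.AtPrime m.toIdeal)) := by
  obtain ⟨hfin, φ, -⟩ := hC
  obtain ⟨ψ⟩ := Groth.Agent.S13224.result R 𝒜 m R 𝒜 I n
  have he' := Groth.Agent.S18637.result R 𝒜 m E' 𝓔 e he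
  haveI := hfin
  haveI : IsArtinianRing (GrLC.deg0 𝒜) := GrAInvPoly.isArtinianRing_of_isField _ h0
  refine ⟨?_, hfin, CanonLocMax.main R m.toIdeal n E' e he' C (φ ≪≫ₗ ψ)⟩
  rw [IsLocalization.AtPrime.ringKrullDim_eq_height m.toIdeal (Localization.AtPrime m.toIdeal),
    GrHeightArt.height_star_eq 𝒜 hpos hm, hn]

end Groth.Agent.Lib.Helper39.GrCanonLoc
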