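import Groth.Agent.Lib.Helper39.GrPieceDual
import Groth.Agent.Lib.Helper39.GrAInvPoly4

/-!
# If `K_R ≅ R(-a)` then `a(R) = -a` (helper39)
-/

set_option autoImplicit false
universe u

namespace Groth.Agent.Lib.Helper39.GrCanonShift

open DirectSum GrLC Groth.Agent.Lib.Helper39 Groth.Agent.Lib.Helper39.GrPieceDual
  Groth.Agent.Lib.Helper39.GrAInvPoly Groth.Agent.Lib.Helper39.GrPC

variable {R : Type u} [CommRing R] (𝒜 : ℤ → AddSubgroup R) [GradedRing 𝒜]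
  (hpos : ∀ n : ℤ, n < 0 → 𝒜 n = ⊥) (h0 : IsField (GrLC.deg0 𝒜))
  {C : Type u} [AddCommGroup C] [Module R C] (𝒞 : ℤ → AddSubgroup C)
  [DirectSum.Decomposition 𝒞] [SetLike.GradedSMul 𝒜 𝒞]
  (a : ℤ) (f : R →ₗ[R] C) (hf : Function.Bijective f) (hfd : IsGrHomDeg 𝒜 𝒞 f a)

include h0 hf hfd in
theorem piece_ne_bot : 𝒞 a ≠ ⊥ := by
  intro hbot
  have h1 : f 1 ∈ 𝒞 (0 + a) := hfd 0 1 (SetLike.GradedOne.one_mem (A := 𝒜))
  rw [zero_add, hbot, AddSubgroup.mem_bot] at h1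
  have h2 : (1 : R) = 0 := hf.1 (by rw [h1, map_zero])
  obtain ⟨x, y, hxy⟩ := h0.exists_pair_ne
  apply hxy
  apply Subtype.ext
  calc (x : R) = x * 1 := (mul_one _).symm
    _ = y * 1 := by rw [h2, mul_zero, mul_zero]
    _ = y := mul_one _

include hpos hf hfd in
theorem piece_eq_bot {j : ℤ} (hj : j < a) : 𝒞 j = ⊥ := by
  rw [eq_bot_iff]
  intro c hc
  obtain ⟨r, rfl⟩ := hf.2 c
  have h1 := decompose_apply_of_isGrHomDeg 𝒞 𝒜 f hfd r (j - a)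
  rw [sub_add_cancel, decompose_of_mem_same 𝒞 hc] at h1
  have h2 : (decompose 𝒜 r (j - a) : R) = 0 := by
    have h3 : (decompose 𝒜 r (j - a) : R) ∈ 𝒜 (j - a) := SetLike.coe_mem _
    have h4 : (decompose 𝒜 r (j - a) : R) ∈ (⊥ : AddSubgroup R) := (hpos (j - a) (by omega)) ▸ h3
    exact h4
  rw [AddSubgroup.mem_bot, h1, h2, map_zero]

variable (m : HomogeneousIdeal 𝒜)
  (hmsp : m.toIdeal = Ideal.span (⋃ n ∈ Set.Ioi (0 : ℤ), (𝒜 n : Set R)))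
  {E' : Type u} [AddCommGroup E'] [Module R E'] (𝓔 : ℤ → AddSubgroup E')
  [DirectSum.Decomposition 𝓔] [SetLike.GradedSMul 𝒜 𝓔]
  (e : (R ⧸ m.toIdeal) →ₗ[R] E') (he : GrLC.IsStarInjHull 𝒜 (GrLC.quotGr 𝒜 m) 𝓔 e)
  (n : ℕ) (I : StarInjRes 𝒜 𝒜) (hC : IsStarCanonical 𝒜 𝒞 𝓔 m n I)

include hpos h0 hf hfd hmsp he hC in
/-- if `R(-a) ≅ K_R` then the a-invariant is `-a` -/
theorem endDeg_eq_neg :
    GrLC.endDeg (I.Hgr m n) = (((-a : ℤ) : WithTop ℤ) : WithBot (WithTop ℤ)) := by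
  obtain ⟨hfin, φ, hφ⟩ := hC
  haveI := hfin
  have key := piece_ne_bot_iff 𝒜 hpos m hmsp 𝓔 e he.toIsStarEss 𝒞 h0 he.starInj (I.Hgr m n)
    (Hgr_isInternal I m n) φ hφ
  apply endDeg_eq
  · rw [key, neg_neg]
    exact piece_ne_bot 𝒜 h0 𝒞 a f hf hfd
  · intro d hd
    by_contra hne
    have := (key d).mp hne
    exact this (piece_eq_bot 𝒜 hpos 𝒞 a f hf hfd (by omega))

end Groth.Agent.Lib.Helper39.GrCanonShift
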