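import Groth.Agent.Lib.Helper39.GrMod
import Mathlib.Algebra.DirectSum.Ring
import Mathlib.Algebra.Module.Injective
import Mathlib.Algebra.Category.ModuleCat.EnoughInjectives
import Mathlib.Algebra.Category.ModuleCat.Injective

/-!
# The cofree graded module on a module, and enough *injectives (helper39)

For a ring `R` graded by `𝒜 : ι → AddSubgroup R` and an `R`-module `E`, `Cofree 𝒜 E = ⨁_g E` with
`R_h` shifting the `g`-th copy to the `(g+h)`-th: the right adjoint of the forgetful functor from graded
modules to modules.  `cofree_isStarInj`: it is *injective when `E` is injective;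
`exists_starInj_embedding`: every graded module embeds homogeneously into a *injective one.
-/

set_option autoImplicit false
universe u

namespace Groth.Agent.Lib.Helper39

open DirectSum GrLC

noncomputable section Cofree
variable {ι : Type} [AddCommGroup ι] [DecidableEq ι] {R : Type u} [CommRing R]
  (𝒜 : ι → AddSubgroup R) [GradedRing 𝒜] (E : Type u) [AddCommGroup E] [Module R E]

/-- `tauFun h a` = (shift by `h`) ∘ (`a • ·`) on `ι →₀ E` -/
def tauFun (h : ι) (a : R) : (ι →₀ E) →+ (ι →₀ E) :=
  (Finsupp.mapDomain.addMonoidHom (· + h)).comp (DistribSMul.toAddMonoidHom (ι →₀ E) a)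

omit [DecidableEq ι] in
theorem tauFun_single (h : ι) (a : R) (g : ι) (e : E) :
    tauFun E h a (Finsupp.single g e) = Finsupp.single (g + h) (a • e) := by
  simp [tauFun, Finsupp.mapDomain_single]

omit [DecidableEq ι] [AddCommGroup ι] [Module R E] in
theorem end_ext {f g : AddMonoid.End (ι →₀ E)}
    (h : ∀ g' e, f (Finsupp.single g' e) = g (Finsupp.single g' e)) : f = g := by
  apply AddMonoid.End.ext
  intro φ
  induction φ using Finsupp.induction_linear with
  | zero => rw [map_zero, map_zero]
  | add x y hx hy => rw [map_add, map_add, hx, hy]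
  | single a b => exact h a b

/-- `tauFun` as an element of the endomorphism ring -/
def tauEnd (h : ι) (a : R) : AddMonoid.End (ι →₀ E) := tauFun E h a

omit [DecidableEq ι] in
theorem tauEnd_single (h : ι) (a : R) (g : ι) (e : E) :
    tauEnd E h a (Finsupp.single g e) = Finsupp.single (g + h) (a • e) :=
  tauFun_single E h a g e

def tau (h : ι) : 𝒜 h →+ AddMonoid.End (ι →₀ E) where
  toFun a := tauEnd E h (a : R)
  map_zero' := by
    refine end_ext E fun g e => ?_
    rw [ZeroMemClass.coe_zero, tauEnd_single, zero_smul, Finsupp.single_zero]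
    rfl
  map_add' a b := by
    refine end_ext E fun g e => ?_
    rw [AddMemClass.coe_add, tauEnd_single, add_smul, Finsupp.single_add]
    change _ = tauEnd E h (a : R) (Finsupp.single g e) + tauEnd E h (b : R) (Finsupp.single g e)
    rw [tauEnd_single, tauEnd_single]

theorem tau_apply_single (h : ι) (a : 𝒜 h) (g : ι) (e : E) :
    tau 𝒜 E h a (Finsupp.single g e) = Finsupp.single (g + h) ((a : R) • e) := by
  change tauEnd E h (a : R) (Finsupp.single g e) = _
  exact tauEnd_single E h (a : R) g e

/-- the twisted action as a ring homomorphism on the direct sum -/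
def TDS : (⨁ i, 𝒜 i) →+* AddMonoid.End (ι →₀ E) :=
  DirectSum.toSemiring (tau 𝒜 E)
    (by
      refine end_ext E fun g e => ?_
      rw [tau_apply_single]
      change Finsupp.single (g + 0) ((1 : R) • e) = Finsupp.single g e
      rw [add_zero, one_smul])
    (by
      intro i j a b
      refine end_ext E fun g e => ?_
      rw [tau_apply_single, AddMonoid.End.coe_mul, Function.comp_apply, tau_apply_single,
        tau_apply_single]
      change Finsupp.single (g + (i + j)) (((a : R) * (b : R)) • e) = _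
      rw [mul_smul]
      congr 1
      abel)

/-- the twisted action of `R` on `ι →₀ E` -/
def T : R →+* AddMonoid.End (ι →₀ E) :=
  (TDS 𝒜 E).comp (DirectSum.decomposeRingEquiv 𝒜).toRingHom

theorem T_apply_of_mem {h : ι} {a : R} (ha : a ∈ 𝒜 h) (g : ι) (e : E) :
    T 𝒜 E a (Finsupp.single g e) = Finsupp.single (g + h) (a • e) := by
  have h1 : (DirectSum.decomposeRingEquiv 𝒜).toRingHom a = DirectSum.of (fun i => 𝒜 i) h ⟨a, ha⟩ :=
    decompose_of_mem 𝒜 ha
  unfold T
  rw [RingHom.comp_apply, h1]
  unfold TDS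
  rw [DirectSum.toSemiring_of, tau_apply_single]

/-- The cofree graded module on an `R`-module `E`: `⨁_g E`, with `R_h` mapping the `g`-th copy to
the `(g+h)`-th copy. -/
def Cofree (_𝒜 : ι → AddSubgroup R) (E : Type u) [Zero E] : Type u := ι →₀ E

instance : AddCommGroup (Cofree 𝒜 E) := inferInstanceAs (AddCommGroup (ι →₀ E))

instance : Module R (Cofree 𝒜 E) := Module.compHom (ι →₀ E) (T 𝒜 E)

/-- the `g`-th copy of `E` -/
def Cofree.single (g : ι) : E →+ Cofree 𝒜 E := Finsupp.singleAddHom g

variable {𝒜 E} in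
theorem Cofree.smul_def (r : R) (φ : Cofree 𝒜 E) : r • φ = T 𝒜 E r φ := rfl

variable {𝒜 E} in
theorem Cofree.smul_single_of_mem {h : ι} {a : R} (ha : a ∈ 𝒜 h) (g : ι) (e : E) :
    a • Cofree.single 𝒜 E g e = Cofree.single 𝒜 E (g + h) (a • e) :=
  T_apply_of_mem 𝒜 E ha g e

variable {𝒜 E} in
@[elab_as_elim]
theorem Cofree.induction {motive : Cofree 𝒜 E → Prop} (zero : motive 0)
    (single : ∀ g e, motive (Cofree.single 𝒜 E g e))
    (add : ∀ x y, motive x → motive y → motive (x + y)) : ∀ x, motive x := by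
  intro x
  induction x using Finsupp.induction_linear with
  | zero => exact zero
  | add x y hx hy => exact add x y hx hy
  | single a b => exact single a b

/-- the pieces of the cofree graded module -/
def cofreePieces : ι → AddSubgroup (Cofree 𝒜 E) := fun g => (Cofree.single 𝒜 E g).range

theorem single_mem_cofreePieces (g : ι) (e : E) : Cofree.single 𝒜 E g e ∈ cofreePieces 𝒜 E g :=
  ⟨e, rfl⟩

/-- evaluation at `g` -/
def Cofree.eval (g : ι) : Cofree 𝒜 E →+ E := Finsupp.applyAddHom g

theorem Cofree.eval_single (g g' : ι) (e : E) :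
    Cofree.eval 𝒜 E g (Cofree.single 𝒜 E g' e) = if g' = g then e else 0 := by
  change (Finsupp.single g' e : ι →₀ E) g = _
  rw [Finsupp.single_apply]

def cofreeDecompose : Cofree 𝒜 E →+ ⨁ g, cofreePieces 𝒜 E g :=
  Finsupp.liftAddHom (fun g => (DirectSum.of (fun g => cofreePieces 𝒜 E g) g).comp
    ((Cofree.single 𝒜 E g).codRestrict (cofreePieces 𝒜 E g) (single_mem_cofreePieces 𝒜 E g)))

theorem cofreeDecompose_single (g : ι) (e : E) :
    cofreeDecompose 𝒜 E (Cofree.single 𝒜 E g e) =
      DirectSum.of (fun g => cofreePieces 𝒜 E g) g ⟨Cofree.single 𝒜 E g e, single_mem_cofreePieces 𝒜 E g e⟩ := by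
  unfold cofreeDecompose
  change Finsupp.liftAddHom _ (Finsupp.single g e) = _
  rw [Finsupp.liftAddHom_apply_single]
  rfl

@[instance_reducible]
def cofreeDecomposition : DirectSum.Decomposition (cofreePieces 𝒜 E) :=
  Decomposition.ofAddHom (cofreePieces 𝒜 E) (cofreeDecompose 𝒜 E)
    (by
      ext x
      simp only [AddMonoidHom.coe_comp, Function.comp_apply, AddMonoidHom.id_apply]
      induction x using Cofree.induction with
      | zero => simp
      | single g e => rw [cofreeDecompose_single, DirectSum.coeAddMonoidHom_of]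
      | add x y hx hy => rw [map_add, map_add, hx, hy])
    (by
      apply DirectSum.addHom_ext
      rintro g ⟨_, e, rfl⟩
      simp only [AddMonoidHom.coe_comp, Function.comp_apply, AddMonoidHom.id_apply]
      rw [DirectSum.coeAddMonoidHom_of]
      exact cofreeDecompose_single 𝒜 E g e)

theorem cofreeGradedSMul : SetLike.GradedSMul 𝒜 (cofreePieces 𝒜 E) where
  smul_mem := by
    rintro i j a _ ha ⟨e, rfl⟩
    rw [Cofree.smul_single_of_mem ha, vadd_eq_add, add_comm]
    exact single_mem_cofreePieces 𝒜 E _ _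

/-- the counit `Σ_g : Cofree E → E`, additively -/
def Cofree.counitAdd : Cofree 𝒜 E →+ E := Finsupp.liftAddHom (fun _ => AddMonoidHom.id E)

theorem Cofree.counitAdd_single (g : ι) (e : E) :
    Cofree.counitAdd 𝒜 E (Cofree.single 𝒜 E g e) = e := by
  unfold Cofree.counitAdd
  change Finsupp.liftAddHom _ (Finsupp.single g e) = _
  rw [Finsupp.liftAddHom_apply_single]
  rfl

/-- the counit is `R`-linear for the twisted action -/
def Cofree.counit : Cofree 𝒜 E →ₗ[R] E where
  toFun := Cofree.counitAdd 𝒜 E
  map_add' := map_add _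
  map_smul' := by
    intro r x
    simp only [RingHom.id_apply]
    induction r using DirectSum.Decomposition.inductionOn 𝒜 with
    | zero => rw [zero_smul, zero_smul, map_zero]
    | @homogeneous h a =>
      induction x using Cofree.induction with
      | zero => rw [smul_zero, map_zero, smul_zero]
      | single g e =>
        rw [Cofree.smul_single_of_mem a.2, Cofree.counitAdd_single, Cofree.counitAdd_single]
      | add x y hx hy => rw [smul_add, map_add, hx, hy, map_add, smul_add]
    | add r r' hr hr' => rw [add_smul, map_add, hr, hr', add_smul]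

theorem Cofree.counit_single (g : ι) (e : E) : Cofree.counit 𝒜 E (Cofree.single 𝒜 E g e) = e :=
  Cofree.counitAdd_single 𝒜 E g e

section Lift
variable {M : Type u} [AddCommGroup M] [Module R M] (ℳ : ι → AddSubgroup M)
  [DirectSum.Decomposition ℳ] [SetLike.GradedSMul 𝒜 ℳ]

/-- the graded map to the cofree module attached to an additive map `M → E` -/
def cofreeLiftAdd (φ : M →+ E) : M →+ Cofree 𝒜 E :=
  (DirectSum.toAddMonoid (fun g => (Cofree.single 𝒜 E g).comp (φ.comp (ℳ g).subtype))).comp
    (decomposeAddEquiv ℳ).toAddMonoidHom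

omit [SetLike.GradedSMul 𝒜 ℳ] in
theorem cofreeLiftAdd_of_mem (φ : M →+ E) {g : ι} {m : M} (hm : m ∈ ℳ g) :
    cofreeLiftAdd 𝒜 E ℳ φ m = Cofree.single 𝒜 E g (φ m) := by
  unfold cofreeLiftAdd
  have h1 : (decomposeAddEquiv ℳ).toAddMonoidHom m = DirectSum.of (fun i => ℳ i) g ⟨m, hm⟩ :=
    decompose_of_mem ℳ hm
  rw [AddMonoidHom.comp_apply, h1, DirectSum.toAddMonoid_of]
  rfl

/-- the graded `R`-linear map to the cofree module attached to a linear map `M → E` -/
def cofreeLift (φ : M →ₗ[R] E) : M →ₗ[R] Cofree 𝒜 E where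
  toFun := cofreeLiftAdd 𝒜 E ℳ φ.toAddMonoidHom
  map_add' := map_add _
  map_smul' := by
    intro r m
    simp only [RingHom.id_apply]
    induction r using DirectSum.Decomposition.inductionOn 𝒜 with
    | zero => rw [zero_smul, zero_smul, map_zero]
    | @homogeneous h a =>
      induction m using DirectSum.Decomposition.inductionOn ℳ with
      | zero => rw [smul_zero, map_zero, smul_zero]
      | @homogeneous g m =>
        have hmem : (a : R) • (m : M) ∈ ℳ (h + g) :=
          SetLike.GradedSMul.smul_mem (A := 𝒜) (B := ℳ) a.2 m.2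
        rw [cofreeLiftAdd_of_mem 𝒜 E ℳ _ hmem, cofreeLiftAdd_of_mem 𝒜 E ℳ _ m.2,
          Cofree.smul_single_of_mem a.2, add_comm]
        congr 1
        exact map_smul φ _ _
      | add x y hx hy => rw [smul_add, map_add, hx, hy, map_add, smul_add]
    | add r r' hr hr' => rw [add_smul, map_add, hr, hr', add_smul]

theorem cofreeLift_of_mem (φ : M →ₗ[R] E) {g : ι} {m : M} (hm : m ∈ ℳ g) :
    cofreeLift 𝒜 E ℳ φ m = Cofree.single 𝒜 E g (φ m) :=
  cofreeLiftAdd_of_mem 𝒜 E ℳ φ.toAddMonoidHom hm

theorem cofreeLift_isGrHom (φ : M →ₗ[R] E) :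
    IsGrHom ℳ (cofreePieces 𝒜 E) (cofreeLift 𝒜 E ℳ φ) := by
  intro g m hm
  rw [cofreeLift_of_mem 𝒜 E ℳ φ hm]
  exact single_mem_cofreePieces 𝒜 E g _

theorem counit_cofreeLift (φ : M →ₗ[R] E) (m : M) :
    Cofree.counit 𝒜 E (cofreeLift 𝒜 E ℳ φ m) = φ m := by
  induction m using DirectSum.Decomposition.inductionOn ℳ with
  | zero => rw [map_zero, map_zero, map_zero]
  | @homogeneous g m => rw [cofreeLift_of_mem 𝒜 E ℳ φ m.2, Cofree.counit_single]
  | add x y hx hy => rw [map_add, map_add, hx, hy, map_add]

theorem eval_cofreeLift (φ : M →ₗ[R] E) (m : M) (g : ι) :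
    Cofree.eval 𝒜 E g (cofreeLift 𝒜 E ℳ φ m) = φ (decompose ℳ m g : M) := by
  induction m using DirectSum.Decomposition.inductionOn ℳ with
  | zero => simp
  | @homogeneous g' m =>
    rw [cofreeLift_of_mem 𝒜 E ℳ φ m.2, Cofree.eval_single]
    by_cases h : g' = g
    · subst h
      rw [if_pos rfl, decompose_of_mem_same ℳ m.2]
    · rw [if_neg h, decompose_of_mem_ne ℳ m.2 h, map_zero]
  | add x y hx hy =>
    rw [map_add, map_add, hx, hy, decompose_add, DirectSum.add_apply, AddSubgroup.coe_add, map_add]

theorem cofreeLift_injective (φ : M →ₗ[R] E) (hφ : Function.Injective φ) :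
    Function.Injective (cofreeLift 𝒜 E ℳ φ) := by
  rw [← LinearMap.ker_eq_bot, eq_bot_iff]
  intro m hm
  rw [LinearMap.mem_ker] at hm
  rw [Submodule.mem_bot]
  have h1 : ∀ g, (decompose ℳ m g : M) = 0 := by
    intro g
    apply hφ
    rw [← eval_cofreeLift 𝒜 E ℳ φ m g, hm, map_zero, map_zero]
  apply (decompose ℳ).injective
  rw [decompose_zero]
  ext g
  rw [h1 g]
  rfl

end Lift

/-- The cofree graded module on an injective module is *injective. -/
theorem cofree_isStarInj [Module.Injective R E] :
    letI := cofreeDecomposition 𝒜 E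
    haveI := cofreeGradedSMul 𝒜 E
    IsStarInj 𝒜 (cofreePieces 𝒜 E) := by
  let _ := cofreeDecomposition 𝒜 E
  have := cofreeGradedSMul 𝒜 E
  intro A B f hf hfinj g hg
  obtain ⟨ψ, hψ⟩ := Module.Injective.out f hfinj ((Cofree.counit 𝒜 E).comp g)
  refine ⟨cofreeLift 𝒜 E B.gr ψ, cofreeLift_isGrHom 𝒜 E B.gr ψ, ?_⟩
  apply LinearMap.ext
  intro a
  rw [LinearMap.comp_apply]
  induction a using DirectSum.Decomposition.inductionOn A.gr with
  | zero => rw [map_zero, map_zero, map_zero]
  | @homogeneous i a =>
    rw [cofreeLift_of_mem 𝒜 E B.gr ψ (hf i _ a.2), hψ, LinearMap.comp_apply]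
    obtain ⟨e, he⟩ := hg i _ a.2
    rw [← he, Cofree.counit_single]
  | add x y hx hy => rw [map_add, map_add, hx, hy, map_add]

section Enough
variable {M : Type u} [AddCommGroup M] [Module R M] (ℳ : ι → AddSubgroup M)
  [DirectSum.Decomposition ℳ] [SetLike.GradedSMul 𝒜 ℳ]

omit [DecidableEq ι] [AddCommGroup ι] in
/-- enough injectives, unbundled -/
theorem exists_injective_embedding (M : Type u) [AddCommGroup M] [Module R M] :
    ∃ (E : Type u) (_ : AddCommGroup E) (_ : Module R E) (_ : Module.Injective R E)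
      (φ : M →ₗ[R] E), Function.Injective φ := by
  obtain ⟨⟨J, hJ, f, hf⟩⟩ := CategoryTheory.EnoughInjectives.presentation (ModuleCat.of R M)
  have : Module.Injective R J := Module.injective_module_of_injective_object R J
  exact ⟨J, inferInstance, inferInstance, this, f.hom, (ModuleCat.mono_iff_injective f).mp hf⟩

/-- The category of graded modules has enough *injectives. -/
theorem exists_starInj_embedding :
    ∃ (X : GMod.{u} 𝒜) (j : M →ₗ[R] X.carrier), IsGrHom ℳ X.gr j ∧ Function.Injective j ∧
      IsStarInj 𝒜 X.gr := by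
  obtain ⟨E, _, _, _, φ, hφ⟩ := exists_injective_embedding (R := R) M
  let _ := cofreeDecomposition 𝒜 E
  have := cofreeGradedSMul 𝒜 E
  exact ⟨GMod.of 𝒜 (Cofree 𝒜 E) (cofreePieces 𝒜 E), cofreeLift 𝒜 E ℳ φ,
    cofreeLift_isGrHom 𝒜 E ℳ φ, cofreeLift_injective 𝒜 E ℳ φ hφ, cofree_isStarInj 𝒜 E⟩

end Enough

end Cofree

end Groth.Agent.Lib.Helper39
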