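import Mathlib
import Groth.Prelude.Def_GrSeg
import Groth.Prelude.Def_GrLC

/-!
# Graded `k`-duals and the tensor–hom adjunction (helper39)

`exists_equiv_hom`: if `K = H^*`, `D = N^*` are graded `k`-duals and `N ≅ M ⊗_R H` through a graded
`R`-bilinear map, then `D ≅ Hom_R(M, K)` as graded `R`-modules (for `M` with `Hom_R(M, K)` the sum
of its homogeneous pieces).
-/

set_option autoImplicit false
universe u
open scoped TensorProduct

namespace Groth.Agent.Lib.Helper39.GrDual

open DirectSum GrLC GrSeg

section Basic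
variable {k : Type u} [Field k] {R : Type u} [CommRing R] [Algebra k R]
  {M : Type u} [AddCommGroup M] [Module R M] [Module k M] [IsScalarTower k R M]
  {ℳ : ℤ → AddSubgroup M} [DirectSum.Decomposition ℳ]
  {D : Type u} [AddCommGroup D] [Module R D] [Module k D] [IsScalarTower k R D]
  {𝒟 : ℤ → AddSubgroup D} [DirectSum.Decomposition 𝒟]
  {β : D →ₗ[k] M →ₗ[k] k}

omit [Module R M] [IsScalarTower k R M] in
/-- additive maps agreeing on homogeneous elements agree -/
theorem ext_homogeneous {P : Type*} [AddCommGroup P] (f g : M →+ P)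
    (h : ∀ l, ∀ x ∈ ℳ l, f x = g x) : f = g := by
  ext x
  induction x using DirectSum.Decomposition.inductionOn ℳ with
  | zero => rw [map_zero, map_zero]
  | @homogeneous l x => exact h l x x.2
  | add x y hx hy => rw [map_add, map_add, hx, hy]

theorem beta_injective (hD : IsGDual R ℳ 𝒟 β) : Function.Injective β := by
  classical
  rw [injective_iff_map_eq_zero]
  intro d hd
  rw [← DirectSum.sum_support_decompose 𝒟 d]
  refine Finset.sum_eq_zero (fun n _ => ?_)
  apply hD.eq_zero n _ (SetLike.coe_mem _)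
  intro x hx
  have h1 : β d x = 0 := by rw [hd]; rfl
  rw [← DirectSum.sum_support_decompose 𝒟 d, map_sum, LinearMap.sum_apply] at h1
  rw [← h1]
  by_cases hn : n ∈ (decompose 𝒟 d).support
  · rw [Finset.sum_eq_single n]
    · intro n' _ hn'
      exact hD.vanish n' _ (SetLike.coe_mem _) (-n) (by omega) x hx
    · intro h
      exact absurd hn h
  · rw [DFinsupp.mem_support_iff, not_not] at hn
    rw [hn, ZeroMemClass.coe_zero, map_zero, LinearMap.zero_apply]
    symm
    refine Finset.sum_eq_zero (fun n' hn' => ?_)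
    have hne : n' ≠ n := by
      rintro rfl
      rw [DFinsupp.mem_support_iff] at hn'
      exact hn' hn
    exact hD.vanish n' _ (SetLike.coe_mem _) (-n) (by omega) x hx

/-- functionals with finite degree support are represented -/
theorem exists_rep (hD : IsGDual R ℳ 𝒟 β) (f : M →ₗ[k] k) (S : Finset ℤ)
    (hS : ∀ l, l ∉ S → ∀ x ∈ ℳ l, f x = 0) :
    ∃ d : D, β d = f ∧ ∀ n, (∀ l ∈ S, l = -n) → d ∈ 𝒟 n := by
  classical
  have h1 : ∀ l : ℤ, ∃ d : D, d ∈ 𝒟 (-l) ∧ ∀ x : M, x ∈ ℳ l → β d x = f x := by
    intro l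
    obtain ⟨d, hd, hdx⟩ := hD.exists_eq (-l) f
    refine ⟨d, hd, fun x hx => hdx x ?_⟩
    rwa [neg_neg]
  choose dl hdl hdlx using h1
  refine ⟨∑ l ∈ S, dl l, ?_, ?_⟩
  · apply LinearMap.toAddMonoidHom_injective
    apply ext_homogeneous (ℳ := ℳ)
    intro l' x hx
    show β (∑ l ∈ S, dl l) x = f x
    rw [map_sum, LinearMap.sum_apply]
    by_cases hl' : l' ∈ S
    · rw [Finset.sum_eq_single l']
      · exact hdlx l' x hx
      · intro l _ hne
        exact hD.vanish (-l) _ (hdl l) l' (by omega) x hx
      · intro h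
        exact absurd hl' h
    · rw [hS l' hl' x hx]
      refine Finset.sum_eq_zero (fun l hl => ?_)
      have hne : l ≠ l' := fun h => hl' (h ▸ hl)
      exact hD.vanish (-l) _ (hdl l) l' (by omega) x hx
  · intro n hn
    refine sum_mem (fun l hl => ?_)
    have h2 : -l = n := by rw [hn l hl, neg_neg]
    have := hdl l
    rw [h2] at this
    exact this

end Basic

section Main
variable {k : Type u} [Field k] {R : Type u} [CommRing R] [Algebra k R]
  {H : Type u} [AddCommGroup H] [Module R H] [Module k H] [IsScalarTower k R H]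
  (𝓗 : ℤ → AddSubgroup H) [DirectSum.Decomposition 𝓗]
  {K : Type u} [AddCommGroup K] [Module R K] [Module k K] [IsScalarTower k R K]
  (𝒦 : ℤ → AddSubgroup K) [DirectSum.Decomposition 𝒦]
  (βK : K →ₗ[k] H →ₗ[k] k) (hK : IsGDual R 𝓗 𝒦 βK)
  {N : Type u} [AddCommGroup N] [Module R N] [Module k N] [IsScalarTower k R N]
  (𝒩 : ℤ → AddSubgroup N) [DirectSum.Decomposition 𝒩]
  {D : Type u} [AddCommGroup D] [Module R D] [Module k D] [IsScalarTower k R D]
  (𝒟 : ℤ → AddSubgroup D) [DirectSum.Decomposition 𝒟]
  (βD : D →ₗ[k] N →ₗ[k] k) (hD : IsGDual R 𝒩 𝒟 βD)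
  {M : Type u} [AddCommGroup M] [Module R M] [Module k M] [IsScalarTower k R M]
  (ℳ : ℤ → AddSubgroup M) [DirectSum.Decomposition ℳ]
  (B : M →ₗ[R] H →ₗ[R] N)
  (hB : ∀ (j l : ℤ) (x : M) (h : H), x ∈ ℳ j → h ∈ 𝓗 l → B x h ∈ 𝒩 (j + l))
  (hΦ : Function.Bijective (TensorProduct.lift B))
  (hhom : ∀ ψ : M →ₗ[R] K, ∃ (s : Finset ℤ) (ψd : ℤ → (M →ₗ[R] K)),
    (∀ d, IsGrHomDeg ℳ 𝒦 (ψd d) d) ∧ ψ = ∑ d ∈ s, ψd d)

include hD hB in
theorem exists_support (δ : D) (x : M) :
    ∃ S : Finset ℤ, ∀ l, l ∉ S → ∀ h ∈ 𝓗 l, βD δ (B x h) = 0 := by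
  classical
  induction δ using DirectSum.Decomposition.inductionOn 𝒟 with
  | zero => exact ⟨∅, fun l _ h _ => by rw [map_zero]; rfl⟩
  | @homogeneous d δ =>
    induction x using DirectSum.Decomposition.inductionOn ℳ with
    | zero => exact ⟨∅, fun l _ h _ => by rw [map_zero, LinearMap.zero_apply, map_zero]⟩
    | @homogeneous j x =>
      refine ⟨{-d - j}, fun l hl h hh => ?_⟩
      rw [Finset.mem_singleton] at hl
      exact hD.vanish d _ δ.2 (j + l) (by omega) _ (hB j l _ _ x.2 hh)
    | add x y hx hy =>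
      obtain ⟨S, hS⟩ := hx
      obtain ⟨S', hS'⟩ := hy
      refine ⟨S ∪ S', fun l hl h hh => ?_⟩
      rw [Finset.mem_union, not_or] at hl
      rw [map_add, LinearMap.add_apply, map_add, hS l hl.1 h hh, hS' l hl.2 h hh, add_zero]
  | add δ δ' hδ hδ' =>
    obtain ⟨S, hS⟩ := hδ
    obtain ⟨S', hS'⟩ := hδ'
    refine ⟨S ∪ S', fun l hl h hh => ?_⟩
    rw [Finset.mem_union, not_or] at hl
    rw [map_add, LinearMap.add_apply, hS l hl.1 h hh, hS' l hl.2 h hh, add_zero]

include hK hD hB hΦ hhom in
/-- **the graded dual of `M ⊗_R H` is `Hom_R(M, H^*)`** -/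
theorem exists_equiv_hom :
    ∃ ε : D ≃ₗ[R] (M →ₗ[R] K), ∀ (d : ℤ) (δ : D), δ ∈ 𝒟 d → IsGrHomDeg ℳ 𝒦 (ε δ) d := by
  classical
  have hinjK := beta_injective hK
  have hinjD := beta_injective hD
  -- the functional `h ↦ βD δ (B x h)`
  let F : D → M → (H →ₗ[k] k) := fun δ x => (βD δ).comp ((B x).restrictScalars k)
  have hF : ∀ δ x h, F δ x h = βD δ (B x h) := fun _ _ _ => rfl
  have key : ∀ δ x, ∃ κ : K, βK κ = F δ x := by
    intro δ x
    obtain ⟨S, hS⟩ := exists_support 𝓗 𝒩 𝒟 βD hD ℳ B hB δ x
    obtain ⟨κ, hκ, -⟩ := exists_rep hK (F δ x) S (fun l hl h hh => hS l hl h hh)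
    exact ⟨κ, hκ⟩
  choose εf hεf using key
  have hεf' : ∀ δ x h, βK (εf δ x) h = βD δ (B x h) := fun δ x h => by rw [hεf]; rfl
  have huniq : ∀ (κ κ' : K), (∀ h, βK κ h = βK κ' h) → κ = κ' :=
    fun κ κ' h => hinjK (LinearMap.ext h)
  let εx : D → (M →ₗ[R] K) := fun δ =>
    { toFun := εf δ
      map_add' := fun x y => by
        apply huniq
        intro h
        rw [map_add, LinearMap.add_apply, hεf', hεf', hεf', map_add, LinearMap.add_apply, map_add]
      map_smul' := fun r x => by
        apply huniq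
        intro h
        rw [RingHom.id_apply, hK.map_smul, hεf', hεf', B.map_smul r x, LinearMap.smul_apply,
          (B x).map_smul r h] }
  have hεx : ∀ δ x, εx δ x = εf δ x := fun _ _ => rfl
  let ε : D →ₗ[R] (M →ₗ[R] K) :=
    { toFun := εx
      map_add' := fun δ δ' => by
        apply LinearMap.ext
        intro x
        apply huniq
        intro h
        rw [LinearMap.add_apply, hεx, hεx, hεx, map_add, LinearMap.add_apply, hεf', hεf', hεf',
          map_add, LinearMap.add_apply]
      map_smul' := fun r δ => by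
        apply LinearMap.ext
        intro x
        apply huniq
        intro h
        rw [RingHom.id_apply, LinearMap.smul_apply, hεx, hεx, hK.map_smul, hεf', hεf',
          hD.map_smul, (B x).map_smul r h] }
  have hε : ∀ δ x h, βK (ε δ x) h = βD δ (B x h) := fun δ x h => hεf' δ x h
  -- surjectivity of `Φ` in elementary form
  have hspan : ∀ y : N, ∃ t : M ⊗[R] H, TensorProduct.lift B t = y := fun y => hΦ.2 y
  -- gradedness
  have hgr : ∀ (d : ℤ) (δ : D), δ ∈ 𝒟 d → IsGrHomDeg ℳ 𝒦 (ε δ) d := by
    intro d δ hδ j x hx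
    obtain ⟨κ, hκ, hκd⟩ := exists_rep hK (F δ x) {-d - j} (fun l hl h hh => by
      rw [Finset.mem_singleton] at hl
      exact hD.vanish d _ hδ (j + l) (by omega) _ (hB j l _ _ hx hh))
    have h1 : ε δ x = κ := by
      apply huniq
      intro h
      rw [hε, hκ]
      rfl
    rw [h1]
    apply hκd
    intro l hl
    rw [Finset.mem_singleton] at hl
    omega
  -- injectivity
  have hεinj : Function.Injective ε := by
    rw [injective_iff_map_eq_zero]
    intro δ hδ
    apply hinjD
    apply LinearMap.ext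
    intro y
    obtain ⟨t, rfl⟩ := hspan y
    rw [map_zero, LinearMap.zero_apply]
    induction t using TensorProduct.induction_on with
    | zero => rw [map_zero, map_zero]
    | tmul x h =>
      rw [TensorProduct.lift.tmul, ← hε, hδ, LinearMap.zero_apply, map_zero, LinearMap.zero_apply]
    | add t t' ht ht' => rw [map_add, map_add, ht, ht', add_zero]
  -- surjectivity on homogeneous maps
  have hεsurj_hom : ∀ (d : ℤ) (ψ : M →ₗ[R] K), IsGrHomDeg ℳ 𝒦 ψ d → ∃ δ, ε δ = ψ := by
    intro d ψ hψ
    let Φe : (M ⊗[R] H) ≃ₗ[R] N := LinearEquiv.ofBijective (TensorProduct.lift B) hΦ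
    let G₀ : M →+ H →+ k :=
      { toFun := fun x => (βK (ψ x)).toAddMonoidHom
        map_zero' := by ext h; simp
        map_add' := fun x x' => by ext h; simp }
    let G : M ⊗[R] H →+ k := TensorProduct.liftAddHom G₀ (fun r x h => by
      show βK (ψ (r • x)) h = βK (ψ x) (r • h)
      rw [map_smul, hK.map_smul])
    have hG : ∀ x h, G (x ⊗ₜ h) = βK (ψ x) h := fun x h => rfl
    -- `G t` only depends on the component of degree `-d` of `Φ t`
    have hcomp : ∀ t : M ⊗[R] H,
        G t = G (Φe.symm ((decompose 𝒩 (Φe t) (-d) : N))) := by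
      intro t
      induction t using TensorProduct.induction_on with
      | zero => simp
      | tmul x h =>
        induction x using DirectSum.Decomposition.inductionOn ℳ with
        | zero => simp
        | @homogeneous j x =>
          induction h using DirectSum.Decomposition.inductionOn 𝓗 with
          | zero => simp
          | @homogeneous l h =>
            have hmem : Φe ((x : M) ⊗ₜ (h : H)) ∈ 𝒩 (j + l) := by
              show TensorProduct.lift B ((x : M) ⊗ₜ (h : H)) ∈ 𝒩 (j + l)
              rw [TensorProduct.lift.tmul]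
              exact hB j l _ _ x.2 h.2
            by_cases hjl : j + l = -d
            · rw [hjl] at hmem
              rw [decompose_of_mem_same 𝒩 hmem, Φe.symm_apply_apply]
            · rw [decompose_of_mem_ne 𝒩 hmem hjl, map_zero, map_zero, hG]
              exact hK.vanish (j + d) _ (hψ j _ x.2) l (by omega) _ h.2
          | add h h' hh hh' =>
            rw [TensorProduct.tmul_add, map_add, hh, hh', map_add, decompose_add,
              DirectSum.add_apply, AddSubgroup.coe_add, map_add, map_add]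
        | add x x' hx hx' =>
          rw [TensorProduct.add_tmul, map_add, hx, hx', map_add, decompose_add,
            DirectSum.add_apply, AddSubgroup.coe_add, map_add, map_add]
      | add t t' ht ht' =>
        rw [map_add, ht, ht', map_add, decompose_add, DirectSum.add_apply, AddSubgroup.coe_add,
          map_add, map_add]
    have hGsmul : ∀ (c : k) (t : M ⊗[R] H), G (algebraMap k R c • t) = c * G t := by
      intro c t
      induction t using TensorProduct.induction_on with
      | zero => simp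
      | tmul x h =>
        rw [TensorProduct.smul_tmul', hG, hG, map_smul, algebraMap_smul, map_smul,
          LinearMap.smul_apply, smul_eq_mul]
      | add t t' ht ht' => rw [smul_add, map_add, ht, ht', map_add, mul_add]
    let g : N →ₗ[k] k :=
      { toFun := fun y => G (Φe.symm y)
        map_add' := fun y y' => by rw [map_add, map_add]
        map_smul' := fun c y => by
          rw [RingHom.id_apply, ← algebraMap_smul R c y, map_smul, hGsmul, smul_eq_mul] }
    have hg : ∀ y, g y = G (Φe.symm y) := fun _ => rfl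
    obtain ⟨δ, hδ, -⟩ := exists_rep hD g {-d} (fun l hl y hy => by
      rw [Finset.mem_singleton] at hl
      rw [hg, hcomp, Φe.apply_symm_apply, decompose_of_mem_ne 𝒩 hy hl, map_zero, map_zero])
    refine ⟨δ, ?_⟩
    apply LinearMap.ext
    intro x
    apply huniq
    intro h
    rw [hε, hδ, hg]
    have : Φe.symm (B x h) = x ⊗ₜ h := by
      rw [LinearEquiv.symm_apply_eq]
      show B x h = TensorProduct.lift B (x ⊗ₜ h)
      rw [TensorProduct.lift.tmul]
    rw [this, hG]
  have hεsurj : Function.Surjective ε := by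
    intro ψ
    obtain ⟨s, ψd, hψd, rfl⟩ := hhom ψ
    choose δd hδd using fun d => hεsurj_hom d (ψd d) (hψd d)
    refine ⟨∑ d ∈ s, δd d, ?_⟩
    rw [map_sum]
    exact Finset.sum_congr rfl (fun d _ => hδd d)
  exact ⟨LinearEquiv.ofBijective ε ⟨hεinj, hεsurj⟩, hgr⟩

end Main

end Groth.Agent.Lib.Helper39.GrDual
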