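import Groth.Agent.Lib.Helper39.GrKoszul1

/-!
# Graded free modules `⊕ R(-e_b)` on `Fin n → R` (helper39)

* `freePieces 𝒜 e j = {v | ∀ b, v b ∈ 𝒜 (j - e b)}` with `freeDecomposition`, `freeGradedSMul`,
  bundled as `gfree 𝒜 e`.
* `isGrHom_mulVecLin`, `isGrHom_linearCombination`.
* `HVan.free`: vanishing of local cohomology of a graded free module from that of the ring.
-/

set_option autoImplicit false
universe u

namespace Groth.Agent.Lib.Helper39.GrFree

open DirectSum GrLC Groth.Agent.Lib.Helper39 Groth.Agent.Lib.Helper39.GrLes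
  Groth.Agent.Lib.Helper39.GrKoszul

section Basic
variable {ι : Type} [AddCommGroup ι] [DecidableEq ι] {R : Type u} [CommRing R]
  (𝒜 : ι → AddSubgroup R) [GradedRing 𝒜] {n : ℕ} (e : Fin n → ι)

/-- the pieces of the graded free module `⊕_b R(-e_b)` -/
def freePieces : ι → AddSubgroup (Fin n → R) := fun j =>
  { carrier := {v | ∀ b, v b ∈ 𝒜 (j - e b)}
    zero_mem' := fun _ => zero_mem _
    add_mem' := fun hv hw b => add_mem (hv b) (hw b)
    neg_mem' := fun hv b => neg_mem (hv b) }

omit [DecidableEq ι] [GradedRing 𝒜] in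
theorem mem_freePieces {j : ι} {v : Fin n → R} :
    v ∈ freePieces 𝒜 e j ↔ ∀ b, v b ∈ 𝒜 (j - e b) := Iff.rfl

omit [DecidableEq ι] [GradedRing 𝒜] in
theorem single_mem_freePieces (b : Fin n) {i j : ι} (hij : i + e b = j) {x : R} (hx : x ∈ 𝒜 i) :
    Pi.single b x ∈ freePieces 𝒜 e j := by
  intro c
  by_cases h : c = b
  · subst h
    rw [Pi.single_eq_same, ← hij, add_sub_cancel_right]
    exact hx
  · rw [Pi.single_eq_of_ne h]
    exact zero_mem _

/-- single-coordinate embedding of a piece -/
def singleHom (b : Fin n) (i : ι) : 𝒜 i →+ freePieces 𝒜 e (i + e b) where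
  toFun x := ⟨Pi.single b (x : R), single_mem_freePieces 𝒜 e b rfl x.2⟩
  map_zero' := Subtype.ext (Pi.single_zero b)
  map_add' x y := by
    apply Subtype.ext
    show (Pi.single b ((x : R) + (y : R)) : Fin n → R) =
      (Pi.single b (x : R) : Fin n → R) + (Pi.single b (y : R) : Fin n → R)
    exact Pi.single_add b _ _

/-- the decomposition of one coordinate -/
noncomputable def coordHom (b : Fin n) : R →+ ⨁ j, freePieces 𝒜 e j :=
  (DirectSum.toAddMonoid (fun i =>
      (DirectSum.of (fun j => freePieces 𝒜 e j) (i + e b)).comp (singleHom 𝒜 e b i))).comp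
    (DirectSum.decomposeAddEquiv 𝒜).toAddMonoidHom

omit [GradedRing 𝒜] in
theorem of_congr {i j : ι} (hij : i = j) (v : Fin n → R) (hi : v ∈ freePieces 𝒜 e i)
    (hj : v ∈ freePieces 𝒜 e j) :
    DirectSum.of (fun j => freePieces 𝒜 e j) i ⟨v, hi⟩ =
      DirectSum.of (fun j => freePieces 𝒜 e j) j ⟨v, hj⟩ := by
  subst hij
  rfl

theorem coordHom_of_mem (b : Fin n) {i j : ι} (hij : i + e b = j) {x : R} (hx : x ∈ 𝒜 i) :
    coordHom 𝒜 e b x = DirectSum.of (fun j => freePieces 𝒜 e j) j
      ⟨Pi.single b x, single_mem_freePieces 𝒜 e b hij hx⟩ := by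
  unfold coordHom
  have h1 : (DirectSum.decomposeAddEquiv 𝒜).toAddMonoidHom x =
      DirectSum.of (fun i => 𝒜 i) i ⟨x, hx⟩ := decompose_of_mem 𝒜 hx
  rw [AddMonoidHom.comp_apply, h1, DirectSum.toAddMonoid_of, AddMonoidHom.comp_apply]
  exact of_congr 𝒜 e hij (Pi.single b x) (single_mem_freePieces 𝒜 e b rfl hx) _

theorem coe_coordHom (b : Fin n) (x : R) :
    DirectSum.coeAddMonoidHom (freePieces 𝒜 e) (coordHom 𝒜 e b x) = Pi.single b x := by
  have key : ∀ y : ⨁ i, 𝒜 i, DirectSum.coeAddMonoidHom (freePieces 𝒜 e)
      (DirectSum.toAddMonoid (fun i =>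
        (DirectSum.of (fun j => freePieces 𝒜 e j) (i + e b)).comp (singleHom 𝒜 e b i)) y) =
      Pi.single b (DirectSum.coeAddMonoidHom 𝒜 y) := by
    intro y
    induction y using DirectSum.induction_on with
    | zero => simp
    | of i x =>
      rw [DirectSum.toAddMonoid_of, AddMonoidHom.comp_apply, DirectSum.coeAddMonoidHom_of,
        DirectSum.coeAddMonoidHom_of]
      rfl
    | add x y hx hy => rw [map_add, map_add, hx, hy, map_add, Pi.single_add]
  unfold coordHom
  rw [AddMonoidHom.comp_apply, key]
  congr 1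
  exact (decompose 𝒜).left_inv x

/-- the decomposition map of the graded free module -/
noncomputable def freeDecompose : (Fin n → R) →+ ⨁ j, freePieces 𝒜 e j :=
  ∑ b : Fin n, (coordHom 𝒜 e b).comp (Pi.evalAddMonoidHom (fun _ => R) b)

theorem freeDecompose_apply (v : Fin n → R) :
    freeDecompose 𝒜 e v = ∑ b : Fin n, coordHom 𝒜 e b (v b) := by
  unfold freeDecompose
  rw [AddMonoidHom.finset_sum_apply]
  rfl

/-- the graded free module is graded -/
@[instance_reducible]
noncomputable def freeDecomposition : DirectSum.Decomposition (freePieces 𝒜 e) :=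
  Decomposition.ofAddHom (freePieces 𝒜 e) (freeDecompose 𝒜 e)
    (by
      apply AddMonoidHom.ext
      intro v
      rw [AddMonoidHom.comp_apply, AddMonoidHom.id_apply]
      rw [freeDecompose_apply, map_sum]
      simp only [coe_coordHom]
      exact Finset.univ_sum_single v)
    (by
      apply DirectSum.addHom_ext
      rintro j ⟨v, hv⟩
      simp only [AddMonoidHom.coe_comp, Function.comp_apply, AddMonoidHom.id_apply]
      rw [DirectSum.coeAddMonoidHom_of, freeDecompose_apply]
      have h1 : ∀ b : Fin n, coordHom 𝒜 e b (v b) = DirectSum.of (fun j => freePieces 𝒜 e j) j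
          ⟨Pi.single b (v b), single_mem_freePieces 𝒜 e b (sub_add_cancel j (e b)) (hv b)⟩ :=
        fun b => coordHom_of_mem 𝒜 e b (sub_add_cancel j (e b)) (hv b)
      simp only [h1]
      rw [← map_sum]
      congr 1
      apply Subtype.ext
      rw [AddSubgroup.val_finset_sum]
      exact Finset.univ_sum_single v)

theorem freeGradedSMul : SetLike.GradedSMul 𝒜 (freePieces 𝒜 e) where
  smul_mem := by
    intro i j r v hr hv b
    rw [vadd_eq_add, Pi.smul_apply, smul_eq_mul, add_sub_assoc]
    exact SetLike.GradedMul.mul_mem hr (hv b)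

attribute [local instance] freeDecomposition freeGradedSMul

/-- the graded free module, bundled -/
noncomputable abbrev gfree : GMod.{u} 𝒜 :=
  { carrier := Fin n → R
    gr := freePieces 𝒜 e
    dec := freeDecomposition 𝒜 e
    gsmul := freeGradedSMul 𝒜 e }

/-- a matrix with homogeneous entries of the right degrees is a graded map -/
theorem isGrHom_mulVecLin {m : ℕ} (e' : Fin m → ι) (D : Matrix (Fin n) (Fin m) R)
    (hD : ∀ a b, D a b ∈ 𝒜 (e' b - e a)) :
    IsGrHom (freePieces 𝒜 e') (freePieces 𝒜 e) (Matrix.mulVecLin D) := by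
  intro j v hv a
  rw [Matrix.mulVecLin_apply]
  show ∑ b, D a b * v b ∈ 𝒜 (j - e a)
  refine sum_mem fun b _ => ?_
  have := SetLike.GradedMul.mul_mem (hD a b) (hv b)
  rw [show e' b - e a + (j - e' b) = j - e a by abel] at this
  exact this

omit [DecidableEq ι] in
/-- a linear combination of homogeneous elements is a graded map -/
theorem isGrHom_linearCombination {M : Type u} [AddCommGroup M] [Module R M]
    (ℳ : ι → AddSubgroup M) [SetLike.GradedSMul 𝒜 ℳ] (aug : Fin n → M)
    (haug : ∀ b, aug b ∈ ℳ (e b)) :
    IsGrHom (freePieces 𝒜 e) ℳ (Fintype.linearCombination R aug) := by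
  intro j v hv
  rw [Fintype.linearCombination_apply]
  refine sum_mem fun b _ => ?_
  have := SetLike.GradedSMul.smul_mem (A := 𝒜) (B := ℳ) (hv b) (haug b)
  rw [vadd_eq_add, sub_add_cancel] at this
  exact this

end Basic

section Van
variable {R : Type u} [CommRing R] [IsNoetherianRing R] {𝒜 : ℤ → AddSubgroup R} [GradedRing 𝒜]
  {a : HomogeneousIdeal 𝒜}

/-- local cohomology of a graded free module vanishes where that of the shifted ring does -/
theorem HVan.free {j : ℕ} {d : ℤ} : ∀ {n : ℕ} (e : Fin n → ℤ),
    (∀ b, HVan a (GMod.of 𝒜 R 𝒜) j (d - e b)) → HVan a (gfree 𝒜 e) j d := by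
  intro n
  induction n with
  | zero =>
    intro e _
    haveI : Subsingleton (gfree 𝒜 e).carrier := by
      show Subsingleton (Fin 0 → R)
      infer_instance
    exact HVan.of_subsingleton j d
  | succ n ih =>
    intro e h
    have hX' : HVan a (gshift (GMod.of 𝒜 R 𝒜) (-e 0)) j d := by
      apply HVan.shift
      have := h 0
      rw [sub_eq_add_neg] at this
      exact this
    have hX'' : HVan a (gfree 𝒜 (fun b : Fin n => e b.succ)) j d := ih _ (fun b => h b.succ)
    have S : GrSES (shiftPieces 𝒜 (-e 0)) (freePieces 𝒜 e)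
        (freePieces 𝒜 (fun b : Fin n => e b.succ))
        (LinearMap.single R (fun _ : Fin (n + 1) => R) 0)
        (LinearMap.funLeft R R (Fin.succ : Fin n → Fin (n + 1))) :=
      { i_grHom := by
          intro i x hx
          have hx' : x ∈ 𝒜 (i + -e 0) := hx
          exact single_mem_freePieces 𝒜 e 0 (by ring) hx'
        p_grHom := by
          intro i v hv b
          exact hv b.succ
        i_inj := by
          intro x y hxy
          have := congrFun hxy 0
          simpa using this
        p_surj := by
          intro w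
          refine ⟨Fin.cons 0 w, ?_⟩
          funext b
          simp [LinearMap.funLeft_apply]
        exact := by
          ext v
          rw [LinearMap.mem_ker, LinearMap.mem_range]
          constructor
          · intro hv
            refine ⟨v 0, ?_⟩
            funext b
            refine Fin.cases ?_ (fun c => ?_) b
            · simp
            · have := congrFun hv c
              simp only [LinearMap.funLeft_apply, Pi.zero_apply] at this
              rw [this]
              simp [Fin.succ_ne_zero]
          · rintro ⟨x, rfl⟩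
            funext c
            simp [LinearMap.funLeft_apply, Fin.succ_ne_zero] }
    exact HVan.mid (X' := gshift (GMod.of 𝒜 R 𝒜) (-e 0)) (X := gfree 𝒜 e)
      (X'' := gfree 𝒜 (fun b : Fin n => e b.succ)) S hX' hX''

end Van

end Groth.Agent.Lib.Helper39.GrFree
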