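import Groth.Agent.Lib.Helper39.GrTop
import Groth.Agent.Lib.Helper39.GrFree
import Groth.Agent.Lib.Helper39.GrHomComp

/-!
# The graded Watts map `M ⊗ H^n_a(R) → H^n_a(M)` (helper39)

* `Hmap_add`, `Hmap_zero`, `HmapHom`: additivity of the induced maps on graded local cohomology.
* `watts I EM a n : M →ₗ[R] I.H a n →ₗ[R] EM.H a n`: the bilinear map `x, h ↦ H^n(ρ_x)(h)`, where
  `ρ_x : R → M`, `r ↦ r x`.
* `watts_natural`: naturality in `M` for homogeneous maps of any degree.
-/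

set_option autoImplicit false
universe u
open scoped TensorProduct

namespace Groth.Agent.Lib.Helper39.GrWatts

open DirectSum GrLC Groth.Agent.Lib.Helper39 Groth.Agent.Lib.Helper39.GrLes

section Add
variable {ι : Type} [AddCommGroup ι] [DecidableEq ι] {R : Type u} [CommRing R]
  {𝒜 : ι → AddSubgroup R} [GradedRing 𝒜]
  {M : Type u} [AddCommGroup M] [Module R M] {ℳ : ι → AddSubgroup M} [DirectSum.Decomposition ℳ]
  [SetLike.GradedSMul 𝒜 ℳ]
  {N : Type u} [AddCommGroup N] [Module R N] {𝒩 : ι → AddSubgroup N} [DirectSum.Decomposition 𝒩]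
  [SetLike.GradedSMul 𝒜 𝒩]
  {E : StarInjRes 𝒜 ℳ} {F : StarInjRes 𝒜 𝒩} (a : HomogeneousIdeal 𝒜)

/-- sum of chain maps -/
def chainAdd {g : ι} (c c' : ChainMap E F g) : ChainMap E F g where
  φ n := c.φ n + c'.φ n
  deg n j x hx := add_mem (c.deg n j x hx) (c'.deg n j x hx)
  comm n x := by
    rw [LinearMap.add_apply, LinearMap.add_apply, c.comm, c'.comm, map_add]

theorem chainAdd_H {g : ι} (c c' : ChainMap E F g) (i : ℕ) :
    (chainAdd c c').H a i = c.H a i + c'.H a i := by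
  apply LinearMap.ext
  intro x
  obtain ⟨z, rfl⟩ := Submodule.mkQ_surjective _ x
  show F.toH a i ((chainAdd c c').cocycMap a i z) =
    F.toH a i (c.cocycMap a i z) + F.toH a i (c'.cocycMap a i z)
  rw [← map_add]
  congr 1

theorem isGrHomDeg_add {f f' : M →ₗ[R] N} {g : ι} (hf : IsGrHomDeg ℳ 𝒩 f g)
    (hf' : IsGrHomDeg ℳ 𝒩 f' g) : IsGrHomDeg ℳ 𝒩 (f + f') g :=
  fun j x hx => add_mem (hf j x hx) (hf' j x hx)

theorem isGrHomDeg_zero (g : ι) : IsGrHomDeg ℳ 𝒩 (0 : M →ₗ[R] N) g :=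
  fun _ _ _ => zero_mem _

theorem Hmap_add {f f' : M →ₗ[R] N} {g : ι} (hf : IsGrHomDeg ℳ 𝒩 f g)
    (hf' : IsGrHomDeg ℳ 𝒩 f' g) (i : ℕ) :
    Hmap E F a (f + f') g (isGrHomDeg_add hf hf') i =
      Hmap E F a f g hf i + Hmap E F a f' g hf' i := by
  rw [Hmap_eq_of_lifts a (isGrHomDeg_add hf hf')
    (chainAdd (liftChain E F f g hf) (liftChain E F f' g hf')) (fun m => by
      show (liftChain E F f g hf).φ 0 (E.ε m) + (liftChain E F f' g hf').φ 0 (E.ε m) =
        F.ε ((f + f') m)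
      rw [liftChain_lifts E F f g hf m, liftChain_lifts E F f' g hf' m, LinearMap.add_apply,
        map_add]), chainAdd_H]
  rfl

theorem Hmap_zero (g : ι) (i : ℕ) :
    Hmap E F a (0 : M →ₗ[R] N) g (isGrHomDeg_zero g) i = 0 := by
  have h1 := Hmap_add (E := E) (F := F) a (isGrHomDeg_zero (ℳ := ℳ) (𝒩 := 𝒩) g)
    (isGrHomDeg_zero g) i
  have h2 := Hmap_congr (E := E) (F := F) a
    (isGrHomDeg_add (isGrHomDeg_zero (ℳ := ℳ) (𝒩 := 𝒩) g) (isGrHomDeg_zero g))
    (isGrHomDeg_zero g) (add_zero 0) rfl i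
  rw [h2] at h1
  exact left_eq_add.mp h1

variable (ℳ 𝒩) in
/-- the additive group of maps homogeneous of degree `g` -/
def homSub (g : ι) : AddSubgroup (M →ₗ[R] N) where
  carrier := {f | IsGrHomDeg ℳ 𝒩 f g}
  add_mem' hf hf' := isGrHomDeg_add hf hf'
  zero_mem' := isGrHomDeg_zero g
  neg_mem' hf := fun j x hx => by
    rw [LinearMap.neg_apply]
    exact neg_mem (hf j x hx)

variable (E F) in
/-- the induced map on graded local cohomology as an additive map in the homomorphism -/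
noncomputable def HmapHom (g : ι) (i : ℕ) : homSub (R := R) ℳ 𝒩 g →+ (E.H a i →ₗ[R] F.H a i) where
  toFun f := Hmap E F a f.1 g f.2 i
  map_zero' := Hmap_zero a g i
  map_add' f f' := Hmap_add a f.2 f'.2 i

theorem HmapHom_apply (g : ι) (i : ℕ) (f : M →ₗ[R] N) (hf : IsGrHomDeg ℳ 𝒩 f g) :
    HmapHom E F a g i ⟨f, hf⟩ = Hmap E F a f g hf i := rfl

end Add

section Bil
variable {ι : Type} [AddCommGroup ι] [DecidableEq ι] {R : Type u} [CommRing R]
  {𝒜 : ι → AddSubgroup R} [GradedRing 𝒜]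
  {M : Type u} [AddCommGroup M] [Module R M] {ℳ : ι → AddSubgroup M} [DirectSum.Decomposition ℳ]
  [SetLike.GradedSMul 𝒜 ℳ]
  {N : Type u} [AddCommGroup N] [Module R N] {𝒩 : ι → AddSubgroup N} [DirectSum.Decomposition 𝒩]
  [SetLike.GradedSMul 𝒜 𝒩]
  (I : StarInjRes 𝒜 𝒜) (EM : StarInjRes 𝒜 ℳ) (EN : StarInjRes 𝒜 𝒩) (a : HomogeneousIdeal 𝒜) (n : ℕ)

/-- `r ↦ r • x` -/
abbrev rho (x : M) : R →ₗ[R] M := LinearMap.toSpanSingleton R M x

omit [DecidableEq ι] [DirectSum.Decomposition ℳ] in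
theorem rho_deg {j : ι} {x : M} (hx : x ∈ ℳ j) : IsGrHomDeg 𝒜 ℳ (rho x) j := by
  intro g r hr
  have := SetLike.GradedSMul.smul_mem (A := 𝒜) (B := ℳ) hr hx
  rw [vadd_eq_add] at this
  exact this

/-- `x ↦ H^n(ρ_x)` on the piece of degree `j` -/
noncomputable def wattsPiece (j : ι) : ℳ j →+ (I.H a n →ₗ[R] EM.H a n) where
  toFun x := Hmap I EM a (rho (x : M)) j (rho_deg x.2) n
  map_zero' := by
    rw [← Hmap_zero a j n]
    exact Hmap_congr a _ _ (by ext; simp [rho]) rfl n
  map_add' x y := by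
    rw [← Hmap_add a (rho_deg x.2) (rho_deg y.2) n]
    exact Hmap_congr a _ _ (by ext; simp [rho]) rfl n

/-- the additive Watts map -/
noncomputable def wattsAdd : M →+ (I.H a n →ₗ[R] EM.H a n) :=
  (DirectSum.toAddMonoid (wattsPiece I EM a n)).comp (decomposeAddEquiv ℳ).toAddMonoidHom

theorem wattsAdd_of_mem {j : ι} {x : M} (hx : x ∈ ℳ j) :
    wattsAdd I EM a n x = Hmap I EM a (rho x) j (rho_deg hx) n := by
  show DirectSum.toAddMonoid (wattsPiece I EM a n) (decompose ℳ x) = _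
  rw [decompose_of_mem ℳ hx, DirectSum.toAddMonoid_of]
  rfl

theorem wattsAdd_smul (r : R) (x : M) : wattsAdd I EM a n (r • x) = r • wattsAdd I EM a n x := by
  classical
  induction r using DirectSum.Decomposition.inductionOn 𝒜 with
  | zero => rw [zero_smul, map_zero, zero_smul]
  | @homogeneous g r =>
    induction x using DirectSum.Decomposition.inductionOn ℳ with
    | zero => rw [smul_zero, map_zero, smul_zero]
    | @homogeneous j x =>
      have hrx : (r : R) • (x : M) ∈ ℳ (g + j) := by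
        have := SetLike.GradedSMul.smul_mem (A := 𝒜) (B := ℳ) r.2 x.2
        rwa [vadd_eq_add] at this
      rw [wattsAdd_of_mem I EM a n hrx, wattsAdd_of_mem I EM a n x.2]
      have h1 := Hmap_comp (E := I) (F := I) (G := EM) a (isGrHomDeg_smul (ℳ := 𝒜) r.2)
        (rho_deg x.2) n
      have h2 : rho ((r : R) • (x : M)) = rho (x : M) ∘ₗ ((r : R) • (LinearMap.id : R →ₗ[R] R)) := by
        ext
        simp [rho]
      rw [Hmap_congr a (rho_deg hrx) (IsGrHomDeg.comp (isGrHomDeg_smul (ℳ := 𝒜) r.2)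
        (rho_deg x.2)) h2 rfl n, h1]
      apply LinearMap.ext
      intro h
      rw [LinearMap.comp_apply, Hmap_smul a r.2 n, map_smul, LinearMap.smul_apply]
    | add x y hx hy => rw [smul_add, map_add, hx, hy, map_add, smul_add]
  | add r s hr hs => rw [add_smul, map_add, hr, hs, add_smul]

/-- **the graded Watts map** `x, h ↦ H^n(ρ_x)(h)` -/
noncomputable def watts : M →ₗ[R] I.H a n →ₗ[R] EM.H a n where
  toFun := wattsAdd I EM a n
  map_add' := (wattsAdd I EM a n).map_add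
  map_smul' := wattsAdd_smul I EM a n

theorem watts_of_mem {j : ι} {x : M} (hx : x ∈ ℳ j) :
    watts I EM a n x = Hmap I EM a (rho x) j (rho_deg hx) n :=
  wattsAdd_of_mem I EM a n hx

theorem watts_mem {j l : ι} {x : M} {h : I.H a n} (hx : x ∈ ℳ j) (hh : h ∈ I.Hgr a n l) :
    watts I EM a n x h ∈ EM.Hgr a n (j + l) := by
  rw [watts_of_mem I EM a n hx, add_comm]
  exact Hmap_isGrHomDeg a (rho_deg hx) n l h hh

/-- naturality of the Watts map -/
theorem watts_natural (f : M →ₗ[R] N) (d : ι) (hf : IsGrHomDeg ℳ 𝒩 f d) (x : M) (h : I.H a n) :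
    Hmap EM EN a f d hf n (watts I EM a n x h) = watts I EN a n (f x) h := by
  classical
  induction x using DirectSum.Decomposition.inductionOn ℳ with
  | zero => simp only [map_zero, LinearMap.zero_apply]
  | @homogeneous j x =>
    rw [watts_of_mem I EM a n x.2, watts_of_mem I EN a n (hf j _ x.2)]
    have h1 := Hmap_comp (E := I) (F := EM) (G := EN) a (rho_deg x.2) hf n
    have h2 : rho (f (x : M)) = f ∘ₗ rho (x : M) := by
      ext
      simp [rho]
    rw [Hmap_congr a (rho_deg (hf j _ x.2)) (IsGrHomDeg.comp (rho_deg x.2) hf) h2 rfl n, h1]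
    rfl
  | add x y hx hy =>
    rw [map_add, LinearMap.add_apply, map_add, hx, hy, map_add, map_add, LinearMap.add_apply]

theorem watts_natural_lift (f : M →ₗ[R] N) (d : ι) (hf : IsGrHomDeg ℳ 𝒩 f d)
    (t : M ⊗[R] I.H a n) :
    Hmap EM EN a f d hf n (TensorProduct.lift (watts I EM a n) t) =
      TensorProduct.lift (watts I EN a n) (LinearMap.rTensor (I.H a n) f t) := by
  induction t using TensorProduct.induction_on with
  | zero => rw [map_zero, map_zero, map_zero, map_zero]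
  | tmul x h =>
    rw [TensorProduct.lift.tmul, LinearMap.rTensor_tmul, TensorProduct.lift.tmul]
    exact watts_natural I EM EN a n f d hf x h
  | add t t' ht ht' => rw [map_add, map_add, ht, ht', map_add, map_add]

end Bil

end Groth.Agent.Lib.Helper39.GrWatts
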