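import Groth.Agent.Lib.Helper39.GrDual2

/-!
# The graded Watts map is bijective for graded free modules of finite rank (helper39)
-/

set_option autoImplicit false
universe u
open scoped TensorProduct

namespace Groth.Agent.Lib.Helper39.GrWatts

open DirectSum GrLC Groth.Agent.Lib.Helper39 Groth.Agent.Lib.Helper39.GrLes
  Groth.Agent.Lib.Helper39.GrFree

section Free
variable {ι : Type} [AddCommGroup ι] [DecidableEq ι] {R : Type u} [CommRing R]
  {𝒜 : ι → AddSubgroup R} [GradedRing 𝒜] {m : ℕ} (e : Fin m → ι)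

attribute [local instance] freeDecomposition freeGradedSMul

omit [DecidableEq ι] [GradedRing 𝒜] in
theorem proj_deg (b : Fin m) :
    IsGrHomDeg (freePieces 𝒜 e) 𝒜 (LinearMap.proj b : (Fin m → R) →ₗ[R] R) (-e b) := by
  intro j v hv
  have := (mem_freePieces 𝒜 e).mp hv b
  rwa [sub_eq_add_neg] at this

theorem single_one_mem (b : Fin m) :
    (Pi.single b (1 : R) : Fin m → R) ∈ freePieces 𝒜 e (e b) :=
  single_mem_freePieces 𝒜 e b (zero_add _) SetLike.GradedOne.one_mem

variable (I : StarInjRes 𝒜 𝒜) (EF : StarInjRes 𝒜 (freePieces 𝒜 e)) (a : HomogeneousIdeal 𝒜) (n : ℕ)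

/-- the `b`-th coordinate projection on cohomology -/
noncomputable abbrev Hproj (b : Fin m) : EF.H a n →ₗ[R] I.H a n :=
  Hmap EF I a (LinearMap.proj b) (-e b) (proj_deg e b) n

theorem rho_single (b : Fin m) :
    rho (Pi.single b (1 : R) : Fin m → R) = LinearMap.single R (fun _ : Fin m => R) b := by
  apply LinearMap.ext
  intro r
  funext c
  simp [rho, Pi.single_apply]

/-- `H(π_b) ∘ H(ι_b') = δ_{bb'}` -/
theorem Hproj_watts_single (b b' : Fin m) (h : I.H a n) :
    Hproj e I EF a n b (watts I EF a n (Pi.single b' (1 : R)) h) = if b = b' then h else 0 := by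
  rw [watts_of_mem I EF a n (single_one_mem e b')]
  have h1 := Hmap_comp (E := I) (F := EF) (G := I) a (rho_deg (single_one_mem e b'))
    (proj_deg e b) n
  have h2 := LinearMap.congr_fun h1 h
  rw [LinearMap.comp_apply] at h2
  rw [← h2]
  by_cases hb : b = b'
  · subst hb
    rw [if_pos rfl]
    have h3 : (LinearMap.proj b : (Fin m → R) →ₗ[R] R) ∘ₗ rho (Pi.single b (1 : R) : Fin m → R) =
        LinearMap.id := by
      apply LinearMap.ext
      intro r
      simp [rho]
    rw [Hmap_congr a _ (isGrHomDeg_id (ℳ := 𝒜)) h3 (add_neg_cancel (e b)) n, Hmap_id]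
    rfl
  · rw [if_neg hb]
    have h3 : (LinearMap.proj b : (Fin m → R) →ₗ[R] R) ∘ₗ rho (Pi.single b' (1 : R) : Fin m → R) =
        0 := by
      apply LinearMap.ext
      intro r
      simp [rho, Pi.single_apply, hb]
    rw [Hmap_congr a _ (isGrHomDeg_zero (ℳ := 𝒜) (𝒩 := 𝒜) (e b' + -e b)) h3 rfl n, Hmap_zero]
    rfl

/-- `∑_b H(ι_b) ∘ H(π_b) = id` -/
theorem sum_watts_single_Hproj (y : EF.H a n) :
    ∑ b : Fin m, watts I EF a n (Pi.single b (1 : R)) (Hproj e I EF a n b y) = y := by
  classical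
  have hdeg : ∀ b : Fin m, IsGrHomDeg (freePieces 𝒜 e) (freePieces 𝒜 e)
      (rho (Pi.single b (1 : R) : Fin m → R) ∘ₗ (LinearMap.proj b : (Fin m → R) →ₗ[R] R)) 0 := by
    intro b
    have := IsGrHomDeg.comp (proj_deg (𝒜 := 𝒜) e b)
      (rho_deg (𝒜 := 𝒜) (ℳ := freePieces 𝒜 e) (single_one_mem (𝒜 := 𝒜) e b))
    rwa [neg_add_cancel] at this
  have h1 : ∀ b : Fin m, watts I EF a n (Pi.single b (1 : R)) (Hproj e I EF a n b y) =
      HmapHom EF EF a 0 n ⟨_, hdeg b⟩ y := by
    intro b
    rw [watts_of_mem I EF a n (single_one_mem e b), HmapHom_apply]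
    have h2 := Hmap_comp (E := EF) (F := I) (G := EF) a (proj_deg e b)
      (rho_deg (single_one_mem e b)) n
    rw [Hmap_congr a (hdeg b) (IsGrHomDeg.comp (proj_deg e b) (rho_deg (single_one_mem e b))) rfl
      (neg_add_cancel (e b)).symm n, h2]
    rfl
  rw [Finset.sum_congr rfl (fun b _ => h1 b), ← LinearMap.sum_apply, ← map_sum]
  have h3 : (∑ b : Fin m, (⟨_, hdeg b⟩ : homSub (R := R) (freePieces 𝒜 e) (freePieces 𝒜 e) 0)) =
      ⟨LinearMap.id, isGrHomDeg_id⟩ := by
    apply Subtype.ext
    rw [AddSubgroup.val_finset_sum]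
    apply LinearMap.ext
    intro v
    rw [LinearMap.sum_apply]
    funext c
    rw [Finset.sum_apply]
    simp [rho, Pi.single_apply]
  rw [h3, HmapHom_apply, Hmap_id]
  rfl

theorem watts_free_surjective :
    Function.Surjective (TensorProduct.lift (watts I EF a n)) := by
  intro y
  refine ⟨∑ b : Fin m, (Pi.single b (1 : R) : Fin m → R) ⊗ₜ[R] Hproj e I EF a n b y, ?_⟩
  rw [map_sum]
  simp only [TensorProduct.lift.tmul]
  exact sum_watts_single_Hproj e I EF a n y

theorem watts_free_injective :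
    Function.Injective (TensorProduct.lift (watts I EF a n)) := by
  classical
  let σ : EF.H a n →ₗ[R] (Fin m → R) ⊗[R] I.H a n :=
    ∑ b : Fin m, (TensorProduct.mk R (Fin m → R) (I.H a n) (Pi.single b (1 : R))) ∘ₗ
      Hproj e I EF a n b
  have hσ : ∀ y, σ y = ∑ b : Fin m, (Pi.single b (1 : R) : Fin m → R) ⊗ₜ[R] Hproj e I EF a n b y := by
    intro y
    show (∑ b : Fin m, (TensorProduct.mk R (Fin m → R) (I.H a n) (Pi.single b (1 : R))) ∘ₗ
      Hproj e I EF a n b) y = _
    rw [LinearMap.sum_apply]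
    rfl
  have hgen : ∀ (b' : Fin m) (h : I.H a n),
      σ (TensorProduct.lift (watts I EF a n) ((Pi.single b' (1 : R) : Fin m → R) ⊗ₜ[R] h)) =
        (Pi.single b' (1 : R) : Fin m → R) ⊗ₜ[R] h := by
    intro b' h
    rw [TensorProduct.lift.tmul, hσ]
    simp only [Hproj_watts_single]
    rw [Finset.sum_eq_single b']
    · rw [if_pos rfl]
    · intro b _ hb
      rw [if_neg hb, TensorProduct.tmul_zero]
    · intro hb
      exact absurd (Finset.mem_univ b') hb
  have hleft : ∀ t, σ (TensorProduct.lift (watts I EF a n) t) = t := by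
    intro t
    induction t using TensorProduct.induction_on with
    | zero => rw [map_zero, map_zero]
    | tmul v h =>
      have hv : v ⊗ₜ[R] h = ∑ b' : Fin m, (Pi.single b' (1 : R) : Fin m → R) ⊗ₜ[R] (v b' • h) := by
        have : ∀ b' : Fin m, (Pi.single b' (1 : R) : Fin m → R) ⊗ₜ[R] (v b' • h) =
            (Pi.single b' (v b') : Fin m → R) ⊗ₜ[R] h := by
          intro b'
          rw [← TensorProduct.smul_tmul]
          congr 1
          funext c
          simp [Pi.single_apply]
        rw [Finset.sum_congr rfl (fun b' _ => this b'), ← TensorProduct.sum_tmul,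
          Finset.univ_sum_single]
      rw [hv, map_sum, map_sum]
      exact Finset.sum_congr rfl (fun b' _ => hgen b' _)
    | add t t' ht ht' => rw [map_add, map_add, ht, ht']
  exact Function.LeftInverse.injective hleft

end Free

end Groth.Agent.Lib.Helper39.GrWatts
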