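import Groth.Agent.Lib.Helper39.GrDual3

/-!
# The graded Watts theorem: `M ⊗ H^n_a(R) ≅ H^n_a(M)` when `H^{n+1}_a` vanishes identically
(helper39)
-/

set_option autoImplicit false
universe u
open scoped TensorProduct

namespace Groth.Agent.Lib.Helper39.GrWatts

open DirectSum GrLC Groth.Agent.Lib.Helper39 Groth.Agent.Lib.Helper39.GrLes
  Groth.Agent.Lib.Helper39.GrFree

section Cover
variable {ι : Type} [AddCommGroup ι] [DecidableEq ι] {R : Type u} [CommRing R]
  (𝒜 : ι → AddSubgroup R) [GradedRing 𝒜]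
  {M : Type u} [AddCommGroup M] [Module R M] (ℳ : ι → AddSubgroup M) [DirectSum.Decomposition ℳ]
  [SetLike.GradedSMul 𝒜 ℳ]

/-- a finitely generated graded module is a homogeneous quotient of a graded free module of finite
rank -/
theorem exists_free_cover [Module.Finite R M] :
    ∃ (m : ℕ) (e : Fin m → ι) (p : (Fin m → R) →ₗ[R] M),
      IsGrHom (freePieces 𝒜 e) ℳ p ∧ Function.Surjective p := by
  classical
  obtain ⟨s, hs, hspan⟩ := exists_homogeneous_generators (R := R) ℳ
  choose! deg hdeg using hs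
  let aug : Fin s.card → M := fun b => ((s.equivFin.symm b : s) : M)
  refine ⟨s.card, fun b => deg (aug b), Fintype.linearCombination R aug,
    isGrHom_linearCombination 𝒜 _ ℳ aug (fun b => hdeg _ (s.equivFin.symm b).2), ?_⟩
  rw [← LinearMap.range_eq_top, Fintype.range_linearCombination, eq_top_iff, ← hspan]
  apply Submodule.span_mono
  intro x hx
  exact ⟨s.equivFin ⟨x, hx⟩, by simp [aug]⟩

end Cover

section Main
variable {ι : Type} [AddCommGroup ι] [DecidableEq ι] [Module.Free ℤ ι] [Module.Finite ℤ ι]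
  {R : Type u} [CommRing R] [IsNoetherianRing R] {𝒜 : ι → AddSubgroup R} [GradedRing 𝒜]
  {M : Type u} [AddCommGroup M] [Module R M] {ℳ : ι → AddSubgroup M} [DirectSum.Decomposition ℳ]
  [SetLike.GradedSMul 𝒜 ℳ]

attribute [local instance] freeDecomposition freeGradedSMul

/-- **graded Watts theorem** -/
theorem watts_bijective (a : HomogeneousIdeal 𝒜) (n : ℕ) (hvan : GrTop.VanishAll a (n + 1))
    (I : StarInjRes 𝒜 𝒜) [Module.Finite R M] (EM : StarInjRes 𝒜 ℳ) :
    Function.Bijective (TensorProduct.lift (watts I EM a n)) := by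
  classical
  obtain ⟨m, e, p, hpg, hps⟩ := exists_free_cover 𝒜 ℳ
  obtain ⟨EF⟩ := Groth.Agent.S13215.result R 𝒜 (Fin m → R) (freePieces 𝒜 e)
  have hKh : (LinearMap.ker p).IsHomogeneous (freePieces 𝒜 e) :=
    IsGrHom.ker_isHomogeneous _ _ hpg
  generalize hK : LinearMap.ker p = K at hKh
  letI decK := subDecomposition (freePieces 𝒜 e) K hKh
  haveI smulK := subGradedSMul 𝒜 (freePieces 𝒜 e) K
  obtain ⟨EK⟩ := Groth.Agent.S13215.result R 𝒜 K (subPieces (freePieces 𝒜 e) K)
  have S : GrSES (subPieces (freePieces 𝒜 e) K) (freePieces 𝒜 e) ℳ K.subtype p :=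
    { i_grHom := isGrHom_subtype (freePieces 𝒜 e) K
      p_grHom := hpg
      i_inj := Subtype.val_injective
      p_surj := hps
      exact := by rw [hK, Submodule.range_subtype] }
  haveI : Module.Finite R K := Module.IsNoetherian.finite R K
  obtain ⟨m', e', q, hqg, hqs⟩ := exists_free_cover 𝒜 (subPieces (freePieces 𝒜 e) K)
  obtain ⟨EF'⟩ := Groth.Agent.S13215.result R 𝒜 (Fin m' → R) (freePieces 𝒜 e')
  have hK'h : (LinearMap.ker q).IsHomogeneous (freePieces 𝒜 e') :=
    IsGrHom.ker_isHomogeneous _ _ hqg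
  generalize hK' : LinearMap.ker q = K' at hK'h
  letI decK' := subDecomposition (freePieces 𝒜 e') K' hK'h
  haveI smulK' := subGradedSMul 𝒜 (freePieces 𝒜 e') K'
  obtain ⟨EK'⟩ := Groth.Agent.S13215.result R 𝒜 K' (subPieces (freePieces 𝒜 e') K')
  have S' : GrSES (subPieces (freePieces 𝒜 e') K') (freePieces 𝒜 e')
      (subPieces (freePieces 𝒜 e) K) K'.subtype q :=
    { i_grHom := isGrHom_subtype (freePieces 𝒜 e') K'
      p_grHom := hqg
      i_inj := Subtype.val_injective
      p_surj := hqs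
      exact := by rw [hK', Submodule.range_subtype] }
  have hsurj_p := GrTop.surjective_of_subsingleton S EK EF EM a n (hvan _ _ EK)
  have hsurj_q := GrTop.surjective_of_subsingleton S' EK' EF' EK a n (hvan _ _ EK')
  obtain ⟨δ, -, hex, -, -⟩ := exists_les S EK EF EM a
  have hnat_p := watts_natural_lift I EF EM a n p 0 (isGrHomDeg_zero_of hpg)
  constructor
  · rw [injective_iff_map_eq_zero]
    intro t ht
    obtain ⟨t0, rfl⟩ := LinearMap.rTensor_surjective (I.H a n) hps t
    rw [← hnat_p] at ht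
    obtain ⟨w, hw⟩ := (hex n _).mp ht
    obtain ⟨y1, hy1⟩ := hsurj_q w
    obtain ⟨t1, ht1⟩ := watts_free_surjective e' I EF' a n y1
    have hcg : IsGrHom (freePieces 𝒜 e') (freePieces 𝒜 e) (K.subtype ∘ₗ q) :=
      IsGrHom.comp _ _ _ hqg (isGrHom_subtype (freePieces 𝒜 e) K)
    have hnat_q := watts_natural_lift I EF' EF a n (K.subtype ∘ₗ q) 0 (isGrHomDeg_zero_of hcg) t1
    have hcomp := Hmap₀_comp EF' EK EF a q hqg K.subtype (isGrHom_subtype (freePieces 𝒜 e) K) n
    have h2 : TensorProduct.lift (watts I EF a n)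
        (LinearMap.rTensor (I.H a n) (K.subtype ∘ₗ q) t1) =
        TensorProduct.lift (watts I EF a n) t0 := by
      rw [← hnat_q, ht1, ← hw, ← hy1]
      exact LinearMap.congr_fun hcomp y1
    have h3 := watts_free_injective e I EF a n h2
    rw [← h3, ← LinearMap.comp_apply, ← LinearMap.rTensor_comp]
    have h4 : p ∘ₗ (K.subtype ∘ₗ q) = 0 := by
      apply LinearMap.ext
      intro v
      have : ((q v : K) : Fin m → R) ∈ LinearMap.ker p := by
        rw [hK]
        exact (q v).2
      exact LinearMap.mem_ker.mp this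
    rw [h4, LinearMap.rTensor_zero, LinearMap.zero_apply]
  · intro y
    obtain ⟨y0, hy0⟩ := hsurj_p y
    obtain ⟨t0, ht0⟩ := watts_free_surjective e I EF a n y0
    refine ⟨LinearMap.rTensor (I.H a n) p t0, ?_⟩
    rw [← hnat_p, ht0]
    exact hy0

end Main

end Groth.Agent.Lib.Helper39.GrWatts
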