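import Groth.Agent.Lib.Helper39.GrVer17

/-!
# The graded module `*Hom(C, N)` for finitely generated `C` is the internal direct sum of its
pieces; homogeneous isomorphisms out of it have homogeneous inverses (helper39)
-/

set_option autoImplicit false
universe u

namespace Groth.Agent.Lib.Helper39.GrHomInt

open DirectSum GrLC Groth.Agent.Lib.Helper39 Groth.Agent.Lib.Helper39.GrPC

section Comp
variable {ι : Type} [AddCommGroup ι] [DecidableEq ι] {R : Type u} [CommRing R]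
  (𝒜 : ι → AddSubgroup R) [GradedRing 𝒜]
  {C : Type u} [AddCommGroup C] [Module R C] (𝒞 : ι → AddSubgroup C) [DirectSum.Decomposition 𝒞]
  [SetLike.GradedSMul 𝒜 𝒞]
  {N : Type u} [AddCommGroup N] [Module R N] (𝒩 : ι → AddSubgroup N) [DirectSum.Decomposition 𝒩]
  [SetLike.GradedSMul 𝒜 𝒩]

/-- linear maps agreeing on homogeneous elements are equal -/
theorem ext_of_homogeneous {f g : C →ₗ[R] N} (h : ∀ (e : ι) (x : C), x ∈ 𝒞 e → f x = g x) :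
    f = g := by
  classical
  ext x
  induction x using DirectSum.Decomposition.inductionOn 𝒞 with
  | zero => rw [map_zero, map_zero]
  | @homogeneous e x => exact h e x x.2
  | add x y hx hy => rw [map_add, map_add, hx, hy]

theorem compLin_of_isGrHomDeg {ψ : C →ₗ[R] N} {d : ι} (hψ : IsGrHomDeg 𝒞 𝒩 ψ d) (d' : ι) :
    compLin 𝒜 𝒞 𝒩 ψ d' = if d = d' then ψ else 0 := by
  apply ext_of_homogeneous 𝒞
  intro e x hx
  rw [compLin_of_mem 𝒜 𝒞 𝒩 ψ d' hx]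
  have h1 : ψ x ∈ 𝒩 (e + d) := hψ e x hx
  by_cases hdd : d = d'
  · subst hdd
    rw [if_pos rfl, decompose_of_mem_same 𝒩 h1]
  · rw [if_neg hdd, decompose_of_mem_ne 𝒩 h1 (fun h => hdd (add_left_cancel h))]
    rfl

theorem compLin_add (ψ χ : C →ₗ[R] N) (d : ι) :
    compLin 𝒜 𝒞 𝒩 (ψ + χ) d = compLin 𝒜 𝒞 𝒩 ψ d + compLin 𝒜 𝒞 𝒩 χ d := by
  apply ext_of_homogeneous 𝒞
  intro e x hx
  rw [LinearMap.add_apply, compLin_of_mem 𝒜 𝒞 𝒩 _ d hx, compLin_of_mem 𝒜 𝒞 𝒩 _ d hx,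
    compLin_of_mem 𝒜 𝒞 𝒩 _ d hx, LinearMap.add_apply, decompose_add, DirectSum.add_apply,
    AddSubgroup.coe_add]

theorem compLin_zero (d : ι) : compLin 𝒜 𝒞 𝒩 (0 : C →ₗ[R] N) d = 0 := by
  apply ext_of_homogeneous 𝒞
  intro e x hx
  rw [compLin_of_mem 𝒜 𝒞 𝒩 _ d hx, LinearMap.zero_apply, decompose_zero]
  rfl

/-- the `d`-th component, as an additive endomorphism of `Hom(C, N)` -/
def compHom (d : ι) : (C →ₗ[R] N) →+ (C →ₗ[R] N) where
  toFun ψ := compLin 𝒜 𝒞 𝒩 ψ d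
  map_zero' := compLin_zero 𝒜 𝒞 𝒩 d
  map_add' ψ χ := compLin_add 𝒜 𝒞 𝒩 ψ χ d

/-- the pieces of `*Hom(C, N)` -/
def homGr : ι → AddSubgroup (C →ₗ[R] N) := fun d => (homDeg 𝒜 𝒞 𝒩 d).toAddSubgroup

theorem mem_homGr {d : ι} {ψ : C →ₗ[R] N} : ψ ∈ homGr 𝒜 𝒞 𝒩 d ↔ IsGrHomDeg 𝒞 𝒩 ψ d := Iff.rfl

theorem compHom_coe (x : ⨁ d, homGr 𝒜 𝒞 𝒩 d) (d₀ : ι) :
    compHom 𝒜 𝒞 𝒩 d₀ (DirectSum.coeAddMonoidHom (homGr 𝒜 𝒞 𝒩) x) = (x d₀ : C →ₗ[R] N) := by
  induction x using DirectSum.induction_on with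
  | zero => simp
  | of d y =>
    rw [DirectSum.coeAddMonoidHom_of]
    show compLin 𝒜 𝒞 𝒩 (y : C →ₗ[R] N) d₀ = _
    rw [compLin_of_isGrHomDeg 𝒜 𝒞 𝒩 y.2 d₀]
    by_cases hdd : d = d₀
    · subst hdd
      rw [if_pos rfl, DirectSum.of_eq_same]
    · rw [if_neg hdd, DirectSum.of_eq_of_ne _ _ _ (Ne.symm hdd)]
      rfl
  | add x y hx hy =>
    rw [map_add, map_add, hx, hy, DirectSum.add_apply, AddSubgroup.coe_add]

/-- `*Hom(C, N)` is the internal direct sum of its pieces, for `C` finitely generated -/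
theorem homGr_isInternal [Module.Finite R C] : DirectSum.IsInternal (homGr 𝒜 𝒞 𝒩) := by
  classical
  constructor
  · rw [injective_iff_map_eq_zero]
    intro x hx
    apply DFinsupp.ext
    intro d₀
    apply Subtype.ext
    rw [← compHom_coe 𝒜 𝒞 𝒩 x d₀, hx, map_zero]
    rfl
  · intro h
    obtain ⟨S, hS⟩ := exists_finset_sum_compLin 𝒜 𝒩 𝒞 h
    refine ⟨∑ d ∈ S, DirectSum.of (fun d => homGr 𝒜 𝒞 𝒩 d) d
      ⟨compLin 𝒜 𝒞 𝒩 h d, compLin_isGrHomDeg 𝒜 𝒞 𝒩 h d⟩, ?_⟩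
    rw [map_sum]
    conv_rhs => rw [hS]
    apply Finset.sum_congr rfl
    intro d _
    rw [DirectSum.coeAddMonoidHom_of]

end Comp

section Inv
variable {ι : Type} [AddCommGroup ι] [DecidableEq ι] {R : Type u} [CommRing R]
  (𝒜 : ι → AddSubgroup R) [GradedRing 𝒜]
  {C : Type u} [AddCommGroup C] [Module R C] (𝒞 : ι → AddSubgroup C) [DirectSum.Decomposition 𝒞]
  [SetLike.GradedSMul 𝒜 𝒞] [Module.Finite R C]
  {N : Type u} [AddCommGroup N] [Module R N] (𝒩 : ι → AddSubgroup N) [DirectSum.Decomposition 𝒩]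
  [SetLike.GradedSMul 𝒜 𝒩]

/-- a homogeneous isomorphism from `*Hom(C, N)` onto an internally graded module has a
homogeneous inverse -/
theorem symm_mem_homGr {H : Type u} [AddCommGroup H] [Module R H] (𝓗 : ι → AddSubgroup H)
    (hint : DirectSum.IsInternal 𝓗) (φ : (C →ₗ[R] N) ≃ₗ[R] H)
    (hφ : IsGrHom (fun d => (homDeg 𝒜 𝒞 𝒩 d).toAddSubgroup) 𝓗 φ.toLinearMap) {d : ι} {x : H}
    (hx : x ∈ 𝓗 d) : IsGrHomDeg 𝒞 𝒩 (φ.symm x) d := by
  have h := Ver.mem_of_map_mem_of_injective (homGr_isInternal 𝒜 𝒞 𝒩) hint φ.toLinearMap hφ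
    φ.injective (h := d) (x := φ.symm x) (by
      show φ (φ.symm x) ∈ 𝓗 d
      rw [φ.apply_symm_apply]
      exact hx)
  exact h

end Inv

end Groth.Agent.Lib.Helper39.GrHomInt
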