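import Groth.Agent.Lib.Helper39.GrDual1
import Groth.Agent.Lib.Helper39.GrDual4
import Groth.Agent.Lib.Helper39.GrBridge
import Groth.Agent.Lib.Helper39.GrVer18

/-!
# `(H^n_m(M))^* ≅ Hom_R(M, K_R)` for graded rings over a field (helper39)
-/

set_option autoImplicit false
universe u
open scoped TensorProduct

namespace Groth.Agent.Lib.Helper39.GrDual

open DirectSum GrLC GrSeg Groth.Agent.Lib.Helper39 Groth.Agent.Lib.Helper39.GrBridge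
  Groth.Agent.Lib.Helper39.GrWatts

attribute [local instance] toSubGradedRing toSubDecomposition toSubGradedSMul

theorem exists_equiv_hom_canonical (k : Type u) [Field k] (R : Type u) [CommRing R] [Algebra k R]
    (𝒜 : ℤ → Submodule k R) [GradedAlgebra 𝒜] [IsNoetherianRing R]
    (mR : HomogeneousIdeal 𝒜) (n : ℕ) (hn : ringKrullDim R = n) (I : GrLC.StarInjRes 𝒜 𝒜)
    [Module k (I.H mR n)] [IsScalarTower k R (I.H mR n)] [DirectSum.Decomposition (I.Hgr mR n)]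
    (K : Type u) [AddCommGroup K] [Module R K] [Module k K] [IsScalarTower k R K]
    (𝒦 : ℤ → AddSubgroup K) [DirectSum.Decomposition 𝒦] [SetLike.GradedSMul 𝒜 𝒦]
    (βK : K →ₗ[k] I.H mR n →ₗ[k] k) (hK : GrSeg.IsGDual R (I.Hgr mR n) 𝒦 βK)
    (M : Type u) [AddCommGroup M] [Module R M] [Module k M] [IsScalarTower k R M]
    (ℳ : ℤ → AddSubgroup M) [DirectSum.Decomposition ℳ] [SetLike.GradedSMul 𝒜 ℳ]
    [Module.Finite R M] (EM : GrLC.StarInjRes 𝒜 ℳ) [Module k (EM.H mR n)]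
    [IsScalarTower k R (EM.H mR n)] [DirectSum.Decomposition (EM.Hgr mR n)]
    (D : Type u) [AddCommGroup D] [Module R D] [Module k D] [IsScalarTower k R D]
    (𝒟 : ℤ → AddSubgroup D) [DirectSum.Decomposition 𝒟] [SetLike.GradedSMul 𝒜 𝒟]
    (βD : D →ₗ[k] EM.H mR n →ₗ[k] k) (hD : GrSeg.IsGDual R (EM.Hgr mR n) 𝒟 βD) :
    ∃ ε : D ≃ₗ[R] (M →ₗ[R] K),
      GrLC.IsGrHom 𝒟 (fun d : ℤ => (GrLC.homDeg 𝒜 ℳ 𝒦 d).toAddSubgroup) ε.toLinearMap := by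
  classical
  haveI iK : SetLike.GradedSMul (toSub 𝒜) 𝒦 := gsmul_toSub 𝒜 𝒦
  have hvan : GrTop.VanishAll (convIdeal mR) (n + 1) := fun P _ _ 𝓟 _ _ G =>
    GrTop.H_subsingleton_of_dim (convIdeal mR) (le_of_eq hn) G (n + 1) (Nat.lt_succ_self n)
  let B : M →ₗ[R] I.H mR n →ₗ[R] EM.H mR n := watts (convRes I) (convRes EM) (convIdeal mR) n
  have hB : ∀ (j l : ℤ) (x : M) (h : I.H mR n), x ∈ ℳ j → h ∈ I.Hgr mR n l →
      B x h ∈ EM.Hgr mR n (j + l) := fun j l x h hx hh =>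
    watts_mem (convRes I) (convRes EM) (convIdeal mR) n (x := x) (h := h) hx hh
  have hΦ : Function.Bijective (TensorProduct.lift B) :=
    watts_bijective (convIdeal mR) n hvan (convRes I) (convRes EM)
  have hhom : ∀ ψ : M →ₗ[R] K, ∃ (s : Finset ℤ) (ψd : ℤ → (M →ₗ[R] K)),
      (∀ d, IsGrHomDeg ℳ 𝒦 (ψd d) d) ∧ ψ = ∑ d ∈ s, ψd d := by
    intro ψ
    obtain ⟨S, hS⟩ := GrPC.exists_finset_sum_compLin (toSub 𝒜) 𝒦 (toSub ℳ) ψ
    exact ⟨S, fun d => compLin (toSub 𝒜) (toSub ℳ) 𝒦 ψ d,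
      fun d g x hx => compLin_isGrHomDeg (toSub 𝒜) (toSub ℳ) 𝒦 ψ d g x hx, hS⟩
  obtain ⟨ε, hε⟩ := exists_equiv_hom (I.Hgr mR n) 𝒦 βK hK (EM.Hgr mR n) 𝒟 βD hD ℳ B hB hΦ hhom
  exact ⟨ε, fun d δ hδ => hε d δ hδ⟩

end Groth.Agent.Lib.Helper39.GrDual
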