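import Groth.Prelude.Def_GrSeg
import Groth.Agent.Lib.Helper99.GrMod

/-!
# Existence of graded duals (helper39)

For a graded module `M` over a graded algebra `A` over a field `k`, the graded `k`-dual
`M^* = ⊕_n Hom_k(M_{-n}, k)` is constructed as the space of functionals on `M` vanishing on all but
finitely many pieces, with `A` acting through the argument: `GD 𝒜 ℳ`, graded by `gdGr 𝒜 ℳ`, with
the pairing `gdPair 𝒜 ℳ`; `isGDual_gd : IsGDual A ℳ (gdGr 𝒜 ℳ) (gdPair 𝒜 ℳ)`.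
-/

set_option autoImplicit false
universe u

namespace Groth.Agent.Lib.Helper39.GrDualEx

open DirectSum

section
variable {k : Type u} [Field k] {A : Type u} [CommRing A] [Algebra k A]
  (𝒜 : ℤ → Submodule k A) [GradedAlgebra 𝒜]
  {M : Type u} [AddCommGroup M] [Module A M] [Module k M] [IsScalarTower k A M]
  (ℳ : ℤ → AddSubgroup M) [DirectSum.Decomposition ℳ] [SetLike.GradedSMul 𝒜 ℳ]

include 𝒜 in
theorem decompose_smulK (c : k) (x : M) (n : ℤ) :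
    (decompose ℳ (c • x) n : M) = c • (decompose ℳ x n : M) := by
  classical
  induction x using DirectSum.Decomposition.inductionOn ℳ with
  | zero => simp
  | @homogeneous i x =>
    have h1 : c • (x : M) ∈ ℳ i := Groth.Agent.Lib.Helper99.smul_mem_piece 𝒜 ℳ c x.2
    by_cases h : i = n
    · subst h
      rw [decompose_of_mem_same ℳ h1, decompose_of_mem_same ℳ x.2]
    · rw [decompose_of_mem_ne ℳ h1 h, decompose_of_mem_ne ℳ x.2 h, smul_zero]
  | add x y hx hy =>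
    rw [smul_add, decompose_add, DirectSum.add_apply, AddMemClass.coe_add, hx, hy, decompose_add,
      DirectSum.add_apply, AddMemClass.coe_add, smul_add]

/-- the `k`-linear projection onto the degree `n` component -/
noncomputable def projK (n : ℤ) : M →ₗ[k] M where
  toFun x := (decompose ℳ x n : M)
  map_add' x y := by rw [decompose_add, DirectSum.add_apply, AddMemClass.coe_add]
  map_smul' c x := decompose_smulK 𝒜 ℳ c x n

theorem projK_apply (n : ℤ) (x : M) : projK 𝒜 ℳ n x = (decompose ℳ x n : M) := rfl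

theorem projK_of_mem {n : ℤ} {x : M} (hx : x ∈ ℳ n) : projK 𝒜 ℳ n x = x :=
  decompose_of_mem_same ℳ hx

theorem projK_of_mem_ne {n j : ℤ} {x : M} (hx : x ∈ ℳ j) (h : j ≠ n) : projK 𝒜 ℳ n x = 0 :=
  decompose_of_mem_ne ℳ hx h

omit [DirectSum.Decomposition ℳ] [SetLike.GradedSMul 𝒜 ℳ] in
/-- additive maps agreeing on homogeneous elements agree -/
theorem ext_homog [DirectSum.Decomposition ℳ] {P : Type*} [AddCommGroup P] (f g : M →+ P)
    (h : ∀ (n : ℤ) (x : M), x ∈ ℳ n → f x = g x) : f = g := by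
  classical
  ext x
  induction x using DirectSum.Decomposition.inductionOn ℳ with
  | zero => simp
  | @homogeneous i x => exact h i x x.2
  | add x y hx hy => rw [map_add, map_add, hx, hy]

/-- functionals vanishing on all but finitely many pieces -/
def gdSub : Submodule k (M →ₗ[k] k) where
  carrier := {f | ∃ F : Finset ℤ, ∀ n, n ∉ F → ∀ x ∈ ℳ n, f x = 0}
  add_mem' := by
    classical
    rintro f g ⟨F, hF⟩ ⟨G, hG⟩
    refine ⟨F ∪ G, fun n hn x hx => ?_⟩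
    rw [LinearMap.add_apply, hF n (fun h => hn (Finset.mem_union_left _ h)) x hx,
      hG n (fun h => hn (Finset.mem_union_right _ h)) x hx, add_zero]
  zero_mem' := ⟨∅, fun _ _ _ _ => rfl⟩
  smul_mem' c f := by
    rintro ⟨F, hF⟩
    exact ⟨F, fun n hn x hx => by rw [LinearMap.smul_apply, hF n hn x hx, smul_zero]⟩

/-- the graded dual `M^*` -/
def GD {k : Type u} [Field k] {A : Type u} [CommRing A] [Algebra k A]
    (_𝒜 : ℤ → Submodule k A) {M : Type u} [AddCommGroup M] [Module k M]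
    (ℳ : ℤ → AddSubgroup M) : Type u := gdSub (k := k) ℳ

noncomputable instance : AddCommGroup (GD 𝒜 ℳ) :=
  inferInstanceAs (AddCommGroup (gdSub (k := k) ℳ))

noncomputable instance : Module k (GD 𝒜 ℳ) :=
  inferInstanceAs (Module k (gdSub (k := k) ℳ))

omit [GradedAlgebra 𝒜] [Module A M] [IsScalarTower k A M] [DirectSum.Decomposition ℳ]
  [SetLike.GradedSMul 𝒜 ℳ] in
/-- the underlying functional -/
def GD.fn (f : GD 𝒜 ℳ) : M →ₗ[k] k := f.1

omit [GradedAlgebra 𝒜] [Module A M] [IsScalarTower k A M] [DirectSum.Decomposition ℳ]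
  [SetLike.GradedSMul 𝒜 ℳ] in
theorem GD.ext {f g : GD 𝒜 ℳ} (h : ∀ x, f.fn 𝒜 ℳ x = g.fn 𝒜 ℳ x) : f = g :=
  Subtype.ext (LinearMap.ext h)

omit [GradedAlgebra 𝒜] [Module A M] [IsScalarTower k A M] [DirectSum.Decomposition ℳ]
  [SetLike.GradedSMul 𝒜 ℳ] in
@[simp] theorem GD.add_fn (f g : GD 𝒜 ℳ) (x : M) :
    (f + g).fn 𝒜 ℳ x = f.fn 𝒜 ℳ x + g.fn 𝒜 ℳ x := rfl

omit [GradedAlgebra 𝒜] [Module A M] [IsScalarTower k A M] [DirectSum.Decomposition ℳ]
  [SetLike.GradedSMul 𝒜 ℳ] in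
@[simp] theorem GD.zero_fn (x : M) : (0 : GD 𝒜 ℳ).fn 𝒜 ℳ x = 0 := rfl

omit [GradedAlgebra 𝒜] [Module A M] [IsScalarTower k A M] [DirectSum.Decomposition ℳ]
  [SetLike.GradedSMul 𝒜 ℳ] in
@[simp] theorem GD.smulK_fn (c : k) (f : GD 𝒜 ℳ) (x : M) :
    (c • f).fn 𝒜 ℳ x = c • f.fn 𝒜 ℳ x := rfl

omit [GradedAlgebra 𝒜] [Module A M] [IsScalarTower k A M] [DirectSum.Decomposition ℳ]
  [SetLike.GradedSMul 𝒜 ℳ] in
@[simp] theorem GD.neg_fn (f : GD 𝒜 ℳ) (x : M) : (-f).fn 𝒜 ℳ x = -f.fn 𝒜 ℳ x := rfl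

omit [GradedAlgebra 𝒜] [Module A M] [IsScalarTower k A M] [DirectSum.Decomposition ℳ]
  [SetLike.GradedSMul 𝒜 ℳ] in
@[simp] theorem GD.sub_fn (f g : GD 𝒜 ℳ) (x : M) :
    (f - g).fn 𝒜 ℳ x = f.fn 𝒜 ℳ x - g.fn 𝒜 ℳ x := rfl

include 𝒜 in
theorem comp_lsmul_mem (f : M →ₗ[k] k) (hf : f ∈ gdSub (k := k) ℳ) (r : A) :
    f.comp ((Algebra.lsmul k k M r : Module.End k M)) ∈ gdSub (k := k) ℳ := by
  classical
  obtain ⟨F, hF⟩ := hf
  refine ⟨Finset.image₂ (fun j i => j - i) F (decompose 𝒜 r).support, fun n hn x hx => ?_⟩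
  rw [LinearMap.comp_apply]
  show f (r • x) = 0
  rw [← DirectSum.sum_support_decompose 𝒜 r, Finset.sum_smul, map_sum]
  refine Finset.sum_eq_zero fun i hi => ?_
  have h1 : (decompose 𝒜 r i : A) • x ∈ ℳ (i + n) :=
    SetLike.GradedSMul.smul_mem (A := 𝒜) (B := ℳ) (SetLike.coe_mem _) hx
  apply hF (i + n) _ _ h1
  intro hin
  apply hn
  rw [Finset.mem_image₂]
  exact ⟨i + n, hin, i, hi, by ring⟩

noncomputable instance instSMulAGD : SMul A (GD 𝒜 ℳ) where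
  smul r f := ⟨(f.fn 𝒜 ℳ).comp ((Algebra.lsmul k k M r : Module.End k M)),
    comp_lsmul_mem 𝒜 ℳ (f.fn 𝒜 ℳ) f.2 r⟩

@[simp] theorem GD.smul_fn (r : A) (f : GD 𝒜 ℳ) (x : M) :
    (r • f).fn 𝒜 ℳ x = f.fn 𝒜 ℳ (r • x) := rfl

noncomputable instance instModuleAGD : Module A (GD 𝒜 ℳ) where
  one_smul f := GD.ext 𝒜 ℳ fun x => by rw [GD.smul_fn, one_smul]
  mul_smul r s f := GD.ext 𝒜 ℳ fun x => by
    rw [GD.smul_fn, GD.smul_fn, GD.smul_fn, ← mul_smul, mul_comm]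
  smul_zero r := GD.ext 𝒜 ℳ fun x => by rw [GD.smul_fn, GD.zero_fn, GD.zero_fn]
  smul_add r f g := GD.ext 𝒜 ℳ fun x => by
    rw [GD.smul_fn, GD.add_fn, GD.add_fn, GD.smul_fn, GD.smul_fn]
  add_smul r s f := GD.ext 𝒜 ℳ fun x => by
    rw [GD.smul_fn, GD.add_fn, GD.smul_fn, GD.smul_fn, add_smul, map_add]
  zero_smul f := GD.ext 𝒜 ℳ fun x => by rw [GD.smul_fn, zero_smul, map_zero, GD.zero_fn]

instance instIsScalarTowerGD : IsScalarTower k A (GD 𝒜 ℳ) where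
  smul_assoc c r f := GD.ext 𝒜 ℳ fun x => by
    rw [GD.smul_fn, GD.smulK_fn, GD.smul_fn, smul_assoc, map_smul]

/-- the pieces of the graded dual -/
def gdGr (n : ℤ) : AddSubgroup (GD 𝒜 ℳ) where
  carrier := {f | ∀ m, m ≠ -n → ∀ x ∈ ℳ m, f.fn 𝒜 ℳ x = 0}
  add_mem' := fun {f g} hf hg m hm x hx => by rw [GD.add_fn, hf m hm x hx, hg m hm x hx, add_zero]
  zero_mem' := fun _ _ _ _ => rfl
  neg_mem' := fun {f} hf m hm x hx => by rw [GD.neg_fn, hf m hm x hx, neg_zero]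

theorem mem_gdGr {n : ℤ} {f : GD 𝒜 ℳ} :
    f ∈ gdGr 𝒜 ℳ n ↔ ∀ m, m ≠ -n → ∀ x ∈ ℳ m, f.fn 𝒜 ℳ x = 0 := Iff.rfl

/-- the pairing -/
def gdPair : GD 𝒜 ℳ →ₗ[k] M →ₗ[k] k := (gdSub (k := k) ℳ).subtype

@[simp] theorem gdPair_apply (f : GD 𝒜 ℳ) (x : M) : gdPair 𝒜 ℳ f x = f.fn 𝒜 ℳ x := rfl

instance instGradedSMulGD : SetLike.GradedSMul 𝒜 (gdGr 𝒜 ℳ) where
  smul_mem := fun {i j r f} hr hf m hm x hx => by
    rw [GD.smul_fn]
    have h1 : r • x ∈ ℳ (i + m) := SetLike.GradedSMul.smul_mem (A := 𝒜) (B := ℳ) hr hx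
    apply hf (i + m) _ _ h1
    intro h
    apply hm
    rw [vadd_eq_add] at *
    omega

end

end Groth.Agent.Lib.Helper39.GrDualEx
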