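import Groth.Agent.Lib.Helper39.GrDualEx1

/-!
# Existence of graded duals: the decomposition and the universal property (helper39)
-/

set_option autoImplicit false
universe u

namespace Groth.Agent.Lib.Helper39.GrDualEx

open DirectSum GrSeg

section
variable {k : Type u} [Field k] {A : Type u} [CommRing A] [Algebra k A]
  (𝒜 : ℤ → Submodule k A) [GradedAlgebra 𝒜]
  {M : Type u} [AddCommGroup M] [Module A M] [Module k M] [IsScalarTower k A M]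
  (ℳ : ℤ → AddSubgroup M) [DirectSum.Decomposition ℳ] [SetLike.GradedSMul 𝒜 ℳ]

omit [GradedAlgebra 𝒜] [Module A M] [IsScalarTower k A M] [SetLike.GradedSMul 𝒜 ℳ] in
theorem GD.ext_homog {f g : GD 𝒜 ℳ}
    (h : ∀ (j : ℤ) (x : M), x ∈ ℳ j → f.fn 𝒜 ℳ x = g.fn 𝒜 ℳ x) : f = g := by
  have := Groth.Agent.Lib.Helper39.GrDualEx.ext_homog ℳ (f.fn 𝒜 ℳ).toAddMonoidHom (g.fn 𝒜 ℳ).toAddMonoidHom h
  exact GD.ext 𝒜 ℳ fun x => DFunLike.congr_fun this x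

/-- functional composed with a projection -/
noncomputable def gdOfProj (g : M →ₗ[k] k) (n : ℤ) : GD 𝒜 ℳ :=
  ⟨g.comp (projK 𝒜 ℳ (-n)), ⟨{-n}, fun m hm x hx => by
    rw [LinearMap.comp_apply, projK_of_mem_ne 𝒜 ℳ hx (by simpa using hm), map_zero]⟩⟩

theorem gdOfProj_fn (g : M →ₗ[k] k) (n : ℤ) (x : M) :
    (gdOfProj 𝒜 ℳ g n).fn 𝒜 ℳ x = g (projK 𝒜 ℳ (-n) x) := rfl

theorem gdOfProj_mem (g : M →ₗ[k] k) (n : ℤ) : gdOfProj 𝒜 ℳ g n ∈ gdGr 𝒜 ℳ n := by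
  intro m hm x hx
  rw [gdOfProj_fn, projK_of_mem_ne 𝒜 ℳ hx hm, map_zero]

/-- the component maps of the graded dual -/
noncomputable def gdProj (n : ℤ) : GD 𝒜 ℳ →+ GD 𝒜 ℳ where
  toFun f := gdOfProj 𝒜 ℳ (f.fn 𝒜 ℳ) n
  map_zero' := GD.ext 𝒜 ℳ fun x => rfl
  map_add' f g := GD.ext 𝒜 ℳ fun x => rfl

theorem gdProj_fn (n : ℤ) (f : GD 𝒜 ℳ) (x : M) :
    (gdProj 𝒜 ℳ n f).fn 𝒜 ℳ x = f.fn 𝒜 ℳ (projK 𝒜 ℳ (-n) x) := rfl

theorem gdProj_mem (n : ℤ) (f : GD 𝒜 ℳ) : gdProj 𝒜 ℳ n f ∈ gdGr 𝒜 ℳ n :=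
  gdOfProj_mem 𝒜 ℳ _ n

theorem gdProj_of_mem {n : ℤ} {f : GD 𝒜 ℳ} (hf : f ∈ gdGr 𝒜 ℳ n) : gdProj 𝒜 ℳ n f = f := by
  apply GD.ext_homog
  intro j x hx
  rw [gdProj_fn]
  by_cases h : j = -n
  · subst h
    rw [projK_of_mem 𝒜 ℳ hx]
  · rw [projK_of_mem_ne 𝒜 ℳ hx h, map_zero, hf j h x hx]

theorem gdProj_of_mem_ne {n m : ℤ} {f : GD 𝒜 ℳ} (hf : f ∈ gdGr 𝒜 ℳ n) (h : n ≠ m) :
    gdProj 𝒜 ℳ m f = 0 := by
  apply GD.ext_homog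
  intro j x hx
  rw [gdProj_fn, GD.zero_fn]
  by_cases h' : j = -m
  · subst h'
    rw [projK_of_mem 𝒜 ℳ hx]
    exact hf (-m) (fun h'' => h (by omega)) x hx
  · rw [projK_of_mem_ne 𝒜 ℳ hx h', map_zero]

theorem gdProj_coe (x : ⨁ n, gdGr 𝒜 ℳ n) (m : ℤ) :
    gdProj 𝒜 ℳ m (DirectSum.coeAddMonoidHom (gdGr 𝒜 ℳ) x) = (x m : GD 𝒜 ℳ) := by
  classical
  induction x using DirectSum.induction_on with
  | zero => simp
  | of n y =>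
    rw [DirectSum.coeAddMonoidHom_of]
    by_cases h : n = m
    · subst h
      rw [DirectSum.of_eq_same, gdProj_of_mem 𝒜 ℳ y.2]
    · rw [DirectSum.of_eq_of_ne _ _ _ (Ne.symm h), gdProj_of_mem_ne 𝒜 ℳ y.2 h]
      rfl
  | add x y hx hy =>
    rw [map_add, map_add, hx, hy, DirectSum.add_apply]
    rfl

theorem gd_sum_proj (f : GD 𝒜 ℳ) (F : Finset ℤ)
    (hF : ∀ n, n ∉ F → ∀ x ∈ ℳ n, f.fn 𝒜 ℳ x = 0) :
    ∑ j ∈ F, gdProj 𝒜 ℳ (-j) f = f := by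
  classical
  apply GD.ext_homog
  intro m x hx
  have h1 : (∑ j ∈ F, gdProj 𝒜 ℳ (-j) f).fn 𝒜 ℳ x =
      ∑ j ∈ F, (gdProj 𝒜 ℳ (-j) f).fn 𝒜 ℳ x := by
    show gdPair 𝒜 ℳ (∑ j ∈ F, gdProj 𝒜 ℳ (-j) f) x = ∑ j ∈ F, gdPair 𝒜 ℳ (gdProj 𝒜 ℳ (-j) f) x
    rw [map_sum, LinearMap.sum_apply]
  rw [h1]
  by_cases hm : m ∈ F
  · rw [Finset.sum_eq_single m]
    · rw [gdProj_fn, neg_neg, projK_of_mem 𝒜 ℳ hx]
    · intro j _ hj
      rw [gdProj_fn, neg_neg, projK_of_mem_ne 𝒜 ℳ hx (Ne.symm hj), map_zero]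
    · intro h
      exact absurd hm h
  · rw [hF m hm x hx]
    apply Finset.sum_eq_zero
    intro j hj
    have : m ≠ j := fun h => hm (h ▸ hj)
    rw [gdProj_fn, neg_neg, projK_of_mem_ne 𝒜 ℳ hx this, map_zero]

theorem gdGr_isInternal : DirectSum.IsInternal (gdGr 𝒜 ℳ) := by
  classical
  constructor
  · rw [injective_iff_map_eq_zero]
    intro x hx
    refine DFinsupp.ext fun m => Subtype.ext ?_
    rw [← gdProj_coe 𝒜 ℳ x m, hx, map_zero]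
    rfl
  · intro f
    obtain ⟨F, hF⟩ := f.2
    refine ⟨∑ j ∈ F, DirectSum.of (fun n => gdGr 𝒜 ℳ n) (-j)
      ⟨gdProj 𝒜 ℳ (-j) f, gdProj_mem 𝒜 ℳ (-j) f⟩, ?_⟩
    rw [map_sum]
    simp only [DirectSum.coeAddMonoidHom_of]
    exact gd_sum_proj 𝒜 ℳ f F hF

/-- the grading of the graded dual -/
@[instance_reducible]
noncomputable def gdDecomposition : DirectSum.Decomposition (gdGr 𝒜 ℳ) :=
  (gdGr_isInternal 𝒜 ℳ).chooseDecomposition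

/-- **the graded dual exists** -/
theorem isGDual_gd :
    letI := gdDecomposition 𝒜 ℳ
    IsGDual A ℳ (gdGr 𝒜 ℳ) (gdPair 𝒜 ℳ) := by
  letI := gdDecomposition 𝒜 ℳ
  refine ⟨fun r d x => rfl, fun n d hd m hm x hx => hd m hm x hx, fun n d hd h => ?_,
    fun n g => ⟨gdOfProj 𝒜 ℳ g n, gdOfProj_mem 𝒜 ℳ g n, fun x hx => ?_⟩⟩
  · apply GD.ext_homog
    intro j x hx
    rw [GD.zero_fn]
    by_cases hj : j = -n
    · subst hj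
      exact h x hx
    · exact hd j hj x hx
  · show g (projK 𝒜 ℳ (-n) x) = g x
    rw [projK_of_mem 𝒜 ℳ hx]

end

end Groth.Agent.Lib.Helper39.GrDualEx
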