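import Groth.Agent.Lib.Helper39.GrRegLE
import Groth.Agent.Lib.Helper39.GrFree
import Groth.Prelude.Def_GrSyz

/-!
# The Eisenbud–Goto theorem: regularity from a minimal free resolution equals regularity from
graded local cohomology (helper39)

General form over a standard graded Noetherian ring `R` which is `0`-regular as a module over
itself and of finite Krull dimension: for a minimal graded free resolution `F` of `M`,
`F.IsGenLE d ↔ RegLE a M d`.
-/

set_option autoImplicit false
universe u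

namespace Groth.Agent.Lib.Helper39.GrEG

open DirectSum GrLC Groth.Agent.Lib.Helper39 Groth.Agent.Lib.Helper39.GrLes
  Groth.Agent.Lib.Helper39.GrRegVanish Groth.Agent.Lib.Helper39.GrTop
  Groth.Agent.Lib.Helper39.GrKoszul Groth.Agent.Lib.Helper39.GrQuasi
  Groth.Agent.Lib.Helper39.GrReg Groth.Agent.Lib.Helper39.GrFree

variable {R : Type u} [CommRing R] [IsNoetherianRing R] {𝒜 : ℤ → AddSubgroup R} [GradedRing 𝒜]
  {a : HomogeneousIdeal 𝒜}
  {M : Type u} [AddCommGroup M] [Module R M] {ℳ : ℤ → AddSubgroup M} [DirectSum.Decomposition ℳ]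
  [SetLike.GradedSMul 𝒜 ℳ]

attribute [local instance] freeDecomposition freeGradedSMul

/-- the `i`-th syzygy module of a free resolution, presented as a graded quotient of `F_i` -/
structure SyzData (F : GrSyz.FreeRes 𝒜 ℳ) (i : ℕ) where
  Z : GMod.{u} 𝒜
  ψ : (Fin (F.rk i) → R) →ₗ[R] Z.carrier
  surj : Function.Surjective ψ
  grHom : IsGrHom (freePieces 𝒜 (F.deg i)) Z.gr ψ
  ker_eq : LinearMap.ker ψ = LinearMap.range (F.dLin i)

namespace SyzData

variable {F : GrSyz.FreeRes 𝒜 ℳ}

/-- the zeroth syzygy module is `M` -/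
noncomputable def zero (F : GrSyz.FreeRes 𝒜 ℳ) : SyzData F 0 where
  Z := GMod.of 𝒜 M ℳ
  ψ := F.augLin
  surj := F.aug_surjective
  grHom := isGrHom_linearCombination 𝒜 (F.deg 0) ℳ F.aug F.aug_mem
  ker_eq := F.exact_zero

theorem ker_homog {i : ℕ} (D : SyzData F i) :
    (LinearMap.ker D.ψ).IsHomogeneous (freePieces 𝒜 (F.deg i)) :=
  IsGrHom.ker_isHomogeneous (freePieces 𝒜 (F.deg i)) D.Z.gr D.grHom

/-- the next syzygy module -/
noncomputable def next {i : ℕ} (D : SyzData F i) : SyzData F (i + 1) where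
  Z := gsub (gfree 𝒜 (F.deg i)) (LinearMap.ker D.ψ) D.ker_homog
  ψ := (F.dLin i).codRestrict (LinearMap.ker D.ψ) (fun v => by
    rw [D.ker_eq]
    exact ⟨v, rfl⟩)
  surj := by
    rintro ⟨w, hw⟩
    rw [D.ker_eq] at hw
    obtain ⟨v, rfl⟩ := hw
    exact ⟨v, rfl⟩
  grHom := by
    intro j v hv
    exact isGrHom_mulVecLin 𝒜 (F.deg i) (F.deg (i + 1)) (F.d i) (F.d_mem i) j v hv
  ker_eq := by
    rw [LinearMap.ker_codRestrict]
    exact F.exact_succ i

theorem ses {i : ℕ} (D : SyzData F i) :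
    GrSES D.next.Z.gr (gfree 𝒜 (F.deg i)).gr D.Z.gr (LinearMap.ker D.ψ).subtype D.ψ :=
  { i_grHom := isGrHom_subtype (freePieces 𝒜 (F.deg i)) (LinearMap.ker D.ψ)
    p_grHom := D.grHom
    i_inj := Subtype.val_injective
    p_surj := D.surj
    exact := (Submodule.range_subtype _).symm }

end SyzData

/-- generation in degrees `≤ d + i` implies `d`-regularity -/
theorem hvan_of_isGenLE (hR : RegLE a (GMod.of 𝒜 R 𝒜) 0) {c : ℕ} (hc : ringKrullDim R ≤ c)
    (F : GrSyz.FreeRes 𝒜 ℳ) (d : ℤ) (hgen : F.IsGenLE d) :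
    ∀ (t j : ℕ), c < j + t → ∀ (i : ℕ) (D : SyzData F i) (n : ℤ), d + i - j < n →
      HVan a D.Z j n := by
  intro t
  induction t with
  | zero =>
    intro j hj i D n _ G
    haveI := H_subsingleton_of_dim a hc G j (by omega)
    rw [eq_bot_iff]
    intro y _
    rw [Submodule.mem_bot]
    exact Subsingleton.elim _ _
  | succ t ih =>
    intro j hj i D n hn
    refine HVan.right D.ses ?_ ?_
    · refine HVan.free (F.deg i) (fun b => hR j _ ?_)
      have := hgen i b
      omega
    · exact ih (j + 1) (by omega) (i + 1) D.next n (by push_cast; omega)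

/-- one step of the converse: a `(d+i)`-regular `i`-th syzygy module forces `F_i` to be generated in
degrees `≤ d + i`, and the next syzygy module to be `(d+i+1)`-regular -/
theorem step_of_regLE (hstd : a.toIdeal = Ideal.span ((𝒜 1 : AddSubgroup R) : Set R))
    (h1 : (1 : R) ∉ a.toIdeal) (hR : RegLE a (GMod.of 𝒜 R 𝒜) 0)
    (F : GrSyz.FreeRes 𝒜 ℳ) (hF : F.IsMinimal a.toIdeal) (d : ℤ) (i : ℕ) (D : SyzData F i)
    (hD : RegLE a D.Z (d + i)) :
    (∀ b, F.deg i b ≤ d + i) ∧ RegLE a D.next.Z (d + ((i + 1 : ℕ) : ℤ)) := by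
  classical
  have hdeg : ∀ b, F.deg i b ≤ d + i := by
    by_contra hcon
    push Not at hcon
    obtain ⟨b, hb⟩ := hcon
    -- the basis vector
    have hv : (Pi.single b (1 : R) : Fin (F.rk i) → R) ∈ freePieces 𝒜 (F.deg i) (F.deg i b) :=
      single_mem_freePieces 𝒜 (F.deg i) b (zero_add _) SetLike.GradedOne.one_mem
    have hψv : D.ψ (Pi.single b (1 : R)) ∈ D.Z.gr (F.deg i b) := D.grHom _ _ hv
    have hmem := piece_le_smul_top a hstd D.Z (F.deg i b)
      (fun j => hD j _ (by omega)) _ hψv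
    have htop : (⊤ : Submodule R D.Z.carrier) = Submodule.map D.ψ ⊤ := by
      rw [Submodule.map_top, LinearMap.range_eq_top.mpr D.surj]
    rw [htop, ← Submodule.map_smul''] at hmem
    obtain ⟨w, hw, hwv⟩ := hmem
    -- vectors with all coordinates in `a`
    let P : Submodule R (Fin (F.rk i) → R) := Submodule.pi Set.univ (fun _ => a.toIdeal)
    have hwP : w ∈ P := by
      have hle : a.toIdeal • (⊤ : Submodule R (Fin (F.rk i) → R)) ≤ P := by
        rw [Submodule.smul_le]
        intro r hr u _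
        rw [Submodule.mem_pi]
        intro c _
        exact Ideal.mul_mem_right _ _ hr
      exact hle hw
    have hker : (Pi.single b (1 : R) : Fin (F.rk i) → R) - w ∈ LinearMap.ker D.ψ := by
      rw [LinearMap.mem_ker, map_sub, hwv, sub_self]
    rw [D.ker_eq] at hker
    obtain ⟨u, hu⟩ := hker
    have huP : (Pi.single b (1 : R) : Fin (F.rk i) → R) - w ∈ P := by
      rw [← hu, Submodule.mem_pi]
      intro c _
      show (Matrix.mulVecLin (F.d i) u) c ∈ a.toIdeal
      rw [Matrix.mulVecLin_apply]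
      show ∑ b', F.d i c b' * u b' ∈ a.toIdeal
      exact sum_mem fun b' _ => Ideal.mul_mem_right _ _ (hF i c b')
    have hvP : (Pi.single b (1 : R) : Fin (F.rk i) → R) ∈ P := by
      have := P.add_mem huP hwP
      rwa [sub_add_cancel] at this
    rw [Submodule.mem_pi] at hvP
    have := hvP b (Set.mem_univ _)
    rw [Pi.single_eq_same] at this
    exact h1 this
  refine ⟨hdeg, ?_⟩
  intro j n hn
  refine HVan.left D.ses ?_ ?_
  · refine HVan.free (F.deg i) (fun b => hR j _ ?_)
    have := hdeg b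
    push_cast at hn
    omega
  · intro j' hj'
    refine hD j' n ?_
    subst hj'
    push_cast at hn ⊢
    omega

/-- `d`-regularity implies generation in degrees `≤ d + i` for a minimal resolution -/
theorem isGenLE_of_regLE (hstd : a.toIdeal = Ideal.span ((𝒜 1 : AddSubgroup R) : Set R))
    (h1 : (1 : R) ∉ a.toIdeal) (hR : RegLE a (GMod.of 𝒜 R 𝒜) 0)
    (F : GrSyz.FreeRes 𝒜 ℳ) (hF : F.IsMinimal a.toIdeal) (d : ℤ)
    (hM : RegLE a (GMod.of 𝒜 M ℳ) d) : F.IsGenLE d := by
  have key : ∀ i : ℕ, ∃ D : SyzData F i, RegLE a D.Z (d + i) := by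
    intro i
    induction i with
    | zero =>
      refine ⟨SyzData.zero F, ?_⟩
      have e : d + ((0 : ℕ) : ℤ) = d := by simp
      rw [e]
      exact hM
    | succ i ih =>
      obtain ⟨D, hD⟩ := ih
      exact ⟨D.next, (step_of_regLE hstd h1 hR F hF d i D hD).2⟩
  intro i b
  obtain ⟨D, hD⟩ := key i
  exact (step_of_regLE hstd h1 hR F hF d i D hD).1 b

/-- **Eisenbud–Goto.** -/
theorem isGenLE_iff_regLE (hstd : a.toIdeal = Ideal.span ((𝒜 1 : AddSubgroup R) : Set R))
    (h1 : (1 : R) ∉ a.toIdeal) (hR : RegLE a (GMod.of 𝒜 R 𝒜) 0) {c : ℕ}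
    (hc : ringKrullDim R ≤ c)
    (F : GrSyz.FreeRes 𝒜 ℳ) (hF : F.IsMinimal a.toIdeal) (d : ℤ) :
    F.IsGenLE d ↔ RegLE a (GMod.of 𝒜 M ℳ) d := by
  constructor
  · intro hgen j n hn
    exact hvan_of_isGenLE hR hc F d hgen (c + 1) j (by omega) 0 (SyzData.zero F) n
      (by simpa using hn)
  · exact isGenLE_of_regLE hstd h1 hR F hF d

end Groth.Agent.Lib.Helper39.GrEG
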