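import Mathlib.RingTheory.MvPolynomial.Ideal
import Mathlib.RingTheory.KrullDimension.Polynomial
import Groth.Agent.Lib.Helper39.GrEG
import Groth.Agent.Lib.Helper39.GrBridge
import Groth.Agent.Lib.Helper66.StdGr
import Groth.Agent.Lib.Helper66.RegSup
import Groth.Agent.Lib.Helper66.MinResB
import Groth.Agent.Lib.Helper82.PolyDepth

/-!
# Eisenbud–Goto over the polynomial ring `k[x_0..x_r]` (helper39)
-/

set_option autoImplicit false
universe u

namespace Groth.Agent.Lib.Helper39.GrEGPoly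

open DirectSum GrLC Groth.Agent.Lib.Helper39 Groth.Agent.Lib.Helper39.GrLes
  Groth.Agent.Lib.Helper39.GrRegVanish Groth.Agent.Lib.Helper39.GrTop
  Groth.Agent.Lib.Helper39.GrKoszul Groth.Agent.Lib.Helper39.GrQuasi
  Groth.Agent.Lib.Helper39.GrReg Groth.Agent.Lib.Helper39.GrFree
  Groth.Agent.Lib.Helper39.GrBridge Groth.Agent.Lib.Helper39.GrEG

variable (k : Type u) [Field k] (r : ℕ)

attribute [local instance] toSubGradedRing toSubDecomposition toSubGradedSMul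

/-- positivity of the standard grading -/
theorem hpos : ∀ n : ℤ, n < 0 → toSub (GrSyz.stdGr k (Fin (r + 1))) n = ⊥ := by
  intro n hn
  rw [eq_bot_iff]
  intro p hp
  have hp' : p.IsWeightedHomogeneous (fun _ : Fin (r + 1) => (1 : ℤ)) n := hp
  rw [AddSubgroup.mem_bot]
  by_contra hne
  obtain ⟨e, he⟩ := MvPolynomial.ne_zero_iff.mp hne
  have hw := hp' he
  have hnn : (0 : ℤ) ≤ Finsupp.weight (fun _ : Fin (r + 1) => (1 : ℤ)) e := by
    rw [Finsupp.weight_apply]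
    apply Finsupp.sum_nonneg
    intro j _
    positivity
  omega

theorem ha : (convIdeal (GrSyz.irrel (GrSyz.stdGr k (Fin (r + 1))))).toIdeal =
    Ideal.span (⋃ n ∈ Set.Ioi (0 : ℤ), (toSub (GrSyz.stdGr k (Fin (r + 1))) n : Set _)) := by
  show Ideal.span _ = _
  congr 1
  ext p
  simp only [Set.mem_setOf_eq, Set.mem_iUnion, Set.mem_Ioi, SetLike.mem_coe, exists_prop]
  exact Iff.rfl

theorem hstd : (convIdeal (GrSyz.irrel (GrSyz.stdGr k (Fin (r + 1))))).toIdeal =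
    Ideal.span ((toSub (GrSyz.stdGr k (Fin (r + 1))) 1 : AddSubgroup _) : Set _) := by
  apply le_antisymm
  · intro p hp
    have h0 := Groth.Agent.Lib.Helper66.constantCoeff_eq_zero_of_mem_irrel k (Fin (r + 1)) p hp
    have hle : Ideal.span (MvPolynomial.X '' (Set.univ : Set (Fin (r + 1)))) ≤
        Ideal.span ((toSub (GrSyz.stdGr k (Fin (r + 1))) 1 : AddSubgroup _) :
          Set (MvPolynomial (Fin (r + 1)) k)) := by
      apply Ideal.span_mono
      rintro _ ⟨j, -, rfl⟩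
      exact MvPolynomial.isWeightedHomogeneous_X k (fun _ => (1 : ℤ)) j
    apply hle
    rw [MvPolynomial.mem_ideal_span_X_image]
    intro m hm
    have hm0 : m ≠ 0 := by
      rintro rfl
      rw [MvPolynomial.mem_support_iff, ← MvPolynomial.constantCoeff_eq] at hm
      exact hm h0
    obtain ⟨j, hj⟩ : ∃ j, m j ≠ 0 := by
      by_contra hcon
      push Not at hcon
      exact hm0 (Finsupp.ext hcon)
    exact ⟨j, Set.mem_univ _, hj⟩
  · show _ ≤ Ideal.span _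
    apply Ideal.span_mono
    intro p hp
    exact ⟨1, one_pos, hp⟩

theorem h1 : (1 : MvPolynomial (Fin (r + 1)) k) ∉
    (convIdeal (GrSyz.irrel (GrSyz.stdGr k (Fin (r + 1))))).toIdeal :=
  Groth.Agent.Lib.Helper66.one_notMem_irrel k (Fin (r + 1))

theorem hc : ringKrullDim (MvPolynomial (Fin (r + 1)) k) ≤ ((r + 1 : ℕ) : WithBot ℕ∞) := by
  rw [MvPolynomial.ringKrullDim_of_isNoetherianRing, ringKrullDim_eq_zero_of_field]
  simp

theorem varList_mem (n j : ℕ) : ∀ x ∈ Groth.Agent.Lib.Helper82.PolyDepth.varList k n j,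
    x ∈ GrSyz.stdGr k (Fin n) 1 := by
  induction j with
  | zero =>
    intro x hx
    simp [Groth.Agent.Lib.Helper82.PolyDepth.varList] at hx
  | succ j ih =>
    intro x hx
    rw [Groth.Agent.Lib.Helper82.PolyDepth.varList, List.mem_append, List.mem_singleton] at hx
    rcases hx with hx | rfl
    · exact ih x hx
    · split_ifs with h
      · exact MvPolynomial.isWeightedHomogeneous_X k (fun _ => (1 : ℤ)) _
      · exact zero_mem _

section Aux
variable {R : Type u} [CommRing R] {M : Type u} [AddCommGroup M] [Module R M]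

theorem quot_piece_bot (ℳ : ℤ → AddSubgroup M) (P : Submodule R M) (n : ℤ)
    (h : ∀ m ∈ ℳ n, m ∈ P) : quotPieces ℳ P n = ⊥ := by
  rw [eq_bot_iff]
  rintro _ ⟨m, hm, rfl⟩
  rw [AddSubgroup.mem_bot]
  show Submodule.Quotient.mk m = 0
  rw [Submodule.Quotient.mk_eq_zero]
  exact h m hm

theorem quot_torsion (P : Submodule R M) (a : Ideal R) (h : ∀ s ∈ a, ∀ m : M, s • m ∈ P) :
    ∀ y : M ⧸ P, ∃ k : ℕ, ∀ s ∈ a ^ k, s • y = 0 := by
  intro y
  refine ⟨1, fun s hs => ?_⟩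
  obtain ⟨m, rfl⟩ := Submodule.Quotient.mk_surjective _ y
  rw [pow_one] at hs
  rw [← Submodule.Quotient.mk_smul, Submodule.Quotient.mk_eq_zero]
  exact h s hs m

end Aux

/-- the polynomial ring is `0`-regular -/
theorem hR : RegLE (convIdeal (GrSyz.irrel (GrSyz.stdGr k (Fin (r + 1)))))
    (GMod.of (toSub (GrSyz.stdGr k (Fin (r + 1)))) (MvPolynomial (Fin (r + 1)) k)
      (toSub (GrSyz.stdGr k (Fin (r + 1))))) 0 := by
  classical
  open Groth.Agent.Lib.Helper82.PolyDepth Groth.Agent.Lib.Helper66.PdVars in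
  have hof : Ideal.ofList (varList k (r + 1) (r + 1)) =
      (GrSyz.irrel (GrSyz.stdGr k (Fin (r + 1)))).toIdeal := by
    rw [ofList_varList _ _ _ le_rfl, I_top_eq_irrel]
  have hP : (Ideal.ofList (Groth.Agent.Lib.Helper82.PolyDepth.varList k (r + 1) (r + 1)) •
      (⊤ : Submodule (MvPolynomial (Fin (r + 1)) k) (MvPolynomial (Fin (r + 1)) k))) =
      (GrSyz.irrel (GrSyz.stdGr k (Fin (r + 1)))).toIdeal := by
    rw [smul_eq_mul, Ideal.mul_top, hof]
  have hPh : (Ideal.ofList (Groth.Agent.Lib.Helper82.PolyDepth.varList k (r + 1) (r + 1)) •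
      (⊤ : Submodule (MvPolynomial (Fin (r + 1)) k) (MvPolynomial (Fin (r + 1)) k))).IsHomogeneous
      (toSub (GrSyz.stdGr k (Fin (r + 1)))) := by
    rw [hP]
    exact (convIdeal (GrSyz.irrel (GrSyz.stdGr k (Fin (r + 1))))).isHomogeneous
  haveI : Module.Finite (MvPolynomial (Fin (r + 1)) k)
      (GMod.of (toSub (GrSyz.stdGr k (Fin (r + 1)))) (MvPolynomial (Fin (r + 1)) k)
        (toSub (GrSyz.stdGr k (Fin (r + 1))))).carrier :=
    inferInstanceAs (Module.Finite (MvPolynomial (Fin (r + 1)) k) (MvPolynomial (Fin (r + 1)) k))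
  have key := regLE_regseq_iff (hpos k r) (ha k r) (hstd k r)
    (Groth.Agent.Lib.Helper82.PolyDepth.varList k (r + 1) (r + 1))
    (fun x hx => varList_mem k (r + 1) (r + 1) x hx)
    (GMod.of (toSub (GrSyz.stdGr k (Fin (r + 1)))) (MvPolynomial (Fin (r + 1)) k)
      (toSub (GrSyz.stdGr k (Fin (r + 1)))))
    (gquot (GMod.of (toSub (GrSyz.stdGr k (Fin (r + 1)))) (MvPolynomial (Fin (r + 1)) k)
      (toSub (GrSyz.stdGr k (Fin (r + 1))))) _ hPh)
    (Submodule.mkQ _) (Submodule.mkQ_surjective _) (isGrHom_mkQ _ _) (Submodule.ker_mkQ _)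
    (Groth.Agent.Lib.Helper82.PolyDepth.varList_isWeaklyRegular k (r + 1) (r + 1) le_rfl) 0
  rw [key, regLE_of_torsion]
  · -- pieces of positive degree vanish
    intro n hn
    refine quot_piece_bot (toSub (GrSyz.stdGr k (Fin (r + 1)))) _ n (fun m hm => ?_)
    rw [hP]
    exact Ideal.subset_span ⟨n, hn, hm⟩
  · -- the quotient is torsion
    refine quot_torsion _ _ (fun s hs m => ?_)
    have hsm : s * (show MvPolynomial (Fin (r + 1)) k from m) ∈
        (GrSyz.irrel (GrSyz.stdGr k (Fin (r + 1)))).toIdeal := Ideal.mul_mem_right _ _ hs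
    rw [← hP] at hsm
    exact hsm

section Order

/-- two extended integers with the same integer upper bounds are equal -/
theorem eq_of_forall_le_iff {x y : WithBot (WithTop ℤ)}
    (h : ∀ t : ℤ, x ≤ ((t : WithTop ℤ) : WithBot (WithTop ℤ)) ↔
      y ≤ ((t : WithTop ℤ) : WithBot (WithTop ℤ))) : x = y := by
  rw [← Groth.Agent.Lib.Helper66.BettiUniq.iInf_int_of_le x,
    ← Groth.Agent.Lib.Helper66.BettiUniq.iInf_int_of_le y]
  simp only [h]

theorem add_coe_le_iff (x : WithBot (WithTop ℤ)) (i d : ℤ) :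
    x + ((i : WithTop ℤ) : WithBot (WithTop ℤ)) ≤ ((d : WithTop ℤ) : WithBot (WithTop ℤ)) ↔
      x ≤ (((d - i : ℤ) : WithTop ℤ) : WithBot (WithTop ℤ)) := by
  induction x using WithBot.recBotCoe with
  | bot => simp
  | coe y =>
    induction y using WithTop.recTopCoe with
    | top =>
      rw [← WithBot.coe_add, WithTop.top_add, WithBot.coe_le_coe, WithBot.coe_le_coe]
      simp
    | coe m =>
      rw [← WithBot.coe_add, ← WithTop.coe_add, WithBot.coe_le_coe, WithBot.coe_le_coe,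
        WithTop.coe_le_coe, WithTop.coe_le_coe]
      omega

theorem endDeg_add_le_iff {H : Type u} [AddCommGroup H] (𝒢 : ℤ → AddSubgroup H) (i : ℕ) (d : ℤ) :
    GrLC.endDeg 𝒢 + (((i : ℤ) : WithTop ℤ) : WithBot (WithTop ℤ)) ≤
        ((d : WithTop ℤ) : WithBot (WithTop ℤ)) ↔ ∀ n : ℤ, d - i < n → 𝒢 n = ⊥ := by
  rw [add_coe_le_iff, endDeg_le_iff]

end Order

section Main
variable {k r}
variable {M : Type u} [AddCommGroup M] [Module k M] [Module (MvPolynomial (Fin (r + 1)) k) M]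
  [IsScalarTower k (MvPolynomial (Fin (r + 1)) k) M]
  (ℳ : ℤ → Submodule k M) [DirectSum.Decomposition ℳ]
  [SetLike.GradedSMul (GrSyz.stdGr k (Fin (r + 1))) ℳ]

/-- conversion of a free resolution to the additive-subgroup grading -/
def convFreeRes (F : GrSyz.FreeRes (GrSyz.stdGr k (Fin (r + 1))) ℳ) :
    GrSyz.FreeRes (toSub (GrSyz.stdGr k (Fin (r + 1)))) (toSub ℳ) where
  rk := F.rk
  deg := F.deg
  d := F.d
  aug := F.aug
  d_mem := F.d_mem
  aug_mem := F.aug_mem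
  aug_surjective := F.aug_surjective
  exact_zero := F.exact_zero
  exact_succ := F.exact_succ

/-- **Eisenbud–Goto over the polynomial ring.** -/
theorem isGenLE_iff_regLE (F : GrSyz.FreeRes (GrSyz.stdGr k (Fin (r + 1))) ℳ)
    (hF : F.IsMinimal (GrSyz.irrel (GrSyz.stdGr k (Fin (r + 1)))).toIdeal) (d : ℤ) :
    F.IsGenLE d ↔ RegLE (convIdeal (GrSyz.irrel (GrSyz.stdGr k (Fin (r + 1)))))
      (GMod.of (toSub (GrSyz.stdGr k (Fin (r + 1)))) M (toSub ℳ)) d :=
  GrEG.isGenLE_iff_regLE (hstd k r) (h1 k r) (hR k r) (hc k r) (convFreeRes ℳ F) hF d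

theorem Hgr_eq_bot_iff (E : GrLC.StarInjRes (GrSyz.stdGr k (Fin (r + 1))) ℳ)
    (a : HomogeneousIdeal (GrSyz.stdGr k (Fin (r + 1)))) (j : ℕ) (n : ℤ) :
    E.Hgr a j n = ⊥ ↔ E.Hcomp a j n = ⊥ := by
  constructor
  · intro h
    rw [eq_bot_iff]
    intro y hy
    have hy' : y ∈ E.Hgr a j n := hy
    rw [h] at hy'
    exact hy'
  · intro h
    rw [eq_bot_iff]
    intro y hy
    have hy' : y ∈ E.Hcomp a j n := hy
    rw [h] at hy'
    exact hy'

theorem hvan_iff_gen (E' : GrLC.StarInjRes (toSub (GrSyz.stdGr k (Fin (r + 1)))) (toSub ℳ))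
    (j : ℕ) (n : ℤ) :
    HVan (convIdeal (GrSyz.irrel (GrSyz.stdGr k (Fin (r + 1)))))
      (GMod.of (toSub (GrSyz.stdGr k (Fin (r + 1)))) M (toSub ℳ)) j n ↔
      E'.Hcomp (convIdeal (GrSyz.irrel (GrSyz.stdGr k (Fin (r + 1))))) j n = ⊥ :=
  hvan_iff (X := GMod.of (toSub (GrSyz.stdGr k (Fin (r + 1)))) M (toSub ℳ)) E'

theorem hvan_iff_conv (E : GrLC.StarInjRes (GrSyz.stdGr k (Fin (r + 1))) ℳ) (j : ℕ) (n : ℤ) :
    HVan (convIdeal (GrSyz.irrel (GrSyz.stdGr k (Fin (r + 1)))))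
      (GMod.of (toSub (GrSyz.stdGr k (Fin (r + 1)))) M (toSub ℳ)) j n ↔
      (convRes E).Hcomp (convIdeal (GrSyz.irrel (GrSyz.stdGr k (Fin (r + 1))))) j n = ⊥ :=
  hvan_iff_gen ℳ (convRes E) j n

theorem hvan_iff_hcomp (E : GrLC.StarInjRes (GrSyz.stdGr k (Fin (r + 1))) ℳ) (j : ℕ) (n : ℤ) :
    HVan (convIdeal (GrSyz.irrel (GrSyz.stdGr k (Fin (r + 1)))))
      (GMod.of (toSub (GrSyz.stdGr k (Fin (r + 1)))) M (toSub ℳ)) j n ↔
      E.Hcomp (GrSyz.irrel (GrSyz.stdGr k (Fin (r + 1)))) j n = ⊥ := by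
  rw [← convRes_Hcomp_eq_bot_iff]
  exact hvan_iff_conv ℳ E j n

theorem regLE_iff_hcomp (E : GrLC.StarInjRes (GrSyz.stdGr k (Fin (r + 1))) ℳ) (d : ℤ) :
    RegLE (convIdeal (GrSyz.irrel (GrSyz.stdGr k (Fin (r + 1)))))
      (GMod.of (toSub (GrSyz.stdGr k (Fin (r + 1)))) M (toSub ℳ)) d ↔
      ∀ (j : ℕ) (n : ℤ), d - j < n → E.Hcomp (GrSyz.irrel (GrSyz.stdGr k (Fin (r + 1)))) j n = ⊥ :=
  forall_congr' fun j => forall_congr' fun n => imp_congr_right fun _ => hvan_iff_hcomp ℳ E j n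

theorem regLE_iff_endDeg (E : GrLC.StarInjRes (GrSyz.stdGr k (Fin (r + 1))) ℳ) (d : ℤ) :
    RegLE (convIdeal (GrSyz.irrel (GrSyz.stdGr k (Fin (r + 1)))))
      (GMod.of (toSub (GrSyz.stdGr k (Fin (r + 1)))) M (toSub ℳ)) d ↔
      ∀ i : ℕ, GrLC.endDeg (E.Hgr (GrSyz.irrel (GrSyz.stdGr k (Fin (r + 1)))) i) +
        (((i : ℤ) : WithTop ℤ) : WithBot (WithTop ℤ)) ≤ ((d : WithTop ℤ) : WithBot (WithTop ℤ)) := by
  rw [regLE_iff_hcomp ℳ E]
  refine forall_congr' fun j => ?_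
  rw [endDeg_add_le_iff]
  refine forall_congr' fun n => imp_congr_right fun _ => ?_
  exact (Hgr_eq_bot_iff ℳ E _ j n).symm

theorem regLE_iff_weak_gen (E' : GrLC.StarInjRes (toSub (GrSyz.stdGr k (Fin (r + 1)))) (toSub ℳ))
    (d : ℤ) :
    RegLE (convIdeal (GrSyz.irrel (GrSyz.stdGr k (Fin (r + 1)))))
      (GMod.of (toSub (GrSyz.stdGr k (Fin (r + 1)))) M (toSub ℳ)) d ↔
      ((∀ n : ℤ, d < n → E'.Hcomp
          (convIdeal (GrSyz.irrel (GrSyz.stdGr k (Fin (r + 1))))) 0 n = ⊥) ∧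
        ∀ i : ℕ, 0 < i → E'.Hcomp
          (convIdeal (GrSyz.irrel (GrSyz.stdGr k (Fin (r + 1))))) i (d - (i : ℤ) + 1) = ⊥) :=
  regLE_iff_weak (hstd k r) (GMod.of (toSub (GrSyz.stdGr k (Fin (r + 1)))) M (toSub ℳ)) E' d

theorem regLE_iff_weak_conv (E : GrLC.StarInjRes (GrSyz.stdGr k (Fin (r + 1))) ℳ) (d : ℤ) :
    RegLE (convIdeal (GrSyz.irrel (GrSyz.stdGr k (Fin (r + 1)))))
      (GMod.of (toSub (GrSyz.stdGr k (Fin (r + 1)))) M (toSub ℳ)) d ↔
      ((∀ n : ℤ, d < n → (convRes E).Hcomp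
          (convIdeal (GrSyz.irrel (GrSyz.stdGr k (Fin (r + 1))))) 0 n = ⊥) ∧
        ∀ i : ℕ, 0 < i → (convRes E).Hcomp
          (convIdeal (GrSyz.irrel (GrSyz.stdGr k (Fin (r + 1))))) i (d - (i : ℤ) + 1) = ⊥) :=
  regLE_iff_weak_gen ℳ (convRes E) d

theorem regLE_iff_weak' (E : GrLC.StarInjRes (GrSyz.stdGr k (Fin (r + 1))) ℳ) (d : ℤ) :
    RegLE (convIdeal (GrSyz.irrel (GrSyz.stdGr k (Fin (r + 1)))))
      (GMod.of (toSub (GrSyz.stdGr k (Fin (r + 1)))) M (toSub ℳ)) d ↔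
      (GrLC.endDeg (E.Hgr (GrSyz.irrel (GrSyz.stdGr k (Fin (r + 1)))) 0) ≤
          ((d : WithTop ℤ) : WithBot (WithTop ℤ)) ∧
        ∀ i : ℕ, 0 < i →
          E.Hcomp (GrSyz.irrel (GrSyz.stdGr k (Fin (r + 1)))) i (d - (i : ℤ) + 1) = ⊥) := by
  rw [regLE_iff_weak_conv ℳ E d, endDeg_le_iff]
  refine and_congr ?_ ?_
  · refine forall_congr' fun n => imp_congr_right fun _ => ?_
    rw [convRes_Hcomp_eq_bot_iff]
    exact (Hgr_eq_bot_iff ℳ E _ 0 n).symm
  · exact forall_congr' fun i => imp_congr_right fun _ => convRes_Hcomp_eq_bot_iff E _ i _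

/-- the syzygy-theoretic regularity is at most `t` iff `M` is `t`-regular for local cohomology -/
theorem reg_le_iff [Module.Finite (MvPolynomial (Fin (r + 1)) k) M] (t : ℤ) :
    GrSyz.reg (GrSyz.stdGr k (Fin (r + 1))) ℳ (GrSyz.irrel (GrSyz.stdGr k (Fin (r + 1)))).toIdeal ≤
        ((t : WithTop ℤ) : WithBot (WithTop ℤ)) ↔
      RegLE (convIdeal (GrSyz.irrel (GrSyz.stdGr k (Fin (r + 1)))))
        (GMod.of (toSub (GrSyz.stdGr k (Fin (r + 1)))) M (toSub ℳ)) t := by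
  obtain ⟨F, hF⟩ := Groth.Agent.Lib.Helper66.MinRes.exists_freeRes_isMinimal (k := k) (r := r) ℳ
  rw [Groth.Agent.Lib.Helper66.BettiUniq.reg_eq ℳ F hF, iSup_le_iff, ← isGenLE_iff_regLE ℳ F hF]
  constructor
  · intro h i b
    exact (Groth.Agent.Lib.Helper66.BettiUniq.gen_le_iff ℳ F i t).mp (h i) b
  · intro h i
    exact (Groth.Agent.Lib.Helper66.BettiUniq.gen_le_iff ℳ F i t).mpr (h i)

end Main

end Groth.Agent.Lib.Helper39.GrEGPoly
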