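import Groth.Agent.Lib.Helper39.GrEGPoly

/-!
# Regularity in short exact sequences (helper39)
-/

set_option autoImplicit false
universe u

namespace Groth.Agent.Lib.Helper39.GrReg

open DirectSum GrLC Groth.Agent.Lib.Helper39 Groth.Agent.Lib.Helper39.GrLes
  Groth.Agent.Lib.Helper39.GrKoszul

variable {R : Type u} [CommRing R] [IsNoetherianRing R] {𝒜 : ℤ → AddSubgroup R} [GradedRing 𝒜]
  {a : HomogeneousIdeal 𝒜}
  {X' X X'' : GMod.{u} 𝒜} {i : X'.carrier →ₗ[R] X.carrier} {p : X.carrier →ₗ[R] X''.carrier}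

theorem RegLE.of_ses_left (S : GrSES X'.gr X.gr X''.gr i p) {r : ℤ} (h : RegLE a X r)
    (h'' : RegLE a X'' (r - 1)) : RegLE a X' r := by
  intro j n hn
  refine HVan.left S (h j n hn) (fun j' hj' => h'' j' n ?_)
  subst hj'
  push_cast at hn
  omega

theorem RegLE.of_ses_mid (S : GrSES X'.gr X.gr X''.gr i p) {r : ℤ} (h' : RegLE a X' r)
    (h'' : RegLE a X'' r) : RegLE a X r :=
  fun j n hn => HVan.mid S (h' j n hn) (h'' j n hn)

theorem RegLE.of_ses_right (S : GrSES X'.gr X.gr X''.gr i p) {r : ℤ} (h' : RegLE a X' (r + 1))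
    (h : RegLE a X r) : RegLE a X'' r := by
  intro j n hn
  refine HVan.right S (h j n hn) (h' (j + 1) n ?_)
  push_cast
  omega

end Groth.Agent.Lib.Helper39.GrReg

namespace Groth.Agent.Lib.Helper39.GrEGPoly

open DirectSum GrLC Groth.Agent.Lib.Helper39 Groth.Agent.Lib.Helper39.GrReg
  Groth.Agent.Lib.Helper39.GrBridge

attribute [local instance] toSubGradedRing toSubDecomposition toSubGradedSMul

variable {k : Type u} [Field k] {r : ℕ}
  {M : Type u} [AddCommGroup M] [Module k M] [Module (MvPolynomial (Fin (r + 1)) k) M]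
  [IsScalarTower k (MvPolynomial (Fin (r + 1)) k) M]
  (ℳ : ℤ → Submodule k M) [DirectSum.Decomposition ℳ]
  [SetLike.GradedSMul (GrSyz.stdGr k (Fin (r + 1))) ℳ]

/-- `IsRegLE` is local-cohomology regularity -/
theorem isRegLE_iff_regLE [Module.Finite (MvPolynomial (Fin (r + 1)) k) M] (t : ℤ) :
    GrSyz.IsRegLE (GrSyz.stdGr k (Fin (r + 1))) ℳ
        (GrSyz.irrel (GrSyz.stdGr k (Fin (r + 1)))).toIdeal t ↔
      RegLE (convIdeal (GrSyz.irrel (GrSyz.stdGr k (Fin (r + 1)))))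
        (GMod.of (toSub (GrSyz.stdGr k (Fin (r + 1)))) M (toSub ℳ)) t := by
  obtain ⟨F, hF⟩ := Groth.Agent.Lib.Helper66.MinRes.exists_freeRes_isMinimal (k := k) (r := r) ℳ
  rw [Groth.Agent.Lib.Helper66.BettiUniq.isRegLE_iff ℳ F hF t, isGenLE_iff_regLE ℳ F hF]

end Groth.Agent.Lib.Helper39.GrEGPoly
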