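import Mathlib.RingTheory.Length
import Mathlib.Algebra.Exact
import Mathlib.Algebra.BigOperators.Ring.Finset
import Mathlib.Tactic

/-!
# Euler characteristic of a long exact sequence of modules of finite length (helper39)
-/

set_option autoImplicit false
universe u v

namespace Groth.Agent.Lib.Helper39.GrEuler

variable {S : Type v} [Ring S]

/-- rank–nullity for lengths -/
theorem length_eq_ker_add_range {A B : Type*} [AddCommGroup A] [Module S A] [AddCommGroup B]
    [Module S B] (f : A →ₗ[S] B) :
    Module.length S A = Module.length S (LinearMap.ker f) + Module.length S (LinearMap.range f) := by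
  refine Module.length_eq_add_of_exact (LinearMap.ker f).subtype f.rangeRestrict
    (Submodule.injective_subtype _) f.surjective_rangeRestrict ?_
  intro x
  constructor
  · intro hx
    have hx' : f x = 0 := congrArg Subtype.val hx
    exact ⟨⟨x, hx'⟩, rfl⟩
  · rintro ⟨y, rfl⟩
    apply Subtype.ext
    exact y.2

theorem length_range_eq_ker {A B C : Type*} [AddCommGroup A] [Module S A] [AddCommGroup B]
    [Module S B] [AddCommGroup C] [Module S C] (f : A →ₗ[S] B) (g : B →ₗ[S] C)
    (h : Function.Exact f g) :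
    Module.length S (LinearMap.range f) = Module.length S (LinearMap.ker g) := by
  have : LinearMap.ker g = LinearMap.range f := LinearMap.exact_iff.mp h
  exact (LinearEquiv.ofEq _ _ this.symm).length_eq

/-- the four term identity -/
theorem four_term {A B C A' B' : Type*} [AddCommGroup A] [Module S A] [AddCommGroup B]
    [Module S B] [AddCommGroup C] [Module S C] [AddCommGroup A'] [Module S A'] [AddCommGroup B']
    [Module S B'] (f : A →ₗ[S] B) (g : B →ₗ[S] C) (δ : C →ₗ[S] A') (f' : A' →ₗ[S] B')
    (h1 : Function.Exact f g) (h2 : Function.Exact g δ) (h3 : Function.Exact δ f') :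
    Module.length S A + Module.length S C =
      Module.length S B + Module.length S (LinearMap.ker f) + Module.length S (LinearMap.ker f') := by
  rw [length_eq_ker_add_range f, length_eq_ker_add_range δ, length_eq_ker_add_range g,
    ← length_range_eq_ker f g h1, ← length_range_eq_ker g δ h2, ← length_range_eq_ker δ f' h3]
  ring

theorem telescope (κ : ℕ → ℚ) (D : ℕ) :
    ∑ k ∈ Finset.range (D + 1), (-1 : ℚ) ^ k * (κ k + κ (k + 1)) =
      κ 0 + (-1 : ℚ) ^ D * κ (D + 1) := by
  induction D with
  | zero => simp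
  | succ D ih =>
    rw [Finset.sum_range_succ, ih]
    ring

/-- **Euler characteristic of a long exact sequence.** -/
theorem euler_les (A B C : ℕ → Type u)
    [∀ k, AddCommGroup (A k)] [∀ k, Module S (A k)]
    [∀ k, AddCommGroup (B k)] [∀ k, Module S (B k)]
    [∀ k, AddCommGroup (C k)] [∀ k, Module S (C k)]
    (f : ∀ k, A k →ₗ[S] B k) (g : ∀ k, B k →ₗ[S] C k) (δ : ∀ k, C k →ₗ[S] A (k + 1))
    (h1 : ∀ k, Function.Exact (f k) (g k)) (h2 : ∀ k, Function.Exact (g k) (δ k))
    (h3 : ∀ k, Function.Exact (δ k) (f (k + 1))) (h0 : Function.Injective (f 0))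
    (D : ℕ) (hA : Module.length S (A (D + 1)) = 0)
    (finA : ∀ k, Module.length S (A k) ≠ ⊤) (finB : ∀ k, Module.length S (B k) ≠ ⊤)
    (finC : ∀ k, Module.length S (C k) ≠ ⊤) :
    ∑ k ∈ Finset.range (D + 1), (-1 : ℚ) ^ k *
      (((Module.length S (A k)).toNat : ℚ) - ((Module.length S (B k)).toNat : ℚ) +
        ((Module.length S (C k)).toNat : ℚ)) = 0 := by
  set κ : ℕ → ℚ := fun k => ((Module.length S (LinearMap.ker (f k))).toNat : ℚ) with hκ
  have hle : ∀ k, Module.length S (LinearMap.ker (f k)) ≤ Module.length S (A k) := fun k =>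
    Module.length_le_of_injective (LinearMap.ker (f k)).subtype (Submodule.injective_subtype _)
  have finK : ∀ k, Module.length S (LinearMap.ker (f k)) ≠ ⊤ := fun k =>
    ne_top_of_le_ne_top (finA k) (hle k)
  have key : ∀ k, ((Module.length S (A k)).toNat : ℚ) - ((Module.length S (B k)).toNat : ℚ) +
        ((Module.length S (C k)).toNat : ℚ) = κ k + κ (k + 1) := by
    intro k
    have h4 := four_term (f k) (g k) (δ k) (f (k + 1)) (h1 k) (h2 k) (h3 k)
    obtain ⟨a, ha⟩ := ENat.ne_top_iff_exists.mp (finA k)
    obtain ⟨b, hb⟩ := ENat.ne_top_iff_exists.mp (finB k)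
    obtain ⟨c, hc⟩ := ENat.ne_top_iff_exists.mp (finC k)
    obtain ⟨x, hx⟩ := ENat.ne_top_iff_exists.mp (finK k)
    obtain ⟨y, hy⟩ := ENat.ne_top_iff_exists.mp (finK (k + 1))
    simp only [hκ]
    rw [← ha, ← hb, ← hc, ← hx, ← hy] at h4 ⊢
    simp only [ENat.toNat_coe]
    have h5 : a + c = b + x + y := by exact_mod_cast h4
    have h6 : (a : ℚ) + c = b + x + y := by exact_mod_cast h5
    linarith
  rw [Finset.sum_congr rfl (fun k _ => by rw [key k]), telescope]
  have hk0 : κ 0 = 0 := by
    simp only [hκ]
    rw [LinearMap.ker_eq_bot.mpr h0]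
    simp
  have hkD : κ (D + 1) = 0 := by
    simp only [hκ]
    have := hle (D + 1)
    rw [hA] at this
    rw [nonpos_iff_eq_zero.mp this]
    simp
  rw [hk0, hkD]
  ring

end Groth.Agent.Lib.Helper39.GrEuler
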