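import Groth.Agent.Lib.Helper39.GrH

/-!
# Graded local cohomology depends only on the torsion functor (helper39)

If `Γ_a = Γ_b` then `E.H a i ≃ E.H b i`, compatibly with the pieces.
-/

set_option autoImplicit false
universe u

namespace Groth.Agent.Lib.Helper39.GrHcongr

open DirectSum GrLC Groth.Agent.Lib.Helper39

variable {ι : Type} [AddCommGroup ι] [DecidableEq ι] {R : Type u} [CommRing R]
  {𝒜 : ι → AddSubgroup R} [GradedRing 𝒜]
  {M : Type u} [AddCommGroup M] [Module R M] {ℳ : ι → AddSubgroup M} [DirectSum.Decomposition ℳ]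
  [SetLike.GradedSMul 𝒜 ℳ] (E : StarInjRes 𝒜 ℳ) {a b : HomogeneousIdeal 𝒜}
  (h : ∀ (X : Type u) [AddCommGroup X] [Module R X], gam a.toIdeal X = gam b.toIdeal X)

include h in
theorem cocyc_congr (i : ℕ) : E.cocyc a i = E.cocyc b i := by
  unfold StarInjRes.cocyc
  rw [h]

include h in
theorem cobdy_congr (i : ℕ) : E.cobdy a i = E.cobdy b i := by
  cases i with
  | zero => rfl
  | succ n =>
    show (gam a.toIdeal (E.X n).carrier).map (E.d n) = (gam b.toIdeal (E.X n).carrier).map (E.d n)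
    rw [h]

include h in
theorem mem_cocyc_right (i : ℕ) {z : (E.X i).carrier} (hz : z ∈ E.cocyc a i) : z ∈ E.cocyc b i := by
  rw [← cocyc_congr E h i]
  exact hz

include h in
theorem mem_cocyc_left (i : ℕ) {z : (E.X i).carrier} (hz : z ∈ E.cocyc b i) : z ∈ E.cocyc a i := by
  rw [cocyc_congr E h i]
  exact hz

/-- the comparison isomorphism -/
noncomputable def Hcongr (i : ℕ) : E.H a i ≃ₗ[R] E.H b i :=
  Submodule.Quotient.equiv _ _ (LinearEquiv.ofEq _ _ (cocyc_congr E h i)) (by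
    ext z
    constructor
    · rintro ⟨y, hy, rfl⟩
      have hy' : (y : (E.X i).carrier) ∈ E.cobdy a i := hy
      rw [cobdy_congr E h i] at hy'
      exact hy'
    · intro hz
      have hz' : (z : (E.X i).carrier) ∈ E.cobdy b i := hz
      rw [← cobdy_congr E h i] at hz'
      exact ⟨⟨z.1, mem_cocyc_left E h i z.2⟩, hz', Subtype.ext rfl⟩)

theorem Hcongr_toH (i : ℕ) (z : E.cocyc a i) :
    Hcongr E h i (E.toH a i z) = E.toH b i ⟨z.1, mem_cocyc_right E h i z.2⟩ := rfl

theorem Hcongr_mem_iff (i : ℕ) (n : ι) (x : E.H a i) :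
    x ∈ E.Hcomp a i n ↔ Hcongr E h i x ∈ E.Hcomp b i n := by
  constructor
  · rintro ⟨z, hz, rfl⟩
    exact ⟨⟨z.1, mem_cocyc_right E h i z.2⟩, hz, (Hcongr_toH E h i z).symm⟩
  · rintro ⟨w, hw, e⟩
    obtain ⟨z, rfl⟩ := Submodule.mkQ_surjective _ x
    have e' : E.toH b i w = E.toH b i ⟨z.1, mem_cocyc_right E h i z.2⟩ := e
    rw [← sub_eq_zero, ← map_sub, toH_eq_zero_iff] at e'
    have h1 : (w : (E.X i).carrier) - (z : (E.X i).carrier) ∈ E.cobdy b i := e'
    rw [← cobdy_congr E h i] at h1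
    refine ⟨⟨w.1, mem_cocyc_left E h i w.2⟩, hw, ?_⟩
    rw [← sub_eq_zero, ← map_sub, toH_eq_zero_iff]
    exact h1

end Groth.Agent.Lib.Helper39.GrHcongr
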