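import Groth.Agent.Lib.Helper39.GrTop
import Groth.Agent.Lib.Helper39.GrNak
import Groth.Agent.Lib.Helper39.GrQuot

/-!
# Quotients by quasi-regular homogeneous elements (helper39)

* `eventually_bot_of_isArtinian`: an Artinian graded module over a positively graded ring
  vanishes in high degrees.
* `quasi_step`: for `x` homogeneous of degree `d` with `(0 :_M x)` torsion and `N = M/xM`:
  `H^i(M)_n = 0` and `H^{i+1}(M)_{n-d} = 0` imply `H^i(N)_n = 0`.
-/

set_option autoImplicit false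
universe u

namespace Groth.Agent.Lib.Helper39.GrQuasi

open DirectSum GrLC Groth.Agent.Lib.Helper39 Groth.Agent.Lib.Helper39.GrLes
  Groth.Agent.Lib.Helper39.GrRegVanish Groth.Agent.Lib.Helper39.GrTop
  Groth.Agent.Lib.Helper39.GrNak

section Art
variable {R : Type u} [CommRing R] (𝒜 : ℤ → AddSubgroup R) [GradedRing 𝒜]
  {M : Type u} [AddCommGroup M] [Module R M] (ℳ : ℤ → AddSubgroup M) [DirectSum.Decomposition ℳ]
  [SetLike.GradedSMul 𝒜 ℳ]

theorem eventually_bot_of_isArtinian (hpos : ∀ n : ℤ, n < 0 → 𝒜 n = ⊥) [IsArtinian R M] :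
    ∃ n₀ : ℤ, ∀ n, n₀ ≤ n → ℳ n = ⊥ := by
  let f : ℕ →o (Submodule R M)ᵒᵈ :=
    ⟨fun m => OrderDual.toDual (geSub (R := R) ℳ (m : ℤ)), by
      intro a b hab
      exact geSub_anti ℳ (by exact_mod_cast hab)⟩
  obtain ⟨n, hn⟩ := IsArtinian.monotone_stabilizes f
  refine ⟨n, fun j hj => ?_⟩
  rw [eq_bot_iff]
  intro x hx
  obtain ⟨t, rfl⟩ : ∃ t : ℕ, j = (t : ℤ) := ⟨j.toNat, (Int.toNat_of_nonneg (by omega)).symm⟩
  have htn : n ≤ t := by exact_mod_cast hj
  have h1 : x ∈ geSub (R := R) ℳ (t : ℤ) := mem_geSub_of_mem ℳ le_rfl hx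
  have h2 : geSub (R := R) ℳ (t : ℤ) = geSub (R := R) ℳ ((t + 1 : ℕ) : ℤ) := by
    have e1 := hn t htn
    have e2 := hn (t + 1) (by omega)
    exact OrderDual.toDual.injective (e1.symm.trans e2)
  rw [h2] at h1
  have h3 := decompose_eq_zero_of_mem_geSub 𝒜 ℳ hpos h1 (t : ℤ) (by push_cast; omega)
  rw [decompose_of_mem_same ℳ hx] at h3
  rw [h3]
  exact zero_mem _

/-- the elements of an Artinian homogeneous submodule are `R_+`-torsion -/
theorem torsion_of_isArtinian_sub (hpos : ∀ n : ℤ, n < 0 → 𝒜 n = ⊥) (a : Ideal R)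
    (ha : a = Ideal.span (⋃ n ∈ Set.Ioi (0 : ℤ), (𝒜 n : Set R))) (K : Submodule R M)
    (hKh : K.IsHomogeneous ℳ) [IsArtinian R K] (z : M) (hz : z ∈ K) : z ∈ gam a M := by
  letI decK := subDecomposition ℳ K hKh
  haveI smulK := subGradedSMul 𝒜 ℳ K
  obtain ⟨n₀, hn₀⟩ := eventually_bot_of_isArtinian 𝒜 (subPieces ℳ K) hpos
  obtain ⟨k, hk⟩ := torsion_of_eventually_bot 𝒜 (subPieces ℳ K) a ha hn₀ ⟨z, hz⟩
  exact ⟨k, fun r hr => congrArg Subtype.val (hk r hr)⟩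

end Art

section Quasi
variable {ι : Type} [AddCommGroup ι] [DecidableEq ι] [Module.Free ℤ ι] [Module.Finite ℤ ι]
  {R : Type u} [CommRing R] [IsNoetherianRing R] {𝒜 : ι → AddSubgroup R} [GradedRing 𝒜]
  {M : Type u} [AddCommGroup M] [Module R M] {ℳ : ι → AddSubgroup M} [DirectSum.Decomposition ℳ]
  [SetLike.GradedSMul 𝒜 ℳ]
  {N : Type u} [AddCommGroup N] [Module R N] {𝒩 : ι → AddSubgroup N} [DirectSum.Decomposition 𝒩]
  [SetLike.GradedSMul 𝒜 𝒩]

attribute [local instance] shiftDecomposition shiftGradedSMul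

omit [Module.Free ℤ ι] [Module.Finite ℤ ι] [IsNoetherianRing R] in
theorem ker_smul_isHomogeneous {d : ι} {x : R} (hx : x ∈ 𝒜 d) :
    (LinearMap.ker (x • (LinearMap.id : M →ₗ[R] M))).IsHomogeneous ℳ := by
  have hxg : IsGrHom ℳ (shiftPieces ℳ d) (x • (LinearMap.id : M →ₗ[R] M)) := fun j m hm => by
    have := SetLike.GradedSMul.smul_mem (A := 𝒜) (B := ℳ) hx hm
    rw [vadd_eq_add, add_comm] at this
    exact this
  exact IsGrHom.ker_isHomogeneous ℳ (shiftPieces ℳ d) hxg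

theorem quasi_step {d : ι} {x : R} (hx : x ∈ 𝒜 d)
    (π : M →ₗ[R] N) (hπ : Function.Surjective π) (hπg : IsGrHom ℳ 𝒩 π)
    (hker : LinearMap.ker π = LinearMap.range (x • (LinearMap.id : M →ₗ[R] M)))
    (a : HomogeneousIdeal 𝒜) (hK : ∀ z : M, x • z = 0 → z ∈ gam a.toIdeal M)
    (E : StarInjRes 𝒜 ℳ) (F : StarInjRes 𝒜 𝒩) (i : ℕ) (n : ι)
    (h1 : E.Hcomp a i n = ⊥) (h2 : E.Hcomp a (i + 1) (n + -d) = ⊥) : F.Hcomp a i n = ⊥ := by
  classical
  -- the kernel of multiplication by `x`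
  have hKh : (LinearMap.ker (x • (LinearMap.id : M →ₗ[R] M))).IsHomogeneous ℳ :=
    ker_smul_isHomogeneous hx
  generalize hKdef : LinearMap.ker (x • (LinearMap.id : M →ₗ[R] M)) = K at hKh
  have hKmem : ∀ z : M, z ∈ K ↔ x • z = 0 := fun z => by
    rw [← hKdef]
    simp
  letI decK := subDecomposition ℳ K hKh
  haveI smulK := subGradedSMul 𝒜 ℳ K
  letI decQ := quotDecomposition ℳ K hKh
  haveI smulQ := quotGradedSMul 𝒜 ℳ K
  obtain ⟨EK⟩ := Groth.Agent.S13215.result R 𝒜 K (subPieces ℳ K)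
  obtain ⟨G⟩ := Groth.Agent.S13215.result R 𝒜 (M ⧸ K) (quotPieces ℳ K)
  have SA : GrSES (subPieces ℳ K) ℳ (quotPieces ℳ K) K.subtype K.mkQ :=
    { i_grHom := isGrHom_subtype ℳ K
      p_grHom := isGrHom_mkQ ℳ K
      i_inj := Subtype.val_injective
      p_surj := Submodule.mkQ_surjective K
      exact := by rw [Submodule.ker_mkQ, Submodule.range_subtype] }
  have htor : ∀ z : K, ∃ k : ℕ, ∀ r ∈ a.toIdeal ^ k, r • z = 0 := by
    rintro ⟨z, hz⟩
    obtain ⟨k, hk⟩ := hK z ((hKmem z).mp hz)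
    exact ⟨k, fun r hr => Subtype.ext (hk r hr)⟩
  have hsurjA := surjective_of_subsingleton SA EK E G a (i + 1)
    (H_subsingleton_of_torsion a EK htor (i + 1 + 1) (by omega))
  -- `H^{i+1}(M/K)` vanishes in degree `n - d`
  have hG : ∀ w ∈ G.Hgr a (i + 1) (n + -d), w = 0 := by
    intro w hw
    obtain ⟨y₀, hy₀⟩ := hsurjA w
    obtain ⟨y, hy, hyw⟩ := exists_mem_of_isInternal (Hgr_isInternal E a (i + 1))
      (Hgr_isInternal G a (i + 1)) _ (Hmap₀_isGrHom E G a K.mkQ (isGrHom_mkQ ℳ K) (i + 1)) hw y₀ hy₀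
    have hy' : y ∈ E.Hcomp a (i + 1) (n + -d) := hy
    rw [h2, Submodule.mem_bot] at hy'
    rw [← hyw, hy', map_zero]
  -- multiplication by `x` as an injection `(M/K)(-d) → M`
  let xbar : (M ⧸ K) →ₗ[R] M := K.liftQ (x • (LinearMap.id : M →ₗ[R] M)) (le_of_eq hKdef.symm)
  have hxbar_inj : Function.Injective xbar := by
    rw [← LinearMap.ker_eq_bot]
    show LinearMap.ker (K.liftQ _ _) = ⊥
    rw [Submodule.ker_liftQ, hKdef, Submodule.mkQ_map_self]
  have hxbar_g : IsGrHom (shiftPieces (quotPieces ℳ K) (-d)) ℳ xbar := by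
    rintro j _ ⟨m, hm, rfl⟩
    have := SetLike.GradedSMul.smul_mem (A := 𝒜) (B := ℳ) hx hm
    rw [vadd_eq_add, add_neg_cancel_comm_assoc] at this
    exact this
  have SB : GrSES (shiftPieces (quotPieces ℳ K) (-d)) ℳ 𝒩 xbar π :=
    { i_grHom := hxbar_g
      p_grHom := hπg
      i_inj := hxbar_inj
      p_surj := hπ
      exact := by
        rw [hker]
        show _ = LinearMap.range (K.liftQ _ _)
        rw [Submodule.range_liftQ] }
  obtain ⟨δ, hδ, -, hB2, -⟩ := exists_les SB (shiftRes G (-d)) E F a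
  rw [eq_bot_iff]
  intro z hz
  have hδz : δ i z = 0 := hG _ (hδ i n z hz)
  obtain ⟨y₀, hy₀⟩ := (hB2 i z).mp hδz
  obtain ⟨y, hy, hyz⟩ := exists_mem_of_isInternal (Hgr_isInternal E a i) (Hgr_isInternal F a i) _
    (Hmap₀_isGrHom E F a π hπg i) hz y₀ hy₀
  have hy' : y ∈ E.Hcomp a i n := hy
  rw [h1, Submodule.mem_bot] at hy'
  rw [Submodule.mem_bot, ← hyz, hy', map_zero]

end Quasi

end Groth.Agent.Lib.Helper39.GrQuasi
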