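import Groth.Agent.Lib.Helper39.HilbPolyAux
import Groth.Agent.Lib.Helper39.GrQuasi

/-!
# Existence of the Hilbert polynomial (helper39)

For a Noetherian positively graded ring `R` with `R_0` Artinian whose irrelevant ideal is generated
in degree one, every finitely generated graded module has a Hilbert polynomial
(`exists_hilbertPoly`).
-/

set_option autoImplicit false
universe u

namespace Groth.Agent.Lib.Helper39.GrHilbExist

open DirectSum GrLC Polynomial Groth.Agent.Lib.Helper39 Groth.Agent.Lib.Helper39.GrLes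
  Groth.Agent.Lib.Helper39.GrRegVanish Groth.Agent.Lib.Helper39.GrPieces
  Groth.Agent.Lib.Helper39.GrSerre Groth.Agent.Lib.Helper39.GrQuasi
  Groth.Agent.Lib.Helper39.HilbPolyAux

variable {R : Type u} [CommRing R] [IsNoetherianRing R] {𝒜 : ℤ → AddSubgroup R} [GradedRing 𝒜]
  (hpos : ∀ n : ℤ, n < 0 → 𝒜 n = ⊥) [IsArtinianRing (GrLC.deg0 𝒜)]
  (a : HomogeneousIdeal 𝒜) (ha : a.toIdeal = Ideal.span (⋃ n ∈ Set.Ioi (0 : ℤ), (𝒜 n : Set R)))

attribute [local instance] shiftDecomposition shiftGradedSMul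

include hpos in
/-- the difference of the Hilbert function along a homogeneous element -/
theorem hfun_diff {e : ℤ} {x : R} (hx : x ∈ 𝒜 e) {M : Type u} [AddCommGroup M] [Module R M]
    [Module.Finite R M] {ℳ : ℤ → AddSubgroup M} [DirectSum.Decomposition ℳ]
    [SetLike.GradedSMul 𝒜 ℳ] (K Q : Submodule R M)
    (hK : K = LinearMap.ker (x • (LinearMap.id : M →ₗ[R] M)))
    (hQ : Q = LinearMap.range (x • (LinearMap.id : M →ₗ[R] M)))
    (hKh : K.IsHomogeneous ℳ) (hQh : Q.IsHomogeneous ℳ) :
    haveI := subGradedSMul 𝒜 ℳ K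
    haveI := quotGradedSMul 𝒜 ℳ Q
    ∀ n, hfun 𝒜 ℳ n - hfun 𝒜 ℳ (n + -e) =
      hfun 𝒜 (quotPieces ℳ Q) n - hfun 𝒜 (subPieces ℳ K) (n + -e) := by
  classical
  letI decK := subDecomposition ℳ K hKh
  haveI smulK := subGradedSMul 𝒜 ℳ K
  letI decQs := subDecomposition ℳ Q hQh
  haveI smulQs := subGradedSMul 𝒜 ℳ Q
  letI decQ := quotDecomposition ℳ Q hQh
  haveI smulQ := quotGradedSMul 𝒜 ℳ Q
  haveI : IsNoetherian R M := isNoetherian_of_isNoetherianRing_of_finite R M
  haveI : Module.Finite R K := Module.Finite.of_fg (IsNoetherian.noetherian _)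
  haveI : Module.Finite R Q := Module.Finite.of_fg (IsNoetherian.noetherian _)
  intro n
  -- the map `M(-e) → Q`
  let p : M →ₗ[R] Q := (x • (LinearMap.id : M →ₗ[R] M)).codRestrict Q (fun m => by
    rw [hQ]; exact ⟨m, rfl⟩)
  have hp : ∀ m, ((p m : Q) : M) = x • m := fun m => rfl
  have SA : GrSES (shiftPieces (subPieces ℳ K) (-e)) (shiftPieces ℳ (-e)) (subPieces ℳ Q)
      K.subtype p :=
    { i_grHom := fun j m hm => hm
      p_grHom := fun j m hm => by
        have := SetLike.GradedSMul.smul_mem (A := 𝒜) (B := ℳ) hx hm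
        rw [vadd_eq_add, add_neg_cancel_comm_assoc] at this
        exact this
      i_inj := Subtype.val_injective
      p_surj := by
        rintro ⟨y, hy⟩
        rw [hQ] at hy
        obtain ⟨m, rfl⟩ := hy
        exact ⟨m, Subtype.ext rfl⟩
      exact := by
        ext m
        rw [LinearMap.mem_ker, Submodule.range_subtype, hK, LinearMap.mem_ker]
        constructor
        · intro h
          have := congrArg Subtype.val h
          exact this
        · intro h
          exact Subtype.ext h }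
  have SB : GrSES (subPieces ℳ Q) ℳ (quotPieces ℳ Q) Q.subtype Q.mkQ :=
    { i_grHom := isGrHom_subtype ℳ Q
      p_grHom := isGrHom_mkQ ℳ Q
      i_inj := Subtype.val_injective
      p_surj := Submodule.mkQ_surjective _
      exact := by rw [Submodule.ker_mkQ, Submodule.range_subtype] }
  have h1 := hfun_ses hpos SA n
  rw [hfun_shift, hfun_shift] at h1
  have h2 := hfun_ses hpos SB n
  linarith

include hpos ha in
theorem exists_hilbertPoly_aux (xs : List R) (hxs : ∀ x ∈ xs, x ∈ 𝒜 1) :
    ∀ (M : Type u) [AddCommGroup M] [Module R M] [Module.Finite R M] (ℳ : ℤ → AddSubgroup M)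
      [DirectSum.Decomposition ℳ] [SetLike.GradedSMul 𝒜 ℳ],
      a.toIdeal ≤ Ideal.ofList xs ⊔ Module.annihilator R M →
      ∃ P : ℚ[X], ∃ N : ℤ, ∀ n : ℤ, N ≤ n → P.eval (n : ℚ) = hfun 𝒜 ℳ n := by
  classical
  induction xs with
  | nil =>
    intro M _ _ _ ℳ _ _ hle
    rw [Ideal.ofList_nil, bot_sup_eq] at hle
    have htor : ∀ x : M, ∃ k : ℕ, ∀ r ∈ a.toIdeal ^ k, r • x = 0 := fun x =>
      ⟨1, fun r hr => by
        rw [pow_one] at hr
        exact Module.mem_annihilator.mp (hle hr) x⟩
    obtain ⟨N, hN⟩ := eventually_bot_of_torsion' 𝒜 ℳ a.toIdeal ha htor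
    exact ⟨0, N, fun n hn => by rw [eval_zero, hfun_eq_zero_of_eq_bot (hN n hn)]⟩
  | cons x xs ih =>
    intro M _ _ _ ℳ _ _ hle
    have hx : x ∈ 𝒜 1 := hxs x (List.mem_cons_self)
    have ih' := ih (fun y hy => hxs y (List.mem_cons_of_mem _ hy))
    have hKh : (LinearMap.ker (x • (LinearMap.id : M →ₗ[R] M))).IsHomogeneous ℳ :=
      ker_smul_isHomogeneous hx
    have hQh : (LinearMap.range (x • (LinearMap.id : M →ₗ[R] M))).IsHomogeneous ℳ :=
      range_smul_isHomogeneous hx
    generalize hKdef : LinearMap.ker (x • (LinearMap.id : M →ₗ[R] M)) = K at hKh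
    generalize hQdef : LinearMap.range (x • (LinearMap.id : M →ₗ[R] M)) = Q at hQh
    letI decK := subDecomposition ℳ K hKh
    haveI smulK := subGradedSMul 𝒜 ℳ K
    letI decQ := quotDecomposition ℳ Q hQh
    haveI smulQ := quotGradedSMul 𝒜 ℳ Q
    haveI : IsNoetherian R M := isNoetherian_of_isNoetherianRing_of_finite R M
    haveI : Module.Finite R K := Module.Finite.of_fg (IsNoetherian.noetherian _)
    have hdiff := hfun_diff hpos hx K Q hKdef.symm hQdef.symm hKh hQh
    rw [Ideal.ofList_cons] at hle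
    -- the kernel
    have hleK : a.toIdeal ≤ Ideal.ofList xs ⊔ Module.annihilator R K := by
      refine le_trans hle (sup_le (sup_le ?_ le_sup_left) ?_)
      · refine le_trans ?_ le_sup_right
        rw [Ideal.span_singleton_le_iff_mem, Module.mem_annihilator]
        rintro ⟨k, hk⟩
        apply Subtype.ext
        rw [← hKdef] at hk
        exact hk
      · exact le_trans (LinearMap.annihilator_le_of_injective K.subtype Subtype.val_injective)
          le_sup_right
    have hleQ : a.toIdeal ≤ Ideal.ofList xs ⊔ Module.annihilator R (M ⧸ Q) := by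
      refine le_trans hle (sup_le (sup_le ?_ le_sup_left) ?_)
      · refine le_trans ?_ le_sup_right
        rw [Ideal.span_singleton_le_iff_mem, Module.mem_annihilator]
        intro y
        obtain ⟨m, rfl⟩ := Submodule.mkQ_surjective Q y
        rw [← map_smul, Submodule.mkQ_apply, Submodule.Quotient.mk_eq_zero, ← hQdef]
        exact ⟨m, rfl⟩
      · exact le_trans (LinearMap.annihilator_le_of_surjective Q.mkQ (Submodule.mkQ_surjective _))
          le_sup_right
    obtain ⟨PK, NK, hPK⟩ := ih' K (subPieces ℳ K) hleK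
    obtain ⟨PQ, NQ, hPQ⟩ := ih' (M ⧸ Q) (quotPieces ℳ Q) hleQ
    have hd : ∀ n : ℤ, max NQ (NK + 1) ≤ n →
        (fun n => hfun 𝒜 ℳ n) n - (fun n => hfun 𝒜 ℳ n) (n - 1) =
          (PQ - taylor (-1) PK).eval (n : ℚ) := by
      intro n hn
      have h1 := hdiff n
      have hn1 : NQ ≤ n := le_trans (le_max_left _ _) hn
      have hn2 : NK ≤ n + -1 := by
        have := le_trans (le_max_right _ _) hn
        omega
      rw [← hPQ n hn1, ← hPK (n + -1) hn2] at h1
      rw [eval_sub, taylor_eval]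
      beta_reduce
      have h3 : n - 1 = n + -1 := by ring
      rw [h3, h1]
      push_cast
      rfl
    obtain ⟨P, hP⟩ := exists_poly_of_diff (fun n => hfun 𝒜 ℳ n) _ _ hd
    exact ⟨P, _, hP⟩

include hpos ha in
/-- **Existence of the Hilbert polynomial** for standard graded rings. -/
theorem exists_hilbertPoly
    (hstd : Ideal.span (⋃ n ∈ Set.Ioi (0 : ℤ), (𝒜 n : Set R)) =
      Ideal.span ((𝒜 1 : AddSubgroup R) : Set R))
    (M : Type u) [AddCommGroup M] [Module R M] [Module.Finite R M] (ℳ : ℤ → AddSubgroup M)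
    [DirectSum.Decomposition ℳ] [SetLike.GradedSMul 𝒜 ℳ] :
    ∃ P : ℚ[X], ∃ N : ℤ, ∀ n : ℤ, N ≤ n → P.eval (n : ℚ) = hfun 𝒜 ℳ n := by
  classical
  have hfg : (Ideal.span ((𝒜 1 : AddSubgroup R) : Set R)).FG := IsNoetherian.noetherian _
  obtain ⟨T, hTsub, hT⟩ := (Submodule.fg_span_iff_fg_span_finset_subset _).mp hfg
  refine exists_hilbertPoly_aux hpos a ha T.toList (fun x hx => hTsub (Finset.mem_toList.mp hx))
    M ℳ (le_trans ?_ le_sup_left)
  rw [ha, hstd]
  change _ ≤ Ideal.span _
  have : {r | r ∈ T.toList} = (T : Set R) := by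
    ext r
    simp
  rw [this]
  exact le_of_eq hT
end Groth.Agent.Lib.Helper39.GrHilbExist
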