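import Groth.Agent.Lib.Helper39.GrQuot
import Groth.Agent.S13211
import Mathlib.RingTheory.Ideal.AssociatedPrime.Localization
import Mathlib.RingTheory.Ideal.MinimalPrime.Basic
import Mathlib.RingTheory.Finiteness.Ideal

/-!
# The *injective envelope of `R ⧸ p`: grading of `R ⧸ p`, ungraded essentiality, annihilators (helper39)
-/

set_option autoImplicit false
universe u
open GrLC DirectSum

namespace Groth.Agent.Lib.Helper39

variable {ι : Type} [AddCommGroup ι] [DecidableEq ι] {R : Type u} [CommRing R]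
  (𝒜 : ι → AddSubgroup R) [GradedRing 𝒜] (p : HomogeneousIdeal 𝒜)

theorem quotGr_eq : GrLC.quotGr 𝒜 p = quotPieces 𝒜 p.toIdeal := rfl

/-- the grading of `R ⧸ p` -/
@[instance_reducible]
def quotGrDecomposition : DirectSum.Decomposition (GrLC.quotGr 𝒜 p) :=
  quotDecomposition 𝒜 p.toIdeal p.isHomogeneous

theorem quotGrGradedSMul : SetLike.GradedSMul 𝒜 (GrLC.quotGr 𝒜 p) :=
  quotGradedSMul 𝒜 𝒜 p.toIdeal


section Hull
variable {ι : Type} [AddCommGroup ι] [DecidableEq ι] [Module.Free ℤ ι] [Module.Finite ℤ ι]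
  {R : Type u} [CommRing R] [IsNoetherianRing R]
  (𝒜 : ι → AddSubgroup R) [GradedRing 𝒜] (p : HomogeneousIdeal 𝒜)
  {E : Type u} [AddCommGroup E] [Module R E] (𝓔 : ι → AddSubgroup E) [DirectSum.Decomposition 𝓔]
  [SetLike.GradedSMul 𝒜 𝓔] (e : (R ⧸ p.toIdeal) →ₗ[R] E)

/-- A *essential extension of `R ⧸ p` is essential (S13211 with the quotient grading). -/
theorem isEssentialInj_of_isStarEss_quotGr (he : GrLC.IsStarEss (GrLC.quotGr 𝒜 p) 𝓔 e) :
    InjHull.IsEssentialInj e := by
  let _ := quotGrDecomposition 𝒜 p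
  have := quotGrGradedSMul 𝒜 p
  exact Groth.Agent.S13211.result R 𝒜 (R ⧸ p.toIdeal) (GrLC.quotGr 𝒜 p) E 𝓔 e he

variable [hp : p.toIdeal.IsPrime]

omit [Module.Free ℤ ι] [Module.Finite ℤ ι] [IsNoetherianRing R] in
/-- the annihilator of a nonzero element of the image of `R ⧸ p` is `p` -/
theorem smul_eq_zero_iff_of_mem_range (hinj : Function.Injective e) {z : E}
    (hz : z ∈ LinearMap.range e) (hz0 : z ≠ 0) (t : R) : t • z = 0 ↔ t ∈ p.toIdeal := by
  obtain ⟨a, rfl⟩ := hz
  obtain ⟨c, rfl⟩ := Ideal.Quotient.mk_surjective a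
  have hc : c ∉ p.toIdeal := by
    intro hc
    apply hz0
    rw [Ideal.Quotient.eq_zero_iff_mem.mpr hc, map_zero]
  rw [← map_smul]
  constructor
  · intro h
    have h2 : t • Ideal.Quotient.mk p.toIdeal c = 0 := hinj (by rw [h, map_zero])
    have h3 : Ideal.Quotient.mk p.toIdeal (t * c) = 0 := h2
    rw [Ideal.Quotient.eq_zero_iff_mem] at h3
    exact (hp.mem_or_mem h3).resolve_right hc
  · intro h
    have h3 : t • Ideal.Quotient.mk p.toIdeal c = Ideal.Quotient.mk p.toIdeal (t * c) := rfl
    rw [h3, Ideal.Quotient.eq_zero_iff_mem.mpr (Ideal.mul_mem_right _ _ h), map_zero]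

/-- if the annihilator of `y` in an essential extension of `R ⧸ p` is a prime `q`, then `q = p` -/
theorem eq_of_colon_eq_of_isEssentialInj (he : InjHull.IsEssentialInj e) (q : Ideal R) [hq : q.IsPrime]
    (y : E) (hy : q = Submodule.colon (⊥ : Submodule R E) {y}) : q = p.toIdeal := by
  have hmem : ∀ t, t ∈ q ↔ t • y = 0 := by
    intro t
    rw [hy, Submodule.mem_colon_singleton, Submodule.mem_bot]
  have hy0 : y ≠ 0 := by
    intro h
    apply hq.ne_top
    rw [Ideal.eq_top_iff_one, hmem, h, smul_zero]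
  have hne : Submodule.span R {y} ≠ ⊥ := by
    intro h
    apply hy0
    have : y ∈ (⊥ : Submodule R E) := h ▸ Submodule.mem_span_singleton_self y
    exact (Submodule.mem_bot R).mp this
  obtain ⟨z, hz, hz0⟩ := (Submodule.ne_bot_iff _).mp (he.essential _ hne)
  obtain ⟨hzy, hze⟩ := hz
  obtain ⟨b, rfl⟩ := Submodule.mem_span_singleton.mp hzy
  have hbq : b ∉ q := by
    intro hb
    apply hz0
    exact (hmem b).mp hb
  ext t
  rw [← smul_eq_zero_iff_of_mem_range 𝒜 p e he.injective hze hz0 t, hmem]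
  constructor
  · intro h
    rw [smul_comm, h, smul_zero]
  · intro h
    rw [← mul_smul] at h
    have h2 : t * b ∈ q := (hmem _).mpr h
    exact (hmem t).mp ((hq.mem_or_mem h2).resolve_right hbq)

/-- every element of an essential extension of `R ⧸ p` is killed by a power of `p` -/
theorem exists_pow_smul_eq_zero_of_isEssentialInj (he : InjHull.IsEssentialInj e) (x : E) :
    ∃ n : ℕ, ∀ r ∈ p.toIdeal ^ n, r • x = 0 := by
  have hfin : Module.Finite R (Submodule.span R {x}) :=
    Module.Finite.iff_fg.mpr (Submodule.fg_span_singleton x)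
  set J := Module.annihilator R (Submodule.span R {x}) with hJ
  have hle : p.toIdeal ≤ J.radical := by
    rw [← Ideal.sInf_minimalPrimes]
    apply le_sInf
    intro q hq
    have hass : q ∈ associatedPrimes R (Submodule.span R {x}) :=
      Module.associatedPrimes.minimalPrimes_annihilator_subset_associatedPrimes R _ hq
    have hass' : IsAssociatedPrime q E :=
      IsAssociatedPrime.map_of_injective (Submodule.span R {x}).subtype hass Subtype.val_injective
    obtain ⟨hqp, y, hy⟩ := isAssociatedPrime_iff.mp hass'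
    have := eq_of_colon_eq_of_isEssentialInj 𝒜 p e he q y hy
    rw [this]
  obtain ⟨n, hn⟩ := Ideal.exists_pow_le_of_le_radical_of_fg hle
    ((isNoetherianRing_iff_ideal_fg R).mp inferInstance _)
  refine ⟨n, fun r hr => ?_⟩
  have h1 : r ∈ J := hn hr
  rw [hJ, Module.mem_annihilator] at h1
  have h2 := h1 ⟨x, Submodule.mem_span_singleton_self x⟩
  exact congrArg Subtype.val h2

end Hull

end Groth.Agent.Lib.Helper39
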