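import Groth.Agent.Lib.Helper39.GrTop
import Groth.Agent.Lib.Helper39.GrQuot

/-!
# Vanishing of a piece of graded local cohomology for all resolutions (helper39)

`HVan a X j e`: for every *injective resolution `G` of the graded module `X`, `H^j_a(X)_e = 0`.
Closure under extensions (`HVan.mid`, `HVan.right`), shifts, products, torsion modules.
-/

set_option autoImplicit false
universe u

namespace Groth.Agent.Lib.Helper39.GrKoszul

open DirectSum GrLC Groth.Agent.Lib.Helper39 Groth.Agent.Lib.Helper39.GrLes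
  Groth.Agent.Lib.Helper39.GrRegVanish Groth.Agent.Lib.Helper39.GrTop

variable {ι : Type} [AddCommGroup ι] [DecidableEq ι] [Module.Free ℤ ι] [Module.Finite ℤ ι]
  {R : Type u} [CommRing R] [IsNoetherianRing R] {𝒜 : ι → AddSubgroup R} [GradedRing 𝒜]

/-- `H^j_a(X)_e = 0` for every *injective resolution of `X` -/
def HVan (a : HomogeneousIdeal 𝒜) (X : GMod.{u} 𝒜) (j : ℕ) (e : ι) : Prop :=
  ∀ G : StarInjRes 𝒜 X.gr, G.Hcomp a j e = ⊥

variable {a : HomogeneousIdeal 𝒜}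

omit [Module.Free ℤ ι] [Module.Finite ℤ ι] [IsNoetherianRing R] in
theorem HVan.of_one {X : GMod.{u} 𝒜} {j : ℕ} {e : ι} (E : StarInjRes 𝒜 X.gr)
    (h : E.Hcomp a j e = ⊥) : HVan a X j e := by
  intro G
  rw [eq_bot_iff]
  intro y hy
  have hy' : y ∈ G.Hgr a j e := hy
  have h1 : Hequiv a G E j y ∈ E.Hcomp a j e := Hequiv_mem_Hgr a G E j hy'
  rw [h, Submodule.mem_bot] at h1
  rw [Submodule.mem_bot]
  exact (Hequiv a G E j).injective (by rw [h1, map_zero])

theorem hvan_iff {X : GMod.{u} 𝒜} {j : ℕ} {e : ι} (E : StarInjRes 𝒜 X.gr) :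
    HVan a X j e ↔ E.Hcomp a j e = ⊥ := ⟨fun h => h E, HVan.of_one E⟩

/-- exactness in the middle -/
theorem HVan.mid {X' X X'' : GMod.{u} 𝒜} {i : X'.carrier →ₗ[R] X.carrier}
    {p : X.carrier →ₗ[R] X''.carrier} (S : GrSES X'.gr X.gr X''.gr i p) {j : ℕ} {e : ι}
    (h' : HVan a X' j e) (h'' : HVan a X'' j e) : HVan a X j e := by
  intro E
  obtain ⟨E'⟩ := Groth.Agent.S13215.result R 𝒜 X'.carrier X'.gr
  obtain ⟨E''⟩ := Groth.Agent.S13215.result R 𝒜 X''.carrier X''.gr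
  obtain ⟨δ, -, h1, -, -⟩ := exists_les S E' E E'' a
  rw [eq_bot_iff]
  intro y hy
  have hy' : y ∈ E.Hgr a j e := hy
  have hpy : Hmap₀ E E'' a p S.p_grHom j y ∈ E''.Hcomp a j e :=
    Hmap₀_isGrHom E E'' a p S.p_grHom j e y hy'
  rw [h'' E'', Submodule.mem_bot] at hpy
  obtain ⟨w₀, hw₀⟩ := (h1 j y).mp hpy
  obtain ⟨w, hw, hwy⟩ := exists_mem_of_isInternal (Hgr_isInternal E' a j) (Hgr_isInternal E a j) _
    (Hmap₀_isGrHom E' E a i S.i_grHom j) hy' w₀ hw₀
  have hw' : w ∈ E'.Hcomp a j e := hw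
  rw [h' E', Submodule.mem_bot] at hw'
  rw [Submodule.mem_bot, ← hwy, hw', map_zero]

/-- the connecting map -/
theorem HVan.right {X' X X'' : GMod.{u} 𝒜} {i : X'.carrier →ₗ[R] X.carrier}
    {p : X.carrier →ₗ[R] X''.carrier} (S : GrSES X'.gr X.gr X''.gr i p) {j : ℕ} {e : ι}
    (h : HVan a X j e) (h' : HVan a X' (j + 1) e) : HVan a X'' j e := by
  intro E''
  obtain ⟨E'⟩ := Groth.Agent.S13215.result R 𝒜 X'.carrier X'.gr
  obtain ⟨E⟩ := Groth.Agent.S13215.result R 𝒜 X.carrier X.gr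
  obtain ⟨δ, hδ, -, h2, -⟩ := exists_les S E' E E'' a
  rw [eq_bot_iff]
  intro y hy
  have hy' : y ∈ E''.Hgr a j e := hy
  have hδy : δ j y ∈ E'.Hcomp a (j + 1) e := hδ j e y hy'
  rw [h' E', Submodule.mem_bot] at hδy
  obtain ⟨w₀, hw₀⟩ := (h2 j y).mp hδy
  obtain ⟨w, hw, hwy⟩ := exists_mem_of_isInternal (Hgr_isInternal E a j) (Hgr_isInternal E'' a j) _
    (Hmap₀_isGrHom E E'' a p S.p_grHom j) hy' w₀ hw₀
  have hw' : w ∈ E.Hcomp a j e := hw
  rw [h E, Submodule.mem_bot] at hw'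
  rw [Submodule.mem_bot, ← hwy, hw', map_zero]

theorem HVan.of_torsion {X : GMod.{u} 𝒜}
    (htor : ∀ x : X.carrier, ∃ k : ℕ, ∀ r ∈ a.toIdeal ^ k, r • x = 0) {j : ℕ} (hj : 1 ≤ j) (e : ι) :
    HVan a X j e := by
  intro G
  haveI := H_subsingleton_of_torsion a G htor j hj
  rw [eq_bot_iff]
  intro y _
  rw [Submodule.mem_bot]
  exact Subsingleton.elim _ _

omit [Module.Free ℤ ι] [Module.Finite ℤ ι] [IsNoetherianRing R] in
theorem H_subsingleton_of_subsingleton {X : GMod.{u} 𝒜} [Subsingleton X.carrier]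
    (G : StarInjRes 𝒜 X.gr) (j : ℕ) : Subsingleton (G.H a j) := by
  have h0 : (0 : R) ∈ 𝒜 0 := zero_mem _
  have h1 : (LinearMap.id : X.carrier →ₗ[R] X.carrier) =
      (0 : R) • (LinearMap.id : X.carrier →ₗ[R] X.carrier) := by
    ext x
    exact Subsingleton.elim _ _
  have h2 := Hmap_congr (E := G) (F := G) a (isGrHomDeg_id (ℳ := X.gr))
    (isGrHomDeg_smul (ℳ := X.gr) h0) h1 rfl j
  refine ⟨fun x y => ?_⟩
  have hx : x = 0 := by
    have := LinearMap.congr_fun h2 x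
    rw [Hmap_id, Hmap_smul a h0] at this
    simpa using this
  have hy : y = 0 := by
    have := LinearMap.congr_fun h2 y
    rw [Hmap_id, Hmap_smul a h0] at this
    simpa using this
  rw [hx, hy]

omit [Module.Free ℤ ι] [Module.Finite ℤ ι] [IsNoetherianRing R] in
theorem HVan.of_subsingleton {X : GMod.{u} 𝒜} [Subsingleton X.carrier] (j : ℕ) (e : ι) :
    HVan a X j e := by
  intro G
  haveI := H_subsingleton_of_subsingleton (a := a) G j
  rw [eq_bot_iff]
  intro y _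
  rw [Submodule.mem_bot]
  exact Subsingleton.elim _ _

attribute [local instance] shiftDecomposition shiftGradedSMul

theorem HVan.shift {X : GMod.{u} 𝒜} {j : ℕ} {e g : ι} (h : HVan a X j (e + g)) :
    HVan a (gshift X g) j e := by
  obtain ⟨E⟩ := Groth.Agent.S13215.result R 𝒜 X.carrier X.gr
  refine HVan.of_one (X := gshift X g) (shiftRes E g) ?_
  rw [eq_bot_iff]
  intro y hy
  have hy' : y ∈ E.Hcomp a j (e + g) := hy
  rw [h E] at hy'
  exact hy'

theorem HVan.unshift {X : GMod.{u} 𝒜} {j : ℕ} {e g : ι} (h : HVan a (gshift X g) j e) :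
    HVan a X j (e + g) := by
  intro E
  have := h (shiftRes E g)
  rw [eq_bot_iff] at this ⊢
  intro y hy
  exact this (show y ∈ (shiftRes E g).Hcomp a j e from hy)

theorem HVan.prod {X Y : GMod.{u} 𝒜} {j : ℕ} {e : ι} (hX : HVan a X j e) (hY : HVan a Y j e) :
    HVan a (gprod 𝒜 X Y) j e := by
  have S : GrSES X.gr (gprod 𝒜 X Y).gr Y.gr (LinearMap.inl R X.carrier Y.carrier)
      (LinearMap.snd R X.carrier Y.carrier) :=
    { i_grHom := isGrHom_inl X.gr Y.gr
      p_grHom := fun _ _ hx => hx.2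
      i_inj := LinearMap.inl_injective
      p_surj := LinearMap.snd_surjective
      exact := (LinearMap.range_inl R X.carrier Y.carrier).symm }
  exact HVan.mid S hX hY

end Groth.Agent.Lib.Helper39.GrKoszul
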