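import Groth.Agent.Lib.Helper39.GrKoszul1

/-!
# Augmented complexes of graded modules with torsion homology: the chase (helper39)

`AugCx M₀`: a complex `… → K 1 → K 0 → M₀` of graded modules.  If its homology at the `K p` is
`a`-torsion, then `H^i_a(im (K 0 → M₀))_e = 0` as soon as `H^{i+p}_a(K p)_e = 0` for all `p`
(`core_chase`).
-/

set_option autoImplicit false
universe u

namespace Groth.Agent.Lib.Helper39.GrKoszul

open DirectSum GrLC Groth.Agent.Lib.Helper39 Groth.Agent.Lib.Helper39.GrLes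
  Groth.Agent.Lib.Helper39.GrRegVanish Groth.Agent.Lib.Helper39.GrTop

variable {ι : Type} [AddCommGroup ι] [DecidableEq ι]
  {R : Type u} [CommRing R] {𝒜 : ι → AddSubgroup R} [GradedRing 𝒜]

/-- a homogeneous submodule as a graded module -/
noncomputable abbrev gsub (X : GMod.{u} 𝒜) (P : Submodule R X.carrier) (hP : P.IsHomogeneous X.gr) :
    GMod.{u} 𝒜 :=
  { carrier := P
    gr := subPieces X.gr P
    dec := subDecomposition X.gr P hP
    gsmul := subGradedSMul 𝒜 X.gr P }

/-- the quotient by a homogeneous submodule as a graded module -/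
noncomputable abbrev gquot (X : GMod.{u} 𝒜) (P : Submodule R X.carrier) (hP : P.IsHomogeneous X.gr) :
    GMod.{u} 𝒜 :=
  { carrier := X.carrier ⧸ P
    gr := quotPieces X.gr P
    dec := quotDecomposition X.gr P hP
    gsmul := quotGradedSMul 𝒜 X.gr P }

theorem gsub_gquot_ses (X : GMod.{u} 𝒜) (P : Submodule R X.carrier) (hP : P.IsHomogeneous X.gr) :
    GrSES (gsub X P hP).gr X.gr (gquot X P hP).gr P.subtype P.mkQ :=
  { i_grHom := isGrHom_subtype X.gr P
    p_grHom := isGrHom_mkQ X.gr P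
    i_inj := Subtype.val_injective
    p_surj := Submodule.mkQ_surjective P
    exact := (Submodule.ker_mkQ P).trans (Submodule.range_subtype P).symm }

/-- an augmented complex of graded modules over `M₀` -/
structure AugCx (M₀ : GMod.{u} 𝒜) where
  K : ℕ → GMod.{u} 𝒜
  aug : (K 0).carrier →ₗ[R] M₀.carrier
  d : ∀ p, (K (p + 1)).carrier →ₗ[R] (K p).carrier
  aug_gr : IsGrHom (K 0).gr M₀.gr aug
  d_gr : ∀ p, IsGrHom (K (p + 1)).gr (K p).gr (d p)
  aug_d : ∀ z, aug (d 0 z) = 0
  d_d : ∀ p z, d p (d (p + 1) z) = 0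

namespace AugCx

variable {M₀ : GMod.{u} 𝒜} (A : AugCx M₀)

/-- the terms including the augmentation target: `T 0 = M₀`, `T (p+1) = K p` -/
def T : ℕ → GMod.{u} 𝒜
  | 0 => M₀
  | p + 1 => A.K p

/-- the differentials including the augmentation -/
def D : ∀ p, (A.T (p + 1)).carrier →ₗ[R] (A.T p).carrier
  | 0 => A.aug
  | p + 1 => A.d p

theorem D_gr : ∀ p, IsGrHom (A.T (p + 1)).gr (A.T p).gr (A.D p)
  | 0 => A.aug_gr
  | p + 1 => A.d_gr p

theorem D_D : ∀ p z, A.D p (A.D (p + 1) z) = 0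
  | 0 => A.aug_d
  | p + 1 => A.d_d p

/-- boundedness -/
def Bdd (n : ℕ) : Prop := ∀ p, n ≤ p → Subsingleton (A.K p).carrier

/-- the homology at the `K p` is torsion -/
def IsTor (a : Ideal R) : Prop :=
  ∀ p (z : (A.K p).carrier), A.D p z = 0 → ∃ k : ℕ, ∀ r ∈ a ^ k, r • z ∈ LinearMap.range (A.d p)

/-- the tail of the complex, augmented over `K 0` -/
def tail : AugCx (A.K 0) where
  K p := A.K (p + 1)
  aug := A.d 0
  d p := A.d (p + 1)
  aug_gr := A.d_gr 0
  d_gr p := A.d_gr (p + 1)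
  aug_d := A.d_d 0
  d_d p := A.d_d (p + 1)

theorem tail_bdd {n : ℕ} (h : A.Bdd (n + 1)) : A.tail.Bdd n := fun p hp => h (p + 1) (by omega)

theorem tail_isTor {a : Ideal R} (h : A.IsTor a) : A.tail.IsTor a := by
  intro p z hz
  cases p with
  | zero => exact h 1 z hz
  | succ q => exact h (q + 2) z hz

end AugCx

section Chase
variable [Module.Free ℤ ι] [Module.Finite ℤ ι] [IsNoetherianRing R] (a : HomogeneousIdeal 𝒜)

theorem range_aug_isHomogeneous {M₀ : GMod.{u} 𝒜} (A : AugCx M₀) :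
    (LinearMap.range A.aug).IsHomogeneous M₀.gr :=
  IsGrHom.range_isHomogeneous (A.K 0).gr M₀.gr A.aug_gr

/-- **The core chase.** -/
theorem core_chase : ∀ (n : ℕ) (M₀ : GMod.{u} 𝒜) (A : AugCx M₀), A.Bdd n → A.IsTor a.toIdeal →
    ∀ (i : ℕ) (e : ι), (∀ p, p < n → HVan a (A.K p) (i + p) e) →
      HVan a (gsub M₀ (LinearMap.range A.aug) (range_aug_isHomogeneous A)) i e := by
  intro n
  induction n with
  | zero =>
    intro M₀ A hb _ i e _
    haveI : Subsingleton (A.K 0).carrier := hb 0 le_rfl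
    haveI : Subsingleton (gsub M₀ (LinearMap.range A.aug) (range_aug_isHomogeneous A)).carrier := by
      refine ⟨fun x y => ?_⟩
      obtain ⟨x, ⟨x', rfl⟩⟩ := x
      obtain ⟨y, ⟨y', rfl⟩⟩ := y
      apply Subtype.ext
      show A.aug x' = A.aug y'
      rw [Subsingleton.elim x' y']
    exact HVan.of_subsingleton i e
  | succ n ih =>
    intro M₀ A hb ht i e hyp
    -- the submodules
    have hZh : (LinearMap.ker A.aug).IsHomogeneous (A.K 0).gr :=
      IsGrHom.ker_isHomogeneous (A.K 0).gr M₀.gr A.aug_gr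
    have hB₁h : (LinearMap.range (A.d 0)).IsHomogeneous (A.K 0).gr :=
      range_aug_isHomogeneous A.tail
    have hle : LinearMap.range (A.d 0) ≤ LinearMap.ker A.aug := by
      rintro _ ⟨z, rfl⟩
      exact LinearMap.mem_ker.mpr (A.aug_d z)
    letI decZ : Decomposition (subPieces (A.K 0).gr (LinearMap.ker A.aug)) :=
      subDecomposition _ _ hZh
    letI decB₁ : Decomposition (subPieces (A.K 0).gr (LinearMap.range (A.d 0))) :=
      subDecomposition _ _ hB₁h
    -- `0 → Z → K 0 → B → 0`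
    have S2 : GrSES (gsub (A.K 0) (LinearMap.ker A.aug) hZh).gr (A.K 0).gr
        (gsub M₀ (LinearMap.range A.aug) (range_aug_isHomogeneous A)).gr
        (LinearMap.ker A.aug).subtype A.aug.rangeRestrict :=
      { i_grHom := isGrHom_subtype (A.K 0).gr _
        p_grHom := fun j z hz => A.aug_gr j z hz
        i_inj := Subtype.val_injective
        p_surj := LinearMap.surjective_rangeRestrict _
        exact := (LinearMap.ker_rangeRestrict A.aug).trans
          (Submodule.range_subtype (LinearMap.ker A.aug)).symm }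
    refine HVan.right S2 (by simpa using hyp 0 (by omega)) ?_
    -- `0 → B₁ → Z → Z/B₁ → 0`
    let inc : (LinearMap.range (A.d 0)) →ₗ[R] (LinearMap.ker A.aug) := Submodule.inclusion hle
    have hincg : IsGrHom (gsub (A.K 0) (LinearMap.range (A.d 0)) hB₁h).gr
        (gsub (A.K 0) (LinearMap.ker A.aug) hZh).gr inc := fun j z hz => hz
    have hQh : (LinearMap.range inc).IsHomogeneous (gsub (A.K 0) (LinearMap.ker A.aug) hZh).gr :=
      IsGrHom.range_isHomogeneous _ _ hincg
    have S3 : GrSES (gsub (A.K 0) (LinearMap.range (A.d 0)) hB₁h).gr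
        (gsub (A.K 0) (LinearMap.ker A.aug) hZh).gr
        (gquot (gsub (A.K 0) (LinearMap.ker A.aug) hZh) (LinearMap.range inc) hQh).gr
        inc (LinearMap.range inc).mkQ :=
      { i_grHom := hincg
        p_grHom := isGrHom_mkQ _ _
        i_inj := Submodule.inclusion_injective hle
        p_surj := Submodule.mkQ_surjective _
        exact := Submodule.ker_mkQ (LinearMap.range inc) }
    refine HVan.mid S3 ?_ ?_
    · -- induction hypothesis on the tail
      have := ih (A.K 0) A.tail (A.tail_bdd hb) (A.tail_isTor ht) (i + 1) e (fun p hp => by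
        have := hyp (p + 1) (by omega)
        rw [show i + (p + 1) = i + 1 + p by ring] at this
        exact this)
      exact this
    · -- torsion
      apply HVan.of_torsion _ (by omega) e
      intro x
      obtain ⟨⟨z, hz⟩, rfl⟩ := Submodule.mkQ_surjective _ x
      obtain ⟨k, hk⟩ := ht 0 z (LinearMap.mem_ker.mp hz)
      refine ⟨k, fun r hr => ?_⟩
      rw [← map_smul, Submodule.mkQ_apply, Submodule.Quotient.mk_eq_zero]
      obtain ⟨w, hw⟩ := hk r hr
      exact ⟨⟨A.d 0 w, ⟨w, rfl⟩⟩, Subtype.ext hw⟩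

/-- persistence form of the chase: `H^i(M₀)_e = 0` for `i ≥ 1` -/
theorem chase_pos {n : ℕ} {M₀ : GMod.{u} 𝒜} (A : AugCx M₀) (hb : A.Bdd n) (ht : A.IsTor a.toIdeal)
    (htM : ∀ m : M₀.carrier, ∃ k : ℕ, ∀ r ∈ a.toIdeal ^ k, r • m ∈ LinearMap.range A.aug)
    {i : ℕ} (hi : 1 ≤ i) (e : ι) (hyp : ∀ p, p < n → HVan a (A.K p) (i + p) e) :
    HVan a M₀ i e := by
  refine HVan.mid (gsub_gquot_ses M₀ _ (range_aug_isHomogeneous A))
    (core_chase a n M₀ A hb ht i e hyp) ?_
  apply HVan.of_torsion _ hi e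
  intro x
  obtain ⟨m, rfl⟩ := Submodule.mkQ_surjective _ x
  obtain ⟨k, hk⟩ := htM m
  refine ⟨k, fun r hr => ?_⟩
  rw [← map_smul, Submodule.mkQ_apply, Submodule.Quotient.mk_eq_zero]
  exact hk r hr

/-- generation form of the chase: `H^0(M₀/B)_e = 0` -/
theorem chase_zero {n : ℕ} {M₀ : GMod.{u} 𝒜} (A : AugCx M₀) (hb : A.Bdd n) (ht : A.IsTor a.toIdeal)
    (e : ι) (h0 : HVan a M₀ 0 e) (hyp : ∀ p, p < n → HVan a (A.K p) (1 + p) e) :
    HVan a (gquot M₀ (LinearMap.range A.aug) (range_aug_isHomogeneous A)) 0 e :=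
  HVan.right (gsub_gquot_ses M₀ _ (range_aug_isHomogeneous A)) h0
    (core_chase a n M₀ A hb ht 1 e hyp)

end Chase

end Groth.Agent.Lib.Helper39.GrKoszul
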