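import Groth.Agent.Lib.Helper39.GrKoszul2

/-!
# The Koszul complex of degree-one elements as an augmented complex (helper39)
-/

set_option autoImplicit false
universe u

namespace Groth.Agent.Lib.Helper39.GrKoszul

open DirectSum GrLC Groth.Agent.Lib.Helper39 Groth.Agent.Lib.Helper39.GrLes
  Groth.Agent.Lib.Helper39.GrRegVanish Groth.Agent.Lib.Helper39.GrTop

variable {R : Type u} [CommRing R] {𝒜 : ℤ → AddSubgroup R} [GradedRing 𝒜]

/-- the sign `(-1)^(p+1)` -/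
def eps (p : ℕ) : R := (-1) ^ (p + 1)

theorem eps_zero : (eps 0 : R) = -1 := by simp [eps]
theorem eps_succ (p : ℕ) : (eps (p + 1) : R) = - eps p := by simp [eps, pow_succ]
theorem eps_mul_self (p : ℕ) : (eps p : R) * eps p = 1 := by
  unfold eps
  rw [← pow_add, ← two_mul, pow_mul]
  simp

namespace AugCx

variable {M₀ : GMod.{u} 𝒜} (A : AugCx M₀)

/-- the augmentation of the cone -/
noncomputable def coneAug (x : R) : (A.K 0).carrier × M₀.carrier →ₗ[R] M₀.carrier :=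
  A.aug.coprod (x • (LinearMap.id : M₀.carrier →ₗ[R] M₀.carrier))

@[simp] theorem coneAug_apply (x : R) (z₁ : (A.K 0).carrier) (z₂ : M₀.carrier) :
    A.coneAug x (z₁, z₂) = A.aug z₁ + x • z₂ := rfl

/-- the differential of the cone -/
noncomputable def coneD (x : R) (p : ℕ) :
    (A.K (p + 1)).carrier × (A.K p).carrier →ₗ[R] (A.K p).carrier × (A.T p).carrier :=
  LinearMap.prod
    ((A.d p).coprod ((eps p * x) • (LinearMap.id : (A.K p).carrier →ₗ[R] (A.K p).carrier)))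
    (A.D p ∘ₗ LinearMap.snd R (A.K (p + 1)).carrier (A.K p).carrier)

@[simp] theorem coneD_apply (x : R) (p : ℕ) (z₁ : (A.K (p + 1)).carrier) (z₂ : (A.K p).carrier) :
    A.coneD x p (z₁, z₂) = (A.d p z₁ + (eps p * x) • z₂, A.D p z₂) := rfl

theorem eps_mem (p : ℕ) : (eps p : R) ∈ 𝒜 0 := by
  unfold eps
  have h1 : (-1 : R) ∈ 𝒜 0 := neg_mem (SetLike.GradedOne.one_mem (A := 𝒜))
  have := SetLike.pow_mem_graded (A := 𝒜) (p + 1) h1
  simpa using this

theorem coneAug_gr {x : R} (hx : x ∈ 𝒜 1) (j : ℤ) (z₁ : (A.K 0).carrier) (z₂ : M₀.carrier)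
    (h₁ : z₁ ∈ (A.K 0).gr j) (h₂ : z₂ ∈ M₀.gr (j + -1)) : A.coneAug x (z₁, z₂) ∈ M₀.gr j := by
  rw [coneAug_apply]
  refine add_mem (A.aug_gr j z₁ h₁) ?_
  have := SetLike.GradedSMul.smul_mem (A := 𝒜) (B := M₀.gr) hx h₂
  rw [vadd_eq_add, add_neg_cancel_comm_assoc] at this
  exact this

theorem coneD_gr {x : R} (hx : x ∈ 𝒜 1) (p : ℕ) (j : ℤ) (z₁ : (A.K (p + 1)).carrier)
    (z₂ : (A.K p).carrier) (h₁ : z₁ ∈ (A.K (p + 1)).gr j) (h₂ : z₂ ∈ (A.K p).gr (j + -1)) :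
    (A.coneD x p (z₁, z₂)).1 ∈ (A.K p).gr j ∧ (A.coneD x p (z₁, z₂)).2 ∈ (A.T p).gr (j + -1) := by
  rw [coneD_apply]
  refine ⟨?_, A.D_gr p (j + -1) z₂ h₂⟩
  refine add_mem (A.d_gr p j z₁ h₁) ?_
  have h3 := SetLike.GradedSMul.smul_mem (A := 𝒜) (B := (A.K p).gr) hx h₂
  rw [vadd_eq_add, add_neg_cancel_comm_assoc] at h3
  rw [mul_smul]
  have h5 := SetLike.GradedSMul.smul_mem (A := 𝒜) (B := (A.K p).gr) (eps_mem p) h3
  rw [vadd_eq_add, zero_add] at h5
  exact h5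

theorem coneAug_coneD (x : R) (z₁ : (A.K 1).carrier) (z₂ : (A.K 0).carrier) :
    A.coneAug x (A.coneD x 0 (z₁, z₂)) = 0 := by
  rw [coneD_apply]
  show A.aug (A.d 0 z₁ + (eps 0 * x) • z₂) + x • A.aug z₂ = 0
  rw [map_add, A.aug_d, zero_add, map_smul, eps_zero]
  simp

theorem coneD_coneD (x : R) (p : ℕ) (z₁ : (A.K (p + 2)).carrier) (z₂ : (A.K (p + 1)).carrier) :
    A.coneD x p (A.coneD x (p + 1) (z₁, z₂)) = 0 := by
  rw [coneD_apply]
  show (A.d p (A.d (p + 1) z₁ + (eps (p + 1) * x) • z₂) + (eps p * x) • A.d p z₂,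
    A.D p (A.d p z₂)) = 0
  rw [map_add, A.d_d, zero_add, map_smul, eps_succ]
  have h : A.D p (A.d p z₂) = 0 := A.D_D p z₂
  rw [h]
  simp

/-- the mapping cone of multiplication by a degree-one element `x` -/
noncomputable def cone {x : R} (hx : x ∈ 𝒜 1) : AugCx M₀ where
  K p := gprod 𝒜 (A.K p) (gshift (A.T p) (-1))
  aug := A.coneAug x
  d p := A.coneD x p
  aug_gr := fun j z hz => A.coneAug_gr hx j z.1 z.2 hz.1 hz.2
  d_gr := fun p j z hz => A.coneD_gr hx p j z.1 z.2 hz.1 hz.2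
  aug_d := fun z => A.coneAug_coneD x z.1 z.2
  d_d := fun p z => A.coneD_coneD x p z.1 z.2

/-- per-element torsion of the homology, including at `M₀` -/
def TorE (X : Set R) : Prop :=
  (∀ (m : M₀.carrier), ∀ y ∈ X, ∃ k : ℕ, y ^ k • m ∈ LinearMap.range A.aug) ∧
  (∀ p (z : (A.K p).carrier), A.D p z = 0 → ∀ y ∈ X, ∃ k : ℕ, y ^ k • z ∈ LinearMap.range (A.d p))

/-- cycles, with every element of `M₀` a cycle -/
def IsCyc : ∀ p, (A.T p).carrier → Prop
  | 0, _ => True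
  | p + 1, z => A.D p z = 0

variable {A} in
theorem TorE.torT {X : Set R} (h : A.TorE X) : ∀ p (z : (A.T p).carrier), A.IsCyc p z → ∀ y ∈ X,
    ∃ (k : ℕ) (w : (A.T (p + 1)).carrier), A.D p w = y ^ k • z
  | 0, z, _, y, hy => by
    obtain ⟨k, w, hw⟩ := h.1 z y hy
    exact ⟨k, w, hw⟩
  | p + 1, z, hc, y, hy => by
    obtain ⟨k, w, hw⟩ := h.2 p z hc y hy
    exact ⟨k, w, hw⟩

theorem cone_cyc_zero {x : R} (hx : x ∈ 𝒜 1) (a : (A.K 0).carrier) (b : M₀.carrier)
    (h : (A.cone hx).D 0 (a, b) = 0) : A.aug a = (eps 0 * x) • b := by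
  have h' : A.aug a + x • b = 0 := h
  rw [eps_zero, neg_one_mul, neg_smul]
  exact eq_neg_of_add_eq_zero_left h'

theorem cone_cyc_succ {x : R} (hx : x ∈ 𝒜 1) (q : ℕ) (a : (A.K (q + 1)).carrier)
    (b : (A.K q).carrier) (h : (A.cone hx).D (q + 1) (a, b) = 0) :
    A.D q b = 0 ∧ A.d q a = (eps (q + 1) * x) • b := by
  have h' : (A.d q a + (eps q * x) • b, A.D q b) = (0 : (A.K q).carrier × (A.T q).carrier) := h
  have h1 := congrArg Prod.fst h'
  have h2 := congrArg Prod.snd h'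
  refine ⟨h2, ?_⟩
  rw [eps_succ, neg_mul, neg_smul]
  exact eq_neg_of_add_eq_zero_left h1

theorem cone_cyc {x : R} (hx : x ∈ 𝒜 1) : ∀ p (a : (A.K p).carrier) (b : (A.T p).carrier),
    (A.cone hx).D p (a, b) = 0 → A.IsCyc p b ∧ A.D p a = (eps p * x) • b
  | 0, a, b, h => ⟨trivial, A.cone_cyc_zero hx a b h⟩
  | q + 1, a, b, h => A.cone_cyc_succ hx q a b h

theorem D_smul' (p : ℕ) (c : R) (z : (A.K p).carrier) : A.D p (c • z) = c • A.D p z :=
  map_smul (A.D p) c z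

theorem D_sub' (p : ℕ) (z z' : (A.K p).carrier) : A.D p (z - z') = A.D p z - A.D p z' :=
  map_sub (A.D p) z z'

theorem cone_cyc_aux {x : R} (p : ℕ) (a : (A.K p).carrier) (b : (A.T p).carrier)
    (hab : A.D p a = (eps p * x) • b) (y : R) (k : ℕ) (b'' : (A.K p).carrier)
    (hb'' : A.D p b'' = y ^ k • b) : A.D p (y ^ k • a - (eps p * x) • b'') = 0 := by
  rw [D_sub', D_smul', D_smul', hab, hb'', smul_smul, smul_smul, mul_comm, sub_self]

/-- the key computation: boundaries in the cone -/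
theorem cone_tor_aux {x : R} (p : ℕ) (a : (A.K p).carrier) (b : (A.T p).carrier)
    (hab : A.D p a = (eps p * x) • b) (y : R) (k k' : ℕ) (b' : (A.K p).carrier)
    (hb' : A.D p b' = y ^ k • b) (a₂ : (A.K (p + 1)).carrier)
    (ha₂ : A.d p a₂ = y ^ k' • (y ^ k • a - (eps p * x) • b')) :
    A.coneD x p (a₂, y ^ k' • b') = y ^ (k' + k) • ((a, b) : (A.K p).carrier × (A.T p).carrier) := by
  rw [coneD_apply, ha₂, D_smul', hb']
  apply Prod.ext
  · show y ^ k' • (y ^ k • a - (eps p * x) • b') + (eps p * x) • y ^ k' • b' = y ^ (k' + k) • a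
    rw [smul_sub, smul_comm (eps p * x) (y ^ k') b', sub_add_cancel, smul_smul, pow_add]
  · show y ^ k' • y ^ k • b = y ^ (k' + k) • b
    rw [smul_smul, pow_add]

theorem cone_tor_new {x : R} (p : ℕ) (a : (A.K p).carrier) (b : (A.T p).carrier)
    (hab : A.D p a = (eps p * x) • b) :
    A.coneD x p (0, (eps p : R) • a) = x ^ 1 • ((a, b) : (A.K p).carrier × (A.T p).carrier) := by
  rw [coneD_apply, map_zero, zero_add, D_smul', hab, pow_one]
  apply Prod.ext
  · show (eps p * x) • (eps p : R) • a = x • a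
    rw [smul_smul, mul_comm (eps p * x), ← mul_assoc, eps_mul_self, one_mul]
  · show (eps p : R) • (eps p * x) • b = x • b
    rw [smul_smul, ← mul_assoc, eps_mul_self, one_mul]

theorem cone_torE {x : R} (hx : x ∈ 𝒜 1) {X : Set R} (h : A.TorE X) :
    (A.cone hx).TorE (insert x X) := by
  constructor
  · intro m y hy
    rcases hy with rfl | hy
    · exact ⟨1, ⟨((0 : (A.K 0).carrier), m), by
        show A.aug 0 + y • m = y ^ 1 • m
        rw [map_zero, zero_add, pow_one]⟩⟩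
    · obtain ⟨k, w, hw⟩ := h.1 m y hy
      exact ⟨k, ⟨(w, (0 : M₀.carrier)), by
        show A.aug w + x • (0 : M₀.carrier) = y ^ k • m
        rw [smul_zero, add_zero, hw]⟩⟩
  · rintro p ⟨a, b⟩ hz y hy
    obtain ⟨hcb, hab⟩ := A.cone_cyc hx p a b hz
    rcases hy with rfl | hy
    · exact ⟨1, ⟨_, A.cone_tor_new p a b hab⟩⟩
    · obtain ⟨k, b', hb'⟩ := h.torT p b hcb y hy
      have hcyc := A.cone_cyc_aux p a b hab y k b' hb'
      obtain ⟨k', a₂, ha₂⟩ := h.torT (p + 1) _ hcyc y hy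
      exact ⟨k' + k, ⟨_, A.cone_tor_aux p a b hab y k k' b' hb' a₂ ha₂⟩⟩

theorem cone_bdd {x : R} (hx : x ∈ 𝒜 1) {n : ℕ} (h : A.Bdd n) : (A.cone hx).Bdd (n + 1) := by
  intro p hp
  obtain ⟨q, rfl⟩ : ∃ q, p = q + 1 := ⟨p - 1, by omega⟩
  haveI : Subsingleton (A.K (q + 1)).carrier := h (q + 1) (by omega)
  haveI : Subsingleton (A.K q).carrier := h q (by omega)
  show Subsingleton ((A.K (q + 1)).carrier × (A.K q).carrier)
  infer_instance

theorem cone_range_aug {x : R} (hx : x ∈ 𝒜 1) :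
    LinearMap.range (A.cone hx).aug = LinearMap.range A.aug ⊔
      LinearMap.range (x • (LinearMap.id : M₀.carrier →ₗ[R] M₀.carrier)) :=
  LinearMap.range_coprod _ _

end AugCx

section Van
variable [IsNoetherianRing R] (a : HomogeneousIdeal 𝒜)

/-- vanishing of local cohomology of the terms follows from that of `M₀` in shifted degree -/
def AugCx.Van {M₀ : GMod.{u} 𝒜} (A : AugCx M₀) : Prop :=
  ∀ (p j : ℕ) (e : ℤ), HVan a M₀ j (e + -(p : ℤ)) → HVan a (A.T p) j e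

theorem AugCx.cone_van {M₀ : GMod.{u} 𝒜} (A : AugCx M₀) {x : R} (hx : x ∈ 𝒜 1) (h : A.Van a) :
    (A.cone hx).Van a := by
  intro p j e hM
  cases p with
  | zero =>
    have : e + -((0 : ℕ) : ℤ) = e := by simp
    rw [this] at hM
    exact hM
  | succ q =>
    have h1 : HVan a (A.T (q + 1)) j e := h (q + 1) j e hM
    have h2 : HVan a (A.T q) j (e + -1) := h q j (e + -1) (by
      have : e + -1 + -(q : ℤ) = e + -((q + 1 : ℕ) : ℤ) := by push_cast; ring
      rw [this]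
      exact hM)
    exact HVan.prod h1 (HVan.shift h2)

end Van

end Groth.Agent.Lib.Helper39.GrKoszul
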