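import Groth.Agent.Lib.Helper39.GrKoszul3

/-!
# Existence of Koszul complexes and persistence of Castelnuovo–Mumford regularity (helper39)
-/

set_option autoImplicit false
universe u

namespace Groth.Agent.Lib.Helper39.GrKoszul

open DirectSum GrLC Groth.Agent.Lib.Helper39 Groth.Agent.Lib.Helper39.GrLes
  Groth.Agent.Lib.Helper39.GrRegVanish Groth.Agent.Lib.Helper39.GrTop

variable {R : Type u} [CommRing R] {𝒜 : ℤ → AddSubgroup R} [GradedRing 𝒜]

/-- the zero complex over `M₀` -/
noncomputable def nilCx (M₀ : GMod.{u} 𝒜) : AugCx M₀ where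
  K _ := gsub M₀ ⊥ (fun _ _ hx => by
    rw [Submodule.mem_bot] at hx
    subst hx
    rw [decompose_zero]
    exact zero_mem _)
  aug := (⊥ : Submodule R M₀.carrier).subtype
  d _ := 0
  aug_gr := fun _ _ hz => hz
  d_gr := fun _ _ _ _ => zero_mem _
  aug_d := fun _ => rfl
  d_d := fun _ _ => rfl

theorem nilCx_bdd (M₀ : GMod.{u} 𝒜) : (nilCx M₀).Bdd 0 := by
  intro p _
  show Subsingleton (⊥ : Submodule R M₀.carrier)
  infer_instance

theorem nilCx_torE (M₀ : GMod.{u} 𝒜) : (nilCx M₀).TorE ∅ :=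
  ⟨fun _ _ hy => absurd hy (Set.notMem_empty _), fun _ _ _ _ hy => absurd hy (Set.notMem_empty _)⟩

theorem nilCx_range (M₀ : GMod.{u} 𝒜) : LinearMap.range (nilCx M₀).aug = ⊥ :=
  Submodule.range_subtype _

theorem nilCx_van [IsNoetherianRing R] (a : HomogeneousIdeal 𝒜) (M₀ : GMod.{u} 𝒜) :
    (nilCx M₀).Van a := by
  intro p j e hM
  cases p with
  | zero =>
    have : e + -((0 : ℕ) : ℤ) = e := by simp
    rw [this] at hM
    exact hM
  | succ q =>
    haveI : Subsingleton ((nilCx M₀).T (q + 1)).carrier := nilCx_bdd M₀ q (Nat.zero_le _)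
    exact HVan.of_subsingleton j e

section Exists
variable [IsNoetherianRing R] (a : HomogeneousIdeal 𝒜)

/-- **Existence of the Koszul complex** of a list of degree-one elements. -/
theorem exists_koszul (M₀ : GMod.{u} 𝒜) : ∀ xs : List R, (∀ x ∈ xs, x ∈ 𝒜 1) →
    ∃ A : AugCx M₀, A.Bdd xs.length ∧ A.TorE {x | x ∈ xs} ∧ A.Van a ∧
      LinearMap.range A.aug = Ideal.ofList xs • (⊤ : Submodule R M₀.carrier)
  | [], _ => ⟨nilCx M₀, nilCx_bdd M₀, by
      have : {x : R | x ∈ ([] : List R)} = ∅ := by ext; simp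
      rw [this]
      exact nilCx_torE M₀, nilCx_van a M₀, by
      rw [nilCx_range, Ideal.ofList_nil, Submodule.bot_smul]⟩
  | x :: xs, h => by
    obtain ⟨A, hb, ht, hv, hr⟩ := exists_koszul M₀ xs (fun y hy => h y (List.mem_cons_of_mem _ hy))
    have hx : x ∈ 𝒜 1 := h x List.mem_cons_self
    refine ⟨A.cone hx, A.cone_bdd hx hb, ?_, A.cone_van a hx hv, ?_⟩
    · have : {y : R | y ∈ x :: xs} = insert x {y | y ∈ xs} := by
        ext y
        simp
      rw [this]
      exact A.cone_torE hx ht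
    · rw [A.cone_range_aug hx, hr, Ideal.ofList_cons, Submodule.sup_smul, sup_comm,
        Submodule.ideal_span_singleton_smul]
      congr 1
      ext m
      simp [Submodule.mem_smul_pointwise_iff_exists]

/-- from per-element torsion to ideal-power torsion -/
theorem exists_pow_smul_mem_of_forall {M : Type u} [AddCommGroup M] [Module R M]
    (N : Submodule R M) (xs : List R) (z : M)
    (h : ∀ y ∈ xs, ∃ k : ℕ, y ^ k • z ∈ N) : ∃ k : ℕ, ∀ r ∈ Ideal.ofList xs ^ k, r • z ∈ N := by
  let J : Ideal R := N.colon (Submodule.span R {z})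
  have hJ : ∀ r : R, r ∈ J ↔ r • z ∈ N := fun r => by
    show r ∈ N.colon (Submodule.span R {z}) ↔ _
    rw [Submodule.mem_colon]
    constructor
    · intro hr
      exact hr z (Submodule.mem_span_singleton_self z)
    · intro hr w hw
      obtain ⟨c, rfl⟩ := Submodule.mem_span_singleton.mp hw
      rw [smul_comm]
      exact N.smul_mem c hr
  have hle : Ideal.ofList xs ≤ J.radical := by
    rw [Ideal.ofList, Ideal.span_le]
    intro y hy
    obtain ⟨k, hk⟩ := h y hy
    exact ⟨k, (hJ _).mpr hk⟩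
  obtain ⟨k, hk⟩ := Ideal.exists_pow_le_of_le_radical_of_fg hle
    (by rw [Ideal.ofList]; exact Submodule.fg_span (List.finite_toSet xs))
  exact ⟨k, fun r hr => (hJ r).mp (hk hr)⟩

theorem isTor_of_torE {M₀ : GMod.{u} 𝒜} (A : AugCx M₀) (xs : List R) (h : A.TorE {x | x ∈ xs})
    (ha : a.toIdeal = Ideal.ofList xs) :
    A.IsTor a.toIdeal ∧
      ∀ m : M₀.carrier, ∃ k : ℕ, ∀ r ∈ a.toIdeal ^ k, r • m ∈ LinearMap.range A.aug := by
  rw [ha]
  exact ⟨fun p z hz => exists_pow_smul_mem_of_forall _ xs z (fun y hy => h.2 p z hz y hy),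
    fun m => exists_pow_smul_mem_of_forall _ xs m (fun y hy => h.1 m y hy)⟩

end Exists

end Groth.Agent.Lib.Helper39.GrKoszul
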