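import Groth.Agent.Lib.Helper39.GrKoszul4

/-!
# Persistence of Castelnuovo–Mumford regularity over a standard graded Noetherian ring (helper39)
-/

set_option autoImplicit false
universe u

namespace Groth.Agent.Lib.Helper39.GrKoszul

open DirectSum GrLC Groth.Agent.Lib.Helper39 Groth.Agent.Lib.Helper39.GrLes
  Groth.Agent.Lib.Helper39.GrRegVanish Groth.Agent.Lib.Helper39.GrTop

variable {R : Type u} [CommRing R] [IsNoetherianRing R] {𝒜 : ℤ → AddSubgroup R} [GradedRing 𝒜]
  (a : HomogeneousIdeal 𝒜)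

/-- a finite list of degree-one generators of an ideal generated in degree one -/
theorem exists_list_of_std (hstd : a.toIdeal = Ideal.span ((𝒜 1 : AddSubgroup R) : Set R)) :
    ∃ xs : List R, (∀ x ∈ xs, x ∈ 𝒜 1) ∧ a.toIdeal = Ideal.ofList xs := by
  classical
  have hmfg : (Ideal.span ((𝒜 1 : AddSubgroup R) : Set R)).FG := IsNoetherian.noetherian _
  obtain ⟨T, hTsub, hTspan⟩ := (Submodule.fg_span_iff_fg_span_finset_subset _).mp hmfg
  refine ⟨T.toList, fun x hx => hTsub (Finset.mem_toList.mp hx), ?_⟩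
  rw [hstd, Ideal.ofList]
  have h2 : {x | x ∈ T.toList} = (T : Set R) := by
    ext x
    simp
  rw [h2]
  exact hTspan

/-- **Existence of a Koszul complex with torsion homology** for an ideal generated in degree 1. -/
theorem exists_koszul_std (hstd : a.toIdeal = Ideal.span ((𝒜 1 : AddSubgroup R) : Set R))
    (M₀ : GMod.{u} 𝒜) :
    ∃ (n : ℕ) (A : AugCx M₀), A.Bdd n ∧ A.IsTor a.toIdeal ∧
      (∀ m : M₀.carrier, ∃ k : ℕ, ∀ r ∈ a.toIdeal ^ k, r • m ∈ LinearMap.range A.aug) ∧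
      A.Van a ∧ LinearMap.range A.aug = a.toIdeal • (⊤ : Submodule R M₀.carrier) := by
  obtain ⟨xs, hxs, ha⟩ := exists_list_of_std a hstd
  obtain ⟨A, hb, ht, hv, hr⟩ := exists_koszul a M₀ xs hxs
  obtain ⟨h1, h2⟩ := isTor_of_torE a A xs ht ha
  exact ⟨xs.length, A, hb, h1, h2, hv, by rw [hr, ha]⟩

/-- **Persistence of regularity, one step.** -/
theorem persistence_step (hstd : a.toIdeal = Ideal.span ((𝒜 1 : AddSubgroup R) : Set R))
    (M₀ : GMod.{u} 𝒜) (l : ℕ) (hl : 1 ≤ l) (r : ℤ)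
    (h : ∀ i : ℕ, l ≤ i → HVan a M₀ i (r + 1 - i)) :
    ∀ i : ℕ, l ≤ i → HVan a M₀ i (r + 2 - i) := by
  obtain ⟨n, A, hb, ht, htM, hv, -⟩ := exists_koszul_std a hstd M₀
  intro i hi
  refine chase_pos a A hb ht htM (by omega) _ (fun p _ => ?_)
  have h1 := hv (p + 1) (i + p) (r + 2 - i) (by
    have := h (i + p) (by omega)
    have e : r + 2 - (i : ℤ) + -((p + 1 : ℕ) : ℤ) = r + 1 - ((i + p : ℕ) : ℤ) := by
      push_cast; ring
    rw [e]
    exact this)
  exact h1

/-- **Persistence of regularity.** -/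
theorem persistence (hstd : a.toIdeal = Ideal.span ((𝒜 1 : AddSubgroup R) : Set R))
    (M₀ : GMod.{u} 𝒜) (l : ℕ) (hl : 1 ≤ l) (r : ℤ)
    (h : ∀ i : ℕ, l ≤ i → HVan a M₀ i (r + 1 - i)) (t : ℕ) :
    ∀ i : ℕ, l ≤ i → HVan a M₀ i (r + 1 + t - i) := by
  induction t with
  | zero => simpa using h
  | succ t ih =>
    have := persistence_step a hstd M₀ l hl (r + t) (fun i hi => by
      have := ih i hi
      rw [show r + (t : ℤ) + 1 - (i : ℤ) = r + 1 + t - i by ring]
      exact this)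
    intro i hi
    have h2 := this i hi
    rw [show r + 1 + ((t + 1 : ℕ) : ℤ) - (i : ℤ) = r + t + 2 - i by push_cast; ring]
    exact h2

end Groth.Agent.Lib.Helper39.GrKoszul
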