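import Groth.Prelude.Def_GrLC
import Mathlib.Tactic

/-!
# Basic lemmas on homogeneous maps of graded modules (helper39)
-/

set_option autoImplicit false
universe u

namespace Groth.Agent.Lib.Helper39

open DirectSum GrLC

section
variable {ι : Type} [DecidableEq ι] {R : Type u} [CommRing R]
  {M : Type u} [AddCommGroup M] [Module R M] (ℳ : ι → AddSubgroup M) [DirectSum.Decomposition ℳ]
  {N : Type u} [AddCommGroup N] [Module R N] (𝒩 : ι → AddSubgroup N) [DirectSum.Decomposition 𝒩]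

/-- A homogeneous map commutes with taking homogeneous components. -/
theorem IsGrHom.decompose_apply {f : M →ₗ[R] N} (hf : IsGrHom ℳ 𝒩 f) (m : M) (i : ι) :
    (decompose 𝒩 (f m) i : N) = f (decompose ℳ m i : M) := by
  induction m using DirectSum.Decomposition.inductionOn ℳ with
  | zero => simp
  | @homogeneous j m =>
    have h1 : f (m : M) ∈ 𝒩 j := hf j _ m.2
    by_cases hij : j = i
    · subst hij
      rw [decompose_of_mem_same 𝒩 h1, decompose_of_mem_same ℳ m.2]
    · rw [decompose_of_mem_ne 𝒩 h1 hij, decompose_of_mem_ne ℳ m.2 hij, map_zero]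
  | add m m' hm hm' =>
    rw [map_add, decompose_add, decompose_add, DirectSum.add_apply, DirectSum.add_apply,
      AddSubgroup.coe_add, AddSubgroup.coe_add, hm, hm', map_add]

/-- The kernel of a homogeneous map is a homogeneous submodule. -/
theorem IsGrHom.ker_isHomogeneous {f : M →ₗ[R] N} (hf : IsGrHom ℳ 𝒩 f) :
    (LinearMap.ker f).IsHomogeneous ℳ := by
  intro i m hm
  rw [LinearMap.mem_ker] at hm ⊢
  rw [← IsGrHom.decompose_apply ℳ 𝒩 hf, hm, decompose_zero]
  rfl

/-- The range of a homogeneous map is a homogeneous submodule. -/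
theorem IsGrHom.range_isHomogeneous {f : M →ₗ[R] N} (hf : IsGrHom ℳ 𝒩 f) :
    (LinearMap.range f).IsHomogeneous 𝒩 := by
  rintro i _ ⟨m, rfl⟩
  exact ⟨_, (IsGrHom.decompose_apply ℳ 𝒩 hf m i).symm⟩

/-- An injective homogeneous map reflects homogeneity of elements. -/
theorem IsGrHom.mem_of_injective {f : M →ₗ[R] N} (hf : IsGrHom ℳ 𝒩 f) (hinj : Function.Injective f)
    {m : M} {i : ι} (hm : f m ∈ 𝒩 i) : m ∈ ℳ i := by
  have h1 : f (decompose ℳ m i : M) = f m := by
    rw [← IsGrHom.decompose_apply ℳ 𝒩 hf, decompose_of_mem_same 𝒩 hm]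
  rw [← hinj h1]
  exact SetLike.coe_mem _

omit [DecidableEq ι] [Decomposition ℳ] [Decomposition 𝒩] in
theorem IsGrHom.comp {P : Type u} [AddCommGroup P] [Module R P] (𝓟 : ι → AddSubgroup P)
    {f : M →ₗ[R] N} {g : N →ₗ[R] P} (hf : IsGrHom ℳ 𝒩 f) (hg : IsGrHom 𝒩 𝓟 g) :
    IsGrHom ℳ 𝓟 (g ∘ₗ f) :=
  fun i m hm => hg i _ (hf i m hm)

omit [DecidableEq ι] [Decomposition ℳ] in
theorem IsGrHom.id : IsGrHom ℳ ℳ (LinearMap.id : M →ₗ[R] M) := fun _ _ hm => hm

end

end Groth.Agent.Lib.Helper39
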