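import Groth.Agent.Lib.Helper39.GrDual1
import Groth.Agent.Lib.Helper39.GrSub
import Groth.Agent.Lib.Helper39.GrMod

/-!
# Abstract graded `k`-duals: dual maps and the dual of a kernel (helper39)

* `mem_of_vanish`: an element of a graded dual pairing to zero with all pieces but one is
  homogeneous.
* `exists_dualMap`: homogeneous maps have homogeneous dual maps.
* `dual_ker`: the graded dual of the kernel of a homogeneous map `v` is the cokernel of the dual
  map of `v`.
-/

set_option autoImplicit false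
universe u

namespace Groth.Agent.Lib.Helper39.GrDual

open DirectSum GrLC GrSeg Groth.Agent.Lib.Helper39

section One
variable {k : Type u} [Field k] {R : Type u} [CommRing R] [Algebra k R]
  {M : Type u} [AddCommGroup M] [Module R M] [Module k M] [IsScalarTower k R M]
  {ℳ : ℤ → AddSubgroup M} [DirectSum.Decomposition ℳ]
  {D : Type u} [AddCommGroup D] [Module R D] [Module k D] [IsScalarTower k R D]
  {𝒟 : ℤ → AddSubgroup D} [DirectSum.Decomposition 𝒟]
  {β : D →ₗ[k] M →ₗ[k] k}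

/-- on the piece of degree `-n` only the component of degree `n` of `δ` contributes -/
theorem beta_component (hD : IsGDual R ℳ 𝒟 β) (δ : D) (n : ℤ) (x : M) (hx : x ∈ ℳ (-n)) :
    β δ x = β (decompose 𝒟 δ n : D) x := by
  classical
  conv_lhs => rw [← DirectSum.sum_support_decompose 𝒟 δ]
  rw [map_sum, LinearMap.sum_apply]
  by_cases hn : n ∈ (decompose 𝒟 δ).support
  · rw [Finset.sum_eq_single n]
    · intro n' _ hn'
      exact hD.vanish n' _ (SetLike.coe_mem _) (-n) (by omega) x hx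
    · intro h
      exact absurd hn h
  · have h0 : (decompose 𝒟 δ n : D) = 0 := by
      rw [DFinsupp.mem_support_iff, not_not] at hn
      rw [hn]
      rfl
    rw [h0, map_zero, LinearMap.zero_apply]
    refine Finset.sum_eq_zero (fun n' hn' => ?_)
    have hne : n' ≠ n := fun h => hn (h ▸ hn')
    exact hD.vanish n' _ (SetLike.coe_mem _) (-n) (by omega) x hx

/-- an element pairing to zero with all pieces except the one of degree `-d` has degree `d` -/
theorem mem_of_vanish (hD : IsGDual R ℳ 𝒟 β) (δ : D) (d : ℤ)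
    (h : ∀ l : ℤ, l ≠ -d → ∀ x ∈ ℳ l, β δ x = 0) : δ ∈ 𝒟 d := by
  classical
  have h1 : ∀ n : ℤ, n ≠ d → (decompose 𝒟 δ n : D) = 0 := by
    intro n hn
    apply hD.eq_zero n _ (SetLike.coe_mem _)
    intro x hx
    rw [← beta_component hD δ n x hx]
    exact h (-n) (by omega) x hx
  rw [← DirectSum.sum_support_decompose 𝒟 δ]
  refine sum_mem (fun n _ => ?_)
  by_cases hn : n = d
  · subst hn
    exact SetLike.coe_mem _
  · rw [h1 n hn]
    exact zero_mem _

/-- two elements of the same degree agreeing on the dual piece are equal -/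
theorem eq_of_agree (hD : IsGDual R ℳ 𝒟 β) (d : ℤ) (δ δ' : D) (hδ : δ ∈ 𝒟 d) (hδ' : δ' ∈ 𝒟 d)
    (h : ∀ x ∈ ℳ (-d), β δ x = β δ' x) : δ = δ' := by
  rw [← sub_eq_zero]
  apply hD.eq_zero d _ (sub_mem hδ hδ')
  intro x hx
  rw [map_sub, LinearMap.sub_apply, h x hx, sub_self]

end One

section Two
variable {k : Type u} [Field k] {R : Type u} [CommRing R] [Algebra k R]
  {M₁ : Type u} [AddCommGroup M₁] [Module R M₁] [Module k M₁] [IsScalarTower k R M₁]
  {ℳ₁ : ℤ → AddSubgroup M₁} [DirectSum.Decomposition ℳ₁]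
  {D₁ : Type u} [AddCommGroup D₁] [Module R D₁] [Module k D₁] [IsScalarTower k R D₁]
  {𝒟₁ : ℤ → AddSubgroup D₁} [DirectSum.Decomposition 𝒟₁]
  {β₁ : D₁ →ₗ[k] M₁ →ₗ[k] k}
  {M₂ : Type u} [AddCommGroup M₂] [Module R M₂] [Module k M₂] [IsScalarTower k R M₂]
  {ℳ₂ : ℤ → AddSubgroup M₂} [DirectSum.Decomposition ℳ₂]
  {D₂ : Type u} [AddCommGroup D₂] [Module R D₂] [Module k D₂] [IsScalarTower k R D₂]
  {𝒟₂ : ℤ → AddSubgroup D₂} [DirectSum.Decomposition 𝒟₂]
  {β₂ : D₂ →ₗ[k] M₂ →ₗ[k] k}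

/-- a dual map of a homogeneous map is homogeneous -/
theorem dualMap_isGrHom (hD₁ : IsGDual R ℳ₁ 𝒟₁ β₁) (hD₂ : IsGDual R ℳ₂ 𝒟₂ β₂)
    (v : M₁ →ₗ[R] M₂) (hv : IsGrHom ℳ₁ ℳ₂ v) (w : D₂ →ₗ[R] D₁)
    (hw : ∀ δ x, β₁ (w δ) x = β₂ δ (v x)) : IsGrHom 𝒟₂ 𝒟₁ w := by
  intro d δ hδ
  apply mem_of_vanish hD₁
  intro l hl x hx
  rw [hw]
  exact hD₂.vanish d δ hδ l hl _ (hv l x hx)

/-- homogeneous maps have dual maps -/
theorem exists_dualMap (hD₁ : IsGDual R ℳ₁ 𝒟₁ β₁) (hD₂ : IsGDual R ℳ₂ 𝒟₂ β₂)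
    (v : M₁ →ₗ[R] M₂) (hv : IsGrHom ℳ₁ ℳ₂ v) :
    ∃ w : D₂ →ₗ[R] D₁, ∀ δ x, β₁ (w δ) x = β₂ δ (v x) := by
  classical
  have hinj := beta_injective hD₁
  have key : ∀ δ : D₂, ∃ δ' : D₁, ∀ x, β₁ δ' x = β₂ δ (v x) := by
    intro δ
    let f : M₁ →ₗ[k] k := (β₂ δ).comp (v.restrictScalars k)
    obtain ⟨δ', hδ', -⟩ := exists_rep hD₁ f ((decompose 𝒟₂ δ).support.image (fun n => -n))
      (fun l hl x hx => by
        show β₂ δ (v x) = 0
        rw [← DirectSum.sum_support_decompose 𝒟₂ δ, map_sum, LinearMap.sum_apply]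
        refine Finset.sum_eq_zero (fun n hn => ?_)
        have hne : l ≠ -n := by
          rintro rfl
          exact hl (Finset.mem_image.mpr ⟨n, hn, rfl⟩)
        exact hD₂.vanish n _ (SetLike.coe_mem _) l hne _ (hv l x hx))
    exact ⟨δ', fun x => by rw [hδ']; rfl⟩
  choose wf hwf using key
  have huniq : ∀ (a b : D₁), (∀ x, β₁ a x = β₁ b x) → a = b :=
    fun a b h => hinj (LinearMap.ext h)
  refine ⟨{ toFun := wf
            map_add' := fun δ δ' => by
              apply huniq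
              intro x
              rw [map_add, LinearMap.add_apply, hwf, hwf, hwf, map_add, LinearMap.add_apply]
            map_smul' := fun r δ => by
              apply huniq
              intro x
              rw [RingHom.id_apply, hD₁.map_smul r (wf δ) x, hwf, hwf, hD₂.map_smul r δ (v x),
                v.map_smul r x] }, hwf⟩

end Two

end Groth.Agent.Lib.Helper39.GrDual
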