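import Groth.Agent.Lib.Helper39.GrLD9
import Groth.Agent.Lib.Helper39.GrAInvHilb
import Groth.Agent.Lib.Helper39.GrAInvPoly4
import Groth.Agent.Lib.Helper55.KrullDimIntegral

/-!
# `K_S ≅ Ext^{n - n'}_R(S, K_R)` for a finite homomorphism of graded rings over a field (helper39)
-/

set_option autoImplicit false
universe u

namespace Groth.Agent.Lib.Helper39.GrDual

open DirectSum GrLC GrSeg Groth.Agent.Lib.Helper39 Groth.Agent.Lib.Helper39.GrBase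

section TransportBase
variable {k : Type u} [Field k] {R : Type u} [CommRing R] {S : Type u} [CommRing S]
  [Algebra k R] [Algebra k S] [Algebra R S] [IsScalarTower k R S]
  {H₁ : Type u} [AddCommGroup H₁] [Module S H₁] [Module k H₁] [IsScalarTower k S H₁]
  {𝓗₁ : ℤ → AddSubgroup H₁} [DirectSum.Decomposition 𝓗₁]
  {H₂ : Type u} [AddCommGroup H₂] [Module R H₂] [Module k H₂] [IsScalarTower k R H₂]
  {𝓗₂ : ℤ → AddSubgroup H₂} [DirectSum.Decomposition 𝓗₂]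
  {D : Type u} [AddCommGroup D] [Module S D] [Module R D] [IsScalarTower R S D] [Module k D]
  [IsScalarTower k S D] [IsScalarTower k R D]
  {𝒟 : ℤ → AddSubgroup D} [DirectSum.Decomposition 𝒟]
  {β : D →ₗ[k] H₁ →ₗ[k] k}

/-- transport of a graded dual along a graded semilinear isomorphism -/
theorem IsGDual.transport_base (hD : IsGDual S 𝓗₁ 𝒟 β) (Ξ : H₂ ≃+ H₁)
    (hΞ : ∀ (r : R) (x : H₂), Ξ (r • x) = algebraMap R S r • Ξ x)
    (hgr : ∀ (l : ℤ) (x : H₂), x ∈ 𝓗₂ l ↔ Ξ x ∈ 𝓗₁ l) :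
    ∃ β' : D →ₗ[k] H₂ →ₗ[k] k, IsGDual R 𝓗₂ 𝒟 β' := by
  have hΞk : ∀ (c : k) (x : H₂), Ξ (c • x) = c • Ξ x := by
    intro c x
    rw [← algebraMap_smul R c x, hΞ, ← IsScalarTower.algebraMap_apply k R S c, algebraMap_smul]
  have hΞsk : ∀ (c : k) (y : H₁), Ξ.symm (c • y) = c • Ξ.symm y := by
    intro c y
    rw [AddEquiv.symm_apply_eq, hΞk, Ξ.apply_symm_apply]
  let Ξk : H₂ →ₗ[k] H₁ :=
    { toFun := Ξ, map_add' := Ξ.map_add, map_smul' := fun c x => hΞk c x }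
  let Ξsk : H₁ →ₗ[k] H₂ :=
    { toFun := Ξ.symm, map_add' := Ξ.symm.map_add, map_smul' := fun c y => hΞsk c y }
  refine ⟨β.compl₂ Ξk, ?_, ?_, ?_, ?_⟩
  · intro r δ x
    show β (r • δ) (Ξ x) = β δ (Ξ (r • x))
    rw [hΞ, ← algebraMap_smul S r δ, hD.map_smul]
  · intro n δ hδ l hl x hx
    show β δ (Ξ x) = 0
    exact hD.vanish n δ hδ l hl _ ((hgr l x).mp hx)
  · intro n δ hδ hzero
    apply hD.eq_zero n δ hδ
    intro y hy
    have h1 : Ξ.symm y ∈ 𝓗₂ (-n) := by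
      rw [hgr, Ξ.apply_symm_apply]
      exact hy
    have h3 : β δ (Ξ (Ξ.symm y)) = 0 := hzero _ h1
    rwa [Ξ.apply_symm_apply] at h3
  · intro n g
    obtain ⟨δ, hδ, hδx⟩ := hD.exists_eq n (g.comp Ξsk)
    refine ⟨δ, hδ, fun x hx => ?_⟩
    show β δ (Ξ x) = g x
    rw [hδx _ ((hgr _ x).mp hx)]
    show g (Ξ.symm (Ξ x)) = g x
    rw [Ξ.symm_apply_apply]

end TransportBase

theorem canonical_finite (R : Type u) [CommRing R] [LocCoh.IsCohenMacaulayRing R]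
    (𝒜 : ℤ → AddSubgroup R) [GradedRing 𝒜] (hpos : ∀ n : ℤ, n < 0 → 𝒜 n = ⊥)
    (h0 : IsField (GrLC.deg0 𝒜)) (m : HomogeneousIdeal 𝒜) (hm : GrLC.IsStarLocal 𝒜 m)
    (hmsp : m.toIdeal = Ideal.span (⋃ n ∈ Set.Ioi (0 : ℤ), (𝒜 n : Set R))) (n : ℕ)
    (hn : ringKrullDim R = n) (I : GrLC.StarInjRes 𝒜 𝒜) (E' : Type u) [AddCommGroup E']
    [Module R E'] (𝓔 : ℤ → AddSubgroup E') [DirectSum.Decomposition 𝓔] [SetLike.GradedSMul 𝒜 𝓔]
    (e : (R ⧸ m.toIdeal) →ₗ[R] E') (he : GrLC.IsStarInjHull 𝒜 (GrLC.quotGr 𝒜 m) 𝓔 e)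
    (C : Type u) [AddCommGroup C] [Module R C] (𝒞 : ℤ → AddSubgroup C)
    [DirectSum.Decomposition 𝒞] [SetLike.GradedSMul 𝒜 𝒞]
    (hC : GrLC.IsStarCanonical 𝒜 𝒞 𝓔 m n I) (S : Type u) [CommRing S] [IsNoetherianRing S]
    [Algebra R S] [Module.Finite R S] (𝒜' : ℤ → AddSubgroup S) [GradedRing 𝒜']
    (hf : ∀ j : ℤ, (𝒜 j).map (algebraMap R S : R →+ S) ≤ 𝒜' j)
    (hf0 : (𝒜 0).map (algebraMap R S : R →+ S) = 𝒜' 0) (hpos' : ∀ j : ℤ, j < 0 → 𝒜' j = ⊥)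
    (_h0' : IsField (GrLC.deg0 𝒜')) (m' : HomogeneousIdeal 𝒜') (_hm' : GrLC.IsStarLocal 𝒜' m')
    (hm'sp : m'.toIdeal = Ideal.span (⋃ j ∈ Set.Ioi (0 : ℤ), (𝒜' j : Set S))) (n' : ℕ)
    (hn' : ringKrullDim S = n') (I' : GrLC.StarInjRes 𝒜' 𝒜') (E'' : Type u) [AddCommGroup E'']
    [Module S E''] (𝓔'' : ℤ → AddSubgroup E'') [DirectSum.Decomposition 𝓔'']
    [SetLike.GradedSMul 𝒜' 𝓔''] (e' : (S ⧸ m'.toIdeal) →ₗ[S] E'')
    (he' : GrLC.IsStarInjHull 𝒜' (GrLC.quotGr 𝒜' m') 𝓔'' e') (C' : Type u) [AddCommGroup C']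
    [Module S C'] [Module R C'] [IsScalarTower R S C'] (𝒞' : ℤ → AddSubgroup C')
    [DirectSum.Decomposition 𝒞'] [SetLike.GradedSMul 𝒜' 𝒞']
    (hC' : GrLC.IsStarCanonical 𝒜' 𝒞' 𝓔'' m' n' I') :
    Nonempty (C' ≃ₗ[R] CategoryTheory.Abelian.Ext.{u} (ModuleCat.of R S) (ModuleCat.of R C)
      (n - n')) := by
  classical
  letI fieldk : Field (GrLC.deg0 𝒜) := h0.toField
  haveI : IsArtinianRing (GrLC.deg0 𝒜) := GrAInvPoly.isArtinianRing_of_isField _ h0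
  haveI gsm : SetLike.GradedSMul 𝒜 𝒜' := gradedSMul 𝒜 𝒜' hf
  -- the dimension inequality
  haveI : Algebra.IsIntegral R S := Algebra.IsIntegral.of_finite R S
  have hle : n' ≤ n := by
    have h1 := Groth.Agent.Lib.Helper55.ringKrullDim_le_of_isIntegral R S
    rw [hn, hn'] at h1
    exact_mod_cast h1
  -- vanishing
  have hvan : GrTop.VanishAll m (n + 1) := fun P _ _ 𝓟 _ _ G =>
    GrTop.H_subsingleton_of_dim m (le_of_eq hn) G (n + 1) (Nat.lt_succ_self n)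
  have hcm : ∀ j, j < n → Subsingleton (I.H m j) := fun j hj =>
    GrAInvHilb.H_subsingleton_of_cm R 𝒜 hpos m hm n hn I j hj
  -- the `R`-side dual
  letI decI : DirectSum.Decomposition (I.Hgr m n) := (Hgr_isInternal I m n).chooseDecomposition
  obtain ⟨βC, hK⟩ := exists_gdual_of_canonical (k := GrLC.deg0 𝒜) 𝒜 hpos h0 (fun c => c.2)
    (fun t ht => ⟨⟨t, ht⟩, rfl⟩) m hmsp 𝓔 e he 𝒞 n I hC
  -- the `S`-side dual
  letI modE : Module (GrLC.deg0 𝒜) E'' := Module.compHom E'' (algebraMap (GrLC.deg0 𝒜) S)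
  haveI towE : IsScalarTower (GrLC.deg0 𝒜) S E'' :=
    IsScalarTower.of_algebraMap_smul (fun c x => rfl)
  letI modH' : Module (GrLC.deg0 𝒜) (I'.H m' n') :=
    Module.compHom _ (algebraMap (GrLC.deg0 𝒜) S)
  haveI towH' : IsScalarTower (GrLC.deg0 𝒜) S (I'.H m' n') :=
    IsScalarTower.of_algebraMap_smul (fun c x => rfl)
  haveI towC' : IsScalarTower (GrLC.deg0 𝒜) S C' := ⟨fun c s x => smul_assoc (c : R) s x⟩
  letI decI' : DirectSum.Decomposition (I'.Hgr m' n') :=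
    (Hgr_isInternal I' m' n').chooseDecomposition
  have hk0' : ∀ c : GrLC.deg0 𝒜, algebraMap (GrLC.deg0 𝒜) S c ∈ 𝒜' 0 := fun c =>
    hf 0 ⟨(c : R), c.2, rfl⟩
  have hksurj' : ∀ t : S, t ∈ 𝒜' 0 → ∃ c : GrLC.deg0 𝒜, algebraMap (GrLC.deg0 𝒜) S c = t := by
    intro t ht
    rw [← hf0] at ht
    obtain ⟨r, hr, rfl⟩ := ht
    exact ⟨⟨r, hr⟩, rfl⟩
  obtain ⟨βC', hK'⟩ := exists_gdual_of_canonical (k := GrLC.deg0 𝒜) 𝒜' hpos' _h0' hk0' hksurj'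
    m' hm'sp 𝓔'' e' he' 𝒞' n' I' hC'
  -- an `R`-resolution of `S`
  obtain ⟨ES⟩ := Groth.Agent.S13215.result R 𝒜 S 𝒜'
  -- independence of the base
  have hgam : ∀ (X : GMod.{u} 𝒜') (x : X.carrier),
      x ∈ gam m.toIdeal (resGMod hf X).carrier ↔ x ∈ gam m'.toIdeal X.carrier := by
    intro X x
    letI modS : Module S (resGMod hf X).carrier := X.mod
    haveI tower : IsScalarTower R S (resGMod hf X).carrier := ⟨fun r s y => by
      show (r • s) • (show X.carrier from y) = algebraMap R S r • (s • (show X.carrier from y))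
      rw [Algebra.smul_def, mul_smul]⟩
    exact mem_gam_iff 𝒜 𝒜' hf m.toIdeal hmsp m'.toIdeal hm'sp hpos' (resGMod hf X).carrier x
  obtain ⟨Ξ, hΞs, hΞg⟩ := exists_base_iso hf m m' hgam I' ES n'
  letI decES : DirectSum.Decomposition (ES.Hgr m n') :=
    (Hgr_isInternal ES m n').chooseDecomposition
  obtain ⟨βD, hD⟩ := IsGDual.transport_base (R := R) hK' Ξ hΞs hΞg
  exact local_duality (k := GrLC.deg0 𝒜) (fun c => c.2) m n hvan I hcm 𝒞 βC hK (n - n') n'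
    (by omega) S 𝒜' ES C' 𝒞' βD hD

end Groth.Agent.Lib.Helper39.GrDual
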