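import Groth.Agent.Lib.Helper39.GrLD1

/-!
# The graded dual of a kernel is the cokernel of the dual map (helper39)
-/

set_option autoImplicit false
universe u

namespace Groth.Agent.Lib.Helper39.GrDual

open DirectSum GrLC GrSeg Groth.Agent.Lib.Helper39

section Ker
variable {k : Type u} [Field k] {R : Type u} [CommRing R] [Algebra k R]
  {M₁ : Type u} [AddCommGroup M₁] [Module R M₁] [Module k M₁] [IsScalarTower k R M₁]
  {ℳ₁ : ℤ → AddSubgroup M₁} [DirectSum.Decomposition ℳ₁]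
  {D₁ : Type u} [AddCommGroup D₁] [Module R D₁] [Module k D₁] [IsScalarTower k R D₁]
  {𝒟₁ : ℤ → AddSubgroup D₁} [DirectSum.Decomposition 𝒟₁]
  {β₁ : D₁ →ₗ[k] M₁ →ₗ[k] k}
  {M₂ : Type u} [AddCommGroup M₂] [Module R M₂] [Module k M₂] [IsScalarTower k R M₂]
  {ℳ₂ : ℤ → AddSubgroup M₂} [DirectSum.Decomposition ℳ₂]
  {D₂ : Type u} [AddCommGroup D₂] [Module R D₂] [Module k D₂] [IsScalarTower k R D₂]
  {𝒟₂ : ℤ → AddSubgroup D₂} [DirectSum.Decomposition 𝒟₂]
  {β₂ : D₂ →ₗ[k] M₂ →ₗ[k] k}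
  (hD₁ : IsGDual R ℳ₁ 𝒟₁ β₁) (hD₂ : IsGDual R ℳ₂ 𝒟₂ β₂)
  (v : M₁ →ₗ[R] M₂) (hv : IsGrHom ℳ₁ ℳ₂ v)
  (w : D₂ →ₗ[R] D₁) (hw : ∀ δ x, β₁ (w δ) x = β₂ δ (v x))
  [DirectSum.Decomposition (subPieces ℳ₁ (LinearMap.ker v))]
  {DK : Type u} [AddCommGroup DK] [Module R DK] [Module k DK] [IsScalarTower k R DK]
  {𝒟K : ℤ → AddSubgroup DK} [DirectSum.Decomposition 𝒟K]
  {βK : DK →ₗ[k] ↥(LinearMap.ker v) →ₗ[k] k}
  (hDK : IsGDual R (subPieces ℳ₁ (LinearMap.ker v)) 𝒟K βK)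

/-- a functional vanishing on the kernel of `v` factors through `v` -/
theorem exists_factor (g : M₁ →ₗ[k] k) (hg : ∀ x : M₁, v x = 0 → g x = 0) :
    ∃ g' : M₂ →ₗ[k] k, ∀ x, g' (v x) = g x := by
  let vk : M₁ →ₗ[k] M₂ := v.restrictScalars k
  have hker : LinearMap.ker vk ≤ LinearMap.ker g := fun x hx => hg x hx
  let g₀ : (M₁ ⧸ LinearMap.ker vk) →ₗ[k] k := (LinearMap.ker vk).liftQ g hker
  let e := vk.quotKerEquivRange
  let g₁ : LinearMap.range vk →ₗ[k] k := g₀.comp e.symm.toLinearMap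
  obtain ⟨g', hg'⟩ := LinearMap.exists_extend g₁
  refine ⟨g', fun x => ?_⟩
  have h1 : g' (v x) = g₁ ⟨vk x, LinearMap.mem_range_self vk x⟩ := by
    rw [← hg']
    rfl
  rw [h1]
  show g₀ (e.symm ⟨vk x, _⟩) = g x
  have h2 : e.symm ⟨vk x, LinearMap.mem_range_self vk x⟩ = (LinearMap.ker vk).mkQ x := by
    rw [LinearEquiv.symm_apply_eq]
    rfl
  rw [h2]
  rfl

include hD₁ hD₂ hv hw hDK in
/-- **the graded dual of `ker v` is the cokernel of the dual map of `v`** -/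
theorem dual_ker : ∃ ρ : D₁ →ₗ[R] DK, Function.Surjective ρ ∧
    LinearMap.ker ρ = LinearMap.range w := by
  classical
  have hwg := dualMap_isGrHom hD₁ hD₂ v hv w hw
  obtain ⟨ρ, hρ⟩ := exists_dualMap hDK hD₁ (LinearMap.ker v).subtype
    (isGrHom_subtype ℳ₁ (LinearMap.ker v))
  have hρg := dualMap_isGrHom hDK hD₁ (LinearMap.ker v).subtype
    (isGrHom_subtype ℳ₁ (LinearMap.ker v)) ρ hρ
  have hinjK := beta_injective hDK
  refine ⟨ρ, ?_, ?_⟩
  · -- surjectivity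
    intro δK
    induction δK using DirectSum.Decomposition.inductionOn 𝒟K with
    | zero => exact ⟨0, map_zero ρ⟩
    | @homogeneous d δK =>
      let p : Submodule k M₁ := (LinearMap.ker v).restrictScalars k
      let f : p →ₗ[k] k := βK (δK : DK)
      obtain ⟨g, hg⟩ := LinearMap.exists_extend f
      obtain ⟨δ₁, hδ₁, hδ₁x⟩ := hD₁.exists_eq d g
      refine ⟨δ₁, ?_⟩
      apply eq_of_agree hDK d _ _ (hρg d δ₁ hδ₁) δK.2
      intro x hx
      rw [hρ]
      have hx' : ((LinearMap.ker v).subtype x) ∈ ℳ₁ (-d) := hx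
      rw [hδ₁x _ hx']
      have := LinearMap.congr_fun hg x
      exact this
    | add a b ha hb =>
      obtain ⟨a', ha'⟩ := ha
      obtain ⟨b', hb'⟩ := hb
      exact ⟨a' + b', by rw [map_add, ha', hb']⟩
  · apply le_antisymm
    · intro δ₁ hδ₁
      rw [LinearMap.mem_ker] at hδ₁
      -- reduce to homogeneous components
      have hcomp : ∀ d : ℤ, ρ (decompose 𝒟₁ δ₁ d : D₁) = 0 := by
        intro d
        apply eq_of_agree hDK d _ _ (hρg d _ (SetLike.coe_mem _)) (zero_mem _)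
        intro x hx
        rw [hρ, map_zero, LinearMap.zero_apply]
        have hx' : ((LinearMap.ker v).subtype x) ∈ ℳ₁ (-d) := hx
        rw [← beta_component hD₁ δ₁ d _ hx', ← hρ, hδ₁, map_zero, LinearMap.zero_apply]
      rw [← DirectSum.sum_support_decompose 𝒟₁ δ₁]
      refine Submodule.sum_mem _ (fun d _ => ?_)
      -- homogeneous case
      have hd := hcomp d
      set δ := (decompose 𝒟₁ δ₁ d : D₁) with hδdef
      have hδmem : δ ∈ 𝒟₁ d := SetLike.coe_mem _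
      have hvan : ∀ x : M₁, v x = 0 → β₁ δ x = 0 := by
        intro x hx
        have h1 := hρ δ ⟨x, LinearMap.mem_ker.mpr hx⟩
        rw [hd, map_zero, LinearMap.zero_apply] at h1
        exact h1.symm
      obtain ⟨g', hg'⟩ := exists_factor v (β₁ δ) hvan
      obtain ⟨δ₂, hδ₂, hδ₂x⟩ := hD₂.exists_eq d g'
      refine ⟨δ₂, ?_⟩
      apply eq_of_agree hD₁ d _ _ (hwg d δ₂ hδ₂) hδmem
      intro x hx
      rw [hw, hδ₂x _ (hv _ x hx), hg']
    · rintro _ ⟨δ₂, rfl⟩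
      rw [LinearMap.mem_ker]
      apply hinjK
      apply LinearMap.ext
      intro x
      rw [hρ, hw, map_zero, LinearMap.zero_apply]
      have : v ((LinearMap.ker v).subtype x) = 0 := LinearMap.mem_ker.mp x.2
      rw [this, map_zero]

end Ker

end Groth.Agent.Lib.Helper39.GrDual
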