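import Groth.Agent.Lib.Helper39.GrLD2

/-!
# `Hom_R(M, H^*)` is the graded dual of `M ⊗_R H`, with an explicit pairing (helper39)

`exists_homDual`: for `K = H^*` a graded `k`-dual and `N ≅ M ⊗_R H` through a graded `R`-bilinear
map `B`, the module `Hom_R(M, K)` graded by the degrees of maps is a graded dual of `N` through a
pairing `βP` with `βP ψ (B x h) = βK (ψ x) h`.
-/

set_option autoImplicit false
universe u
open scoped TensorProduct

namespace Groth.Agent.Lib.Helper39.GrDual

open DirectSum GrLC GrSeg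

section Proj
variable {k : Type u} [Field k] {N : Type u} [AddCommGroup N] [Module k N]
  (𝒩 : ℤ → AddSubgroup N) [DirectSum.Decomposition 𝒩]
  (hkN : ∀ (c : k) (l : ℤ) (y : N), y ∈ 𝒩 l → c • y ∈ 𝒩 l)

include hkN in
/-- the projection to a homogeneous component, as a `k`-linear map -/
theorem exists_proj (n : ℤ) : ∃ π : N →ₗ[k] N, ∀ y, π y = (decompose 𝒩 y n : N) := by
  classical
  refine ⟨{ toFun := fun y => (decompose 𝒩 y n : N)
            map_add' := fun y y' => by
              rw [decompose_add, DirectSum.add_apply, AddSubgroup.coe_add]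
            map_smul' := fun c y => ?_ }, fun y => rfl⟩
  rw [RingHom.id_apply]
  induction y using DirectSum.Decomposition.inductionOn 𝒩 with
  | zero => rw [smul_zero, decompose_zero]; simp
  | @homogeneous l y =>
    have h1 : c • (y : N) ∈ 𝒩 l := hkN c l _ y.2
    by_cases hl : l = n
    · subst hl
      rw [decompose_of_mem_same 𝒩 h1, decompose_of_mem_same 𝒩 y.2]
    · rw [decompose_of_mem_ne 𝒩 h1 hl, decompose_of_mem_ne 𝒩 y.2 hl, smul_zero]
  | add y y' hy hy' =>
    rw [smul_add, decompose_add, DirectSum.add_apply, AddSubgroup.coe_add, hy, hy', decompose_add,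
      DirectSum.add_apply, AddSubgroup.coe_add, smul_add]

end Proj

section Main
variable {k : Type u} [Field k] {R : Type u} [CommRing R] [Algebra k R]
  {H : Type u} [AddCommGroup H] [Module R H] [Module k H] [IsScalarTower k R H]
  (𝓗 : ℤ → AddSubgroup H) [DirectSum.Decomposition 𝓗]
  {K : Type u} [AddCommGroup K] [Module R K] [Module k K] [IsScalarTower k R K]
  (𝒦 : ℤ → AddSubgroup K) [DirectSum.Decomposition 𝒦]
  (βK : K →ₗ[k] H →ₗ[k] k) (hK : IsGDual R 𝓗 𝒦 βK)
  {N : Type u} [AddCommGroup N] [Module R N] [Module k N] [IsScalarTower k R N]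
  (𝒩 : ℤ → AddSubgroup N) [DirectSum.Decomposition 𝒩]
  {M : Type u} [AddCommGroup M] [Module R M] [Module k M] [IsScalarTower k R M]
  (ℳ : ℤ → AddSubgroup M) [DirectSum.Decomposition ℳ]
  (B : M →ₗ[R] H →ₗ[R] N)
  (hB : ∀ (j l : ℤ) (x : M) (h : H), x ∈ ℳ j → h ∈ 𝓗 l → B x h ∈ 𝒩 (j + l))
  (hΦ : Function.Bijective (TensorProduct.lift B))
  (𝓟 : ℤ → AddSubgroup (M →ₗ[R] K)) [DirectSum.Decomposition 𝓟]
  (h𝓟 : ∀ (d : ℤ) (ψ : M →ₗ[R] K), ψ ∈ 𝓟 d ↔ IsGrHomDeg ℳ 𝒦 ψ d)
  (hkN : ∀ (c : k) (l : ℤ) (y : N), y ∈ 𝒩 l → c • y ∈ 𝒩 l)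

include hB in
/-- finite degree support of `h ↦ g (π (B x h))` -/
theorem exists_support_proj (n : ℤ) (x : M) :
    ∃ S : Finset ℤ, ∀ l, l ∉ S → ∀ h ∈ 𝓗 l, (decompose 𝒩 (B x h) n : N) = 0 := by
  classical
  induction x using DirectSum.Decomposition.inductionOn ℳ with
  | zero =>
    exact ⟨∅, fun l _ h _ => by rw [map_zero, LinearMap.zero_apply, decompose_zero]; rfl⟩
  | @homogeneous j x =>
    refine ⟨{n - j}, fun l hl h hh => ?_⟩
    rw [Finset.mem_singleton] at hl
    exact decompose_of_mem_ne 𝒩 (hB j l _ _ x.2 hh) (by omega)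
  | add x y hx hy =>
    obtain ⟨S, hS⟩ := hx
    obtain ⟨S', hS'⟩ := hy
    refine ⟨S ∪ S', fun l hl h hh => ?_⟩
    rw [Finset.mem_union, not_or] at hl
    rw [map_add, LinearMap.add_apply, decompose_add, DirectSum.add_apply, AddSubgroup.coe_add,
      hS l hl.1 h hh, hS' l hl.2 h hh, add_zero]

include hK hB hΦ h𝓟 hkN in
/-- **`Hom_R(M, H^*)` is the graded dual of `M ⊗_R H`** -/
theorem exists_homDual : ∃ βP : (M →ₗ[R] K) →ₗ[k] N →ₗ[k] k,
    (∀ ψ x h, βP ψ (B x h) = βK (ψ x) h) ∧ IsGDual R 𝒩 𝓟 βP := by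
  classical
  have hinjK := beta_injective hK
  have huniq : ∀ (κ κ' : K), (∀ h, βK κ h = βK κ' h) → κ = κ' :=
    fun κ κ' h => hinjK (LinearMap.ext h)
  let Φe : (M ⊗[R] H) ≃ₗ[R] N := LinearEquiv.ofBijective (TensorProduct.lift B) hΦ
  have hΦe : ∀ x h, Φe (x ⊗ₜ h) = B x h := fun x h => TensorProduct.lift.tmul x h
  have hΦs : ∀ x h, Φe.symm (B x h) = x ⊗ₜ h := fun x h => by
    rw [LinearEquiv.symm_apply_eq, hΦe]
  let G₀ : (M →ₗ[R] K) → M →+ H →+ k := fun ψ =>
    { toFun := fun x => (βK (ψ x)).toAddMonoidHom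
      map_zero' := by ext h; simp
      map_add' := fun x x' => by ext h; simp }
  let G : (M →ₗ[R] K) → M ⊗[R] H →+ k := fun ψ =>
    TensorProduct.liftAddHom (G₀ ψ) (fun r x h => by
      show βK (ψ (r • x)) h = βK (ψ x) (r • h)
      rw [map_smul, hK.map_smul])
  have hG : ∀ ψ x h, G ψ (x ⊗ₜ h) = βK (ψ x) h := fun _ _ _ => rfl
  have hGadd : ∀ ψ ψ' t, G (ψ + ψ') t = G ψ t + G ψ' t := by
    intro ψ ψ' t
    induction t using TensorProduct.induction_on with
    | zero => simp
    | tmul x h => rw [hG, hG, hG, LinearMap.add_apply, map_add, LinearMap.add_apply]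
    | add t t' ht ht' => rw [map_add, map_add, map_add, ht, ht']; ring
  have hGsmulψ : ∀ (c : k) ψ t, G (c • ψ) t = c * G ψ t := by
    intro c ψ t
    induction t using TensorProduct.induction_on with
    | zero => simp
    | tmul x h => rw [hG, hG, LinearMap.smul_apply, map_smul, LinearMap.smul_apply, smul_eq_mul]
    | add t t' ht ht' => rw [map_add, map_add, ht, ht', mul_add]
  have hGsmul : ∀ (c : k) ψ t, G ψ (algebraMap k R c • t) = c * G ψ t := by
    intro c ψ t
    induction t using TensorProduct.induction_on with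
    | zero => simp
    | tmul x h =>
      rw [TensorProduct.smul_tmul', hG, hG, map_smul, algebraMap_smul, map_smul,
        LinearMap.smul_apply, smul_eq_mul]
    | add t t' ht ht' => rw [smul_add, map_add, ht, ht', map_add, mul_add]
  have hGr : ∀ (r : R) ψ t, G (r • ψ) t = G ψ (r • t) := by
    intro r ψ t
    induction t using TensorProduct.induction_on with
    | zero => simp
    | tmul x h =>
      rw [TensorProduct.smul_tmul', hG, hG, LinearMap.smul_apply, ψ.map_smul r x]
    | add t t' ht ht' => rw [smul_add, map_add, map_add, ht, ht']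
  let βP : (M →ₗ[R] K) →ₗ[k] N →ₗ[k] k := LinearMap.mk₂ k (fun ψ y => G ψ (Φe.symm y))
    (fun ψ ψ' y => hGadd ψ ψ' _)
    (fun c ψ y => by rw [hGsmulψ, smul_eq_mul])
    (fun ψ y y' => by rw [map_add, map_add])
    (fun c ψ y => by
      rw [← algebraMap_smul R c y, map_smul, hGsmul, smul_eq_mul])
  have hβP : ∀ ψ y, βP ψ y = G ψ (Φe.symm y) := fun _ _ => rfl
  have hprop : ∀ ψ x h, βP ψ (B x h) = βK (ψ x) h := fun ψ x h => by
    rw [hβP, hΦs, hG]
  -- `G ψ t` only depends on the component of degree `-d` of `Φ t`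
  have hcomp : ∀ (d : ℤ) (ψ : M →ₗ[R] K), IsGrHomDeg ℳ 𝒦 ψ d → ∀ t : M ⊗[R] H,
      G ψ t = G ψ (Φe.symm ((decompose 𝒩 (Φe t) (-d) : N))) := by
    intro d ψ hψ t
    induction t using TensorProduct.induction_on with
    | zero => simp
    | tmul x h =>
      induction x using DirectSum.Decomposition.inductionOn ℳ with
      | zero => simp
      | @homogeneous j x =>
        induction h using DirectSum.Decomposition.inductionOn 𝓗 with
        | zero => simp
        | @homogeneous l h =>
          have hmem : Φe ((x : M) ⊗ₜ (h : H)) ∈ 𝒩 (j + l) := by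
            rw [hΦe]
            exact hB j l _ _ x.2 h.2
          by_cases hjl : j + l = -d
          · rw [hjl] at hmem
            rw [decompose_of_mem_same 𝒩 hmem, Φe.symm_apply_apply]
          · rw [decompose_of_mem_ne 𝒩 hmem hjl, map_zero, map_zero, hG]
            exact hK.vanish (j + d) _ (hψ j _ x.2) l (by omega) _ h.2
        | add h h' hh hh' =>
          rw [TensorProduct.tmul_add, map_add, hh, hh', map_add, decompose_add,
            DirectSum.add_apply, AddSubgroup.coe_add, map_add, map_add]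
      | add x x' hx hx' =>
        rw [TensorProduct.add_tmul, map_add, hx, hx', map_add, decompose_add,
          DirectSum.add_apply, AddSubgroup.coe_add, map_add, map_add]
    | add t t' ht ht' =>
      rw [map_add, ht, ht', map_add, decompose_add, DirectSum.add_apply, AddSubgroup.coe_add,
        map_add, map_add]
  have hvanish : ∀ (n : ℤ) (ψ : M →ₗ[R] K), ψ ∈ 𝓟 n → ∀ l : ℤ, l ≠ -n → ∀ y : N, y ∈ 𝒩 l →
      βP ψ y = 0 := by
    intro n ψ hψ l hl y hy
    rw [hβP, hcomp n ψ ((h𝓟 n ψ).mp hψ), Φe.apply_symm_apply, decompose_of_mem_ne 𝒩 hy hl,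
      map_zero, map_zero]
  refine ⟨βP, hprop, ?_, hvanish, ?_, ?_⟩
  · intro r ψ y
    rw [hβP, hβP, hGr, Φe.symm.map_smul r y]
  · intro n ψ hψ hzero
    have hall : ∀ y : N, βP ψ y = 0 := by
      intro y
      induction y using DirectSum.Decomposition.inductionOn 𝒩 with
      | zero => rw [map_zero]
      | @homogeneous l y =>
        by_cases hl : l = -n
        · subst hl
          exact hzero _ y.2
        · exact hvanish n ψ hψ l hl _ y.2
      | add y y' hy hy' => rw [map_add, hy, hy', add_zero]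
    apply LinearMap.ext
    intro x
    apply huniq
    intro h
    rw [← hprop, hall, LinearMap.zero_apply, map_zero, LinearMap.zero_apply]
  · intro n g
    obtain ⟨π, hπ⟩ := exists_proj 𝒩 hkN (-n)
    let f : M → (H →ₗ[k] k) := fun x => (g.comp π).comp ((B x).restrictScalars k)
    have hf : ∀ x h, f x h = g (π (B x h)) := fun _ _ => rfl
    have key : ∀ x, ∃ κ : K, βK κ = f x := by
      intro x
      obtain ⟨S, hS⟩ := exists_support_proj 𝓗 𝒩 ℳ B hB (-n) x
      obtain ⟨κ, hκ, -⟩ := exists_rep hK (f x) S (fun l hl h hh => by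
        rw [hf, hπ, hS l hl h hh, map_zero])
      exact ⟨κ, hκ⟩
    choose ψf hψf using key
    have hψf' : ∀ x h, βK (ψf x) h = g (π (B x h)) := fun x h => by rw [hψf]; rfl
    let ψ : M →ₗ[R] K :=
      { toFun := ψf
        map_add' := fun x y => by
          apply huniq
          intro h
          rw [map_add, LinearMap.add_apply, hψf', hψf', hψf', map_add, LinearMap.add_apply,
            map_add, map_add]
        map_smul' := fun r x => by
          apply huniq
          intro h
          rw [RingHom.id_apply, hK.map_smul, hψf', hψf', B.map_smul r x, LinearMap.smul_apply,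
            (B x).map_smul r h] }
    have hψ : ∀ x h, βK (ψ x) h = g (π (B x h)) := hψf'
    have hψdeg : IsGrHomDeg ℳ 𝒦 ψ n := by
      intro j x hx
      obtain ⟨κ, hκ, hκd⟩ := exists_rep hK (f x) {-n - j} (fun l hl h hh => by
        rw [Finset.mem_singleton] at hl
        rw [hf, hπ, decompose_of_mem_ne 𝒩 (hB j l _ _ hx hh) (by omega)]
        simp)
      have h1 : ψ x = κ := by
        apply huniq
        intro h
        rw [hψ, hκ]
        rfl
      rw [h1]
      apply hκd
      intro l hl
      rw [Finset.mem_singleton] at hl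
      omega
    refine ⟨ψ, (h𝓟 n ψ).mpr hψdeg, fun y hy => ?_⟩
    have hall : ∀ t : M ⊗[R] H, G ψ t = g (π (Φe t)) := by
      intro t
      induction t using TensorProduct.induction_on with
      | zero => simp
      | tmul x h => rw [hG, hψ, hΦe]
      | add t t' ht ht' => rw [map_add, ht, ht', map_add, map_add, map_add]
    rw [hβP, hall, Φe.apply_symm_apply, hπ, decompose_of_mem_same 𝒩 hy]

end Main

end Groth.Agent.Lib.Helper39.GrDual
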