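import Groth.Agent.Lib.Helper39.GrVer18

/-!
# Graded Matlis duality on pieces: the perfect pairing `Hom(C, E)_d × C_{-d} → E_0` (helper39)

`R` positively graded Noetherian over a field `R_0`, `m = R_+`, `E` the *injective hull of `R/m`,
`C` a finitely generated graded module.
-/

set_option autoImplicit false
universe u

namespace Groth.Agent.Lib.Helper39.GrMatlis

open DirectSum GrLC Groth.Agent.Lib.Helper39 Groth.Agent.Lib.Helper39.GrPC
  Groth.Agent.Lib.Helper39.GrPieceDual Groth.Agent.Lib.Helper39.GrHomInt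

section LinAlg
variable {k : Type*} [Field k] {V W L : Type*} [AddCommGroup V] [Module k V]
  [AddCommGroup W] [Module k W] [AddCommGroup L] [Module k L]

/-- a pairing into a line which is injective on both sides, one side being finite dimensional,
is perfect -/
theorem perfect_of_injective [FiniteDimensional k V] (hL : Module.finrank k L = 1)
    (B : W →ₗ[k] V →ₗ[k] L) (h1 : Function.Injective B) (h2 : Function.Injective B.flip) :
    Module.finrank k W = Module.finrank k V ∧ Function.Surjective B ∧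
      Function.Surjective B.flip := by
  haveI : FiniteDimensional k L := Module.finite_of_finrank_eq_succ hL
  haveI : FiniteDimensional k W := Module.Finite.of_injective B h1
  have e1 : Module.finrank k W ≤ Module.finrank k V := by
    have := LinearMap.finrank_le_finrank_of_injective h1
    rwa [Module.finrank_linearMap, hL, mul_one] at this
  have e2 : Module.finrank k V ≤ Module.finrank k W := by
    have := LinearMap.finrank_le_finrank_of_injective h2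
    rwa [Module.finrank_linearMap, hL, mul_one] at this
  have e := le_antisymm e1 e2
  refine ⟨e, ?_, ?_⟩
  · apply (LinearMap.injective_iff_surjective_of_finrank_eq_finrank ?_).mp h1
    rw [Module.finrank_linearMap, hL, mul_one, e]
  · apply (LinearMap.injective_iff_surjective_of_finrank_eq_finrank ?_).mp h2
    rw [Module.finrank_linearMap, hL, mul_one, e]

end LinAlg

section Pair
variable {R : Type u} [CommRing R] [IsNoetherianRing R] (𝒜 : ℤ → AddSubgroup R) [GradedRing 𝒜]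
  (hpos : ∀ n : ℤ, n < 0 → 𝒜 n = ⊥) (h0 : IsField (GrLC.deg0 𝒜))
  (m : HomogeneousIdeal 𝒜)
  (hmsp : m.toIdeal = Ideal.span (⋃ n ∈ Set.Ioi (0 : ℤ), (𝒜 n : Set R)))
  {E' : Type u} [AddCommGroup E'] [Module R E'] (𝓔 : ℤ → AddSubgroup E')
  [DirectSum.Decomposition 𝓔] [SetLike.GradedSMul 𝒜 𝓔]
  (e : (R ⧸ m.toIdeal) →ₗ[R] E') (he : GrLC.IsStarEss (GrLC.quotGr 𝒜 m) 𝓔 e)
  (hI : IsStarInj 𝒜 𝓔)
  {C : Type u} [AddCommGroup C] [Module R C] (𝒞 : ℤ → AddSubgroup C)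
  [DirectSum.Decomposition 𝒞] [SetLike.GradedSMul 𝒜 𝒞]

/-- the evaluation pairing `Hom(C, E)_d × C_i → E_0`, `i + d = 0` -/
def resPair (i d : ℤ) (hid : i + d = 0) : homDeg 𝒜 𝒞 𝓔 d →ₗ[GrLC.deg0 𝒜]
    (GrLC.comp 𝒜 𝒞 i →ₗ[GrLC.deg0 𝒜] GrLC.comp 𝒜 𝓔 0) :=
  LinearMap.mk₂ (GrLC.deg0 𝒜)
    (fun ψ c => ⟨(ψ : C →ₗ[R] E') (c : C), by
      have h := ψ.2 i c c.2
      rwa [hid] at h⟩)
    (fun ψ ψ' c => Subtype.ext rfl)
    (fun r ψ c => Subtype.ext rfl)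
    (fun ψ c c' => Subtype.ext (map_add (ψ : C →ₗ[R] E') (c : C) (c' : C)))
    (fun r ψ c => Subtype.ext (map_smul (ψ : C →ₗ[R] E') (r : R) (c : C)))

omit [IsNoetherianRing R] in
@[simp] theorem resPair_apply (i d : ℤ) (hid : i + d = 0) (ψ : homDeg 𝒜 𝒞 𝓔 d)
    (c : GrLC.comp 𝒜 𝒞 i) :
    ((resPair 𝒜 𝓔 𝒞 i d hid ψ c : GrLC.comp 𝒜 𝓔 0) : E') = (ψ : C →ₗ[R] E') (c : C) := rfl

omit [IsNoetherianRing R] in
include hpos hmsp he in
theorem resPair_injective (i d : ℤ) (hid : i + d = 0) :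
    Function.Injective (resPair 𝒜 𝓔 𝒞 i d hid) := by
  rw [injective_iff_map_eq_zero]
  intro ψ hψ
  by_contra hne
  have hne' : (ψ : C →ₗ[R] E') ≠ 0 := fun h => hne (Subtype.ext h)
  obtain ⟨c, hc, hc0⟩ := exists_mem_of_homDeg_ne_zero 𝒜 hpos m hmsp 𝓔 e he 𝒞 _ d ψ.2 hne'
  have hi : i = -d := by omega
  subst hi
  apply hc0
  have := congrArg (fun f => ((f ⟨c, hc⟩ : GrLC.comp 𝒜 𝓔 0) : E')) hψ
  exact this

omit [IsNoetherianRing R] in
include hpos hmsp he h0 hI in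
theorem resPair_flip_injective (i d : ℤ) (hid : i + d = 0) :
    Function.Injective (resPair 𝒜 𝓔 𝒞 i d hid).flip := by
  rw [injective_iff_map_eq_zero]
  intro c hc
  by_contra hne
  have hne' : (c : C) ≠ 0 := fun h => hne (Subtype.ext h)
  have hi : i = -d := by omega
  subst hi
  obtain ⟨ψ, hψ, hψ0⟩ := exists_homDeg_of_ne_zero 𝒜 hpos m hmsp 𝓔 e he 𝒞 h0 hI d c.2 hne'
  apply hψ0
  have := congrArg (fun f => ((f ⟨ψ, hψ⟩ : GrLC.comp 𝒜 𝓔 0) : E')) hc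
  exact this

variable [Module.Finite R C]

include hpos hmsp he h0 hI in
/-- **graded Matlis duality on pieces** -/
theorem perfect (i d : ℤ) (hid : i + d = 0) :
    Module.finrank (GrLC.deg0 𝒜) (homDeg 𝒜 𝒞 𝓔 d) =
        Module.finrank (GrLC.deg0 𝒜) (GrLC.comp 𝒜 𝒞 i) ∧
      Function.Surjective (resPair 𝒜 𝓔 𝒞 i d hid) ∧
      Function.Surjective (resPair 𝒜 𝓔 𝒞 i d hid).flip := by
  letI : Field (GrLC.deg0 𝒜) := h0.toField
  haveI : Module.Finite (GrLC.deg0 𝒜) (GrLC.comp 𝒜 𝒞 i) := GrPieces.finite_comp 𝒜 𝒞 hpos i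
  exact perfect_of_injective (GrHullDim.finrank_zero 𝒜 hpos h0 m hmsp 𝓔 e he)
    (resPair 𝒜 𝓔 𝒞 i d hid) (resPair_injective 𝒜 hpos m hmsp 𝓔 e he 𝒞 i d hid)
    (resPair_flip_injective 𝒜 hpos h0 m hmsp 𝓔 e he hI 𝒞 i d hid)

include hpos hmsp he h0 hI in
/-- every functional on `Hom(C, E)_d` is evaluation at an element of `C_i`, `i + d = 0` -/
theorem exists_rep (i d : ℤ) (hid : i + d = 0)
    (lam : homDeg 𝒜 𝒞 𝓔 d →ₗ[GrLC.deg0 𝒜] GrLC.comp 𝒜 𝓔 0) :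
    ∃ c ∈ 𝒞 i, ∀ (ψ : C →ₗ[R] E') (hψ : IsGrHomDeg 𝒞 𝓔 ψ d),
      ψ c = ((lam ⟨ψ, hψ⟩ : GrLC.comp 𝒜 𝓔 0) : E') := by
  obtain ⟨c, hc⟩ := (perfect 𝒜 hpos h0 m hmsp 𝓔 e he hI 𝒞 i d hid).2.2 lam
  refine ⟨c, c.2, fun ψ hψ => ?_⟩
  rw [← hc]
  rfl

include hpos hmsp he h0 hI in
/-- every functional on `C_i` extends to a homogeneous map `C → E` of degree `d`, `i + d = 0` -/
theorem exists_hom_rep (i d : ℤ) (hid : i + d = 0)
    (mu : GrLC.comp 𝒜 𝒞 i →ₗ[GrLC.deg0 𝒜] GrLC.comp 𝒜 𝓔 0) :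
    ∃ ψ : C →ₗ[R] E', IsGrHomDeg 𝒞 𝓔 ψ d ∧ ∀ (c : C) (hc : c ∈ 𝒞 i),
      ψ c = ((mu ⟨c, hc⟩ : GrLC.comp 𝒜 𝓔 0) : E') := by
  obtain ⟨ψ, hψ⟩ := (perfect 𝒜 hpos h0 m hmsp 𝓔 e he hI 𝒞 i d hid).2.1 mu
  refine ⟨ψ, ψ.2, fun c hc => ?_⟩
  rw [← hψ]
  rfl

omit [IsNoetherianRing R] [Module.Finite R C] in
include hpos hmsp he h0 hI 𝒞 in
/-- maps into `E` separate the points of `C` -/
theorem eq_zero_of_forall_hom (x : C) (h : ∀ ψ : C →ₗ[R] E', ψ x = 0) : x = 0 := by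
  classical
  by_contra hx
  obtain ⟨i, hi⟩ : ∃ i, (decompose 𝒞 x i : C) ≠ 0 := by
    by_contra hcon
    push Not at hcon
    apply hx
    rw [← DirectSum.sum_support_decompose 𝒞 x]
    exact Finset.sum_eq_zero (fun i _ => hcon i)
  obtain ⟨ψ, hψ, hψ0⟩ := exists_homDeg_of_ne_zero 𝒜 hpos m hmsp 𝓔 e he 𝒞 h0 hI (-i)
    (c0 := (decompose 𝒞 x i : C)) (by rw [neg_neg]; exact SetLike.coe_mem _) hi
  apply hψ0
  rw [← decompose_apply_of_isGrHomDeg 𝓔 𝒞 ψ hψ x i, h ψ, decompose_zero]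
  rfl

end Pair

end Groth.Agent.Lib.Helper39.GrMatlis
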