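import Groth.Agent.Lib.Helper39.GrLD3
import Groth.Agent.Lib.Helper39.GrVer19
import Groth.Agent.Lib.Helper39.GrH

/-!
# A *canonical module is the graded `k`-dual of the top local cohomology (helper39)

`exists_gdual_of_canonical`: for a positively graded Noetherian ring `T` with `T_0` a field, the
image of a field `k`, `m = T_+`, a *canonical module `C` (in the sense of `GrLC.IsStarCanonical`)
is a graded `k`-dual of `H^n_m(T)` in the sense of `GrSeg.IsGDual`.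
-/

set_option autoImplicit false
universe u

namespace Groth.Agent.Lib.Helper39.GrDual

open DirectSum GrLC GrSeg Groth.Agent.Lib.Helper39 Groth.Agent.Lib.Helper39.GrPieceDual
  Groth.Agent.Lib.Helper39.GrHomInt Groth.Agent.Lib.Helper39.GrMatlis
  Groth.Agent.Lib.Helper39.GrStarLocal

section Bridge
variable {k : Type u} [Field k] {T : Type u} [CommRing T] [IsNoetherianRing T] [Algebra k T]
  (𝒯 : ℤ → AddSubgroup T) [GradedRing 𝒯]
  (hpos : ∀ n : ℤ, n < 0 → 𝒯 n = ⊥) (h0 : IsField (GrLC.deg0 𝒯))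
  (hk0 : ∀ c : k, algebraMap k T c ∈ 𝒯 0)
  (hksurj : ∀ t : T, t ∈ 𝒯 0 → ∃ c : k, algebraMap k T c = t)
  (m : HomogeneousIdeal 𝒯)
  (hmsp : m.toIdeal = Ideal.span (⋃ n ∈ Set.Ioi (0 : ℤ), (𝒯 n : Set T)))
  {E' : Type u} [AddCommGroup E'] [Module T E'] [Module k E'] [IsScalarTower k T E']
  (𝓔 : ℤ → AddSubgroup E') [DirectSum.Decomposition 𝓔] [SetLike.GradedSMul 𝒯 𝓔]
  (e : (T ⧸ m.toIdeal) →ₗ[T] E') (he : GrLC.IsStarInjHull 𝒯 (GrLC.quotGr 𝒯 m) 𝓔 e)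
  {C : Type u} [AddCommGroup C] [Module T C] [Module k C] [IsScalarTower k T C]
  (𝒞 : ℤ → AddSubgroup C) [DirectSum.Decomposition 𝒞] [SetLike.GradedSMul 𝒯 𝒞]
  (n : ℕ) (I : GrLC.StarInjRes 𝒯 𝒯)
  [Module k (I.H m n)] [IsScalarTower k T (I.H m n)] [DirectSum.Decomposition (I.Hgr m n)]

include hpos h0 hk0 hksurj hmsp he in
theorem exists_gdual_of_canonical (hC : GrLC.IsStarCanonical 𝒯 𝒞 𝓔 m n I) :
    ∃ βC : C →ₗ[k] I.H m n →ₗ[k] k, IsGDual T (I.Hgr m n) 𝒞 βC := by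
  classical
  obtain ⟨hfin, φ, hφ⟩ := hC
  haveI := hfin
  letI : Field (GrLC.deg0 𝒯) := h0.toField
  have hess : GrLC.IsStarEss (GrLC.quotGr 𝒯 m) 𝓔 e := he.toIsStarEss
  have hI : IsStarInj 𝒯 𝓔 := he.starInj
  -- `φ⁻¹` is homogeneous
  have hφs : ∀ (d : ℤ) (x : I.H m n), x ∈ I.Hgr m n d → IsGrHomDeg 𝒞 𝓔 (φ.symm x) d :=
    fun d x hx => symm_mem_homGr 𝒯 𝒞 𝓔 (I.Hgr m n) (Hgr_isInternal I m n) φ hφ hx
  -- the basis vector of `E'_0`
  have he1 : e 1 ∈ 𝓔 0 := e_mem_zero 𝒯 hpos m hmsp 𝓔 e hess 1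
  let v : GrLC.comp 𝒯 𝓔 0 := ⟨e 1, he1⟩
  have hv : v ≠ 0 := by
    intro h
    have h1 : e 1 = 0 := congrArg Subtype.val h
    have h2 : (1 : T ⧸ m.toIdeal) = 0 := hess.injective (by rw [h1, map_zero])
    have h3 : (1 : T) ∈ m.toIdeal := Ideal.Quotient.eq_zero_iff_mem.mp h2
    rw [hmsp] at h3
    have h4 := decompose_eq_zero_of_mem_irr 𝒯 hpos h3 0 (by omega)
    rw [decompose_of_mem_same 𝒯 (SetLike.GradedOne.one_mem (A := 𝒯))] at h4
    exact (one_ne_zero : (1 : GrLC.deg0 𝒯) ≠ 0) (Subtype.ext h4)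
  have hne1 : e 1 ≠ 0 := fun h => hv (Subtype.ext h)
  have hdim := (finrank_eq_one_iff_of_nonzero' v hv).mp
    (GrHullDim.finrank_zero 𝒯 hpos h0 m hmsp 𝓔 e hess)
  have hspan : ∀ y : E', y ∈ 𝓔 0 → ∃ c : k, c • e 1 = y := by
    intro y hy
    obtain ⟨t, ht⟩ := hdim ⟨y, hy⟩
    obtain ⟨c, hc⟩ := hksurj (t : T) t.2
    refine ⟨c, ?_⟩
    have h1 : ((t : T)) • e 1 = y := congrArg Subtype.val ht
    rw [← h1, ← hc, algebraMap_smul]
  have hkE : ∀ (c : k) (l : ℤ) (y : E'), y ∈ 𝓔 l → c • y ∈ 𝓔 l := by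
    intro c l y hy
    rw [← algebraMap_smul T c y]
    have := SetLike.GradedSMul.smul_mem (A := 𝒯) (B := 𝓔) (hk0 c) hy
    rw [vadd_eq_add, zero_add] at this
    exact this
  obtain ⟨π, hπ⟩ := exists_proj 𝓔 hkE 0
  obtain ⟨lam0, hlam0⟩ := Module.Projective.exists_dual_eq_one k hne1
  let lam : E' →ₗ[k] k := lam0.comp π
  have hlam : ∀ y, lam y = lam0 (decompose 𝓔 y 0 : E') := fun y => by
    show lam0 (π y) = _
    rw [hπ]
  have hlam_zero : ∀ (l : ℤ) (y : E'), y ∈ 𝓔 l → l ≠ 0 → lam y = 0 := by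
    intro l y hy hl
    rw [hlam, decompose_of_mem_ne 𝓔 hy hl, map_zero]
  have hlam_smul : ∀ c : k, lam (c • e 1) = c := by
    intro c
    rw [map_smul, hlam, decompose_of_mem_same 𝓔 he1, hlam0, smul_eq_mul, mul_one]
  have hlam_inj : ∀ y : E', y ∈ 𝓔 0 → lam y = 0 → y = 0 := by
    intro y hy hy0
    obtain ⟨c, rfl⟩ := hspan y hy
    rw [hlam_smul] at hy0
    rw [hy0, zero_smul]
  have hlamT : ∀ (c : k) (y : E'), lam (algebraMap k T c • y) = c * lam y := by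
    intro c y
    rw [algebraMap_smul, map_smul, smul_eq_mul]
  -- the pairing
  let βC : C →ₗ[k] I.H m n →ₗ[k] k := LinearMap.mk₂ k (fun c h => lam ((φ.symm h) c))
    (fun c c' h => by rw [map_add, map_add])
    (fun a c h => by
      rw [← algebraMap_smul T a c, (φ.symm h).map_smul, hlamT, smul_eq_mul])
    (fun c h h' => by rw [map_add, LinearMap.add_apply, map_add])
    (fun a c h => by
      rw [← algebraMap_smul T a h, φ.symm.map_smul, LinearMap.smul_apply, hlamT, smul_eq_mul])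
  have hβC : ∀ c h, βC c h = lam ((φ.symm h) c) := fun _ _ => rfl
  refine ⟨βC, ?_, ?_, ?_, ?_⟩
  · intro r c h
    rw [hβC, hβC, φ.symm.map_smul, LinearMap.smul_apply, (φ.symm h).map_smul]
  · intro d c hc l hl h hh
    rw [hβC]
    have h1 : (φ.symm h) c ∈ 𝓔 (d + l) := hφs l h hh d c hc
    exact hlam_zero (d + l) _ h1 (by omega)
  · intro d c hc hzero
    by_contra hne
    obtain ⟨ψ, hψ, hψ0⟩ := exists_homDeg_of_ne_zero 𝒯 hpos m hmsp 𝓔 e hess 𝒞 h0 hI (-d)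
      (c0 := c) (by rw [neg_neg]; exact hc) hne
    apply hψ0
    have h1 : ψ c ∈ 𝓔 0 := by
      have := hψ d c hc
      rwa [add_neg_cancel] at this
    apply hlam_inj _ h1
    have h2 : φ ψ ∈ I.Hgr m n (-d) := hφ (-d) ψ hψ
    have h3 := hzero (φ ψ) h2
    rw [hβC, φ.symm_apply_apply] at h3
    exact h3
  · intro d g
    -- the functional on `Hom(C, E')_{-d}`
    let lamH : homDeg 𝒯 𝒞 𝓔 (-d) →ₗ[GrLC.deg0 𝒯] GrLC.comp 𝒯 𝓔 0 :=
      { toFun := fun ψ => ⟨g (φ (ψ : C →ₗ[T] E')) • e 1, hkE _ 0 _ he1⟩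
        map_add' := fun ψ ψ' => by
          apply Subtype.ext
          show g (φ ((ψ : C →ₗ[T] E') + (ψ' : C →ₗ[T] E'))) • e 1 = _
          rw [map_add, map_add, add_smul]
          rfl
        map_smul' := fun t ψ => by
          apply Subtype.ext
          obtain ⟨c, hc⟩ := hksurj (t : T) t.2
          show g (φ ((t : T) • (ψ : C →ₗ[T] E'))) • e 1 = (t : T) • (g (φ (ψ : C →ₗ[T] E')) • e 1)
          rw [φ.map_smul, ← hc, algebraMap_smul, map_smul, smul_eq_mul, mul_smul,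
            algebraMap_smul] }
    obtain ⟨c, hc, hcψ⟩ := GrMatlis.exists_rep 𝒯 hpos h0 m hmsp 𝓔 e hess hI 𝒞 d (-d)
      (add_neg_cancel d) lamH
    refine ⟨c, hc, fun h hh => ?_⟩
    have hψ : IsGrHomDeg 𝒞 𝓔 (φ.symm h) (-d) := hφs (-d) h hh
    rw [hβC, hcψ (φ.symm h) hψ]
    show lam (g (φ (φ.symm h)) • e 1) = g h
    rw [hlam_smul, φ.apply_symm_apply]

end Bridge

end Groth.Agent.Lib.Helper39.GrDual
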