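import Groth.Agent.Lib.Helper39.GrLD4
import Groth.Agent.Lib.Helper39.GrDual4
import Groth.Agent.Lib.Helper39.CanonExtShift
import Groth.Agent.Lib.Helper60.ExtFG

/-!
# Tools for the graded local duality induction (helper39)

* `IsGDual.transport`: transport of a graded dual along a graded isomorphism;
* `exists_shift`: the connecting map `H^j_a(M) → H^{j+1}_a(Z)` of `0 → Z → F → M → 0` when
  `H^j_a(F) = 0`;
* `free_subsingleton`: `H^j_a(F) = 0` for graded free `F` when `H^j_a(R) = 0`;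
* `ext_one`, `ext_succ`: dimension shifting for `Ext`.
-/

set_option autoImplicit false
universe u
open scoped TensorProduct

namespace Groth.Agent.Lib.Helper39.GrDual

open DirectSum GrLC GrSeg Groth.Agent.Lib.Helper39 Groth.Agent.Lib.Helper39.GrLes
  Groth.Agent.Lib.Helper39.GrFree Groth.Agent.Lib.Helper39.GrKoszul

section Transport
variable {k : Type u} [Field k] {R : Type u} [CommRing R] [Algebra k R]
  {H₁ : Type u} [AddCommGroup H₁] [Module R H₁] [Module k H₁] [IsScalarTower k R H₁]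
  {𝓗₁ : ℤ → AddSubgroup H₁} [DirectSum.Decomposition 𝓗₁]
  {H₂ : Type u} [AddCommGroup H₂] [Module R H₂] [Module k H₂] [IsScalarTower k R H₂]
  {𝓗₂ : ℤ → AddSubgroup H₂} [DirectSum.Decomposition 𝓗₂]
  {D : Type u} [AddCommGroup D] [Module R D] [Module k D] [IsScalarTower k R D]
  {𝒟 : ℤ → AddSubgroup D} [DirectSum.Decomposition 𝒟]
  {β : D →ₗ[k] H₁ →ₗ[k] k}

/-- transport of a graded dual along a graded isomorphism -/
theorem IsGDual.transport (hD : IsGDual R 𝓗₁ 𝒟 β) (θ : H₂ ≃ₗ[R] H₁)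
    (hθ : ∀ (l : ℤ) (x : H₂), x ∈ 𝓗₂ l ↔ θ x ∈ 𝓗₁ l) :
    ∃ β' : D →ₗ[k] H₂ →ₗ[k] k, (∀ δ x, β' δ x = β δ (θ x)) ∧ IsGDual R 𝓗₂ 𝒟 β' := by
  let θk : H₂ →ₗ[k] H₁ := θ.toLinearMap.restrictScalars k
  let θsk : H₁ →ₗ[k] H₂ := θ.symm.toLinearMap.restrictScalars k
  refine ⟨β.compl₂ θk, fun δ x => rfl, ?_, ?_, ?_, ?_⟩
  · intro r δ x
    show β (r • δ) (θ x) = β δ (θ (r • x))
    rw [hD.map_smul, θ.map_smul]
  · intro n δ hδ l hl x hx
    show β δ (θ x) = 0
    exact hD.vanish n δ hδ l hl _ ((hθ l x).mp hx)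
  · intro n δ hδ hzero
    apply hD.eq_zero n δ hδ
    intro y hy
    have h1 : θ.symm y ∈ 𝓗₂ (-n) := by
      rw [hθ, θ.apply_symm_apply]
      exact hy
    have h2 := hzero _ h1
    have h3 : β δ (θ (θ.symm y)) = 0 := h2
    rwa [θ.apply_symm_apply] at h3
  · intro n g
    obtain ⟨δ, hδ, hδx⟩ := hD.exists_eq n (g.comp θsk)
    refine ⟨δ, hδ, fun x hx => ?_⟩
    show β δ (θ x) = g x
    rw [hδx _ ((hθ _ x).mp hx)]
    show g (θ.symm (θ x)) = g x
    rw [θ.symm_apply_apply]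

end Transport

section Pieces
variable {ι : Type} [DecidableEq ι] {H : Type u} [AddCommGroup H]

theorem subsingleton_of_pieces_bot (𝓗 : ι → AddSubgroup H) (hint : DirectSum.IsInternal 𝓗)
    (h : ∀ l, 𝓗 l = ⊥) : Subsingleton H := by
  have key : ∀ z : H, z = 0 := by
    intro z
    obtain ⟨w, rfl⟩ := hint.2 z
    have hw : w = 0 := by
      apply DFinsupp.ext
      intro l
      apply Subtype.ext
      have h2 : ((w l : 𝓗 l) : H) ∈ 𝓗 l := (w l).2
      have h3 : 𝓗 l ≤ ⊥ := le_of_eq (h l)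
      exact AddSubgroup.mem_bot.mp (h3 h2)
    rw [hw, map_zero]
  exact ⟨fun x y => by rw [key x, key y]⟩

end Pieces

section Quot
variable {R : Type u} [CommRing R] {A B C : Type u} [AddCommGroup A] [Module R A]
  [AddCommGroup B] [Module R B] [AddCommGroup C] [Module R C]

/-- two quotients of the same module by the same submodule are isomorphic -/
theorem nonempty_equiv_of_ker_eq (f : A →ₗ[R] B) (g : A →ₗ[R] C) (hf : Function.Surjective f)
    (hg : Function.Surjective g) (h : LinearMap.ker f = LinearMap.ker g) : Nonempty (B ≃ₗ[R] C) :=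
  ⟨(f.quotKerEquivOfSurjective hf).symm ≪≫ₗ Submodule.quotEquivOfEq _ _ h ≪≫ₗ
    g.quotKerEquivOfSurjective hg⟩

end Quot

section Shift
variable {R : Type u} [CommRing R] {𝒜 : ℤ → AddSubgroup R} [GradedRing 𝒜]
  {M' : Type u} [AddCommGroup M'] [Module R M'] {ℳ' : ℤ → AddSubgroup M'}
  [DirectSum.Decomposition ℳ'] [SetLike.GradedSMul 𝒜 ℳ']
  {M : Type u} [AddCommGroup M] [Module R M] {ℳ : ℤ → AddSubgroup M} [DirectSum.Decomposition ℳ]
  [SetLike.GradedSMul 𝒜 ℳ]
  {M'' : Type u} [AddCommGroup M''] [Module R M''] {ℳ'' : ℤ → AddSubgroup M''}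
  [DirectSum.Decomposition ℳ''] [SetLike.GradedSMul 𝒜 ℳ'']
  {i : M' →ₗ[R] M} {p : M →ₗ[R] M''}

/-- the connecting map when the middle term has vanishing cohomology -/
theorem exists_shift (S : GrSES ℳ' ℳ ℳ'' i p) (E' : StarInjRes 𝒜 ℳ') (E : StarInjRes 𝒜 ℳ)
    (E'' : StarInjRes 𝒜 ℳ'') (a : HomogeneousIdeal 𝒜) (j : ℕ) (hsub : Subsingleton (E.H a j)) :
    ∃ δ : E''.H a j →ₗ[R] E'.H a (j + 1), Function.Injective δ ∧
      (∀ (l : ℤ) (x : E''.H a j), x ∈ E''.Hgr a j l ↔ δ x ∈ E'.Hgr a (j + 1) l) ∧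
      LinearMap.range δ = LinearMap.ker (Hmap₀ E' E a i S.i_grHom (j + 1)) := by
  classical
  obtain ⟨δ, hδ, -, h2, h3⟩ := exists_les S E' E E'' a
  have hinj : Function.Injective (δ j) := by
    rw [injective_iff_map_eq_zero]
    intro x hx
    obtain ⟨y, rfl⟩ := (h2 j x).mp hx
    rw [Subsingleton.elim y 0, map_zero]
  refine ⟨δ j, hinj, fun l x => ⟨fun hx => hδ j l x hx, fun hx => ?_⟩, ?_⟩
  · obtain ⟨y', hy', hy'x⟩ := exists_mem_of_isInternal (Hgr_isInternal E'' a j)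
      (Hgr_isInternal E' a (j + 1)) (δ j) (hδ j) hx x rfl
    rw [← hinj hy'x]
    exact hy'
  · ext y
    rw [LinearMap.mem_range, LinearMap.mem_ker]
    exact ((h3 j y).symm)

end Shift

section FreeVan
variable {R : Type u} [CommRing R] [IsNoetherianRing R] {𝒜 : ℤ → AddSubgroup R} [GradedRing 𝒜]

attribute [local instance] freeDecomposition freeGradedSMul

/-- `H^j_a` of a graded free module vanishes when `H^j_a(R)` does -/
theorem free_subsingleton (a : HomogeneousIdeal 𝒜) (I : StarInjRes 𝒜 𝒜) (j : ℕ)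
    (hI : Subsingleton (I.H a j)) {m : ℕ} (e : Fin m → ℤ)
    (EF : StarInjRes 𝒜 (freePieces 𝒜 e)) : Subsingleton (EF.H a j) := by
  classical
  haveI := hI
  have hR : ∀ d : ℤ, HVan a (GMod.of 𝒜 R 𝒜) j d := by
    intro d
    refine HVan.of_one (X := GMod.of 𝒜 R 𝒜) I ?_
    rw [eq_bot_iff]
    intro x _
    rw [Submodule.mem_bot]
    exact @Subsingleton.elim _ hI _ _
  have hF : ∀ d : ℤ, HVan a (gfree 𝒜 e) j d := fun d => HVan.free e (fun b => hR (d - e b))
  apply subsingleton_of_pieces_bot (EF.Hgr a j) (Hgr_isInternal EF a j)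
  intro l
  have h1 : EF.Hcomp a j l = ⊥ := hF l EF
  show (EF.Hcomp a j l).toAddSubgroup = ⊥
  rw [h1]
  rfl

end FreeVan

section ExtShift
open CategoryTheory Abelian Groth.Agent.Lib.Helper60 Groth.Agent.Lib.Helper39.CanonShift

variable {R : Type u} [CommRing R] {F M : Type u} [AddCommGroup F] [Module R F] [AddCommGroup M]
  [Module R M] (K : Type u) [AddCommGroup K] [Module R K]

/-- `Ext^1(M, K)` as the cokernel of `Hom(F, K) → Hom(Z, K)` -/
theorem ext_one [Module.Projective R F] (p : F →ₗ[R] M) (hp : Function.Surjective p) :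
    ∃ σ : (LinearMap.ker p →ₗ[R] K) →ₗ[R] Abelian.Ext (ModuleCat.of R M) (ModuleCat.of R K) 1,
      Function.Surjective σ ∧
      LinearMap.ker σ = LinearMap.range (LinearMap.lcomp R K (LinearMap.ker p).subtype) := by
  have hS := sesOfSurjective_shortExact p hp
  haveI : Projective (sesOfSurjective p).X₂ :=
    inferInstanceAs (Projective (ModuleCat.of R F))
  let σ₀ : (LinearMap.ker p →ₗ[R] K) →ₗ[R]
      ((Ext R (ModuleCat.{u} R) 1).obj (Opposite.op (ModuleCat.of R M))).obj (ModuleCat.of R K) :=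
    homToExtOne hS (ModuleCat.of R K)
  have hσ₀s : Function.Surjective σ₀ := homToExtOne_surjective hS (ModuleCat.of R K)
  have hσ₀z : ∀ h : LinearMap.ker p →ₗ[R] K,
      σ₀ h = 0 ↔ ∃ g : F →ₗ[R] K, g ∘ₗ (LinearMap.ker p).subtype = h :=
    fun h => homToExtOne_eq_zero_iff hS (ModuleCat.of R K) h
  let eb : (((Ext R (ModuleCat.{u} R) 1).obj (Opposite.op (ModuleCat.of R M))).obj
      (ModuleCat.of R K)) ≃ₗ[R] Abelian.Ext (ModuleCat.of R M) (ModuleCat.of R K) 1 :=
    extBridge (ModuleCat.of R M) 1 (ModuleCat.of R K)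
  refine ⟨eb.toLinearMap.comp σ₀, ?_, ?_⟩
  · exact (LinearEquiv.surjective eb).comp hσ₀s
  · ext h
    rw [LinearMap.mem_ker, LinearMap.comp_apply, LinearEquiv.coe_coe,
      LinearEquiv.map_eq_zero_iff, hσ₀z, LinearMap.mem_range]
    rfl

/-- dimension shifting -/
theorem ext_succ [Module.Projective R F] (p : F →ₗ[R] M) (hp : Function.Surjective p) (i : ℕ)
    (hi : 1 ≤ i) :
    Nonempty (Abelian.Ext (ModuleCat.of R (LinearMap.ker p)) (ModuleCat.of R K) i ≃ₗ[R]
      Abelian.Ext (ModuleCat.of R M) (ModuleCat.of R K) (i + 1)) := by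
  have hS := sesOfSurjective_shortExact p hp
  haveI : Projective (sesOfSurjective p).X₂ :=
    inferInstanceAs (Projective (ModuleCat.of R F))
  exact ⟨LinearEquiv.ofBijective (CanonShift.extConn hS (ModuleCat.of R K) i)
    ⟨CanonShift.extConn_injective hS (ModuleCat.of R K) i hi,
      CanonShift.extConn_surjective hS (ModuleCat.of R K) i⟩⟩

/-- `Ext^0 = Hom` -/
noncomputable def extZeroEquiv :
    Abelian.Ext (ModuleCat.of R M) (ModuleCat.of R K) 0 ≃ₗ[R] (M →ₗ[R] K) :=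
  (Ext.linearEquiv₀ (R := R) :
      Abelian.Ext (ModuleCat.of R M) (ModuleCat.of R K) 0 ≃ₗ[R]
        (ModuleCat.of R M ⟶ ModuleCat.of R K)).trans
    (ModuleCat.homLinearEquiv (S := R) :
      (ModuleCat.of R M ⟶ ModuleCat.of R K) ≃ₗ[R] (M →ₗ[R] K))

end ExtShift

end Groth.Agent.Lib.Helper39.GrDual
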