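import Groth.Agent.Lib.Helper39.GrLD5

/-!
# Graded local duality over a Cohen–Macaulay graded ring (helper39)

`local_duality`: `R` Noetherian `ℤ`-graded, `a` a homogeneous ideal, `n` such that `H^{n+1}_a`
vanishes identically and `H^j_a(R) = 0` for `j < n`, `K` a graded `k`-dual of `H^n_a(R)`.  Then for
a finitely generated graded module `M`, any graded `k`-dual of `H^j_a(M)`, `j + i = n`, is
isomorphic to `Ext^i_R(M, K)`.
-/

set_option autoImplicit false
universe u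
open scoped TensorProduct

namespace Groth.Agent.Lib.Helper39.GrDual

open DirectSum GrLC GrSeg Groth.Agent.Lib.Helper39 Groth.Agent.Lib.Helper39.GrLes
  Groth.Agent.Lib.Helper39.GrFree Groth.Agent.Lib.Helper39.GrKoszul
  Groth.Agent.Lib.Helper39.GrWatts Groth.Agent.Lib.Helper39.GrHomInt
  Groth.Agent.Lib.Helper39.GrPC CategoryTheory

section Smul
variable {k : Type u} [Field k] {R : Type u} [CommRing R] [Algebra k R]
  {𝒜 : ℤ → AddSubgroup R} [GradedRing 𝒜] (hk0 : ∀ c : k, algebraMap k R c ∈ 𝒜 0)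
  {M : Type u} [AddCommGroup M] [Module R M] {ℳ : ℤ → AddSubgroup M} [DirectSum.Decomposition ℳ]
  [SetLike.GradedSMul 𝒜 ℳ] (EM : StarInjRes 𝒜 ℳ) (a : HomogeneousIdeal 𝒜) (j : ℕ)
  [Module k (EM.H a j)] [IsScalarTower k R (EM.H a j)]

include hk0 in
theorem Hgr_smul_mem (c : k) (l : ℤ) (y : EM.H a j) (hy : y ∈ EM.Hgr a j l) :
    c • y ∈ EM.Hgr a j l := by
  rw [← algebraMap_smul R c y]
  obtain ⟨z, hz, rfl⟩ := hy
  refine ⟨algebraMap k R c • z, ?_, map_smul _ _ _⟩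
  have := SetLike.GradedSMul.smul_mem (A := 𝒜) (B := (EM.X j).gr) (hk0 c) hz
  rw [vadd_eq_add, zero_add] at this
  exact this

end Smul

section LD
variable {k : Type u} [Field k] {R : Type u} [CommRing R] [Algebra k R] [IsNoetherianRing R]
  {𝒜 : ℤ → AddSubgroup R} [GradedRing 𝒜]
  (hk0 : ∀ c : k, algebraMap k R c ∈ 𝒜 0)
  (a : HomogeneousIdeal 𝒜) (n : ℕ) (hvan : GrTop.VanishAll a (n + 1))
  (I : StarInjRes 𝒜 𝒜) (hcm : ∀ j, j < n → Subsingleton (I.H a j))
  [Module k (I.H a n)] [IsScalarTower k R (I.H a n)] [DirectSum.Decomposition (I.Hgr a n)]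
  {K : Type u} [AddCommGroup K] [Module R K] [Module k K] [IsScalarTower k R K]
  (𝒦 : ℤ → AddSubgroup K) [DirectSum.Decomposition 𝒦] [SetLike.GradedSMul 𝒜 𝒦]
  (βK : K →ₗ[k] I.H a n →ₗ[k] k) (hK : IsGDual R (I.Hgr a n) 𝒦 βK)

attribute [local instance] freeDecomposition freeGradedSMul

include hk0 hvan hK in
/-- `Hom_R(M, K)` is a graded dual of `H^n_a(M)`, compatibly with the Watts pairing -/
theorem hom_isGDual (M : Type u) [AddCommGroup M] [Module R M] [Module k M] [IsScalarTower k R M]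
    (ℳ : ℤ → AddSubgroup M) [DirectSum.Decomposition ℳ] [SetLike.GradedSMul 𝒜 ℳ]
    [Module.Finite R M] (EM : StarInjRes 𝒜 ℳ) [Module k (EM.H a n)]
    [IsScalarTower k R (EM.H a n)] [DirectSum.Decomposition (EM.Hgr a n)]
    [DirectSum.Decomposition (homGr 𝒜 ℳ 𝒦)] :
    ∃ βP : (M →ₗ[R] K) →ₗ[k] EM.H a n →ₗ[k] k,
      (∀ ψ x h, βP ψ (watts I EM a n x h) = βK (ψ x) h) ∧
        IsGDual R (EM.Hgr a n) (homGr 𝒜 ℳ 𝒦) βP :=
  exists_homDual (I.Hgr a n) 𝒦 βK hK (EM.Hgr a n) ℳ (watts I EM a n)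
    (fun j l x h hx hh => watts_mem I EM a n hx hh) (watts_bijective a n hvan I EM)
    (homGr 𝒜 ℳ 𝒦) (fun d ψ => Iff.rfl) (Hgr_smul_mem hk0 EM a n)

include hvan hK in
/-- the case `i = 0` -/
theorem ld_zero (M : Type u) [AddCommGroup M] [Module R M] [Module k M] [IsScalarTower k R M]
    (ℳ : ℤ → AddSubgroup M) [DirectSum.Decomposition ℳ] [SetLike.GradedSMul 𝒜 ℳ]
    [Module.Finite R M] (EM : StarInjRes 𝒜 ℳ) [Module k (EM.H a n)]
    [IsScalarTower k R (EM.H a n)] [DirectSum.Decomposition (EM.Hgr a n)]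
    (D : Type u) [AddCommGroup D] [Module R D] [Module k D] [IsScalarTower k R D]
    (𝒟 : ℤ → AddSubgroup D) [DirectSum.Decomposition 𝒟]
    (βD : D →ₗ[k] EM.H a n →ₗ[k] k) (hD : IsGDual R (EM.Hgr a n) 𝒟 βD) :
    Nonempty (D ≃ₗ[R] (M →ₗ[R] K)) := by
  classical
  have hhom : ∀ ψ : M →ₗ[R] K, ∃ (s : Finset ℤ) (ψd : ℤ → (M →ₗ[R] K)),
      (∀ d, IsGrHomDeg ℳ 𝒦 (ψd d) d) ∧ ψ = ∑ d ∈ s, ψd d := by
    intro ψ
    obtain ⟨S, hS⟩ := GrPC.exists_finset_sum_compLin 𝒜 𝒦 ℳ ψ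
    exact ⟨S, fun d => compLin 𝒜 ℳ 𝒦 ψ d, fun d => compLin_isGrHomDeg 𝒜 ℳ 𝒦 ψ d, hS⟩
  obtain ⟨ε, -⟩ := exists_equiv_hom (I.Hgr a n) 𝒦 βK hK (EM.Hgr a n) 𝒟 βD hD ℳ
    (watts I EM a n) (fun j l x h hx hh => watts_mem I EM a n hx hh)
    (watts_bijective a n hvan I EM) hhom
  exact ⟨ε⟩

/-- the statement `LD(i)` -/
def LDStatement (i : ℕ) : Prop :=
  ∀ (j : ℕ), j + i = n →
    ∀ (M : Type u) [AddCommGroup M] [Module R M] [Module k M] [IsScalarTower k R M]
      (ℳ : ℤ → AddSubgroup M) [DirectSum.Decomposition ℳ] [SetLike.GradedSMul 𝒜 ℳ]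
      [Module.Finite R M] (EM : StarInjRes 𝒜 ℳ) [Module k (EM.H a j)]
      [IsScalarTower k R (EM.H a j)] [DirectSum.Decomposition (EM.Hgr a j)]
      (D : Type u) [AddCommGroup D] [Module R D] [Module k D] [IsScalarTower k R D]
      (𝒟 : ℤ → AddSubgroup D) [DirectSum.Decomposition 𝒟]
      (βD : D →ₗ[k] EM.H a j →ₗ[k] k), IsGDual R (EM.Hgr a j) 𝒟 βD →
      Nonempty (D ≃ₗ[R] Abelian.Ext (ModuleCat.of R M) (ModuleCat.of R K) i)

include hvan hK in
theorem ld_statement_zero : LDStatement (k := k) a n (K := K) 0 := by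
  intro j hj M _ _ _ _ ℳ _ _ _ EM _ _ _ D _ _ _ _ 𝒟 _ βD hD
  rw [add_zero] at hj
  subst hj
  obtain ⟨ε⟩ := ld_zero a j hvan I 𝒦 βK hK M ℳ EM D 𝒟 βD hD
  exact ⟨ε ≪≫ₗ (extZeroEquiv K).symm⟩

include hk0 hvan hcm hK in
theorem ld_statement_one : LDStatement (k := k) a n (K := K) 1 := by
  classical
  intro j hj M _ _ _ _ ℳ _ _ _ EM _ _ _ D _ _ _ _ 𝒟 _ βD hD
  subst hj
  -- the free cover
  obtain ⟨m, e, p, hpg, hps⟩ := exists_free_cover 𝒜 ℳ
  obtain ⟨EF⟩ := Groth.Agent.S13215.result R 𝒜 (Fin m → R) (freePieces 𝒜 e)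
  have hZh : (LinearMap.ker p).IsHomogeneous (freePieces 𝒜 e) :=
    IsGrHom.ker_isHomogeneous _ _ hpg
  letI decZ := subDecomposition (freePieces 𝒜 e) (LinearMap.ker p) hZh
  haveI smulZ := subGradedSMul 𝒜 (freePieces 𝒜 e) (LinearMap.ker p)
  obtain ⟨EZ⟩ := Groth.Agent.S13215.result R 𝒜 (LinearMap.ker p)
    (subPieces (freePieces 𝒜 e) (LinearMap.ker p))
  have S : GrSES (subPieces (freePieces 𝒜 e) (LinearMap.ker p)) (freePieces 𝒜 e) ℳ
      (LinearMap.ker p).subtype p :=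
    { i_grHom := isGrHom_subtype (freePieces 𝒜 e) (LinearMap.ker p)
      p_grHom := hpg
      i_inj := Subtype.val_injective
      p_surj := hps
      exact := by rw [Submodule.range_subtype] }
  haveI : Module.Finite R (LinearMap.ker p) := Module.IsNoetherian.finite R _
  -- the connecting map
  have hFj : Subsingleton (EF.H a j) :=
    free_subsingleton a I j (hcm j (Nat.lt_succ_self j)) e EF
  obtain ⟨δ, hδinj, hδgr, hδrange⟩ := exists_shift S EZ EF EM a j hFj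
  set v := Hmap₀ EZ EF a (LinearMap.ker p).subtype S.i_grHom (j + 1) with hvdef
  have hv : IsGrHom (EZ.Hgr a (j + 1)) (EF.Hgr a (j + 1)) v :=
    Hmap₀_isGrHom EZ EF a _ S.i_grHom (j + 1)
  -- gradings
  letI modHZ : Module k (EZ.H a (j + 1)) := Module.compHom _ (algebraMap k R)
  haveI towHZ : IsScalarTower k R (EZ.H a (j + 1)) :=
    IsScalarTower.of_algebraMap_smul (fun c x => rfl)
  letI modHF : Module k (EF.H a (j + 1)) := Module.compHom _ (algebraMap k R)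
  haveI towHF : IsScalarTower k R (EF.H a (j + 1)) :=
    IsScalarTower.of_algebraMap_smul (fun c x => rfl)
  letI decHZ : DirectSum.Decomposition (EZ.Hgr a (j + 1)) :=
    (Hgr_isInternal EZ a (j + 1)).chooseDecomposition
  letI decHF : DirectSum.Decomposition (EF.Hgr a (j + 1)) :=
    (Hgr_isInternal EF a (j + 1)).chooseDecomposition
  letI decPZ : DirectSum.Decomposition
      (homGr 𝒜 (subPieces (freePieces 𝒜 e) (LinearMap.ker p)) 𝒦) :=
    (homGr_isInternal 𝒜 (subPieces (freePieces 𝒜 e) (LinearMap.ker p)) 𝒦).chooseDecomposition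
  letI decPF : DirectSum.Decomposition (homGr 𝒜 (freePieces 𝒜 e) 𝒦) :=
    (homGr_isInternal 𝒜 (freePieces 𝒜 e) 𝒦).chooseDecomposition
  -- the two duals
  obtain ⟨βZ, hβZ, hDZ⟩ := hom_isGDual hk0 a (j + 1) hvan I 𝒦 βK hK (LinearMap.ker p)
    (subPieces (freePieces 𝒜 e) (LinearMap.ker p)) EZ
  obtain ⟨βF, hβF, hDF⟩ := hom_isGDual hk0 a (j + 1) hvan I 𝒦 βK hK (Fin m → R)
    (freePieces 𝒜 e) EF
  let w : ((Fin m → R) →ₗ[R] K) →ₗ[R] (LinearMap.ker p →ₗ[R] K) :=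
    LinearMap.lcomp R K (LinearMap.ker p).subtype
  have hw : ∀ ψ y, βZ (w ψ) y = βF ψ (v y) := by
    intro ψ y
    obtain ⟨t, rfl⟩ := (watts_bijective a (j + 1) hvan I EZ).2 y
    induction t using TensorProduct.induction_on with
    | zero => rw [map_zero, map_zero, map_zero, map_zero]
    | tmul z h =>
      rw [TensorProduct.lift.tmul, hβZ]
      have h1 : v (watts I EZ a (j + 1) z h) =
          watts I EF a (j + 1) ((LinearMap.ker p).subtype z) h :=
        watts_natural I EZ EF a (j + 1) (LinearMap.ker p).subtype 0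
          (isGrHomDeg_zero_of S.i_grHom) z h
      rw [h1, hβF]
      rfl
    | add t t' ht ht' => rw [map_add, map_add, ht, ht', map_add, map_add]
  -- the kernel of `v` and its dual
  have hkerh : (LinearMap.ker v).IsHomogeneous (EZ.Hgr a (j + 1)) :=
    IsGrHom.ker_isHomogeneous _ _ hv
  letI decKer := subDecomposition (EZ.Hgr a (j + 1)) (LinearMap.ker v) hkerh
  let δ' : EM.H a j →ₗ[R] LinearMap.ker v := δ.codRestrict (LinearMap.ker v) (fun x => by
    rw [← hδrange]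
    exact ⟨x, rfl⟩)
  have hδ'bij : Function.Bijective δ' := by
    constructor
    · intro x y hxy
      exact hδinj (congrArg Subtype.val hxy)
    · rintro ⟨y, hy⟩
      rw [← hδrange] at hy
      obtain ⟨x, rfl⟩ := hy
      exact ⟨x, rfl⟩
  let θ : LinearMap.ker v ≃ₗ[R] EM.H a j := (LinearEquiv.ofBijective δ' hδ'bij).symm
  have hθ : ∀ (l : ℤ) (y : LinearMap.ker v),
      y ∈ subPieces (EZ.Hgr a (j + 1)) (LinearMap.ker v) l ↔ θ y ∈ EM.Hgr a j l := by
    intro l y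
    obtain ⟨x, rfl⟩ := hδ'bij.2 y
    have h1 : θ (δ' x) = x := (LinearEquiv.ofBijective δ' hδ'bij).symm_apply_apply x
    rw [h1, hδgr l x]
    rfl
  obtain ⟨βDK, -, hDK⟩ := IsGDual.transport hD θ hθ
  obtain ⟨ρ, hρs, hρk⟩ := dual_ker hDZ hDF v hv w hw hDK
  obtain ⟨σ, hσs, hσk⟩ := ext_one K p hps
  exact nonempty_equiv_of_ker_eq ρ σ hρs hσs (by rw [hρk, hσk])

include hcm in
theorem ld_statement_succ (i : ℕ) (hi : 1 ≤ i) (ih : LDStatement (k := k) a n (K := K) i) :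
    LDStatement (k := k) a n (K := K) (i + 1) := by
  classical
  intro j hj M _ _ _ _ ℳ _ _ _ EM _ _ _ D _ _ _ _ 𝒟 _ βD hD
  -- the free cover
  obtain ⟨m, e, p, hpg, hps⟩ := exists_free_cover 𝒜 ℳ
  obtain ⟨EF⟩ := Groth.Agent.S13215.result R 𝒜 (Fin m → R) (freePieces 𝒜 e)
  have hZh : (LinearMap.ker p).IsHomogeneous (freePieces 𝒜 e) :=
    IsGrHom.ker_isHomogeneous _ _ hpg
  letI decZ := subDecomposition (freePieces 𝒜 e) (LinearMap.ker p) hZh
  haveI smulZ := subGradedSMul 𝒜 (freePieces 𝒜 e) (LinearMap.ker p)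
  obtain ⟨EZ⟩ := Groth.Agent.S13215.result R 𝒜 (LinearMap.ker p)
    (subPieces (freePieces 𝒜 e) (LinearMap.ker p))
  have S : GrSES (subPieces (freePieces 𝒜 e) (LinearMap.ker p)) (freePieces 𝒜 e) ℳ
      (LinearMap.ker p).subtype p :=
    { i_grHom := isGrHom_subtype (freePieces 𝒜 e) (LinearMap.ker p)
      p_grHom := hpg
      i_inj := Subtype.val_injective
      p_surj := hps
      exact := by rw [Submodule.range_subtype] }
  haveI : Module.Finite R (LinearMap.ker p) := Module.IsNoetherian.finite R _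
  have hFj : Subsingleton (EF.H a j) := free_subsingleton a I j (hcm j (by omega)) e EF
  have hFj1 : Subsingleton (EF.H a (j + 1)) :=
    free_subsingleton a I (j + 1) (hcm (j + 1) (by omega)) e EF
  obtain ⟨δ, hδinj, hδgr, hδrange⟩ := exists_shift S EZ EF EM a j hFj
  have hδsurj : Function.Surjective δ := by
    intro y
    have : y ∈ LinearMap.range δ := by
      rw [hδrange, LinearMap.mem_ker]
      exact Subsingleton.elim _ _
    exact this
  letI modHZ : Module k (EZ.H a (j + 1)) := Module.compHom _ (algebraMap k R)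
  haveI towHZ : IsScalarTower k R (EZ.H a (j + 1)) :=
    IsScalarTower.of_algebraMap_smul (fun c x => rfl)
  letI decHZ : DirectSum.Decomposition (EZ.Hgr a (j + 1)) :=
    (Hgr_isInternal EZ a (j + 1)).chooseDecomposition
  let θ : EZ.H a (j + 1) ≃ₗ[R] EM.H a j := (LinearEquiv.ofBijective δ ⟨hδinj, hδsurj⟩).symm
  have hθ : ∀ (l : ℤ) (y : EZ.H a (j + 1)), y ∈ EZ.Hgr a (j + 1) l ↔ θ y ∈ EM.Hgr a j l := by
    intro l y
    obtain ⟨x, rfl⟩ := hδsurj y
    have h1 : θ (δ x) = x := (LinearEquiv.ofBijective δ ⟨hδinj, hδsurj⟩).symm_apply_apply x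
    rw [h1, hδgr l x]
  obtain ⟨βD', -, hD'⟩ := IsGDual.transport hD θ hθ
  obtain ⟨ε⟩ := ih (j + 1) (by omega) (LinearMap.ker p)
    (subPieces (freePieces 𝒜 e) (LinearMap.ker p)) EZ D 𝒟 βD' hD'
  obtain ⟨ε'⟩ := ext_succ K p hps i hi
  exact ⟨ε ≪≫ₗ ε'⟩

include hk0 hvan hcm hK in
/-- **graded local duality** -/
theorem local_duality (i : ℕ) : LDStatement (k := k) a n (K := K) i := by
  induction i with
  | zero => exact ld_statement_zero a n hvan I 𝒦 βK hK
  | succ i ih =>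
    rcases Nat.eq_zero_or_pos i with rfl | hi
    · exact ld_statement_one hk0 a n hvan I hcm 𝒦 βK hK
    · exact ld_statement_succ a n I hcm i hi ih

end LD

end Groth.Agent.Lib.Helper39.GrDual
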