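import Groth.Agent.Lib.Helper39.GrLD6
import Groth.Agent.Lib.Helper39.GrNak
import Groth.Agent.Lib.Helper39.GrStarLocal2
import Groth.Agent.Lib.Helper60.LocalCohBC

/-!
# Torsion functors along a finite homomorphism of positively graded rings (helper39)

`R → S` a degree-preserving finite homomorphism of positively `ℤ`-graded rings, `m = R_+`,
`m' = S_+`.  Then `m'^N ⊆ mS ⊆ m'` and hence `Γ_m(X) = Γ_{m'}(X)` for every `S`-module `X`.
-/

set_option autoImplicit false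
universe u

namespace Groth.Agent.Lib.Helper39.GrBase

open DirectSum GrLC Groth.Agent.Lib.Helper39 Groth.Agent.Lib.Helper39.GrNak
  Groth.Agent.Lib.Helper39.GrStarLocal

section Alg
variable {R : Type u} [CommRing R] {S : Type u} [CommRing S] [Algebra R S]
  (𝒜 : ℤ → AddSubgroup R) [GradedRing 𝒜] (𝒜' : ℤ → AddSubgroup S) [GradedRing 𝒜']
  (hf : ∀ j : ℤ, (𝒜 j).map (algebraMap R S : R →+ S) ≤ 𝒜' j)

include hf in
/-- `S` is a graded `R`-module -/
theorem gradedSMul : SetLike.GradedSMul 𝒜 𝒜' where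
  smul_mem := by
    intro i j r s hr hs
    rw [Algebra.smul_def]
    exact SetLike.GradedMul.mul_mem (hf i ⟨r, hr, rfl⟩) hs

variable (a : Ideal R) (ha : a = Ideal.span (⋃ n ∈ Set.Ioi (0 : ℤ), (𝒜 n : Set R)))
  (a' : Ideal S) (ha' : a' = Ideal.span (⋃ n ∈ Set.Ioi (0 : ℤ), (𝒜' n : Set S)))

include hf ha ha' in
theorem map_le : a.map (algebraMap R S) ≤ a' := by
  rw [ha, Ideal.map_span, ha']
  apply Ideal.span_mono
  rintro _ ⟨r, hr, rfl⟩
  simp only [Set.mem_iUnion, Set.mem_Ioi] at hr ⊢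
  obtain ⟨j, hj, hr⟩ := hr
  exact ⟨j, hj, hf j ⟨r, hr, rfl⟩⟩

variable (hpos' : ∀ j : ℤ, j < 0 → 𝒜' j = ⊥)

include hf ha in
/-- elements of high degree of `S` lie in `mS` -/
theorem exists_degree_bound [Module.Finite R S] :
    ∃ d : ℤ, ∀ j : ℤ, d < j → ∀ y : S, y ∈ 𝒜' j → y ∈ a.map (algebraMap R S) := by
  classical
  haveI := gradedSMul 𝒜 𝒜' hf
  obtain ⟨s, hs, hspan⟩ := exists_homogeneous_generators (R := R) 𝒜'
  choose! deg hdeg using hs
  obtain ⟨d, hd⟩ := (s.image deg).exists_le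
  refine ⟨d, fun j hj y hy => ?_⟩
  have hy' : y ∈ Submodule.span R (s : Set S) := by rw [hspan]; trivial
  obtain ⟨c, -, rfl⟩ := Submodule.mem_span_finset.mp hy'
  have h1 := decompose_of_mem_same 𝒜' hy
  rw [← h1, decompose_sum, DFinsupp.finsetSum_apply, AddSubmonoidClass.coe_finsetSum]
  refine Ideal.sum_mem _ (fun x hx => ?_)
  have hxd : deg x ≤ d := hd _ (Finset.mem_image_of_mem deg hx)
  have h2 := decompose_smul_of_right_mem 𝒜 𝒜' (hdeg x hx) (c x) (j - deg x)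
  rw [sub_add_cancel] at h2
  rw [h2, Algebra.smul_def]
  apply Ideal.mul_mem_right
  apply Ideal.mem_map_of_mem
  rw [ha]
  apply Ideal.subset_span
  simp only [Set.mem_iUnion, Set.mem_Ioi]
  exact ⟨j - deg x, by omega, SetLike.coe_mem _⟩

include hf ha ha' hpos' in
theorem exists_pow_le [Module.Finite R S] : ∃ N : ℕ, a' ^ N ≤ a.map (algebraMap R S) := by
  classical
  obtain ⟨d, hd⟩ := exists_degree_bound 𝒜 𝒜' hf a ha
  refine ⟨(d + 1).toNat, ?_⟩
  have htop : geSub (R := S) 𝒜' 0 = ⊤ := by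
    rw [eq_top_iff]
    intro x _
    rw [← DirectSum.sum_support_decompose 𝒜' x]
    refine Submodule.sum_mem _ (fun j _ => ?_)
    by_cases hj : j < 0
    · have h5 : (decompose 𝒜' x j : S) ∈ 𝒜' j := SetLike.coe_mem _
      have h6 : 𝒜' j ≤ ⊥ := le_of_eq (hpos' j hj)
      rw [AddSubgroup.mem_bot.mp (h6 h5)]
      exact Submodule.zero_mem _
    · exact mem_geSub_of_mem 𝒜' (by omega) (SetLike.coe_mem _)
  have h1 := pow_smul_geSub_le 𝒜' 𝒜' a' ha' (d + 1).toNat 0
  rw [htop, zero_add] at h1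
  intro x hx
  have h2 : x ∈ a' ^ (d + 1).toNat • (⊤ : Submodule S S) := by
    rw [smul_eq_mul, Ideal.mul_top]
    exact hx
  have h3 := h1 h2
  have hle : geSub (R := S) 𝒜' (((d + 1).toNat : ℕ) : ℤ) ≤
      (a.map (algebraMap R S) : Submodule S S) := by
    rw [geSub, Submodule.span_le]
    intro y hy
    simp only [Set.mem_iUnion, Set.mem_Ici] at hy
    obtain ⟨j, hj, hy⟩ := hy
    have : d + 1 ≤ ((d + 1).toNat : ℤ) := Int.self_le_toNat _
    exact hd j (by omega) y hy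
  exact hle h3

include hf ha ha' hpos' in
/-- **`Γ_m(X) = Γ_{m'}(X)`** for `S`-modules `X` -/
theorem mem_gam_iff [Module.Finite R S] (X : Type u) [AddCommGroup X] [Module S X] [Module R X]
    [IsScalarTower R S X] (x : X) : x ∈ gam a X ↔ x ∈ gam a' X := by
  obtain ⟨N, hN⟩ := exists_pow_le 𝒜 𝒜' hf a ha a' ha' hpos'
  have hle := map_le 𝒜 𝒜' hf a ha a' ha'
  rw [gam_eq_of_le_of_pow_le hle hN X]
  exact (Groth.Agent.Lib.Helper60.mem_torsionSub_map_iff a X x).symm

end Alg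

end Groth.Agent.Lib.Helper39.GrBase
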