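import Groth.Agent.Lib.Helper39.GrLD7
import Groth.Agent.Lib.Helper39.GrAcyc3

/-!
# Graded local cohomology is independent of the base (helper39)

`R → S` a degree-preserving homomorphism of `ℤ`-graded rings, `m`, `m'` homogeneous ideals of `R`,
`S` with `Γ_m = Γ_{m'}` on `S`-modules.  For a *injective resolution `I'` of `S` over `S` and a
*injective resolution `ES` of `S` over `R`: `H^i_m(S) ≅ H^i_{m'}(S)`, a graded semilinear bijection.
-/

set_option autoImplicit false
universe u

namespace Groth.Agent.Lib.Helper39.GrBase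

open DirectSum GrLC Groth.Agent.Lib.Helper39 Groth.Agent.Lib.Helper39.GrAcyc
  Groth.Agent.Lib.Helper39.GrLes

section Res
variable {R : Type u} [CommRing R] {S : Type u} [CommRing S] [Algebra R S]
  {𝒜 : ℤ → AddSubgroup R} [GradedRing 𝒜] {𝒜' : ℤ → AddSubgroup S} [GradedRing 𝒜']
  (hf : ∀ j : ℤ, (𝒜 j).map (algebraMap R S : R →+ S) ≤ 𝒜' j)

/-- restriction of scalars of a graded module -/
def resGMod (X : GMod.{u} 𝒜') : GMod.{u} 𝒜 :=
  letI : Module R X.carrier := Module.compHom X.carrier (algebraMap R S)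
  { carrier := X.carrier
    gr := X.gr
    gsmul := ⟨fun {i j r x} hr hx => by
      have h1 : algebraMap R S r ∈ 𝒜' i := hf i ⟨r, hr, rfl⟩
      have h2 : algebraMap R S r • (x : X.carrier) ∈ X.gr (i +ᵥ j) :=
        SetLike.GradedSMul.smul_mem h1 hx
      exact h2⟩ }

/-- restriction of scalars of a linear map -/
def resLin {X Y : GMod.{u} 𝒜'} (f : X.carrier →ₗ[S] Y.carrier) :
    (resGMod hf X).carrier →ₗ[R] (resGMod hf Y).carrier where
  toFun := f
  map_add' := f.map_add
  map_smul' := fun r x => f.map_smul (algebraMap R S r) x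

variable [SetLike.GradedSMul 𝒜 𝒜']

/-- the restriction of a *injective resolution of `S` over `S` to `R` -/
def resRes (I' : StarInjRes 𝒜' 𝒜') : GrRes (GMod.of 𝒜 S 𝒜') where
  X i := resGMod hf (I'.X i)
  d i := resLin hf (I'.d i)
  ε :=
    { toFun := I'.ε
      map_add' := I'.ε.map_add
      map_smul' := fun r s => by
        let s' : S := s
        have h : (r • s' : S) = algebraMap R S r • s' := by
          rw [Algebra.smul_def, smul_eq_mul]
        show I'.ε (r • s') = algebraMap R S r • I'.ε s'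
        rw [h, I'.ε.map_smul] }
  d_grHom i := I'.d_grHom i
  ε_grHom := I'.ε_grHom
  ε_injective := I'.ε_injective
  exact_zero := by
    ext x
    exact SetLike.ext_iff.mp I'.exact_zero x
  exact_succ n := by
    ext x
    exact SetLike.ext_iff.mp (I'.exact_succ n) x

end Res

section Ident
variable {R : Type u} [CommRing R] {S : Type u} [CommRing S] [Algebra R S]
  {𝒜 : ℤ → AddSubgroup R} [GradedRing 𝒜] {𝒜' : ℤ → AddSubgroup S} [GradedRing 𝒜']
  (hf : ∀ j : ℤ, (𝒜 j).map (algebraMap R S : R →+ S) ≤ 𝒜' j)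
  [SetLike.GradedSMul 𝒜 𝒜'] (m : HomogeneousIdeal 𝒜) (m' : HomogeneousIdeal 𝒜')
  (hgam : ∀ (X : GMod.{u} 𝒜') (x : X.carrier),
    x ∈ gam m.toIdeal (resGMod hf X).carrier ↔ x ∈ gam m'.toIdeal X.carrier)
  (I' : StarInjRes 𝒜' 𝒜')

include hgam in
theorem mem_cocyc_iff (i : ℕ) (z : ((resRes hf I').X i).carrier) :
    z ∈ (resRes hf I').cocyc m i ↔ (show (I'.X i).carrier from z) ∈ I'.cocyc m' i := by
  constructor
  · rintro ⟨h1, h2⟩
    exact ⟨(hgam (I'.X i) z).mp h1, h2⟩
  · rintro ⟨h1, h2⟩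
    exact ⟨(hgam (I'.X i) z).mpr h1, h2⟩

include hgam in
theorem mem_cobdy_iff (i : ℕ) (z : ((resRes hf I').X i).carrier) :
    z ∈ (resRes hf I').cobdy m i ↔ (show (I'.X i).carrier from z) ∈ I'.cobdy m' i := by
  cases i with
  | zero =>
    constructor
    · intro h
      have h1 : z = 0 := h
      exact (Submodule.mem_bot S).mpr h1
    · intro h
      have h1 : (show (I'.X 0).carrier from z) = 0 := (Submodule.mem_bot S).mp h
      exact (Submodule.mem_bot R).mpr h1
  | succ n =>
    constructor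
    · rintro ⟨y, hy, rfl⟩
      exact ⟨y, (hgam (I'.X n) y).mp hy, rfl⟩
    · rintro ⟨y, hy, hyz⟩
      exact ⟨y, (hgam (I'.X n) y).mpr hy, hyz⟩

include hgam in
/-- the cohomology of `Γ_m` of the restricted resolution is that of `Γ_{m'}` -/
theorem exists_ident (i : ℕ) :
    ∃ Υ : (resRes hf I').H m i ≃+ I'.H m' i,
      (∀ (r : R) (x : (resRes hf I').H m i), Υ (r • x) = algebraMap R S r • Υ x) ∧
      (∀ (l : ℤ) (x : (resRes hf I').H m i),
        x ∈ (resRes hf I').Hgr m i l ↔ Υ x ∈ I'.Hgr m' i l) := by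
  classical
  letI modR : Module R (I'.H m' i) := Module.compHom _ (algebraMap R S)
  have hsm : ∀ (r : R) (y : I'.H m' i), r • y = algebraMap R S r • y := fun _ _ => rfl
  let c : (resRes hf I').cocyc m i → I'.cocyc m' i :=
    fun z => ⟨z.1, (mem_cocyc_iff hf m m' hgam I' i z.1).mp z.2⟩
  let c' : I'.cocyc m' i → (resRes hf I').cocyc m i :=
    fun z => ⟨z.1, (mem_cocyc_iff hf m m' hgam I' i z.1).mpr z.2⟩
  have hcc' : ∀ z, c (c' z) = z := fun z => rfl
  let f : (resRes hf I').cocyc m i →ₗ[R] I'.H m' i :=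
    { toFun := fun z => I'.toH m' i (c z)
      map_add' := fun z w => by
        rw [← map_add]
        rfl
      map_smul' := fun r z => by
        rw [RingHom.id_apply, hsm, ← map_smul]
        rfl }
  have hf' : ∀ z, f z = I'.toH m' i (c z) := fun _ => rfl
  have hker : ((resRes hf I').cobdy m i).comap ((resRes hf I').cocyc m i).subtype ≤
      LinearMap.ker f := by
    intro z hz
    rw [LinearMap.mem_ker, hf', toH_eq_zero_iff]
    exact (mem_cobdy_iff hf m m' hgam I' i z.1).mp hz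
  let Υ : (resRes hf I').H m i →ₗ[R] I'.H m' i := Submodule.liftQ _ f hker
  have hΥ : ∀ z, Υ ((resRes hf I').toH m i z) = I'.toH m' i (c z) := fun z => rfl
  have hinj : Function.Injective Υ := by
    rw [injective_iff_map_eq_zero]
    intro x hx
    obtain ⟨z, rfl⟩ := Submodule.mkQ_surjective _ x
    rw [hΥ, toH_eq_zero_iff] at hx
    rw [GrRes.toH_eq_zero_iff]
    exact (mem_cobdy_iff hf m m' hgam I' i z.1).mpr hx
  have hsurj : Function.Surjective Υ := by
    intro y
    obtain ⟨z, rfl⟩ := Submodule.mkQ_surjective _ y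
    exact ⟨(resRes hf I').toH m i (c' z), hΥ (c' z)⟩
  refine ⟨(LinearEquiv.ofBijective Υ ⟨hinj, hsurj⟩).toAddEquiv, fun r x => ?_, fun l x => ?_⟩
  · show Υ (r • x) = algebraMap R S r • Υ x
    rw [Υ.map_smul, hsm]
  · show x ∈ (resRes hf I').Hgr m i l ↔ Υ x ∈ I'.Hgr m' i l
    constructor
    · rintro ⟨z, hz, rfl⟩
      exact ⟨c z, hz, (hΥ z).symm⟩
    · rintro ⟨z', hz', hz'x⟩
      have h1 : Υ ((resRes hf I').toH m i (c' z')) = Υ x := by rw [hΥ, hcc', hz'x]
      rw [← hinj h1]
      exact ⟨c' z', hz', rfl⟩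

end Ident

end Groth.Agent.Lib.Helper39.GrBase
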