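import Groth.Agent.Lib.Helper39.GrLD8
import Groth.Agent.S13217
import Groth.Agent.S13224

/-!
# Graded local cohomology is independent of the base, II (helper39)

`resRes_acyclic`: the restriction to `R` of a *injective resolution over `S` consists of
`Γ_m`-acyclic graded `R`-modules.  `exists_base_iso`: `H^i_m(S) ≅ H^i_{m'}(S)`.
-/

set_option autoImplicit false
universe u

namespace Groth.Agent.Lib.Helper39.GrBase

open DirectSum GrLC Groth.Agent.Lib.Helper39 Groth.Agent.Lib.Helper39.GrAcyc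
  Groth.Agent.Lib.Helper39.GrLes

section Acyc
variable {R : Type u} [CommRing R] [IsNoetherianRing R] {S : Type u} [CommRing S]
  [IsNoetherianRing S] [Algebra R S]
  {𝒜 : ℤ → AddSubgroup R} [GradedRing 𝒜] {𝒜' : ℤ → AddSubgroup S} [GradedRing 𝒜']
  (hf : ∀ j : ℤ, (𝒜 j).map (algebraMap R S : R →+ S) ≤ 𝒜' j)
  [SetLike.GradedSMul 𝒜 𝒜'] (m : HomogeneousIdeal 𝒜) (I' : StarInjRes 𝒜' 𝒜')

include hf in
theorem map_isHomogeneous : (m.toIdeal.map (algebraMap R S)).IsHomogeneous 𝒜' := by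
  obtain ⟨T, hT⟩ := (Ideal.IsHomogeneous.iff_exists 𝒜 m.toIdeal).mp m.isHomogeneous
  rw [hT, Ideal.map_span]
  apply Ideal.homogeneous_span
  rintro _ ⟨_, ⟨x, _, rfl⟩, rfl⟩
  obtain ⟨i, hi⟩ := x.2
  exact ⟨i, hf i ⟨(x : R), hi, rfl⟩⟩

theorem resRes_acyclic : Acyclic m (resRes hf I') := by
  intro k G p hp
  letI modS : Module S ((resRes hf I').X k).carrier := (I'.X k).mod
  haveI tower : IsScalarTower R S ((resRes hf I').X k).carrier := ⟨fun r s x => by
    show (r • s) • (show (I'.X k).carrier from x) =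
      algebraMap R S r • (s • (show (I'.X k).carrier from x))
    rw [Algebra.smul_def, mul_smul]⟩
  letI gsmulS : SetLike.GradedSMul 𝒜' ((resRes hf I').X k).gr := (I'.X k).gsmul
  have hI : IsStarInj 𝒜' ((resRes hf I').X k).gr := I'.starInj k
  let mS : HomogeneousIdeal 𝒜' := ⟨m.toIdeal.map (algebraMap R S), map_isHomogeneous hf m⟩
  have h1 : Subsingleton (LocCoh.H mS.toIdeal p ((resRes hf I').X k).carrier) :=
    Groth.Agent.S13217.result S 𝒜' mS ((resRes hf I').X k).carrier ((resRes hf I').X k).gr hI p hp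
  obtain ⟨φ, -⟩ := Groth.Agent.Lib.Helper60.exists_lc_baseChange (R' := S) m.toIdeal p
    ((resRes hf I').X k).carrier
  have h2 : Subsingleton (LocCoh.H m.toIdeal p ((resRes hf I').X k).carrier) :=
    @Equiv.subsingleton _ _ φ.symm.toEquiv h1
  obtain ⟨e⟩ := Groth.Agent.S13224.result R 𝒜 m ((resRes hf I').X k).carrier
    ((resRes hf I').X k).gr G p
  exact e.toEquiv.subsingleton

end Acyc

section Iso
variable {R : Type u} [CommRing R] [IsNoetherianRing R] {S : Type u} [CommRing S]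
  [IsNoetherianRing S] [Algebra R S]
  {𝒜 : ℤ → AddSubgroup R} [GradedRing 𝒜] {𝒜' : ℤ → AddSubgroup S} [GradedRing 𝒜']
  (hf : ∀ j : ℤ, (𝒜 j).map (algebraMap R S : R →+ S) ≤ 𝒜' j)
  [SetLike.GradedSMul 𝒜 𝒜'] (m : HomogeneousIdeal 𝒜) (m' : HomogeneousIdeal 𝒜')
  (hgam : ∀ (X : GMod.{u} 𝒜') (x : X.carrier),
    x ∈ gam m.toIdeal (resGMod hf X).carrier ↔ x ∈ gam m'.toIdeal X.carrier)
  (I' : StarInjRes 𝒜' 𝒜') (ES : StarInjRes 𝒜 𝒜')

include hgam in
/-- **graded local cohomology is independent of the base** -/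
theorem exists_base_iso (i : ℕ) :
    ∃ Ξ : ES.H m i ≃+ I'.H m' i,
      (∀ (r : R) (x : ES.H m i), Ξ (r • x) = algebraMap R S r • Ξ x) ∧
      (∀ (l : ℤ) (x : ES.H m i), x ∈ ES.Hgr m i l ↔ Ξ x ∈ I'.Hgr m' i l) := by
  classical
  obtain ⟨Υ, hΥs, hΥg⟩ := exists_ident hf m m' hgam I' i
  obtain ⟨Ψ, hΨb, hΨg⟩ := exists_psi m i (resRes hf I') (resRes_acyclic hf m I') ES
  let Ψe : (resRes hf I').H m i ≃ₗ[R] ES.H m i := LinearEquiv.ofBijective Ψ hΨb
  let Ξ : ES.H m i ≃+ I'.H m' i := Ψe.symm.toAddEquiv.trans Υ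
  have hΞ : ∀ x, Ξ x = Υ (Ψe.symm x) := fun _ => rfl
  have hΞs : ∀ y, Ξ.symm y = Ψ (Υ.symm y) := fun _ => rfl
  have hsemi : ∀ (r : R) (x : ES.H m i), Ξ (r • x) = algebraMap R S r • Ξ x := by
    intro r x
    rw [hΞ, hΞ, Ψe.symm.map_smul, hΥs]
  -- the inverse is homogeneous
  have hback : ∀ (l : ℤ) (y : I'.H m' i), y ∈ I'.Hgr m' i l → Ξ.symm y ∈ ES.Hgr m i l := by
    intro l y hy
    rw [hΞs]
    apply hΨg
    rw [hΥg, Υ.apply_symm_apply]
    exact hy
  letI modR : Module R (I'.H m' i) := Module.compHom _ (algebraMap R S)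
  let fL : I'.H m' i →ₗ[R] ES.H m i :=
    { toFun := Ξ.symm
      map_add' := Ξ.symm.map_add
      map_smul' := fun r y => by
        rw [RingHom.id_apply, AddEquiv.symm_apply_eq, hsemi, Ξ.apply_symm_apply]
        rfl }
  have hfL : IsGrHom (I'.Hgr m' i) (ES.Hgr m i) fL := fun l y hy => hback l y hy
  refine ⟨Ξ, hsemi, fun l x => ⟨fun hx => ?_, fun hx => ?_⟩⟩
  · obtain ⟨y', hy', hy'x⟩ := exists_mem_of_isInternal (Hgr_isInternal I' m' i)
      (Hgr_isInternal ES m i) fL hfL hx (Ξ x) (Ξ.symm_apply_apply x)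
    have h1 : y' = Ξ x := by
      have h2 : Ξ.symm y' = x := hy'x
      rw [← h2, Ξ.apply_symm_apply]
    rw [← h1]
    exact hy'
  · have := hback l (Ξ x) hx
    rwa [Ξ.symm_apply_apply] at this

end Iso

end Groth.Agent.Lib.Helper39.GrBase
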