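import Groth.Agent.Lib.Helper39.GrNak
import Groth.Agent.Lib.Helper39.GrPieces
import Mathlib.RingTheory.Length

/-!
# A lower bound for the length of a graded module (helper39)

`length_ge`: if `N_j ≠ 0` for `0 ≤ j ≤ e` (`e ≥ 1`) and `N_1` contains `c` elements
`v_0, …, v_{c-1}` with `v_i ∉ R_0 v_0 + ⋯ + R_0 v_{i-1}`, then `length_R N ≥ e + c`.
-/

set_option autoImplicit false
universe u

namespace Groth.Agent.Lib.Helper39.GrLenBound

open DirectSum GrLC Groth.Agent.Lib.Helper39 Groth.Agent.Lib.Helper39.GrNak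
  Groth.Agent.Lib.Helper39.GrPieces

variable {R : Type u} [CommRing R] (𝒜 : ℤ → AddSubgroup R) [GradedRing 𝒜]
  {N : Type u} [AddCommGroup N] [Module R N] (𝒩 : ℤ → AddSubgroup N) [DirectSum.Decomposition 𝒩]
  [SetLike.GradedSMul 𝒜 𝒩] (hpos : ∀ n : ℤ, n < 0 → 𝒜 n = ⊥)

include hpos in
/-- elements with no component below degree one, whose degree one component lies in the `R_0`-span
of `T` -/
def Qsub (T : Set N) : Submodule R N where
  carrier := {z | (∀ j : ℤ, j < 1 → (decompose 𝒩 z j : N) = 0) ∧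
    (decompose 𝒩 z 1 : N) ∈ Submodule.span (GrLC.deg0 𝒜) T}
  add_mem' := by
    rintro x y ⟨hx0, hx1⟩ ⟨hy0, hy1⟩
    refine ⟨fun j hj => ?_, ?_⟩
    · rw [decompose_add, DirectSum.add_apply, AddSubgroup.coe_add, hx0 j hj, hy0 j hj, add_zero]
    · rw [decompose_add, DirectSum.add_apply, AddSubgroup.coe_add]
      exact add_mem hx1 hy1
  zero_mem' := by
    refine ⟨fun j _ => ?_, ?_⟩
    · rw [decompose_zero]; rfl
    · rw [decompose_zero]
      exact zero_mem _
  smul_mem' := by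
    rintro r z ⟨hz0, hz1⟩
    refine ⟨decompose_smul_eq_zero_of_lt 𝒜 𝒩 hpos hz0 r, ?_⟩
    rw [decompose_smul_of_ge 𝒜 𝒩 hpos hz0 r]
    exact Submodule.smul_mem _ (⟨(decompose 𝒜 r 0 : R), SetLike.coe_mem _⟩ : GrLC.deg0 𝒜) hz1

include hpos in
theorem length_ge (e c : ℕ) (he : 1 ≤ e)
    (hne : ∀ j : ℤ, 0 ≤ j → j ≤ e → 𝒩 j ≠ ⊥) (v : Fin c → N) (hv : ∀ l, v l ∈ 𝒩 1)
    (hind : ∀ i : Fin c, v i ∉ Submodule.span (GrLC.deg0 𝒜) (v '' {l | l < i})) :
    ((e + c : ℕ) : ℕ∞) ≤ Module.length R N := by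
  classical
  -- strictness of the degree filtration
  have hstrict : ∀ j : ℤ, 𝒩 j ≠ ⊥ → geSub (R := R) 𝒩 (j + 1) < geSub (R := R) 𝒩 j := by
    intro j hj
    refine lt_of_le_of_ne (geSub_anti 𝒩 (by omega)) ?_
    intro heq
    apply hj
    rw [eq_bot_iff]
    intro x hx
    have h1 : x ∈ geSub (R := R) 𝒩 (j + 1) := heq ▸ mem_geSub_of_mem 𝒩 le_rfl hx
    have h2 := decompose_eq_zero_of_mem_geSub 𝒜 𝒩 hpos h1 j (by omega)
    rw [decompose_of_mem_same 𝒩 hx] at h2
    rw [AddSubgroup.mem_bot]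
    exact h2
  -- heights along the degree filtration down to degree two
  have h1 : ∀ t : ℕ, t + 1 ≤ e →
      (t : ℕ∞) ≤ Order.height (geSub (R := R) 𝒩 ((e : ℤ) + 1 - t)) := by
    intro t
    induction t with
    | zero => intro _; simp
    | succ t ih =>
      intro ht
      have h2 := ih (by omega)
      have h3 := hstrict ((e : ℤ) - t) (hne _ (by omega) (by omega))
      have h4 := Order.height_add_one_le h3
      have e1 : (e : ℤ) - t + 1 = (e : ℤ) + 1 - t := by ring
      have e2 : (e : ℤ) + 1 - ((t + 1 : ℕ) : ℤ) = (e : ℤ) - t := by push_cast; ring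
      rw [e1] at h4
      rw [e2]
      calc ((t + 1 : ℕ) : ℕ∞) = (t : ℕ∞) + 1 := by push_cast; rfl
        _ ≤ Order.height (geSub (R := R) 𝒩 ((e : ℤ) + 1 - t)) + 1 := by gcongr
        _ ≤ _ := h4
  have hG2 : ((e - 1 : ℕ) : ℕ∞) ≤ Order.height (geSub (R := R) 𝒩 2) := by
    have := h1 (e - 1) (by omega)
    have e3 : (e : ℤ) + 1 - ((e - 1 : ℕ) : ℤ) = 2 := by
      rw [Nat.cast_sub he]
      push_cast
      ring
    rwa [e3] at this
  -- the chain in degree one
  let W : ℕ → Submodule R N := fun i =>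
    geSub (R := R) 𝒩 2 ⊔ Submodule.span R (v '' {l | l.val < i})
  have hWmono : ∀ i, W i ≤ W (i + 1) := by
    intro i
    apply sup_le_sup_left
    apply Submodule.span_mono
    apply Set.image_mono
    intro l hl
    exact Nat.lt_succ_of_lt hl
  have hWstrict : ∀ i (hi : i < c), W i < W (i + 1) := by
    intro i hi
    refine lt_of_le_of_ne (hWmono i) ?_
    intro heq
    have hmem : v ⟨i, hi⟩ ∈ W (i + 1) :=
      Submodule.mem_sup_right (Submodule.subset_span ⟨⟨i, hi⟩, Nat.lt_succ_self i, rfl⟩)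
    rw [← heq] at hmem
    -- `W i ≤ Qsub`
    have hle : W i ≤ Qsub 𝒜 𝒩 hpos (v '' {l | l < (⟨i, hi⟩ : Fin c)}) := by
      apply sup_le
      · intro z hz
        have hz0 := decompose_eq_zero_of_mem_geSub 𝒜 𝒩 hpos hz
        refine ⟨fun j hj => hz0 j (by omega), ?_⟩
        rw [hz0 1 (by omega)]
        exact zero_mem _
      · rw [Submodule.span_le]
        rintro _ ⟨l, hl, rfl⟩
        refine ⟨fun j hj => ?_, ?_⟩
        · rw [decompose_of_mem_ne 𝒩 (hv l) (by omega)]
        · rw [decompose_of_mem_same 𝒩 (hv l)]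
          exact Submodule.subset_span ⟨l, hl, rfl⟩
    have h5 := (hle hmem).2
    rw [decompose_of_mem_same 𝒩 (hv _)] at h5
    exact hind ⟨i, hi⟩ h5
  have hW : ∀ i, i ≤ c → ((e - 1 + i : ℕ) : ℕ∞) ≤ Order.height (W i) := by
    intro i
    induction i with
    | zero =>
      intro _
      have : W 0 = geSub (R := R) 𝒩 2 := by
        show geSub (R := R) 𝒩 2 ⊔ Submodule.span R (v '' {l | l.val < 0}) = _
        simp
      rw [this]
      simpa using hG2
    | succ i ih =>
      intro hi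
      have h2 := ih (by omega)
      have h4 := Order.height_add_one_le (hWstrict i (by omega))
      calc ((e - 1 + (i + 1) : ℕ) : ℕ∞) = ((e - 1 + i : ℕ) : ℕ∞) + 1 := by push_cast; ring
        _ ≤ Order.height (W i) + 1 := by gcongr
        _ ≤ _ := h4
  have hWG : W c ≤ geSub (R := R) 𝒩 1 := by
    apply sup_le (geSub_anti 𝒩 (by omega))
    rw [Submodule.span_le]
    rintro _ ⟨l, -, rfl⟩
    exact mem_geSub_of_mem 𝒩 le_rfl (hv l)
  have h6 := Order.height_add_one_le (hstrict 0 (hne 0 le_rfl (by omega)))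
  rw [Module.length_eq_height]
  calc ((e + c : ℕ) : ℕ∞) = ((e - 1 + c : ℕ) : ℕ∞) + 1 := by
        have : e + c = e - 1 + c + 1 := by omega
        rw [this]
        push_cast
        rfl
    _ ≤ Order.height (W c) + 1 := by gcongr; exact hW c le_rfl
    _ ≤ Order.height (geSub (R := R) 𝒩 (0 + 1)) + 1 := by
        have h7 : Order.height (W c) ≤ Order.height (geSub (R := R) 𝒩 (0 + 1)) :=
          Order.height_mono hWG
        gcongr
    _ ≤ Order.height (geSub (R := R) 𝒩 0) := h6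
    _ ≤ Order.height (⊤ : Submodule R N) := Order.height_mono le_top

end Groth.Agent.Lib.Helper39.GrLenBound
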