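import Groth.Agent.Lib.Helper39.GrLenBound
import Groth.Agent.Lib.Helper39.GrEGPoly

/-!
# Length bounds for graded cyclic modules over `k[x_0..x_r]` (helper39)
-/

set_option autoImplicit false
universe u

namespace Groth.Agent.Lib.Helper39.GrLenPoly

open DirectSum GrLC Groth.Agent.Lib.Helper39 Groth.Agent.Lib.Helper39.GrBridge
  Groth.Agent.Lib.Helper39.GrEGPoly Groth.Agent.Lib.Helper39.GrLenBound

attribute [local instance] toSubGradedRing toSubDecomposition toSubGradedSMul

variable {k : Type u} [Field k] {r : ℕ}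
  {N : Type u} [AddCommGroup N] [Module k N] [Module (MvPolynomial (Fin (r + 1)) k) N]
  [IsScalarTower k (MvPolynomial (Fin (r + 1)) k) N]
  (𝒩 : ℤ → Submodule k N) [DirectSum.Decomposition 𝒩]
  [SetLike.GradedSMul (GrSyz.stdGr k (Fin (r + 1))) 𝒩]
  (φ : MvPolynomial (Fin (r + 1)) k →ₗ[MvPolynomial (Fin (r + 1)) k] N)
  (hφ : Function.Surjective φ) (hφg : GrLC.IsGrHom (GrSyz.stdGr k (Fin (r + 1))) 𝒩 φ)

include hφ hφg in
/-- piecewise surjectivity -/
theorem exists_piece (j : ℤ) (w : N) (hw : w ∈ 𝒩 j) :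
    ∃ p ∈ GrSyz.stdGr k (Fin (r + 1)) j, φ p = w := by
  obtain ⟨p₀, rfl⟩ := hφ w
  have hg : IsGrHom (toSub (GrSyz.stdGr k (Fin (r + 1)))) (toSub 𝒩) φ := fun i m hm => hφg i m hm
  refine ⟨(decompose (toSub (GrSyz.stdGr k (Fin (r + 1)))) p₀ j : MvPolynomial (Fin (r + 1)) k),
    SetLike.coe_mem _, ?_⟩
  rw [← IsGrHom.decompose_apply (toSub (GrSyz.stdGr k (Fin (r + 1)))) (toSub 𝒩) hg]
  exact decompose_of_mem_same (toSub 𝒩) hw

include hφ hφg in
theorem piece_eq_bot_of_neg (j : ℤ) (hj : j < 0) : 𝒩 j = ⊥ := by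
  rw [eq_bot_iff]
  intro w hw
  obtain ⟨p, hp, rfl⟩ := exists_piece 𝒩 φ hφ hφg j w hw
  have : p ∈ toSub (GrSyz.stdGr k (Fin (r + 1))) j := hp
  rw [hpos k r j hj, AddSubgroup.mem_bot] at this
  rw [this, map_zero]
  exact zero_mem _

include hφ hφg in
/-- the nonzero degrees of a graded cyclic module form an interval starting at zero -/
theorem piece_ne_bot_of_succ (j : ℤ) (hj : 0 ≤ j) (h : 𝒩 (j + 1) ≠ ⊥) : 𝒩 j ≠ ⊥ := by
  classical
  intro hbot
  apply h
  rw [eq_bot_iff]
  intro w hw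
  obtain ⟨p, hp, rfl⟩ := exists_piece 𝒩 φ hφ hφg (j + 1) w hw
  -- `p` lies in the ideal generated by the variables
  have hp0 : MvPolynomial.constantCoeff p = 0 :=
    Groth.Agent.Lib.Helper66.constantCoeff_eq_zero_of_mem_irrel k (Fin (r + 1)) p
      (Ideal.subset_span ⟨j + 1, by omega, hp⟩)
  have hpX : p ∈ Ideal.span (Set.range (MvPolynomial.X : Fin (r + 1) → MvPolynomial (Fin (r + 1)) k)) := by
    rw [← Set.image_univ, MvPolynomial.mem_ideal_span_X_image]
    intro m hm
    have hm0 : m ≠ 0 := by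
      rintro rfl
      rw [MvPolynomial.mem_support_iff, ← MvPolynomial.constantCoeff_eq] at hm
      exact hm hp0
    obtain ⟨i, hi⟩ : ∃ i, m i ≠ 0 := by
      by_contra hcon
      push Not at hcon
      exact hm0 (Finsupp.ext hcon)
    exact ⟨i, Set.mem_univ _, hi⟩
  obtain ⟨c, hc⟩ := (Ideal.mem_span_range_iff_exists_fun).mp hpX
  -- the degree `j + 1` component of `φ p`
  have hw' : φ p ∈ toSub 𝒩 (j + 1) := hw
  have h1 : φ p = ∑ i, (MvPolynomial.X i : MvPolynomial (Fin (r + 1)) k) • φ (c i) := by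
    rw [← hc, map_sum]
    refine Finset.sum_congr rfl fun i _ => ?_
    rw [mul_comm, ← smul_eq_mul, map_smul]
  have h2 : (decompose (toSub 𝒩) (φ p) (1 + j) : N) = 0 := by
    rw [h1, decompose_sum, DFinsupp.finsetSum_apply, AddSubmonoidClass.coe_finsetSum]
    refine Finset.sum_eq_zero fun i _ => ?_
    have hX : (MvPolynomial.X i : MvPolynomial (Fin (r + 1)) k) ∈
        toSub (GrSyz.stdGr k (Fin (r + 1))) 1 :=
      MvPolynomial.isWeightedHomogeneous_X k (fun _ => (1 : ℤ)) i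
    rw [decompose_smul_of_mem (toSub (GrSyz.stdGr k (Fin (r + 1)))) (toSub 𝒩) hX]
    have h3 : (decompose (toSub 𝒩) (φ (c i)) j : N) ∈ 𝒩 j := SetLike.coe_mem _
    rw [hbot, Submodule.mem_bot] at h3
    rw [h3, smul_zero]
  rw [add_comm, decompose_of_mem_same (toSub 𝒩) hw'] at h2
  rw [h2]
  exact zero_mem _

include hφ hφg in
theorem piece_ne_bot_of_le (e : ℕ) (h : 𝒩 (e : ℤ) ≠ ⊥) :
    ∀ j : ℤ, 0 ≤ j → j ≤ e → 𝒩 j ≠ ⊥ := by
  have key : ∀ t : ℕ, t ≤ e → 𝒩 ((e : ℤ) - t) ≠ ⊥ := by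
    intro t
    induction t with
    | zero => intro _; simpa using h
    | succ t ih =>
      intro ht
      have := piece_ne_bot_of_succ 𝒩 φ hφ hφg ((e : ℤ) - (t + 1 : ℕ)) (by push_cast; omega) (by
        have e1 : (e : ℤ) - ((t + 1 : ℕ) : ℤ) + 1 = (e : ℤ) - t := by push_cast; ring
        rw [e1]
        exact ih (by omega))
      exact this
  intro j hj0 hje
  have := key (e - j.toNat) (by omega)
  have e2 : (e : ℤ) - ((e - j.toNat : ℕ) : ℤ) = j := by
    rw [Nat.cast_sub (by omega)]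
    rw [Int.toNat_of_nonneg hj0]
    ring
  rwa [e2] at this

/-- the `R_0`-span is contained in the `k`-span -/
theorem span_deg0_le (T : Set N) (z : N)
    (hz : z ∈ Submodule.span (GrLC.deg0 (toSub (GrSyz.stdGr k (Fin (r + 1))))) T) :
    z ∈ Submodule.span k T := by
  induction hz using Submodule.span_induction with
  | mem x hx => exact Submodule.subset_span hx
  | zero => exact zero_mem _
  | add x y _ _ hx hy => exact add_mem hx hy
  | smul s x _ hx =>
    obtain ⟨s, hs⟩ := s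
    have hs' : s ∈ GrSyz.stdGr k (Fin (r + 1)) 0 := hs
    have hC := Groth.Agent.Lib.Helper66.BettiUniq.eq_C_of_mem_stdGr_zero s hs'
    have : (⟨s, hs⟩ : GrLC.deg0 (toSub (GrSyz.stdGr k (Fin (r + 1))))) • x =
        (MvPolynomial.constantCoeff s) • x := by
      show s • x = _
      rw [hC, MvPolynomial.constantCoeff_C, ← MvPolynomial.algebraMap_eq, algebraMap_smul]
    rw [this]
    exact Submodule.smul_mem _ _ hx

include hφ hφg in
/-- the dimension of the degree one piece -/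
theorem finrank_piece_one (ys : List (MvPolynomial (Fin (r + 1)) k))
    (hK : ∀ x ∈ GrSyz.stdGr k (Fin (r + 1)) 1, φ x = 0 →
      x ∈ Submodule.span k {y | y ∈ ys}) :
    Module.Finite k (𝒩 1) ∧ r + 1 ≤ Module.finrank k (𝒩 1) + ys.length := by
  classical
  let ψ : GrSyz.stdGr k (Fin (r + 1)) 1 →ₗ[k] 𝒩 1 :=
    ((φ.restrictScalars k).domRestrict (GrSyz.stdGr k (Fin (r + 1)) 1)).codRestrict (𝒩 1)
      (fun x => hφg 1 x x.2)
  have hψs : Function.Surjective ψ := by
    rintro ⟨w, hw⟩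
    obtain ⟨p, hp, rfl⟩ := exists_piece 𝒩 φ hφ hφg 1 w hw
    exact ⟨⟨p, hp⟩, rfl⟩
  haveI : Module.Finite k (𝒩 1) := Module.Finite.of_surjective ψ hψs
  refine ⟨inferInstance, ?_⟩
  have h1 := LinearMap.finrank_range_add_finrank_ker ψ
  rw [LinearMap.range_eq_top.mpr hψs, finrank_top,
    Groth.Agent.Lib.Helper66.GrHilb.finrank_stdGr_of_nonneg k r 1 (by norm_num)] at h1
  have hch : Nat.choose (r + (1 : ℤ).toNat) r = r + 1 := by
    have : (1 : ℤ).toNat = 1 := rfl
    rw [this, Nat.choose_succ_self_right]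
  rw [hch] at h1
  -- the kernel embeds in the span of `ys`
  let ι' : LinearMap.ker ψ →ₗ[k] Submodule.span k {y | y ∈ ys} :=
    ((GrSyz.stdGr k (Fin (r + 1)) 1).subtype.comp (LinearMap.ker ψ).subtype).codRestrict _
      (fun x => by
        apply hK _ x.1.2
        have := x.2
        rw [LinearMap.mem_ker] at this
        exact congrArg Subtype.val this)
  have hι' : Function.Injective ι' := by
    intro x y hxy
    apply Subtype.ext
    apply Subtype.ext
    have := congrArg Subtype.val hxy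
    exact this
  have hfin : Module.Finite k (Submodule.span k {y | y ∈ ys}) := by
    have : {y | y ∈ ys} = ((ys.toFinset : Finset _) : Set (MvPolynomial (Fin (r + 1)) k)) := by
      ext y; simp
    rw [this]
    exact FiniteDimensional.span_finset k _
  have h2 : Module.finrank k (LinearMap.ker ψ) ≤ Module.finrank k (Submodule.span k {y | y ∈ ys}) :=
    LinearMap.finrank_le_finrank_of_injective hι'
  have h3 : Module.finrank k (Submodule.span k {y | y ∈ ys}) ≤ ys.length := by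
    have : {y | y ∈ ys} = ((ys.toFinset : Finset _) : Set (MvPolynomial (Fin (r + 1)) k)) := by
      ext y; simp
    rw [this]
    exact (finrank_span_finset_le_card _).trans (List.toFinset_card_le ys)
  omega

include hφ hφg in
/-- **Length bound.** -/
theorem length_ge (ys : List (MvPolynomial (Fin (r + 1)) k))
    (hK : ∀ x ∈ GrSyz.stdGr k (Fin (r + 1)) 1, φ x = 0 →
      x ∈ Submodule.span k {y | y ∈ ys}) (e : ℕ) (he : 1 ≤ e) (hne : 𝒩 (e : ℤ) ≠ ⊥) :
    ((e + (r + 1 - ys.length) : ℕ) : ℕ∞) ≤ Module.length (MvPolynomial (Fin (r + 1)) k) N := by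
  classical
  obtain ⟨hfin, hdim⟩ := finrank_piece_one 𝒩 φ hφ hφg ys hK
  have hc : r + 1 - ys.length ≤ Module.finrank k (𝒩 1) := by omega
  obtain ⟨f, hf⟩ := exists_linearIndependent_of_le_finrank hc
  have hf' : LinearIndependent k (fun l => ((f l : 𝒩 1) : N)) :=
    hf.map' (𝒩 1).subtype (Submodule.ker_subtype _)
  refine GrLenBound.length_ge (toSub (GrSyz.stdGr k (Fin (r + 1)))) (toSub 𝒩) (hpos k r) e
    (r + 1 - ys.length) he ?_ (fun l => ((f l : 𝒩 1) : N)) (fun l => (f l).2) ?_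
  · intro j hj0 hje hbot
    apply piece_ne_bot_of_le 𝒩 φ hφ hφg e hne j hj0 hje
    rw [eq_bot_iff]
    intro w hw
    have hw' : w ∈ toSub 𝒩 j := hw
    rw [hbot] at hw'
    exact hw'
  · intro i hmem
    have h1 := span_deg0_le _ _ hmem
    exact hf'.notMem_span_image (s := {l | l < i}) (by simp) h1

end Groth.Agent.Lib.Helper39.GrLenPoly
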