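import Groth.Agent.Lib.Helper39.GrMod

/-!
# Shifted gradings of graded modules (helper39)

`shiftPieces 𝓛 g i = 𝓛 (i + g)`, `shiftDecomposition`, `shiftGradedSMul`, `decompose_shift`,
`isHomogeneous_shift_iff`.
-/

set_option autoImplicit false
universe u

namespace Groth.Agent.Lib.Helper39

open DirectSum GrLC

section Shift
variable {ι : Type} [AddCommGroup ι] [DecidableEq ι] {R : Type u} [CommRing R]
  {L : Type u} [AddCommGroup L] [Module R L] (𝓛 : ι → AddSubgroup L) [DirectSum.Decomposition 𝓛]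
  (g : ι)

/-- The shifted grading `L(g)`: `L(g)_i = L_{i+g}`. -/
def shiftPieces : ι → AddSubgroup L := fun i => 𝓛 (i + g)

omit [DecidableEq ι] [Decomposition 𝓛] in
theorem mem_shiftPieces {i : ι} {x : L} : x ∈ shiftPieces 𝓛 g i ↔ x ∈ 𝓛 (i + g) := Iff.rfl

omit [Decomposition 𝓛] in
theorem of_shift_congr {i j : ι} (hij : i = j) (x : L) (hi : x ∈ shiftPieces 𝓛 g i)
    (hj : x ∈ shiftPieces 𝓛 g j) :
    DirectSum.of (fun j => shiftPieces 𝓛 g j) i ⟨x, hi⟩ =
      DirectSum.of (fun j => shiftPieces 𝓛 g j) j ⟨x, hj⟩ := by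
  subst hij
  rfl

def shiftOf (i : ι) : 𝓛 i →+ ⨁ j, shiftPieces 𝓛 g j :=
  (DirectSum.of (fun j => shiftPieces 𝓛 g j) (i - g)).comp
    (AddMonoidHom.codRestrict ((𝓛 i).subtype) (shiftPieces 𝓛 g (i - g))
      (fun x => by
        show (x : L) ∈ 𝓛 (i - g + g)
        rw [sub_add_cancel]
        exact x.2))

omit [Decomposition 𝓛] in
theorem shiftOf_apply (i : ι) (x : 𝓛 i) :
    shiftOf 𝓛 g i x = DirectSum.of (fun j => shiftPieces 𝓛 g j) (i - g)
      ⟨(x : L), by show (x : L) ∈ 𝓛 (i - g + g); rw [sub_add_cancel]; exact x.2⟩ := rfl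

def shiftDecompose : L →+ ⨁ j, shiftPieces 𝓛 g j :=
  (DirectSum.toAddMonoid (shiftOf 𝓛 g)).comp (decomposeAddEquiv 𝓛).toAddMonoidHom

omit [Decomposition 𝓛] in
theorem coe_toAddMonoid_shiftOf (x : ⨁ i, 𝓛 i) :
    DirectSum.coeAddMonoidHom (shiftPieces 𝓛 g) (DirectSum.toAddMonoid (shiftOf 𝓛 g) x) =
      DirectSum.coeAddMonoidHom 𝓛 x := by
  induction x using DirectSum.induction_on with
  | zero => simp
  | of i x =>
    rw [DirectSum.toAddMonoid_of, shiftOf_apply, DirectSum.coeAddMonoidHom_of,
      DirectSum.coeAddMonoidHom_of]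
  | add x y hx hy => rw [map_add, map_add, hx, hy, map_add]

/-- The shifted family is again a grading. -/
@[instance_reducible]
def shiftDecomposition : DirectSum.Decomposition (shiftPieces 𝓛 g) :=
  Decomposition.ofAddHom (shiftPieces 𝓛 g) (shiftDecompose 𝓛 g)
    (by
      ext x
      simp only [AddMonoidHom.coe_comp, Function.comp_apply, AddMonoidHom.id_apply]
      unfold shiftDecompose
      simp only [AddMonoidHom.coe_comp, Function.comp_apply]
      rw [coe_toAddMonoid_shiftOf]
      exact (decompose 𝓛).left_inv x)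
    (by
      apply DirectSum.addHom_ext
      rintro i ⟨y, hy⟩
      simp only [AddMonoidHom.coe_comp, Function.comp_apply, AddMonoidHom.id_apply]
      rw [DirectSum.coeAddMonoidHom_of]
      unfold shiftDecompose
      simp only [AddMonoidHom.coe_comp, Function.comp_apply]
      have h1 : (decomposeAddEquiv 𝓛).toAddMonoidHom y =
          DirectSum.of (fun i => 𝓛 i) (i + g) ⟨y, hy⟩ := decompose_of_mem 𝓛 hy
      rw [h1, DirectSum.toAddMonoid_of, shiftOf_apply]
      exact of_shift_congr 𝓛 g (add_sub_cancel_right i g) y _ hy)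

end Shift

section ShiftSMul
variable {ι : Type} [AddCommGroup ι] [DecidableEq ι] {R : Type u} [CommRing R]
  (𝒜 : ι → AddSubgroup R) [GradedRing 𝒜]
  {L : Type u} [AddCommGroup L] [Module R L] (𝓛 : ι → AddSubgroup L) [SetLike.GradedSMul 𝒜 𝓛]
  (g : ι)

theorem shiftGradedSMul : SetLike.GradedSMul 𝒜 (shiftPieces 𝓛 g) where
  smul_mem := by
    intro i j a x ha hx
    show a • x ∈ 𝓛 (i + j + g)
    rw [add_assoc]
    exact SetLike.GradedSMul.smul_mem (A := 𝒜) (B := 𝓛) ha hx

end ShiftSMul

section ShiftHom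
variable {ι : Type} [AddCommGroup ι] [DecidableEq ι] {R : Type u} [CommRing R]
  {L : Type u} [AddCommGroup L] [Module R L] (𝓛 : ι → AddSubgroup L) [DirectSum.Decomposition 𝓛]
  (g : ι)

/-- the components for the shifted grading are the shifted components -/
theorem decompose_shift (x : L) (i : ι) :
    letI := shiftDecomposition 𝓛 g
    ((decompose (shiftPieces 𝓛 g) x i : shiftPieces 𝓛 g i) : L) = (decompose 𝓛 x (i + g) : L) := by
  let _ := shiftDecomposition 𝓛 g
  induction x using DirectSum.Decomposition.inductionOn 𝓛 with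
  | zero => simp
  | @homogeneous j m =>
    by_cases hij : j = i + g
    · subst hij
      rw [decompose_of_mem_same 𝓛 m.2]
      exact decompose_of_mem_same (shiftPieces 𝓛 g) (i := i) m.2
    · rw [decompose_of_mem_ne 𝓛 m.2 hij]
      have hm : (m : L) ∈ shiftPieces 𝓛 g (j - g) := by
        show (m : L) ∈ 𝓛 (j - g + g)
        rw [sub_add_cancel]
        exact m.2
      exact decompose_of_mem_ne (shiftPieces 𝓛 g) hm (fun h => hij (by rw [← h, sub_add_cancel]))
  | add m m' hm hm' =>
    rw [decompose_add, decompose_add, DirectSum.add_apply, DirectSum.add_apply,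
      AddSubgroup.coe_add, AddSubgroup.coe_add, hm, hm']

/-- homogeneous submodules for the shifted grading are the same -/
theorem isHomogeneous_shift_iff (P : Submodule R L) :
    letI := shiftDecomposition 𝓛 g
    P.IsHomogeneous (shiftPieces 𝓛 g) ↔ P.IsHomogeneous 𝓛 := by
  let _ := shiftDecomposition 𝓛 g
  constructor
  · intro h i x hx
    have := h (i - g) hx
    rw [decompose_shift, sub_add_cancel] at this
    exact this
  · intro h i x hx
    rw [decompose_shift]
    exact h (i + g) hx

end ShiftHom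

end Groth.Agent.Lib.Helper39
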