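import Groth.Agent.Lib.Helper39.GrH
import Groth.Agent.Lib.Helper39.GrQuot
import Groth.Agent.Lib.Helper39.GrShift

/-!
# Graded local cohomology as a functor: chain maps, lifting, homotopy (helper39)

For *injective resolutions `E` of `M` and `F` of `N` and a homogeneous map `f : M → N` of degree `g`
we construct the canonical map `Hmap E F f : E.H a i → F.H a i` (independent of the chosen lift),
homogeneous of degree `g`.
-/

set_option autoImplicit false
universe u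

namespace Groth.Agent.Lib.Helper39.GrLes

open DirectSum GrLC Groth.Agent.Lib.Helper39

section Ext
variable {ι : Type} [AddCommGroup ι] [DecidableEq ι] {R : Type u} [CommRing R]
  (𝒜 : ι → AddSubgroup R) [GradedRing 𝒜]
  {A : Type u} [AddCommGroup A] [Module R A] (𝓐 : ι → AddSubgroup A) [DirectSum.Decomposition 𝓐]
  [SetLike.GradedSMul 𝒜 𝓐]
  {B : Type u} [AddCommGroup B] [Module R B] (ℬ : ι → AddSubgroup B) [DirectSum.Decomposition ℬ]
  [SetLike.GradedSMul 𝒜 ℬ]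
  {I : Type u} [AddCommGroup I] [Module R I] (ℐ : ι → AddSubgroup I) [DirectSum.Decomposition ℐ]
  [SetLike.GradedSMul 𝒜 ℐ]

/-- a *injective module has the extension property for homogeneous maps of any degree, and the
extension is homogeneous of the same degree -/
theorem exists_grExtension_deg (hI : IsStarInj 𝒜 ℐ) (f : A →ₗ[R] B) (hf : IsGrHom 𝓐 ℬ f)
    (hinj : Function.Injective f) (g : A →ₗ[R] I) (d : ι) (hg : IsGrHomDeg 𝓐 ℐ g d) :
    ∃ h : B →ₗ[R] I, IsGrHomDeg ℬ ℐ h d ∧ h ∘ₗ f = g := by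
  let decA := shiftDecomposition 𝓐 (-d)
  have smulA := shiftGradedSMul 𝒜 𝓐 (-d)
  let decB := shiftDecomposition ℬ (-d)
  have smulB := shiftGradedSMul 𝒜 ℬ (-d)
  obtain ⟨h, hh1, hh⟩ := hI (GMod.of 𝒜 A (shiftPieces 𝓐 (-d))) (GMod.of 𝒜 B (shiftPieces ℬ (-d))) f
    (fun i x hx => hf _ x hx) hinj g (fun i x hx => by
      have := hg _ x hx
      rwa [neg_add_cancel_right] at this)
  refine ⟨h, fun j x hx => ?_, hh⟩
  apply hh1 (j + d) x
  show x ∈ ℬ (j + d + -d)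
  rwa [add_neg_cancel_right]

/-- extension along a homogeneous map whose kernel is killed -/
theorem exists_grExtension_of_ker_le (hI : IsStarInj 𝒜 ℐ) (α : A →ₗ[R] B) (hα : IsGrHom 𝓐 ℬ α)
    (β : A →ₗ[R] I) (d : ι) (hβ : IsGrHomDeg 𝓐 ℐ β d)
    (hker : LinearMap.ker α ≤ LinearMap.ker β) :
    ∃ γ : B →ₗ[R] I, IsGrHomDeg ℬ ℐ γ d ∧ γ ∘ₗ α = β := by
  have hQ : (LinearMap.ker α).IsHomogeneous 𝓐 := IsGrHom.ker_isHomogeneous 𝓐 ℬ hα
  let decQ := quotDecomposition 𝓐 (LinearMap.ker α) hQ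
  have smulQ := quotGradedSMul 𝒜 𝓐 (LinearMap.ker α)
  let α' : (A ⧸ LinearMap.ker α) →ₗ[R] B := (LinearMap.ker α).liftQ α le_rfl
  let β' : (A ⧸ LinearMap.ker α) →ₗ[R] I := (LinearMap.ker α).liftQ β hker
  have hα' : IsGrHom (quotPieces 𝓐 (LinearMap.ker α)) ℬ α' := by
    rintro i _ ⟨x, hx, rfl⟩
    exact hα i x hx
  have hβ' : IsGrHomDeg (quotPieces 𝓐 (LinearMap.ker α)) ℐ β' d := by
    rintro i _ ⟨x, hx, rfl⟩
    exact hβ i x hx
  have hinj : Function.Injective α' := by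
    rw [← LinearMap.ker_eq_bot]
    exact Submodule.ker_liftQ_eq_bot _ _ _ le_rfl
  obtain ⟨γ, hγ, hγα⟩ := exists_grExtension_deg 𝒜 (quotPieces 𝓐 (LinearMap.ker α)) ℬ ℐ hI α' hα'
    hinj β' d hβ'
  refine ⟨γ, hγ, ?_⟩
  ext x
  have := LinearMap.congr_fun hγα ((LinearMap.ker α).mkQ x)
  simpa [α', β'] using this

end Ext

section Chain
variable {ι : Type} [AddCommGroup ι] [DecidableEq ι] {R : Type u} [CommRing R]
  {𝒜 : ι → AddSubgroup R} [GradedRing 𝒜]
  {M : Type u} [AddCommGroup M] [Module R M] {ℳ : ι → AddSubgroup M} [DirectSum.Decomposition ℳ]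
  [SetLike.GradedSMul 𝒜 ℳ]
  {N : Type u} [AddCommGroup N] [Module R N] {𝒩 : ι → AddSubgroup N} [DirectSum.Decomposition 𝒩]
  [SetLike.GradedSMul 𝒜 𝒩]
  {P : Type u} [AddCommGroup P] [Module R P] {𝓟 : ι → AddSubgroup P} [DirectSum.Decomposition 𝓟]
  [SetLike.GradedSMul 𝒜 𝓟]

theorem d_comp_d (E : StarInjRes 𝒜 ℳ) (k : ℕ) (x : (E.X k).carrier) :
    E.d (k + 1) (E.d k x) = 0 := by
  have h : E.d k x ∈ LinearMap.range (E.d k) := ⟨x, rfl⟩
  rw [← E.exact_succ k] at h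
  exact h

theorem d_ε (E : StarInjRes 𝒜 ℳ) (m : M) : E.d 0 (E.ε m) = 0 := by
  have h : E.ε m ∈ LinearMap.range E.ε := ⟨m, rfl⟩
  rw [← E.exact_zero] at h
  exact h

/-- A chain map between the complexes underlying two *injective resolutions, homogeneous of
degree `g`. -/
structure ChainMap (E : StarInjRes 𝒜 ℳ) (F : StarInjRes 𝒜 𝒩) (g : ι) where
  φ : ∀ n : ℕ, (E.X n).carrier →ₗ[R] (F.X n).carrier
  deg : ∀ n : ℕ, IsGrHomDeg (E.X n).gr (F.X n).gr (φ n) g
  comm : ∀ (n : ℕ) (x : (E.X n).carrier), φ (n + 1) (E.d n x) = F.d n (φ n x)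

variable {E : StarInjRes 𝒜 ℳ} {F : StarInjRes 𝒜 𝒩} {G : StarInjRes 𝒜 𝓟}

/-- the chain map lifts `f` -/
def ChainMap.Lifts {g : ι} (c : ChainMap E F g) (f : M →ₗ[R] N) : Prop :=
  ∀ m : M, c.φ 0 (E.ε m) = F.ε (f m)

theorem gam_map {X Y : Type u} [AddCommGroup X] [Module R X] [AddCommGroup Y] [Module R Y]
    (a : Ideal R) (f : X →ₗ[R] Y) {x : X} (hx : x ∈ gam a X) : f x ∈ gam a Y := by
  obtain ⟨n, hn⟩ := hx
  exact ⟨n, fun r hr => by rw [← map_smul, hn r hr, map_zero]⟩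

variable (a : HomogeneousIdeal 𝒜)

theorem ChainMap.map_cocyc {g : ι} (c : ChainMap E F g) (i : ℕ) {z : (E.X i).carrier}
    (hz : z ∈ E.cocyc a i) : c.φ i z ∈ F.cocyc a i := by
  refine ⟨gam_map a.toIdeal (c.φ i) hz.1, ?_⟩
  show c.φ i z ∈ LinearMap.ker (F.d i)
  rw [LinearMap.mem_ker, ← c.comm, LinearMap.mem_ker.mp hz.2, map_zero]

theorem ChainMap.map_cobdy {g : ι} (c : ChainMap E F g) (i : ℕ) {z : (E.X i).carrier}
    (hz : z ∈ E.cobdy a i) : c.φ i z ∈ F.cobdy a i := by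
  cases i with
  | zero =>
    have : z = 0 := hz
    rw [this, map_zero]
    exact zero_mem _
  | succ n =>
    obtain ⟨y, hy, rfl⟩ := hz
    exact ⟨c.φ n y, gam_map a.toIdeal (c.φ n) hy, (c.comm n y).symm⟩

/-- the map on cocycles -/
def ChainMap.cocycMap {g : ι} (c : ChainMap E F g) (i : ℕ) : E.cocyc a i →ₗ[R] F.cocyc a i :=
  (c.φ i).restrict (fun _ hz => c.map_cocyc a i hz)

@[simp] theorem ChainMap.cocycMap_coe {g : ι} (c : ChainMap E F g) (i : ℕ) (z : E.cocyc a i) :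
    ((c.cocycMap a i z : F.cocyc a i) : (F.X i).carrier) = c.φ i z := rfl

/-- the map induced on graded local cohomology by a chain map -/
def ChainMap.H {g : ι} (c : ChainMap E F g) (i : ℕ) : E.H a i →ₗ[R] F.H a i :=
  Submodule.mapQ _ _ (c.cocycMap a i) (fun z hz => c.map_cobdy a i hz)

@[simp] theorem ChainMap.H_toH {g : ι} (c : ChainMap E F g) (i : ℕ) (z : E.cocyc a i) :
    c.H a i (E.toH a i z) = F.toH a i (c.cocycMap a i z) := rfl

theorem ChainMap.H_mem_Hgr {g : ι} (c : ChainMap E F g) (i : ℕ) {h : ι} {x : E.H a i}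
    (hx : x ∈ E.Hgr a i h) : c.H a i x ∈ F.Hgr a i (h + g) := by
  obtain ⟨z, hz, rfl⟩ := hx
  exact ⟨c.cocycMap a i z, c.deg i h _ hz, rfl⟩

theorem ChainMap.isGrHomDeg_H {g : ι} (c : ChainMap E F g) (i : ℕ) :
    IsGrHomDeg (E.Hgr a i) (F.Hgr a i) (c.H a i) g :=
  fun _ _ hx => c.H_mem_Hgr a i hx

/-- homotopic chain maps induce the same map on cohomology -/
theorem ChainMap.H_eq_of_homotopy {g g' : ι} (c : ChainMap E F g) (c' : ChainMap E F g')
    (h : ∀ n : ℕ, (E.X (n + 1)).carrier →ₗ[R] (F.X n).carrier)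
    (h0 : ∀ x, c.φ 0 x - c'.φ 0 x = h 0 (E.d 0 x))
    (hs : ∀ (n : ℕ) x, c.φ (n + 1) x - c'.φ (n + 1) x = F.d n (h n x) + h (n + 1) (E.d (n + 1) x))
    (i : ℕ) : c.H a i = c'.H a i := by
  apply LinearMap.ext
  intro x
  obtain ⟨z, rfl⟩ := Submodule.mkQ_surjective _ x
  show F.toH a i (c.cocycMap a i z) = F.toH a i (c'.cocycMap a i z)
  rw [← sub_eq_zero, ← map_sub, toH_eq_zero_iff]
  have hz2 : E.d i (z : (E.X i).carrier) = 0 := LinearMap.mem_ker.mp z.2.2
  cases i with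
  | zero =>
    show c.φ 0 z - c'.φ 0 z ∈ (⊥ : Submodule R _)
    rw [h0, hz2, map_zero]
    exact zero_mem _
  | succ n =>
    show c.φ (n + 1) z - c'.φ (n + 1) z ∈ _
    rw [hs, hz2, map_zero, add_zero]
    exact ⟨h n z, gam_map a.toIdeal (h n) z.2.1, rfl⟩

/-- identity chain map -/
def ChainMap.id (E : StarInjRes 𝒜 ℳ) : ChainMap E E 0 where
  φ _ := LinearMap.id
  deg n j x hx := by rw [add_zero]; exact hx
  comm _ _ := rfl

theorem ChainMap.id_H (i : ℕ) : (ChainMap.id E).H a i = LinearMap.id := by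
  apply LinearMap.ext
  intro x
  obtain ⟨z, rfl⟩ := Submodule.mkQ_surjective _ x
  rfl

/-- composition of chain maps -/
def ChainMap.comp {g g' : ι} (c : ChainMap E F g) (c' : ChainMap F G g') : ChainMap E G (g + g') where
  φ n := c'.φ n ∘ₗ c.φ n
  deg n j x hx := by
    have := c'.deg n _ _ (c.deg n j x hx)
    rwa [add_assoc] at this
  comm n x := by
    simp only [LinearMap.comp_apply]
    rw [c.comm, c'.comm]

theorem ChainMap.comp_H {g g' : ι} (c : ChainMap E F g) (c' : ChainMap F G g') (i : ℕ) :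
    (c.comp c').H a i = c'.H a i ∘ₗ c.H a i := by
  apply LinearMap.ext
  intro x
  obtain ⟨z, rfl⟩ := Submodule.mkQ_surjective _ x
  rfl

/-- multiplication by a homogeneous element as a chain map -/
def ChainMap.smul (E : StarInjRes 𝒜 ℳ) {g : ι} (r : R) (hr : r ∈ 𝒜 g) : ChainMap E E g where
  φ _ := r • LinearMap.id
  deg n j x hx := by
    have := SetLike.GradedSMul.smul_mem (A := 𝒜) (B := (E.X n).gr) hr hx
    rw [vadd_eq_add, add_comm] at this
    exact this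
  comm n x := by simp

theorem ChainMap.smul_H {g : ι} (r : R) (hr : r ∈ 𝒜 g) (i : ℕ) (x : E.H a i) :
    (ChainMap.smul E r hr).H a i x = r • x := by
  obtain ⟨z, rfl⟩ := Submodule.mkQ_surjective _ x
  show E.toH a i ((ChainMap.smul E r hr).cocycMap a i z) = r • E.toH a i z
  rw [← map_smul]
  congr 1

end Chain

end Groth.Agent.Lib.Helper39.GrLes
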