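import Groth.Agent.Lib.Helper39.GrLes1

/-!
# Lifting maps to *injective resolutions and uniqueness up to homotopy (helper39)
-/

set_option autoImplicit false
universe u

namespace Groth.Agent.Lib.Helper39.GrLes

open DirectSum GrLC Groth.Agent.Lib.Helper39

section Lift
variable {ι : Type} [AddCommGroup ι] [DecidableEq ι] {R : Type u} [CommRing R]
  {𝒜 : ι → AddSubgroup R} [GradedRing 𝒜]
  {M : Type u} [AddCommGroup M] [Module R M] {ℳ : ι → AddSubgroup M} [DirectSum.Decomposition ℳ]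
  [SetLike.GradedSMul 𝒜 ℳ]
  {N : Type u} [AddCommGroup N] [Module R N] {𝒩 : ι → AddSubgroup N} [DirectSum.Decomposition 𝒩]
  [SetLike.GradedSMul 𝒜 𝒩]
  (E : StarInjRes 𝒜 ℳ) (F : StarInjRes 𝒜 𝒩) (f : M →ₗ[R] N) (g : ι)

/-- a partial lift at stage `n` -/
def LiftAt (n : ℕ) : Type u :=
  {φ : (E.X n).carrier →ₗ[R] (F.X n).carrier //
    IsGrHomDeg (E.X n).gr (F.X n).gr φ g ∧ LinearMap.ker (E.d n) ≤ LinearMap.ker (F.d n ∘ₗ φ)}

variable {E F g}

theorem LiftAt.exists_next {n : ℕ} (l : LiftAt E F g n) :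
    ∃ φ' : (E.X (n + 1)).carrier →ₗ[R] (F.X (n + 1)).carrier,
      IsGrHomDeg (E.X (n + 1)).gr (F.X (n + 1)).gr φ' g ∧ φ' ∘ₗ E.d n = F.d n ∘ₗ l.1 :=
  exists_grExtension_of_ker_le 𝒜 (E.X n).gr (E.X (n + 1)).gr (F.X (n + 1)).gr (F.starInj (n + 1))
    (E.d n) (E.d_grHom n) (F.d n ∘ₗ l.1) g
    (fun j x hx => F.d_grHom n _ _ (l.2.1 j x hx)) l.2.2

/-- the next stage -/
noncomputable def LiftAt.next {n : ℕ} (l : LiftAt E F g n) : LiftAt E F g (n + 1) :=
  ⟨Classical.choose l.exists_next, (Classical.choose_spec l.exists_next).1, by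
    have h := (Classical.choose_spec l.exists_next).2
    rw [E.exact_succ n]
    rintro _ ⟨x, rfl⟩
    rw [LinearMap.mem_ker, LinearMap.comp_apply]
    have h2 := LinearMap.congr_fun h x
    rw [LinearMap.comp_apply] at h2
    rw [h2, LinearMap.comp_apply, d_comp_d]⟩

theorem LiftAt.next_comm {n : ℕ} (l : LiftAt E F g n) (x : (E.X n).carrier) :
    l.next.1 (E.d n x) = F.d n (l.1 x) :=
  LinearMap.congr_fun (Classical.choose_spec l.exists_next).2 x

variable (E F g)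

theorem exists_liftZero (hf : IsGrHomDeg ℳ 𝒩 f g) :
    ∃ φ : (E.X 0).carrier →ₗ[R] (F.X 0).carrier,
      IsGrHomDeg (E.X 0).gr (F.X 0).gr φ g ∧ φ ∘ₗ E.ε = F.ε ∘ₗ f :=
  exists_grExtension_of_ker_le 𝒜 ℳ (E.X 0).gr (F.X 0).gr (F.starInj 0)
    E.ε E.ε_grHom (F.ε ∘ₗ f) g
    (fun j x hx => F.ε_grHom _ _ (hf j x hx))
    (by rw [LinearMap.ker_eq_bot.mpr E.ε_injective]; exact bot_le)

/-- stage zero -/
noncomputable def liftZero (hf : IsGrHomDeg ℳ 𝒩 f g) : LiftAt E F g 0 :=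
  ⟨Classical.choose (exists_liftZero E F f g hf), (Classical.choose_spec (exists_liftZero E F f g hf)).1, by
    have h := (Classical.choose_spec (exists_liftZero E F f g hf)).2
    rw [E.exact_zero]
    rintro _ ⟨m, rfl⟩
    rw [LinearMap.mem_ker, LinearMap.comp_apply]
    have h2 := LinearMap.congr_fun h m
    rw [LinearMap.comp_apply] at h2
    rw [h2, LinearMap.comp_apply, d_ε]⟩

theorem liftZero_ε (hf : IsGrHomDeg ℳ 𝒩 f g) (m : M) :
    (liftZero E F f g hf).1 (E.ε m) = F.ε (f m) :=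
  LinearMap.congr_fun (Classical.choose_spec (exists_liftZero E F f g hf)).2 m

/-- all stages -/
noncomputable def liftSeq (hf : IsGrHomDeg ℳ 𝒩 f g) : ∀ n : ℕ, LiftAt E F g n
  | 0 => liftZero E F f g hf
  | n + 1 => (liftSeq hf n).next

/-- **Lifting**: a homogeneous map of degree `g` lifts to a chain map of *injective resolutions. -/
noncomputable def liftChain (hf : IsGrHomDeg ℳ 𝒩 f g) : ChainMap E F g where
  φ n := (liftSeq E F f g hf n).1
  deg n := (liftSeq E F f g hf n).2.1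
  comm n x := (liftSeq E F f g hf n).next_comm x

theorem liftChain_lifts (hf : IsGrHomDeg ℳ 𝒩 f g) : (liftChain E F f g hf).Lifts f :=
  fun m => liftZero_ε E F f g hf m

end Lift

section Homotopy
variable {ι : Type} [AddCommGroup ι] [DecidableEq ι] {R : Type u} [CommRing R]
  {𝒜 : ι → AddSubgroup R} [GradedRing 𝒜]
  {M : Type u} [AddCommGroup M] [Module R M] {ℳ : ι → AddSubgroup M} [DirectSum.Decomposition ℳ]
  [SetLike.GradedSMul 𝒜 ℳ]
  {N : Type u} [AddCommGroup N] [Module R N] {𝒩 : ι → AddSubgroup N} [DirectSum.Decomposition 𝒩]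
  [SetLike.GradedSMul 𝒜 𝒩]
  {E : StarInjRes 𝒜 ℳ} {F : StarInjRes 𝒜 𝒩} {g : ι} (c c' : ChainMap E F g)

/-- a partial homotopy at stage `n` -/
def HtAt (n : ℕ) : Type u :=
  {h : (E.X (n + 1)).carrier →ₗ[R] (F.X n).carrier //
    IsGrHomDeg (E.X (n + 1)).gr (F.X n).gr h g ∧
      ∀ x, F.d n (h (E.d n x)) = F.d n (c.φ n x - c'.φ n x)}

variable {c c'}

theorem HtAt.exists_next {n : ℕ} (h : HtAt c c' n) :
    ∃ h' : (E.X (n + 2)).carrier →ₗ[R] (F.X (n + 1)).carrier,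
      IsGrHomDeg (E.X (n + 2)).gr (F.X (n + 1)).gr h' g ∧
        h' ∘ₗ E.d (n + 1) = (c.φ (n + 1) - c'.φ (n + 1)) - F.d n ∘ₗ h.1 := by
  refine exists_grExtension_of_ker_le 𝒜 (E.X (n + 1)).gr (E.X (n + 2)).gr (F.X (n + 1)).gr
    (F.starInj (n + 1)) (E.d (n + 1)) (E.d_grHom (n + 1)) _ g ?_ ?_
  · intro j x hx
    simp only [LinearMap.sub_apply, LinearMap.comp_apply]
    exact sub_mem (sub_mem (c.deg (n + 1) j x hx) (c'.deg (n + 1) j x hx))
      (F.d_grHom n _ _ (h.2.1 j x hx))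
  · rw [E.exact_succ n]
    rintro _ ⟨x, rfl⟩
    rw [LinearMap.mem_ker]
    simp only [LinearMap.sub_apply, LinearMap.comp_apply]
    rw [c.comm, c'.comm, h.2.2 x, map_sub, sub_self]

/-- the next stage -/
noncomputable def HtAt.next {n : ℕ} (h : HtAt c c' n) : HtAt c c' (n + 1) :=
  ⟨Classical.choose h.exists_next, (Classical.choose_spec h.exists_next).1, by
    intro x
    have h2 := LinearMap.congr_fun (Classical.choose_spec h.exists_next).2 x
    simp only [LinearMap.sub_apply, LinearMap.comp_apply] at h2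
    rw [h2, map_sub (F.d (n + 1)) _ (F.d n (h.1 x)), d_comp_d, sub_zero]⟩

theorem HtAt.next_rel {n : ℕ} (h : HtAt c c' n) (x : (E.X (n + 1)).carrier) :
    c.φ (n + 1) x - c'.φ (n + 1) x = F.d n (h.1 x) + h.next.1 (E.d (n + 1) x) := by
  have h2 := LinearMap.congr_fun (Classical.choose_spec h.exists_next).2 x
  simp only [LinearMap.sub_apply, LinearMap.comp_apply] at h2
  show _ = _ + Classical.choose h.exists_next (E.d (n + 1) x)
  rw [h2]
  abel

variable (c c')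

theorem exists_htZero (f : M →ₗ[R] N) (hc : c.Lifts f) (hc' : c'.Lifts f) :
    ∃ h : (E.X 1).carrier →ₗ[R] (F.X 0).carrier,
      IsGrHomDeg (E.X 1).gr (F.X 0).gr h g ∧ h ∘ₗ E.d 0 = c.φ 0 - c'.φ 0 := by
  refine exists_grExtension_of_ker_le 𝒜 (E.X 0).gr (E.X 1).gr (F.X 0).gr
    (F.starInj 0) (E.d 0) (E.d_grHom 0) _ g ?_ ?_
  · intro j x hx
    simp only [LinearMap.sub_apply]
    exact sub_mem (c.deg 0 j x hx) (c'.deg 0 j x hx)
  · rw [E.exact_zero]
    rintro _ ⟨m, rfl⟩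
    rw [LinearMap.mem_ker, LinearMap.sub_apply, hc m, hc' m, sub_self]

/-- **Uniqueness up to homotopy**: two lifts of the same map induce the same map on graded local
cohomology. -/
theorem ChainMap.H_eq_of_lifts (f : M →ₗ[R] N) (hc : c.Lifts f) (hc' : c'.Lifts f)
    (a : HomogeneousIdeal 𝒜) (i : ℕ) : c.H a i = c'.H a i := by
  obtain ⟨h0, hh0, hrel0⟩ := exists_htZero c c' f hc hc'
  let z : HtAt c c' 0 := ⟨h0, hh0, fun x => by
    have := LinearMap.congr_fun hrel0 x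
    rw [LinearMap.comp_apply, LinearMap.sub_apply] at this
    rw [this]⟩
  let seq : ∀ n : ℕ, HtAt c c' n := fun n => Nat.rec z (fun _ h => h.next) n
  refine ChainMap.H_eq_of_homotopy a c c' (fun n => (seq n).1) ?_ ?_ i
  · intro x
    have := LinearMap.congr_fun hrel0 x
    rw [LinearMap.comp_apply, LinearMap.sub_apply] at this
    exact this.symm
  · intro n x
    exact (seq n).next_rel x

end Homotopy

section Functor
variable {ι : Type} [AddCommGroup ι] [DecidableEq ι] {R : Type u} [CommRing R]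
  {𝒜 : ι → AddSubgroup R} [GradedRing 𝒜]
  {M : Type u} [AddCommGroup M] [Module R M] {ℳ : ι → AddSubgroup M} [DirectSum.Decomposition ℳ]
  [SetLike.GradedSMul 𝒜 ℳ]
  {N : Type u} [AddCommGroup N] [Module R N] {𝒩 : ι → AddSubgroup N} [DirectSum.Decomposition 𝒩]
  [SetLike.GradedSMul 𝒜 𝒩]
  {P : Type u} [AddCommGroup P] [Module R P] {𝓟 : ι → AddSubgroup P} [DirectSum.Decomposition 𝓟]
  [SetLike.GradedSMul 𝒜 𝓟]
  (E : StarInjRes 𝒜 ℳ) (F : StarInjRes 𝒜 𝒩) (G : StarInjRes 𝒜 𝓟) (a : HomogeneousIdeal 𝒜)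

/-- The canonical map induced on graded local cohomology by a homogeneous map of degree `g`. -/
noncomputable def Hmap (f : M →ₗ[R] N) (g : ι) (hf : IsGrHomDeg ℳ 𝒩 f g) (i : ℕ) :
    E.H a i →ₗ[R] F.H a i :=
  (liftChain E F f g hf).H a i

variable {E F G}

theorem Hmap_eq_of_lifts {f : M →ₗ[R] N} {g : ι} (hf : IsGrHomDeg ℳ 𝒩 f g) (c : ChainMap E F g)
    (hc : c.Lifts f) (i : ℕ) : Hmap E F a f g hf i = c.H a i :=
  ChainMap.H_eq_of_lifts _ _ f (liftChain_lifts E F f g hf) hc a i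

theorem Hmap_isGrHomDeg {f : M →ₗ[R] N} {g : ι} (hf : IsGrHomDeg ℳ 𝒩 f g) (i : ℕ) :
    IsGrHomDeg (E.Hgr a i) (F.Hgr a i) (Hmap E F a f g hf i) g :=
  (liftChain E F f g hf).isGrHomDeg_H a i

theorem isGrHomDeg_id : IsGrHomDeg ℳ ℳ (LinearMap.id : M →ₗ[R] M) 0 :=
  fun j x hx => by rw [add_zero]; exact hx

theorem Hmap_id (i : ℕ) : Hmap E E a LinearMap.id 0 isGrHomDeg_id i = LinearMap.id := by
  rw [Hmap_eq_of_lifts a isGrHomDeg_id (ChainMap.id E) (fun m => rfl), ChainMap.id_H]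

theorem IsGrHomDeg.comp {f : M →ₗ[R] N} {g : ι} (hf : IsGrHomDeg ℳ 𝒩 f g)
    {f' : N →ₗ[R] P} {g' : ι} (hf' : IsGrHomDeg 𝒩 𝓟 f' g') : IsGrHomDeg ℳ 𝓟 (f' ∘ₗ f) (g + g') :=
  fun j x hx => by
    have := hf' _ _ (hf j x hx)
    rwa [add_assoc] at this

theorem Hmap_comp {f : M →ₗ[R] N} {g : ι} (hf : IsGrHomDeg ℳ 𝒩 f g)
    {f' : N →ₗ[R] P} {g' : ι} (hf' : IsGrHomDeg 𝒩 𝓟 f' g') (i : ℕ) :
    Hmap E G a (f' ∘ₗ f) (g + g') (IsGrHomDeg.comp hf hf') i =
      Hmap F G a f' g' hf' i ∘ₗ Hmap E F a f g hf i := by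
  rw [Hmap_eq_of_lifts a (IsGrHomDeg.comp hf hf') ((liftChain E F f g hf).comp (liftChain F G f' g' hf'))
    (fun m => by
      show (liftChain F G f' g' hf').φ 0 ((liftChain E F f g hf).φ 0 (E.ε m)) = _
      rw [liftChain_lifts E F f g hf m, liftChain_lifts F G f' g' hf' (f m)]
      rfl), ChainMap.comp_H]
  rfl

/-- the degree of the induced map can be changed along an equality -/
theorem Hmap_congr {f f' : M →ₗ[R] N} {g g' : ι} (hf : IsGrHomDeg ℳ 𝒩 f g)
    (hf' : IsGrHomDeg ℳ 𝒩 f' g') (hff : f = f') (hgg : g = g') (i : ℕ) :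
    Hmap E F a f g hf i = Hmap E F a f' g' hf' i := by
  subst hff hgg
  rfl

theorem isGrHomDeg_smul {g : ι} {r : R} (hr : r ∈ 𝒜 g) :
    IsGrHomDeg ℳ ℳ (r • (LinearMap.id : M →ₗ[R] M)) g := fun j x hx => by
  have := SetLike.GradedSMul.smul_mem (A := 𝒜) (B := ℳ) hr hx
  rw [vadd_eq_add, add_comm] at this
  exact this

/-- multiplication by a homogeneous element induces multiplication by that element -/
theorem Hmap_smul {g : ι} {r : R} (hr : r ∈ 𝒜 g) (i : ℕ) (x : E.H a i) :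
    Hmap E E a (r • LinearMap.id) g (isGrHomDeg_smul hr) i x = r • x := by
  rw [Hmap_eq_of_lifts a (isGrHomDeg_smul hr) (ChainMap.smul E r hr) (fun m => by
    show r • E.ε m = E.ε (r • m)
    rw [map_smul]), ChainMap.smul_H]

/-- **Independence of the resolution**: two *injective resolutions of the same graded module give
isomorphic graded local cohomology, by a homogeneous isomorphism. -/
noncomputable def Hequiv (E E' : StarInjRes 𝒜 ℳ) (i : ℕ) : E.H a i ≃ₗ[R] E'.H a i :=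
  LinearEquiv.ofLinear (Hmap E E' a LinearMap.id 0 isGrHomDeg_id i)
    (Hmap E' E a LinearMap.id 0 isGrHomDeg_id i)
    (by
      rw [← Hmap_id a (E := E') i, ← Hmap_comp a isGrHomDeg_id isGrHomDeg_id i]
      exact Hmap_congr a _ _ rfl (add_zero 0) i)
    (by
      rw [← Hmap_id a (E := E) i, ← Hmap_comp a isGrHomDeg_id isGrHomDeg_id i]
      exact Hmap_congr a _ _ rfl (add_zero 0) i)

theorem Hequiv_mem_Hgr (E E' : StarInjRes 𝒜 ℳ) (i : ℕ) {h : ι} {x : E.H a i}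
    (hx : x ∈ E.Hgr a i h) : Hequiv a E E' i x ∈ E'.Hgr a i h := by
  have := Hmap_isGrHomDeg (E := E) (F := E') a isGrHomDeg_id i h x hx
  rwa [add_zero] at this

theorem Hequiv_symm (E E' : StarInjRes 𝒜 ℳ) (i : ℕ) : (Hequiv a E E' i).symm = Hequiv a E' E i := rfl

theorem Hequiv_mem_Hgr_iff (E E' : StarInjRes 𝒜 ℳ) (i : ℕ) {h : ι} {x : E.H a i} :
    Hequiv a E E' i x ∈ E'.Hgr a i h ↔ x ∈ E.Hgr a i h := by
  refine ⟨fun hx => ?_, Hequiv_mem_Hgr a E E' i⟩
  have := Hequiv_mem_Hgr a E' E i hx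
  rwa [← Hequiv_symm, LinearEquiv.symm_apply_apply] at this

end Functor

end Groth.Agent.Lib.Helper39.GrLes
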