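import Groth.Agent.Lib.Helper39.GrLes2

/-!
# The horseshoe lemma for *injective resolutions (helper39)
-/

set_option autoImplicit false
universe u

namespace Groth.Agent.Lib.Helper39.GrLes

open DirectSum GrLC Groth.Agent.Lib.Helper39

section ProdInj
variable {ι : Type} [AddCommGroup ι] [DecidableEq ι] {R : Type u} [CommRing R]
  (𝒜 : ι → AddSubgroup R) [GradedRing 𝒜]

/-- the product of two graded modules -/
def gprod (X Y : GMod.{u} 𝒜) : GMod.{u} 𝒜 :=
  { carrier := X.carrier × Y.carrier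
    gr := prodPieces X.gr Y.gr
    dec := prodDecomposition X.gr Y.gr
    gsmul := prodGradedSMul 𝒜 X.gr Y.gr }

theorem gprod_isStarInj {X Y : GMod.{u} 𝒜} (hX : IsStarInj 𝒜 X.gr) (hY : IsStarInj 𝒜 Y.gr) :
    IsStarInj 𝒜 (gprod 𝒜 X Y).gr := by
  intro A B f hf hinj g hg
  obtain ⟨h1, hh1, e1⟩ := hX A B f hf hinj (LinearMap.fst R _ _ ∘ₗ g) (fun j x hx => (hg j x hx).1)
  obtain ⟨h2, hh2, e2⟩ := hY A B f hf hinj (LinearMap.snd R _ _ ∘ₗ g) (fun j x hx => (hg j x hx).2)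
  refine ⟨h1.prod h2, fun j x hx => ⟨hh1 j x hx, hh2 j x hx⟩, ?_⟩
  apply LinearMap.ext
  intro x
  exact Prod.ext (LinearMap.congr_fun e1 x) (LinearMap.congr_fun e2 x)

end ProdInj

section Horseshoe
variable {ι : Type} [AddCommGroup ι] [DecidableEq ι] {R : Type u} [CommRing R]
  {𝒜 : ι → AddSubgroup R} [GradedRing 𝒜]
  {M' : Type u} [AddCommGroup M'] [Module R M'] {ℳ' : ι → AddSubgroup M'} [DirectSum.Decomposition ℳ']
  [SetLike.GradedSMul 𝒜 ℳ']
  {M : Type u} [AddCommGroup M] [Module R M] {ℳ : ι → AddSubgroup M} [DirectSum.Decomposition ℳ]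
  [SetLike.GradedSMul 𝒜 ℳ]
  {M'' : Type u} [AddCommGroup M''] [Module R M''] {ℳ'' : ι → AddSubgroup M''}
  [DirectSum.Decomposition ℳ''] [SetLike.GradedSMul 𝒜 ℳ'']

/-- a short exact sequence of graded modules -/
structure GrSES (ℳ' : ι → AddSubgroup M') (ℳ : ι → AddSubgroup M) (ℳ'' : ι → AddSubgroup M'')
    (i : M' →ₗ[R] M) (p : M →ₗ[R] M'') : Prop where
  i_grHom : IsGrHom ℳ' ℳ i
  p_grHom : IsGrHom ℳ ℳ'' p
  i_inj : Function.Injective i
  p_surj : Function.Surjective p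
  exact : LinearMap.ker p = LinearMap.range i

variable {i : M' →ₗ[R] M} {p : M →ₗ[R] M''} (S : GrSES ℳ' ℳ ℳ'' i p)
  (E' : StarInjRes 𝒜 ℳ') (E'' : StarInjRes 𝒜 ℳ'')

include S in
theorem GrSES.p_i (m' : M') : p (i m') = 0 := by
  have : i m' ∈ LinearMap.range i := ⟨m', rfl⟩
  rw [← S.exact] at this
  exact this

include S in
theorem exists_sigma : ∃ σ : M →ₗ[R] (E'.X 0).carrier, IsGrHom ℳ (E'.X 0).gr σ ∧ σ ∘ₗ i = E'.ε := by
  obtain ⟨σ, hσ, e⟩ := exists_grExtension_deg 𝒜 ℳ' ℳ (E'.X 0).gr (E'.starInj 0) i S.i_grHom S.i_inj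
    E'.ε 0 (fun j x hx => by rw [add_zero]; exact E'.ε_grHom j x hx)
  exact ⟨σ, fun j x hx => by have := hσ j x hx; rwa [add_zero] at this, e⟩

/-- the data of the twisting maps of the horseshoe resolution -/
structure Twist where
  σ : M →ₗ[R] (E'.X 0).carrier
  σ_gr : IsGrHom ℳ (E'.X 0).gr σ
  σ_i : ∀ m', σ (i m') = E'.ε m'
  θ : ∀ n : ℕ, (E''.X n).carrier →ₗ[R] (E'.X (n + 1)).carrier
  θ_gr : ∀ n, IsGrHom (E''.X n).gr (E'.X (n + 1)).gr (θ n)
  θ_zero : ∀ m, θ 0 (E''.ε (p m)) = - E'.d 0 (σ m)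
  θ_succ : ∀ n x, θ (n + 1) (E''.d n x) = - E'.d (n + 1) (θ n x)

variable {E' E''}

/-- partial twisting data at stage `n` -/
def ThAt (E' : StarInjRes 𝒜 ℳ') (E'' : StarInjRes 𝒜 ℳ'') (n : ℕ) : Type u :=
  {θ : (E''.X n).carrier →ₗ[R] (E'.X (n + 1)).carrier //
    IsGrHom (E''.X n).gr (E'.X (n + 1)).gr θ ∧
      LinearMap.ker (E''.d n) ≤ LinearMap.ker (E'.d (n + 1) ∘ₗ θ)}

theorem isGrHom_of_deg_zero {A B : Type u} [AddCommGroup A] [Module R A] [AddCommGroup B] [Module R B]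
    {𝓐 : ι → AddSubgroup A} {ℬ : ι → AddSubgroup B} {f : A →ₗ[R] B} (hf : IsGrHomDeg 𝓐 ℬ f 0) :
    IsGrHom 𝓐 ℬ f := fun j x hx => by have := hf j x hx; rwa [add_zero] at this

theorem isGrHomDeg_zero_of {A B : Type u} [AddCommGroup A] [Module R A] [AddCommGroup B] [Module R B]
    {𝓐 : ι → AddSubgroup A} {ℬ : ι → AddSubgroup B} {f : A →ₗ[R] B} (hf : IsGrHom 𝓐 ℬ f) :
    IsGrHomDeg 𝓐 ℬ f 0 := fun j x hx => by rw [add_zero]; exact hf j x hx

theorem ThAt.exists_next {n : ℕ} (t : ThAt E' E'' n) :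
    ∃ θ' : (E''.X (n + 1)).carrier →ₗ[R] (E'.X (n + 2)).carrier,
      IsGrHom (E''.X (n + 1)).gr (E'.X (n + 2)).gr θ' ∧
        θ' ∘ₗ E''.d n = - (E'.d (n + 1) ∘ₗ t.1) := by
  obtain ⟨θ', h1, h2⟩ := exists_grExtension_of_ker_le 𝒜 (E''.X n).gr (E''.X (n + 1)).gr
    (E'.X (n + 2)).gr (E'.starInj (n + 2)) (E''.d n) (E''.d_grHom n) (- (E'.d (n + 1) ∘ₗ t.1)) 0
    (fun j x hx => by
      rw [add_zero, LinearMap.neg_apply]
      exact neg_mem (E'.d_grHom (n + 1) _ _ (t.2.1 j x hx)))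
    (fun x hx => by
      have := t.2.2 hx
      rw [LinearMap.mem_ker] at this ⊢
      rw [LinearMap.neg_apply, this, neg_zero])
  exact ⟨θ', isGrHom_of_deg_zero h1, h2⟩

/-- the next stage -/
noncomputable def ThAt.next {n : ℕ} (t : ThAt E' E'' n) : ThAt E' E'' (n + 1) :=
  ⟨Classical.choose t.exists_next, (Classical.choose_spec t.exists_next).1, by
    have h := (Classical.choose_spec t.exists_next).2
    rw [E''.exact_succ n]
    rintro _ ⟨x, rfl⟩
    rw [LinearMap.mem_ker, LinearMap.comp_apply]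
    have h2 := LinearMap.congr_fun h x
    rw [LinearMap.comp_apply, LinearMap.neg_apply, LinearMap.comp_apply] at h2
    rw [h2, map_neg, d_comp_d, neg_zero]⟩

theorem ThAt.next_rel {n : ℕ} (t : ThAt E' E'' n) (x : (E''.X n).carrier) :
    t.next.1 (E''.d n x) = - E'.d (n + 1) (t.1 x) := by
  have h2 := LinearMap.congr_fun (Classical.choose_spec t.exists_next).2 x
  rw [LinearMap.comp_apply, LinearMap.neg_apply, LinearMap.comp_apply] at h2
  exact h2

variable (E' E'')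

include S in
/-- **Existence of twisting data.** -/
theorem nonempty_twist : Nonempty (Twist (i := i) (p := p) (ℳ := ℳ) E' E'') := by
  obtain ⟨σ, hσ, hσi⟩ := exists_sigma S E'
  have hσi' : ∀ m', σ (i m') = E'.ε m' := fun m' => LinearMap.congr_fun hσi m'
  -- θ₀
  obtain ⟨θ0, hθ0, eθ0⟩ := exists_grExtension_of_ker_le 𝒜 ℳ (E''.X 0).gr (E'.X 1).gr
    (E'.starInj 1) (E''.ε ∘ₗ p) (IsGrHom.comp ℳ ℳ'' (E''.X 0).gr S.p_grHom E''.ε_grHom)
    (- (E'.d 0 ∘ₗ σ)) 0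
    (fun j x hx => by
      rw [add_zero, LinearMap.neg_apply]
      exact neg_mem (E'.d_grHom 0 _ _ (hσ j x hx)))
    (fun x hx => by
      rw [LinearMap.mem_ker, LinearMap.comp_apply] at hx
      have hx' : p x = 0 := E''.ε_injective (by rw [hx, map_zero])
      have : x ∈ LinearMap.range i := by rw [← S.exact]; exact hx'
      obtain ⟨m', rfl⟩ := this
      rw [LinearMap.mem_ker, LinearMap.neg_apply, LinearMap.comp_apply, hσi', d_ε, neg_zero])
  have eθ0' : ∀ m, θ0 (E''.ε (p m)) = - E'.d 0 (σ m) := fun m => LinearMap.congr_fun eθ0 m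
  let t0 : ThAt E' E'' 0 := ⟨θ0, isGrHom_of_deg_zero hθ0, by
    rw [E''.exact_zero]
    rintro _ ⟨m'', rfl⟩
    obtain ⟨m, rfl⟩ := S.p_surj m''
    rw [LinearMap.mem_ker, LinearMap.comp_apply, eθ0', map_neg, d_comp_d, neg_zero]⟩
  let seq : ∀ n : ℕ, ThAt E' E'' n := fun n => Nat.rec t0 (fun _ t => t.next) n
  exact ⟨{ σ := σ, σ_gr := hσ, σ_i := hσi', θ := fun n => (seq n).1, θ_gr := fun n => (seq n).2.1,
           θ_zero := eθ0', θ_succ := fun n x => (seq n).next_rel x }⟩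

variable {E' E''}

/-- the differential of the horseshoe resolution -/
def Twist.d (T : Twist (i := i) (p := p) (ℳ := ℳ) E' E'') (n : ℕ) :
    ((E'.X n).carrier × (E''.X n).carrier) →ₗ[R] ((E'.X (n + 1)).carrier × (E''.X (n + 1)).carrier) :=
  ((E'.d n).coprod (T.θ n)).prod (E''.d n ∘ₗ LinearMap.snd R _ _)

@[simp] theorem Twist.d_apply (T : Twist (i := i) (p := p) (ℳ := ℳ) E' E'') (n : ℕ)
    (x : (E'.X n).carrier × (E''.X n).carrier) :
    T.d n x = (E'.d n x.1 + T.θ n x.2, E''.d n x.2) := rfl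

/-- the augmentation of the horseshoe resolution -/
def Twist.ε (T : Twist (i := i) (p := p) (ℳ := ℳ) E' E'') :
    M →ₗ[R] ((E'.X 0).carrier × (E''.X 0).carrier) :=
  T.σ.prod (E''.ε ∘ₗ p)

@[simp] theorem Twist.ε_apply (T : Twist (i := i) (p := p) (ℳ := ℳ) E' E'') (m : M) :
    T.ε m = (T.σ m, E''.ε (p m)) := rfl

include S in
theorem Twist.ε_injective (T : Twist (i := i) (p := p) (ℳ := ℳ) E' E'') : Function.Injective T.ε := by
  rw [← LinearMap.ker_eq_bot, eq_bot_iff]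
  intro m hm
  rw [LinearMap.mem_ker, Twist.ε_apply, Prod.mk_eq_zero] at hm
  have h1 : p m = 0 := E''.ε_injective (by rw [hm.2, map_zero])
  have : m ∈ LinearMap.range i := by rw [← S.exact]; exact h1
  obtain ⟨m', rfl⟩ := this
  rw [T.σ_i] at hm
  have : m' = 0 := E'.ε_injective (by rw [hm.1, map_zero])
  rw [this, map_zero]
  exact zero_mem _

include S in
theorem Twist.exact_zero (T : Twist (i := i) (p := p) (ℳ := ℳ) E' E'') :
    LinearMap.ker (T.d 0) = LinearMap.range T.ε := by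
  apply le_antisymm
  · rintro ⟨x', x''⟩ hx
    rw [LinearMap.mem_ker, Twist.d_apply, Prod.mk_eq_zero] at hx
    obtain ⟨h1, h2⟩ := hx
    simp only at h1 h2
    have : x'' ∈ LinearMap.range E''.ε := by rw [← E''.exact_zero]; exact h2
    obtain ⟨m'', rfl⟩ := this
    obtain ⟨m, rfl⟩ := S.p_surj m''
    rw [T.θ_zero, ← sub_eq_add_neg, ← map_sub] at h1
    have : x' - T.σ m ∈ LinearMap.range E'.ε := by rw [← E'.exact_zero]; exact h1
    obtain ⟨m', hm'⟩ := this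
    refine ⟨m + i m', ?_⟩
    rw [Twist.ε_apply, map_add, map_add, T.σ_i, hm', S.p_i, add_zero]
    congr 1
    abel
  · rintro _ ⟨m, rfl⟩
    rw [LinearMap.mem_ker, Twist.ε_apply, Twist.d_apply, Prod.mk_eq_zero]
    simp only
    rw [T.θ_zero, add_neg_cancel, d_ε]
    exact ⟨rfl, rfl⟩

theorem Twist.exact_succ (T : Twist (i := i) (p := p) (ℳ := ℳ) E' E'') (n : ℕ) :
    LinearMap.ker (T.d (n + 1)) = LinearMap.range (T.d n) := by
  apply le_antisymm
  · rintro ⟨x', x''⟩ hx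
    rw [LinearMap.mem_ker, Twist.d_apply, Prod.mk_eq_zero] at hx
    obtain ⟨h1, h2⟩ := hx
    simp only at h1 h2
    have : x'' ∈ LinearMap.range (E''.d n) := by rw [← E''.exact_succ]; exact h2
    obtain ⟨y'', rfl⟩ := this
    rw [T.θ_succ, ← sub_eq_add_neg, ← map_sub] at h1
    have : x' - T.θ n y'' ∈ LinearMap.range (E'.d n) := by rw [← E'.exact_succ]; exact h1
    obtain ⟨y', hy'⟩ := this
    refine ⟨(y', y''), ?_⟩
    rw [Twist.d_apply]
    simp only
    rw [hy']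
    congr 1
    abel
  · rintro _ ⟨⟨y', y''⟩, rfl⟩
    rw [LinearMap.mem_ker, Twist.d_apply, Twist.d_apply, Prod.mk_eq_zero]
    simp only
    rw [map_add, d_comp_d, d_comp_d, T.θ_succ, zero_add, add_neg_cancel]
    exact ⟨rfl, rfl⟩

include S in
/-- **The horseshoe resolution.** -/
def Twist.res (T : Twist (i := i) (p := p) (ℳ := ℳ) E' E'') : StarInjRes 𝒜 ℳ where
  X n := gprod 𝒜 (E'.X n) (E''.X n)
  d n := T.d n
  ε := T.ε
  d_grHom n := fun j x hx =>
    ⟨add_mem (E'.d_grHom n j _ hx.1) (T.θ_gr n j _ hx.2), E''.d_grHom n j _ hx.2⟩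
  ε_grHom := fun j m hm => ⟨T.σ_gr j m hm, E''.ε_grHom j _ (S.p_grHom j m hm)⟩
  ε_injective := T.ε_injective S
  exact_zero := T.exact_zero S
  exact_succ n := T.exact_succ n
  starInj n := gprod_isStarInj 𝒜 (E'.starInj n) (E''.starInj n)

end Horseshoe

end Groth.Agent.Lib.Helper39.GrLes
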