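import Groth.Agent.Lib.Helper39.GrLes3

/-!
# The long exact sequence of graded local cohomology (helper39)
-/

set_option autoImplicit false
universe u

namespace Groth.Agent.Lib.Helper39.GrLes

open DirectSum GrLC Groth.Agent.Lib.Helper39

section
variable {R : Type u} [CommRing R]

theorem gam_prod_iff {X Y : Type u} [AddCommGroup X] [Module R X] [AddCommGroup Y] [Module R Y]
    (a : Ideal R) (z : X × Y) : z ∈ gam a (X × Y) ↔ z.1 ∈ gam a X ∧ z.2 ∈ gam a Y := by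
  constructor
  · intro h
    exact ⟨gam_map a (LinearMap.fst R X Y) h, gam_map a (LinearMap.snd R X Y) h⟩
  · rintro ⟨h1, h2⟩
    have e : z = LinearMap.inl R X Y z.1 + LinearMap.inr R X Y z.2 := by
      ext <;> simp
    rw [e]
    exact add_mem (gam_map a _ h1) (gam_map a _ h2)

end

section LES
variable {ι : Type} [AddCommGroup ι] [DecidableEq ι] {R : Type u} [CommRing R]
  {𝒜 : ι → AddSubgroup R} [GradedRing 𝒜]
  {M' : Type u} [AddCommGroup M'] [Module R M'] {ℳ' : ι → AddSubgroup M'} [DirectSum.Decomposition ℳ']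
  [SetLike.GradedSMul 𝒜 ℳ']
  {M : Type u} [AddCommGroup M] [Module R M] {ℳ : ι → AddSubgroup M} [DirectSum.Decomposition ℳ]
  [SetLike.GradedSMul 𝒜 ℳ]
  {M'' : Type u} [AddCommGroup M''] [Module R M''] {ℳ'' : ι → AddSubgroup M''}
  [DirectSum.Decomposition ℳ''] [SetLike.GradedSMul 𝒜 ℳ'']
  {i : M' →ₗ[R] M} {p : M →ₗ[R] M''} (S : GrSES ℳ' ℳ ℳ'' i p)
  {E' : StarInjRes 𝒜 ℳ'} {E'' : StarInjRes 𝒜 ℳ''}
  (T : Twist (i := i) (p := p) (ℳ := ℳ) E' E'') (a : HomogeneousIdeal 𝒜)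

/-- the inclusion of `E'` into the horseshoe resolution -/
def Twist.incl : ChainMap E' (T.res S) 0 where
  φ n := LinearMap.inl R _ _
  deg n j x hx := by
    rw [add_zero]
    exact ⟨hx, zero_mem _⟩
  comm n x := by
    show ((E'.d n x, 0) : (E'.X (n + 1)).carrier × (E''.X (n + 1)).carrier) = T.d n (x, 0)
    rw [Twist.d_apply]
    simp

theorem Twist.incl_lifts : (T.incl S).Lifts i := fun m' => by
  show ((E'.ε m', 0) : (E'.X 0).carrier × (E''.X 0).carrier) = T.ε (i m')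
  rw [Twist.ε_apply, T.σ_i, S.p_i, map_zero]

/-- the projection of the horseshoe resolution onto `E''` -/
def Twist.proj : ChainMap (T.res S) E'' 0 where
  φ n := LinearMap.snd R _ _
  deg n j x hx := by
    rw [add_zero]
    exact hx.2
  comm n x := rfl

theorem Twist.proj_lifts : (T.proj S).Lifts p := fun _ => rfl

theorem Twist.d_θ (k : ℕ) (x : (E''.X k).carrier) :
    E'.d (k + 1) (T.θ k x) = - T.θ (k + 1) (E''.d k x) := by
  rw [T.θ_succ, neg_neg]

/-- the connecting map on cocycles -/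
def Twist.δc (k : ℕ) : E''.cocyc a k →ₗ[R] E'.cocyc a (k + 1) :=
  (T.θ k).restrict (fun x hx => by
    refine ⟨gam_map a.toIdeal (T.θ k) hx.1, ?_⟩
    show T.θ k x ∈ LinearMap.ker (E'.d (k + 1))
    rw [LinearMap.mem_ker, T.d_θ, LinearMap.mem_ker.mp hx.2, map_zero, neg_zero])

@[simp] theorem Twist.δc_coe (k : ℕ) (z : E''.cocyc a k) :
    ((T.δc a k z : E'.cocyc a (k + 1)) : (E'.X (k + 1)).carrier) = T.θ k z := rfl

/-- **The connecting homomorphism.** -/
def Twist.δ (k : ℕ) : E''.H a k →ₗ[R] E'.H a (k + 1) :=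
  Submodule.mapQ _ _ (T.δc a k) (fun z hz => by
    show T.θ k z ∈ E'.cobdy a (k + 1)
    have hz' : (z : (E''.X k).carrier) ∈ E''.cobdy a k := hz
    cases k with
    | zero =>
      have : (z : (E''.X 0).carrier) = 0 := hz'
      rw [this, map_zero]
      exact zero_mem _
    | succ n =>
      obtain ⟨y, hy, hyz⟩ := hz'
      refine ⟨- T.θ n y, neg_mem (gam_map a.toIdeal (T.θ n) hy), ?_⟩
      rw [← hyz, T.θ_succ, map_neg])

@[simp] theorem Twist.δ_toH (k : ℕ) (z : E''.cocyc a k) :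
    T.δ a k (E''.toH a k z) = E'.toH a (k + 1) (T.δc a k z) := rfl

theorem Twist.δ_isGrHom (k : ℕ) : IsGrHom (E''.Hgr a k) (E'.Hgr a (k + 1)) (T.δ a k) := by
  rintro h _ ⟨z, hz, rfl⟩
  exact ⟨T.δc a k z, T.θ_gr k h _ hz, rfl⟩

/-- exactness at the middle term -/
theorem Twist.exact₁ (k : ℕ) : Function.Exact ((T.incl S).H a k) ((T.proj S).H a k) := by
  intro y
  obtain ⟨⟨⟨x', x''⟩, hx⟩, rfl⟩ := Submodule.mkQ_surjective _ y
  have hgam : x' ∈ gam a.toIdeal (E'.X k).carrier ∧ x'' ∈ gam a.toIdeal (E''.X k).carrier :=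
    (gam_prod_iff a.toIdeal (x', x'')).mp hx.1
  have hd : E'.d k x' + T.θ k x'' = 0 ∧ E''.d k x'' = 0 := by
    have := LinearMap.mem_ker.mp hx.2
    exact Prod.mk_eq_zero.mp this
  constructor
  · intro h0
    have h0' : x'' ∈ E''.cobdy a k := (toH_eq_zero_iff E'' a k _).mp h0
    cases k with
    | zero =>
      have hx0 : x'' = 0 := h0'
      subst hx0
      rw [map_zero, add_zero] at hd
      refine ⟨E'.toH a 0 ⟨x', hgam.1, LinearMap.mem_ker.mpr hd.1⟩, ?_⟩
      rfl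
    | succ n =>
      obtain ⟨y'', hy'', rfl⟩ := h0'
      have hw : x' - T.θ n y'' ∈ E'.cocyc a (n + 1) := by
        refine ⟨sub_mem hgam.1 (gam_map a.toIdeal (T.θ n) hy''), ?_⟩
        show _ ∈ LinearMap.ker (E'.d (n + 1))
        rw [LinearMap.mem_ker, map_sub, T.d_θ, sub_neg_eq_add]
        exact hd.1
      refine ⟨E'.toH a (n + 1) ⟨_, hw⟩, ?_⟩
      show (T.res S).toH a (n + 1) ((T.incl S).cocycMap a (n + 1) ⟨_, hw⟩) = (T.res S).toH a (n + 1) _
      rw [← sub_eq_zero, ← map_sub, toH_eq_zero_iff]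
      refine ⟨((0, -y'') : (E'.X n).carrier × (E''.X n).carrier), ?_, ?_⟩
      · rw [SetLike.mem_coe]
        exact (gam_prod_iff a.toIdeal _).mpr ⟨zero_mem _, neg_mem hy''⟩
      · show T.d n (0, -y'') = ((x' - T.θ n y'', 0) : (E'.X (n + 1)).carrier × (E''.X (n + 1)).carrier) - (x', E''.d n y'')
        rw [Twist.d_apply]
        simp only [map_zero, map_neg, zero_add, Prod.mk_sub_mk, zero_sub]
        congr 1
        abel
  · rintro ⟨w, hw⟩
    rw [← hw]
    obtain ⟨z, rfl⟩ := Submodule.mkQ_surjective _ w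
    show E''.toH a k ((T.proj S).cocycMap a k ((T.incl S).cocycMap a k z)) = 0
    rw [toH_eq_zero_iff]
    show (0 : (E''.X k).carrier) ∈ _
    exact zero_mem _

/-- exactness at the third term -/
theorem Twist.exact₂ (k : ℕ) : Function.Exact ((T.proj S).H a k) (T.δ a k) := by
  intro y
  obtain ⟨⟨x'', hx''⟩, rfl⟩ := Submodule.mkQ_surjective _ y
  constructor
  · intro h0
    have h0' : T.θ k x'' ∈ E'.cobdy a (k + 1) := (toH_eq_zero_iff E' a (k + 1) _).mp h0
    obtain ⟨y', hy', hyx⟩ := h0'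
    have hz : ((-y', x'') : (E'.X k).carrier × (E''.X k).carrier) ∈ (T.res S).cocyc a k := by
      refine ⟨(gam_prod_iff a.toIdeal _).mpr ⟨neg_mem hy', hx''.1⟩, ?_⟩
      show _ ∈ LinearMap.ker (T.d k)
      rw [LinearMap.mem_ker, Twist.d_apply]
      simp only [map_neg]
      rw [hyx, neg_add_cancel, LinearMap.mem_ker.mp hx''.2]
      rfl
    exact ⟨(T.res S).toH a k ⟨_, hz⟩, rfl⟩
  · rintro ⟨w, hw⟩
    rw [← hw]
    obtain ⟨⟨⟨x', x''⟩, hx⟩, rfl⟩ := Submodule.mkQ_surjective _ w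
    have hgam : x' ∈ gam a.toIdeal (E'.X k).carrier ∧ x'' ∈ gam a.toIdeal (E''.X k).carrier :=
      (gam_prod_iff a.toIdeal (x', x'')).mp hx.1
    have hd : E'.d k x' + T.θ k x'' = 0 ∧ E''.d k x'' = 0 := by
      have := LinearMap.mem_ker.mp hx.2
      exact Prod.mk_eq_zero.mp this
    show E'.toH a (k + 1) (T.δc a k ((T.proj S).cocycMap a k ⟨(x', x''), hx⟩)) = 0
    rw [toH_eq_zero_iff]
    refine ⟨-x', neg_mem hgam.1, ?_⟩
    show E'.d k (-x') = T.θ k x''
    rw [map_neg]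
    exact neg_eq_of_add_eq_zero_right hd.1

/-- exactness at the first term (one degree up) -/
theorem Twist.exact₃ (k : ℕ) : Function.Exact (T.δ a k) ((T.incl S).H a (k + 1)) := by
  intro y
  obtain ⟨⟨x', hx'⟩, rfl⟩ := Submodule.mkQ_surjective _ y
  constructor
  · intro h0
    have h0' : ((x', 0) : (E'.X (k + 1)).carrier × (E''.X (k + 1)).carrier) ∈ (T.res S).cobdy a (k + 1) :=
      ((toH_eq_zero_iff (T.res S) a (k + 1) _).mp h0 :)
    obtain ⟨⟨y', y''⟩, hy, hyx⟩ := h0'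
    have hgam : y' ∈ gam a.toIdeal (E'.X k).carrier ∧ y'' ∈ gam a.toIdeal (E''.X k).carrier :=
      (gam_prod_iff a.toIdeal (y', y'')).mp hy
    have hyx' : E'.d k y' + T.θ k y'' = x' ∧ E''.d k y'' = 0 := by
      have : T.d k (y', y'') = (x', 0) := hyx
      rw [Twist.d_apply] at this
      exact Prod.mk.inj this
    have hz : y'' ∈ E''.cocyc a k := ⟨hgam.2, LinearMap.mem_ker.mpr hyx'.2⟩
    refine ⟨E''.toH a k ⟨y'', hz⟩, ?_⟩
    show E'.toH a (k + 1) (T.δc a k ⟨y'', hz⟩) = E'.toH a (k + 1) ⟨x', hx'⟩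
    rw [← sub_eq_zero, ← map_sub, toH_eq_zero_iff]
    refine ⟨-y', neg_mem hgam.1, ?_⟩
    show E'.d k (-y') = T.θ k y'' - x'
    rw [← hyx'.1, map_neg]
    abel
  · rintro ⟨w, hw⟩
    rw [← hw]
    obtain ⟨⟨y'', hy''⟩, rfl⟩ := Submodule.mkQ_surjective _ w
    show (T.res S).toH a (k + 1) ((T.incl S).cocycMap a (k + 1) (T.δc a k ⟨y'', hy''⟩)) = 0
    rw [toH_eq_zero_iff]
    refine ⟨((0, y'') : (E'.X k).carrier × (E''.X k).carrier), ?_, ?_⟩
    · rw [SetLike.mem_coe]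
      exact (gam_prod_iff a.toIdeal _).mpr ⟨zero_mem _, hy''.1⟩
    · show T.d k (0, y'') = ((T.θ k y'', 0) : (E'.X (k + 1)).carrier × (E''.X (k + 1)).carrier)
      rw [Twist.d_apply]
      simp only [map_zero, zero_add]
      rw [LinearMap.mem_ker.mp hy''.2]

end LES

end Groth.Agent.Lib.Helper39.GrLes
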