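import Groth.Agent.Lib.Helper39.GrLes4

/-!
# The long exact sequence of graded local cohomology for arbitrary *injective resolutions,
graded exactness, shifted resolutions (helper39)

Main results (namespace `Groth.Agent.Lib.Helper39.GrLes`):
* `exists_les`: for a short exact sequence `0 → M' → M → M'' → 0` of graded modules and arbitrary
  *injective resolutions `E'`, `E`, `E''` there are homogeneous connecting maps
  `δ k : E''.H a k → E'.H a (k+1)` making the long sequence exact.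
* `exists_mem_Hgr_of_exact`: exactness holds on each graded piece.
* `shiftRes E g`: the resolution `E` with all gradings shifted by `g`.
-/

set_option autoImplicit false
universe u

namespace Groth.Agent.Lib.Helper39.GrLes

open DirectSum GrLC Groth.Agent.Lib.Helper39

section LES
variable {ι : Type} [AddCommGroup ι] [DecidableEq ι] {R : Type u} [CommRing R]
  {𝒜 : ι → AddSubgroup R} [GradedRing 𝒜]
  {M' : Type u} [AddCommGroup M'] [Module R M'] {ℳ' : ι → AddSubgroup M'} [DirectSum.Decomposition ℳ']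
  [SetLike.GradedSMul 𝒜 ℳ']
  {M : Type u} [AddCommGroup M] [Module R M] {ℳ : ι → AddSubgroup M} [DirectSum.Decomposition ℳ]
  [SetLike.GradedSMul 𝒜 ℳ]
  {M'' : Type u} [AddCommGroup M''] [Module R M''] {ℳ'' : ι → AddSubgroup M''}
  [DirectSum.Decomposition ℳ''] [SetLike.GradedSMul 𝒜 ℳ'']
  {i : M' →ₗ[R] M} {p : M →ₗ[R] M''}

/-- the map induced by a homogeneous map of degree zero -/
noncomputable abbrev Hmap₀ (E' : StarInjRes 𝒜 ℳ') (E : StarInjRes 𝒜 ℳ) (a : HomogeneousIdeal 𝒜)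
    (f : M' →ₗ[R] M) (hf : IsGrHom ℳ' ℳ f) (k : ℕ) : E'.H a k →ₗ[R] E.H a k :=
  Hmap E' E a f 0 (isGrHomDeg_zero_of hf) k

theorem Hmap₀_isGrHom (E' : StarInjRes 𝒜 ℳ') (E : StarInjRes 𝒜 ℳ) (a : HomogeneousIdeal 𝒜)
    (f : M' →ₗ[R] M) (hf : IsGrHom ℳ' ℳ f) (k : ℕ) :
    IsGrHom (E'.Hgr a k) (E.Hgr a k) (Hmap₀ E' E a f hf k) :=
  isGrHom_of_deg_zero (Hmap_isGrHomDeg a (isGrHomDeg_zero_of hf) k)

theorem Hmap₀_comp (E' : StarInjRes 𝒜 ℳ') (E : StarInjRes 𝒜 ℳ) (E'' : StarInjRes 𝒜 ℳ'')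
    (a : HomogeneousIdeal 𝒜) (f : M' →ₗ[R] M) (hf : IsGrHom ℳ' ℳ f) (f' : M →ₗ[R] M'')
    (hf' : IsGrHom ℳ ℳ'' f') (k : ℕ) :
    Hmap₀ E' E'' a (f' ∘ₗ f) (IsGrHom.comp ℳ' ℳ ℳ'' hf hf') k =
      Hmap₀ E E'' a f' hf' k ∘ₗ Hmap₀ E' E a f hf k := by
  unfold Hmap₀
  rw [← Hmap_comp a (isGrHomDeg_zero_of hf) (isGrHomDeg_zero_of hf') k]
  exact Hmap_congr a _ _ rfl (add_zero 0).symm k

theorem Hmap₀_eq_of_lifts (E' : StarInjRes 𝒜 ℳ') (E : StarInjRes 𝒜 ℳ) (a : HomogeneousIdeal 𝒜)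
    (f : M' →ₗ[R] M) (hf : IsGrHom ℳ' ℳ f) (c : ChainMap E' E 0) (hc : c.Lifts f) (k : ℕ) :
    Hmap₀ E' E a f hf k = c.H a k :=
  Hmap_eq_of_lifts a _ c hc k

theorem Hmap₀_id (E : StarInjRes 𝒜 ℳ) (a : HomogeneousIdeal 𝒜) (k : ℕ) :
    Hmap₀ E E a LinearMap.id (IsGrHom.id ℳ) k = LinearMap.id :=
  Hmap_id a k

theorem Hmap₀_Hequiv (E E₂ : StarInjRes 𝒜 ℳ) (a : HomogeneousIdeal 𝒜) (k : ℕ) (x : E.H a k) :
    Hmap₀ E E₂ a LinearMap.id (IsGrHom.id ℳ) k x = Hequiv a E E₂ k x := rfl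

variable (S : GrSES ℳ' ℳ ℳ'' i p)

/-- **The long exact sequence of graded local cohomology.** -/
theorem exists_les (E' : StarInjRes 𝒜 ℳ') (E : StarInjRes 𝒜 ℳ) (E'' : StarInjRes 𝒜 ℳ'')
    (a : HomogeneousIdeal 𝒜) :
    ∃ δ : ∀ k : ℕ, E''.H a k →ₗ[R] E'.H a (k + 1),
      (∀ k, IsGrHom (E''.Hgr a k) (E'.Hgr a (k + 1)) (δ k)) ∧
      (∀ k, Function.Exact (Hmap₀ E' E a i S.i_grHom k) (Hmap₀ E E'' a p S.p_grHom k)) ∧
      (∀ k, Function.Exact (Hmap₀ E E'' a p S.p_grHom k) (δ k)) ∧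
      (∀ k, Function.Exact (δ k) (Hmap₀ E' E a i S.i_grHom (k + 1))) := by
  obtain ⟨T⟩ := nonempty_twist S E' E''
  -- the maps through the horseshoe resolution
  have hi : ∀ k x, Hmap₀ E' E a i S.i_grHom k x = Hequiv a (T.res S) E k ((T.incl S).H a k x) := by
    intro k x
    have h1 := Hmap₀_comp E' (T.res S) E a i S.i_grHom LinearMap.id (IsGrHom.id ℳ) k
    have h2 := Hmap₀_eq_of_lifts E' (T.res S) a i S.i_grHom (T.incl S) (T.incl_lifts S) k
    rw [h2] at h1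
    have h3 := LinearMap.congr_fun h1 x
    exact h3
  have hp : ∀ k x, Hmap₀ E E'' a p S.p_grHom k x = (T.proj S).H a k (Hequiv a E (T.res S) k x) := by
    intro k x
    have h1 := Hmap₀_comp E (T.res S) E'' a LinearMap.id (IsGrHom.id ℳ) p S.p_grHom k
    have h2 := Hmap₀_eq_of_lifts (T.res S) E'' a p S.p_grHom (T.proj S) (T.proj_lifts S) k
    rw [h2] at h1
    have h3 := LinearMap.congr_fun h1 x
    exact h3
  have hsymm : ∀ k x, Hequiv a (T.res S) E k (Hequiv a E (T.res S) k x) = x := fun k x => by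
    rw [← Hequiv_symm, LinearEquiv.symm_apply_apply]
  have hsymm' : ∀ k x, Hequiv a E (T.res S) k (Hequiv a (T.res S) E k x) = x := fun k x => by
    rw [← Hequiv_symm, LinearEquiv.symm_apply_apply]
  refine ⟨fun k => T.δ a k, fun k => T.δ_isGrHom a k, fun k => ?_, fun k => ?_, fun k => ?_⟩
  · intro y
    rw [hp, T.exact₁ S a k]
    constructor
    · rintro ⟨w, hw⟩
      refine ⟨w, ?_⟩
      rw [hi, hw, hsymm]
    · rintro ⟨w, hw⟩
      refine ⟨w, ?_⟩
      rw [← hw, hi, hsymm']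
  · intro y
    rw [T.exact₂ S a k]
    constructor
    · rintro ⟨w, hw⟩
      refine ⟨Hequiv a (T.res S) E k w, ?_⟩
      rw [hp, hsymm', hw]
    · rintro ⟨w, hw⟩
      exact ⟨Hequiv a E (T.res S) k w, by rw [← hw, hp]⟩
  · intro y
    rw [hi, ← T.exact₃ S a k]
    constructor
    · intro h
      have := congrArg (Hequiv a E (T.res S) (k + 1)) h
      rwa [hsymm', map_zero] at this
    · intro h
      rw [h, map_zero]

end LES

section GradedExact
variable {ι : Type} [DecidableEq ι] {R : Type u} [CommRing R]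
  {A : Type u} [AddCommGroup A] [Module R A] {𝓐 : ι → AddSubgroup A}
  {B : Type u} [AddCommGroup B] [Module R B] {ℬ : ι → AddSubgroup B}

/-- a preimage under a homogeneous map of a homogeneous element can be chosen homogeneous -/
theorem exists_mem_of_isInternal (hA : DirectSum.IsInternal 𝓐) (hB : DirectSum.IsInternal ℬ)
    (f : A →ₗ[R] B) (hf : IsGrHom 𝓐 ℬ f) {h : ι} {b : B} (hb : b ∈ ℬ h) (y : A) (hy : f y = b) :
    ∃ y' ∈ 𝓐 h, f y' = b := by
  letI := hA.chooseDecomposition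
  letI := hB.chooseDecomposition
  refine ⟨(decompose 𝓐 y h : A), SetLike.coe_mem _, ?_⟩
  rw [← IsGrHom.decompose_apply 𝓐 ℬ hf, hy, decompose_of_mem_same ℬ hb]

end GradedExact

section Shift
variable {ι : Type} [AddCommGroup ι] [DecidableEq ι] {R : Type u} [CommRing R]
  {𝒜 : ι → AddSubgroup R} [GradedRing 𝒜]

theorem isStarInj_shift {X : Type u} [AddCommGroup X] [Module R X] (𝒳 : ι → AddSubgroup X)
    [DirectSum.Decomposition 𝒳] [SetLike.GradedSMul 𝒜 𝒳] (hX : IsStarInj 𝒜 𝒳) (g : ι) :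
    @IsStarInj ι _ _ R _ _ _ _ 𝒜 _ X _ _ _ _ _ (shiftPieces 𝒳 g) (shiftDecomposition 𝒳 g)
      (shiftGradedSMul 𝒜 𝒳 g) := by
  intro A B f hf hinj φ hφ
  obtain ⟨h, hh, e⟩ := exists_grExtension_deg 𝒜 A.gr B.gr 𝒳 hX f hf hinj φ g (fun j x hx => hφ j x hx)
  exact ⟨h, fun j x hx => hh j x hx, e⟩

/-- the graded module with shifted grading -/
def gshift (X : GMod.{u} 𝒜) (g : ι) : GMod.{u} 𝒜 :=
  { carrier := X.carrier
    gr := shiftPieces X.gr g
    dec := shiftDecomposition X.gr g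
    gsmul := shiftGradedSMul 𝒜 X.gr g }

variable {M : Type u} [AddCommGroup M] [Module R M] {ℳ : ι → AddSubgroup M} [DirectSum.Decomposition ℳ]
  [SetLike.GradedSMul 𝒜 ℳ]

/-- the resolution with all gradings shifted by `g`: a *injective resolution of `M(g)` -/
def shiftRes (E : StarInjRes 𝒜 ℳ) (g : ι) :
    @StarInjRes ι _ _ R _ _ _ _ 𝒜 _ M _ _ _ _ _ (shiftPieces ℳ g) (shiftDecomposition ℳ g)
      (shiftGradedSMul 𝒜 ℳ g) :=
  letI := shiftDecomposition ℳ g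
  letI := shiftGradedSMul 𝒜 ℳ g
  { X := fun n => gshift (E.X n) g
    d := E.d
    ε := E.ε
    d_grHom := fun n j x hx => E.d_grHom n _ x hx
    ε_grHom := fun j x hx => E.ε_grHom _ x hx
    ε_injective := E.ε_injective
    exact_zero := E.exact_zero
    exact_succ := E.exact_succ
    starInj := fun n => isStarInj_shift (E.X n).gr (E.starInj n) g }

end Shift

end Groth.Agent.Lib.Helper39.GrLes
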