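import Groth.Agent.Lib.Helper39.GrLes5

/-!
# The long exact sequence for multiplication by a homogeneous non-zerodivisor (helper39)
-/

set_option autoImplicit false
universe u

namespace Groth.Agent.Lib.Helper39.GrLes

open DirectSum GrLC Groth.Agent.Lib.Helper39

section SMul
variable {ι : Type} [AddCommGroup ι] [DecidableEq ι] {R : Type u} [CommRing R]
  {𝒜 : ι → AddSubgroup R} [GradedRing 𝒜]
  {M : Type u} [AddCommGroup M] [Module R M] {ℳ : ι → AddSubgroup M} [DirectSum.Decomposition ℳ]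
  [SetLike.GradedSMul 𝒜 ℳ]
  {N : Type u} [AddCommGroup N] [Module R N] {𝒩 : ι → AddSubgroup N} [DirectSum.Decomposition 𝒩]
  [SetLike.GradedSMul 𝒜 𝒩]

attribute [local instance] shiftDecomposition shiftGradedSMul

/-- the cohomology of the shifted resolution is the same module -/
def shiftHEquiv (E : StarInjRes 𝒜 ℳ) (g : ι) (a : HomogeneousIdeal 𝒜) (k : ℕ) :
    (shiftRes E g).H a k ≃ₗ[R] E.H a k :=
  LinearEquiv.refl R (E.H a k)

theorem shiftHEquiv_mem_iff (E : StarInjRes 𝒜 ℳ) (g : ι) (a : HomogeneousIdeal 𝒜) (k : ℕ) (h : ι)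
    (x : (shiftRes E g).H a k) :
    shiftHEquiv E g a k x ∈ E.Hgr a k (h + g) ↔ x ∈ (shiftRes E g).Hgr a k h := Iff.rfl

theorem shiftHEquiv_symm_mem_iff (E : StarInjRes 𝒜 ℳ) (g : ι) (a : HomogeneousIdeal 𝒜) (k : ℕ) (h : ι)
    (x : E.H a k) :
    (shiftHEquiv E g a k).symm x ∈ (shiftRes E g).Hgr a k h ↔ x ∈ E.Hgr a k (h + g) := Iff.rfl

theorem smul_mem_gr_shift (E : StarInjRes 𝒜 ℳ) {d : ι} {x : R} (hx : x ∈ 𝒜 d) (n : ℕ) (j : ι)
    (z : (E.X n).carrier) (hz : z ∈ (E.X n).gr (j + -d)) :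
    (x • (LinearMap.id : (E.X n).carrier →ₗ[R] (E.X n).carrier)) z ∈ (E.X n).gr (j + 0) := by
  have := SetLike.GradedSMul.smul_mem (A := 𝒜) (B := (E.X n).gr) hx hz
  rw [vadd_eq_add, add_neg_cancel_comm_assoc] at this
  rw [add_zero]
  exact this

theorem smul_id_comm_d (E : StarInjRes 𝒜 ℳ) (x : R) (n : ℕ) (z : (E.X n).carrier) :
    (x • (LinearMap.id : (E.X (n + 1)).carrier →ₗ[R] (E.X (n + 1)).carrier)) (E.d n z) =
      E.d n ((x • (LinearMap.id : (E.X n).carrier →ₗ[R] (E.X n).carrier)) z) := by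
  simp

/-- multiplication by a homogeneous element as a chain map from the shifted resolution -/
def shiftSmulChain (E : StarInjRes 𝒜 ℳ) {d : ι} {x : R} (hx : x ∈ 𝒜 d) :
    ChainMap (shiftRes E (-d)) E 0 where
  φ n := (x • (LinearMap.id : (E.X n).carrier →ₗ[R] (E.X n).carrier) :
    (E.X n).carrier →ₗ[R] (E.X n).carrier)
  deg n j z hz := smul_mem_gr_shift E hx n j z hz
  comm n z := smul_id_comm_d E x n z

theorem shiftSmulChain_H (E : StarInjRes 𝒜 ℳ) {d : ι} {x : R} (hx : x ∈ 𝒜 d)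
    (a : HomogeneousIdeal 𝒜) (k : ℕ) (z : (shiftRes E (-d)).H a k) :
    (shiftSmulChain E hx).H a k z = x • shiftHEquiv E (-d) a k z := by
  obtain ⟨w, rfl⟩ := Submodule.mkQ_surjective _ z
  have key : ∀ w' : E.cocyc a k, E.toH a k ⟨x • (w' : (E.X k).carrier),
      (E.cocyc a k).smul_mem x w'.2⟩ = x • E.toH a k w' := fun w' => by
    rw [← map_smul]
    rfl
  exact key w

/-- **Long exact sequence for a homogeneous `M`-regular element** `x` of degree `d`, with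
`N = M/xM`: connecting maps of degree `-d`. -/
theorem exists_les_smul {d : ι} {x : R} (hx : x ∈ 𝒜 d) (hreg : IsSMulRegular M x)
    (π : M →ₗ[R] N) (hπ : Function.Surjective π) (hπg : IsGrHom ℳ 𝒩 π)
    (hker : LinearMap.ker π = LinearMap.range (x • (LinearMap.id : M →ₗ[R] M)))
    (E : StarInjRes 𝒜 ℳ) (F : StarInjRes 𝒜 𝒩) (a : HomogeneousIdeal 𝒜) :
    ∃ δ : ∀ k : ℕ, F.H a k →ₗ[R] E.H a (k + 1),
      (∀ k, IsGrHomDeg (F.Hgr a k) (E.Hgr a (k + 1)) (δ k) (-d)) ∧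
      (∀ k, Function.Exact (fun z : E.H a k => x • z) (Hmap₀ E F a π hπg k)) ∧
      (∀ k, Function.Exact (Hmap₀ E F a π hπg k) (δ k)) ∧
      (∀ k, Function.Exact (δ k) (fun z : E.H a (k + 1) => x • z)) ∧
      (∀ (k : ℕ) (h : ι) (y : E.H a k), y ∈ E.Hgr a k h → Hmap₀ E F a π hπg k y = 0 →
        ∃ z ∈ E.Hgr a k (h + -d), x • z = y) := by
  have hxg : IsGrHom (shiftPieces ℳ (-d)) ℳ (x • (LinearMap.id : M →ₗ[R] M)) := by
    intro j m hm
    have := SetLike.GradedSMul.smul_mem (A := 𝒜) (B := ℳ) hx hm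
    rw [vadd_eq_add, add_neg_cancel_comm_assoc] at this
    exact this
  have S : GrSES (shiftPieces ℳ (-d)) ℳ 𝒩 (x • (LinearMap.id : M →ₗ[R] M)) π :=
    { i_grHom := hxg
      p_grHom := hπg
      i_inj := hreg
      p_surj := hπ
      exact := hker }
  obtain ⟨δ, hδ, h1, h2, h3⟩ := exists_les S (shiftRes E (-d)) E F a
  have hc : (shiftSmulChain E hx).Lifts (x • (LinearMap.id : M →ₗ[R] M)) := fun m => by
    show x • E.ε m = E.ε (x • m)
    rw [map_smul]
  have hmul : ∀ (k : ℕ) (z : (shiftRes E (-d)).H a k),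
      Hmap₀ (shiftRes E (-d)) E a (x • (LinearMap.id : M →ₗ[R] M)) hxg k z =
        x • shiftHEquiv E (-d) a k z := by
    intro k z
    rw [Hmap₀_eq_of_lifts (shiftRes E (-d)) E a _ hxg (shiftSmulChain E hx) hc k, shiftSmulChain_H]
  refine ⟨fun k => (shiftHEquiv E (-d) a (k + 1)).toLinearMap ∘ₗ δ k, fun k j y hy => hδ k j y hy,
    fun k => ?_, fun k => ?_, fun k => ?_, ?_⟩
  · intro y
    rw [h1 k y]
    constructor
    · rintro ⟨w, hw⟩
      exact ⟨shiftHEquiv E (-d) a k w, by rw [← hw, hmul]⟩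
    · rintro ⟨w, hw⟩
      exact ⟨(shiftHEquiv E (-d) a k).symm w, by rw [← hw, hmul]; rfl⟩
  · intro y
    rw [← h2 k y]
    rfl
  · intro y
    have := h3 k ((shiftHEquiv E (-d) a (k + 1)).symm y)
    rw [hmul] at this
    exact this
  · intro k h y hy h0
    obtain ⟨w, hw⟩ := (h1 k y).mp h0
    obtain ⟨w', hw', hwy⟩ := exists_mem_of_isInternal (Hgr_isInternal (shiftRes E (-d)) a k)
      (Hgr_isInternal E a k) _ (Hmap₀_isGrHom (shiftRes E (-d)) E a _ hxg k) hy w hw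
    refine ⟨shiftHEquiv E (-d) a k w', hw', ?_⟩
    rw [← hmul]
    exact hwy

end SMul

end Groth.Agent.Lib.Helper39.GrLes
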