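import Mathlib
import Groth.Agent.Lib.Helper39.GrStarLocal2
import Groth.Agent.Lib.Helper29.DepthRees

/-!
# Generic linear forms over an infinite residue field (helper39)

`R` positively graded Noetherian, *local with *maximal ideal `m`, `R/m` infinite.
* `exists_mem_notMem`: an `R_0`-submodule `V ⊆ R` not contained in any of finitely many `R_0`-submodules
  `W_j` contains an element avoiding all of them;
* `exists_linear_regular`: if `R_0` is Artinian, `R` standard graded and `depth_m B ≥ 1` then some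
  linear form is `B`-regular.
-/

set_option autoImplicit false
universe u

namespace Groth.Agent.Lib.Helper39.GrLinAvoid

open DirectSum GrLC Groth.Agent.Lib.Helper39

variable {R : Type u} [CommRing R] {𝒜 : ℤ → AddSubgroup R} [GradedRing 𝒜]
  (hpos : ∀ n : ℤ, n < 0 → 𝒜 n = ⊥)

include hpos in
theorem exists_mem_notMem [IsNoetherianRing R] {m : HomogeneousIdeal 𝒜} (hm : IsStarLocal 𝒜 m)
    (hinf : Infinite (R ⧸ m.toIdeal)) (V : Submodule (GrLC.deg0 𝒜) R)
    (S : Finset (Submodule (GrLC.deg0 𝒜) R)) (hS : ∀ W ∈ S, ¬ V ≤ W) :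
    ∃ v ∈ V, ∀ W ∈ S, v ∉ W := by
  classical
  by_contra hcon
  push_neg at hcon
  -- the cover of `V`
  have hcov : ⋃ W ∈ S, ((W.comap V.subtype : Submodule (GrLC.deg0 𝒜) V) : Set V) = Set.univ := by
    rw [Set.eq_univ_iff_forall]
    rintro ⟨v, hv⟩
    obtain ⟨W, hW, hvW⟩ := hcon v hv
    simp only [Set.mem_iUnion]
    exact ⟨W, hW, hvW⟩
  obtain ⟨W, hW, hfi⟩ := Submodule.exists_finiteIndex_of_cover hcov
  haveI : Finite (V ⧸ (W.comap V.subtype)) :=
    AddSubgroup.finite_quotient_of_finiteIndex (H := (W.comap V.subtype).toAddSubgroup)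
  obtain ⟨v, hvV, hvW⟩ := Set.not_subset.mp (hS W hW)
  -- representatives in `R_0` of the residue classes
  have hrep : ∀ q : R ⧸ m.toIdeal, ∃ c : GrLC.deg0 𝒜, Ideal.Quotient.mk m.toIdeal (c : R) = q := by
    intro q
    obtain ⟨r, rfl⟩ := Ideal.Quotient.mk_surjective q
    refine ⟨⟨(decompose 𝒜 r 0 : R), SetLike.coe_mem _⟩, ?_⟩
    rw [Ideal.Quotient.eq]
    have := GrStarLocal.irr_le hpos hm (GrStarLocal.sub_decompose_zero_mem_irr 𝒜 hpos r)
    rw [← neg_sub]
    exact neg_mem this
  choose c hc using hrep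
  let g : R ⧸ m.toIdeal → V ⧸ (W.comap V.subtype) := fun q =>
    Submodule.Quotient.mk (c q • (⟨v, hvV⟩ : V))
  have hg : Function.Injective g := by
    intro q q' hqq
    by_contra hne
    have h1 : (c q - c q') • (⟨v, hvV⟩ : V) ∈ W.comap V.subtype := by
      have := (Submodule.Quotient.eq _).mp hqq
      convert this using 1
      exact sub_smul (c q) (c q') (⟨v, hvV⟩ : V)
    have h2 : ((c q - c q' : GrLC.deg0 𝒜) : R) ∉ m.toIdeal := by
      intro hmem
      apply hne
      rw [← hc q, ← hc q', Ideal.Quotient.eq]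
      exact hmem
    obtain ⟨u, hu⟩ := GrStarLocal.isUnit_deg0_of_notMem hpos hm _ h2
    have h3 : (↑u⁻¹ : GrLC.deg0 𝒜) • ((c q - c q') • (⟨v, hvV⟩ : V)) ∈ W.comap V.subtype :=
      Submodule.smul_mem _ _ h1
    rw [← hu, smul_smul, ← Units.val_mul, inv_mul_cancel, Units.val_one, one_smul] at h3
    exact hvW h3
  haveI := Finite.of_injective g hg
  exact not_finite (R ⧸ m.toIdeal)
end Groth.Agent.Lib.Helper39.GrLinAvoid
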