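import Groth.Agent.Lib.Helper39.GrLinAvoid
import Groth.Agent.Lib.Helper39.GrHeightArt
import Groth.Agent.Lib.Helper60.NV3
import Groth.Agent.S14424

/-!
# Regular sequences of linear forms in Cohen–Macaulay standard graded rings (helper39)
-/

set_option autoImplicit false
universe u

namespace Groth.Agent.Lib.Helper39.GrLinAvoid

open DirectSum GrLC Groth.Agent.Lib.Helper39 RingTheory.Sequence

variable {R : Type u} [CommRing R] {𝒜 : ℤ → AddSubgroup R} [GradedRing 𝒜]
  (hpos : ∀ n : ℤ, n < 0 → 𝒜 n = ⊥)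
  (hstd : Ideal.span (⋃ n ∈ Set.Ioi (0 : ℤ), (𝒜 n : Set R)) =
    Ideal.span ((𝒜 1 : AddSubgroup R) : Set R))

include hpos hstd in
theorem exists_linear_regular [IsNoetherianRing R] [IsArtinianRing (GrLC.deg0 𝒜)]
    {m : HomogeneousIdeal 𝒜} (hm : IsStarLocal 𝒜 m) (hinf : Infinite (R ⧸ m.toIdeal))
    (B : Type u) [AddCommGroup B] [Module R B] [Module.Finite R B]
    (hdepth : (1 : ℕ∞) ≤ LocCoh.idealDepth m.toIdeal B)
    (hne : m.toIdeal • (⊤ : Submodule R B) ≠ ⊤) : ∃ x ∈ 𝒜 1, IsSMulRegular B x := by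
  classical
  have h1 : ((1 : ℕ) : ℕ∞) ≤ LocCoh.idealDepth m.toIdeal B := by exact_mod_cast hdepth
  rw [Groth.Agent.Lib.Helper29.le_idealDepth_iff] at h1
  rcases h1 with h1 | ⟨rs, hlen, hmem, hreg⟩
  · exact absurd h1 hne
  obtain ⟨r, rfl⟩ : ∃ r, rs = [r] := List.length_eq_one_iff.mp hlen
  rw [isWeaklyRegular_singleton_iff] at hreg
  have hrm : r ∈ m.toIdeal := hmem r (List.mem_singleton_self r)
  have hfin : (associatedPrimes R B).Finite := associatedPrimes.finite R B
  obtain ⟨N, hN⟩ := GrStarLocal.exists_pow_le_irr hpos hm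
  have hmiss : ∀ P ∈ associatedPrimes R B,
      ¬ (GrLC.comp 𝒜 𝒜 1) ≤ P.restrictScalars (GrLC.deg0 𝒜) := by
    intro P hP hle
    haveI hPprime : P.IsPrime := hP.isPrime
    have h2 : Ideal.span ((𝒜 1 : AddSubgroup R) : Set R) ≤ P :=
      Ideal.span_le.mpr (fun y hy => hle hy)
    rw [← hstd] at h2
    have h3 : m.toIdeal ≤ P := Ideal.IsPrime.le_of_pow_le (le_trans hN h2)
    have hrP : r ∈ P := h3 hrm
    have : r ∈ ⋃ p ∈ associatedPrimes R B, (p : Set R) := Set.mem_biUnion hP hrP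
    rw [biUnion_associatedPrimes_eq_compl_regular] at this
    exact this hreg
  obtain ⟨x, hxV, hx⟩ := exists_mem_notMem hpos hm hinf (GrLC.comp 𝒜 𝒜 1)
    (hfin.toFinset.image (fun P => P.restrictScalars (GrLC.deg0 𝒜))) (by
      intro W hW
      obtain ⟨P, hP, rfl⟩ := Finset.mem_image.mp hW
      exact hmiss P (hfin.mem_toFinset.mp hP))
  refine ⟨x, hxV, ?_⟩
  by_contra hnreg
  have : x ∈ ({r | IsSMulRegular B r}ᶜ : Set R) := hnreg
  rw [← biUnion_associatedPrimes_eq_compl_regular R] at this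
  obtain ⟨P, hP, hxP⟩ := Set.mem_iUnion₂.mp this
  exact hx (P.restrictScalars _)
    (Finset.mem_image.mpr ⟨P, hfin.mem_toFinset.mpr hP, rfl⟩) hxP

include hpos in
theorem idealDepth_star_eq [LocCoh.IsCohenMacaulayRing R] [IsArtinianRing (GrLC.deg0 𝒜)]
    {m : HomogeneousIdeal 𝒜} (hm : IsStarLocal 𝒜 m) (d : ℕ) (hd : ringKrullDim R = d) :
    LocCoh.idealDepth m.toIdeal R = (d : ℕ∞) := by
  have hne : m.toIdeal ≠ ⊤ := (GrStarLocal.isMaximal hpos hm).ne_top
  have hht := GrHeightArt.height_star_eq 𝒜 hpos hm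
  have hht' : m.toIdeal.height = (d : ℕ∞) := by
    rw [hd] at hht
    exact_mod_cast hht
  rw [(Groth.Agent.S14424.result R).mp inferInstance m.toIdeal hne, hht']

include hpos hstd in
/-- in a Cohen–Macaulay standard graded ring with infinite residue field there are regular sequences
of linear forms of every length `≤ dim R` -/
theorem exists_linear_regular_seq [LocCoh.IsCohenMacaulayRing R] [IsArtinianRing (GrLC.deg0 𝒜)]
    {m : HomogeneousIdeal 𝒜} (hm : IsStarLocal 𝒜 m) (hinf : Infinite (R ⧸ m.toIdeal))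
    (d : ℕ) (hd : ringKrullDim R = d) : ∀ i : ℕ, i ≤ d →
    ∃ rs : List R, rs.length = i ∧ (∀ r ∈ rs, r ∈ 𝒜 1) ∧ IsWeaklyRegular R rs := by
  intro i
  induction i with
  | zero => exact fun _ => ⟨[], rfl, by simp, IsWeaklyRegular.nil R R⟩
  | succ i ih =>
    intro hi
    obtain ⟨rs, hlen, hdeg, hreg⟩ := ih (by omega)
    have hmem : ∀ r ∈ rs, r ∈ m.toIdeal := fun r hr =>
      GrStarLocal.irr_le hpos hm (by
        rw [GrStarLocal.irr_toIdeal]
        apply Ideal.subset_span
        simp only [Set.mem_iUnion, Set.mem_Ioi]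
        exact ⟨1, by norm_num, hdeg r hr⟩)
    have key := Groth.Agent.Lib.Helper60.idealDepth_quotient_ofList_add_length m.toIdeal rs R
      hreg hmem
    rw [idealDepth_star_eq hpos hm d hd, hlen] at key
    have hne : m.toIdeal • (⊤ : Submodule R (R ⧸ Ideal.ofList rs • (⊤ : Submodule R R))) ≠ ⊤ := by
      intro h
      rw [Groth.Agent.Lib.Helper29.idealDepth_of_smul_top_eq _ _ h] at key
      simp at key
    have hdepth : (1 : ℕ∞) ≤
        LocCoh.idealDepth m.toIdeal (R ⧸ Ideal.ofList rs • (⊤ : Submodule R R)) := by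
      generalize LocCoh.idealDepth m.toIdeal (R ⧸ Ideal.ofList rs • (⊤ : Submodule R R)) = e at key
      induction e using ENat.recTopCoe with
      | top => exact le_top
      | coe k =>
        have : k + i = d := by exact_mod_cast key
        have hk : 1 ≤ k := by omega
        exact_mod_cast hk
    obtain ⟨x, hx1, hx⟩ := exists_linear_regular hpos hstd hm hinf _ hdepth hne
    refine ⟨rs ++ [x], by simp [hlen], ?_, ?_⟩
    · intro r hr
      rcases List.mem_append.mp hr with h | h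
      · exact hdeg r h
      · rw [List.mem_singleton.mp h]
        exact hx1
    · exact (isWeaklyRegular_append_iff R rs [x]).mpr
        ⟨hreg, (isWeaklyRegular_singleton_iff _ x).mpr hx⟩

end Groth.Agent.Lib.Helper39.GrLinAvoid
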