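import Groth.Agent.Lib.Helper39.GrStarLocal
import Groth.Agent.Lib.Helper39.GrPointwiseCanon
import Groth.Agent.Lib.Helper39.GrLes1
import Groth.Agent.Lib.Helper39.GrSub
import Groth.Agent.Lib.Helper39.GrHomComp

/-!
# Graded Matlis duality on pieces, over a field (helper39)

`R` positively `ℤ`-graded with `R_0` a field, `m = R_+`, `E'` a *injective hull of `R/m`:
* `piece_eq_bot_of_pos`: `E'_j = 0` for `j > 0`;
* `exists_mem_of_homDeg_ne_zero`: a nonzero map `C → E'` of degree `d` is nonzero on `C_{-d}`;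
* `exists_homDeg_of_ne_zero`: every nonzero `c ∈ C_{-d}` is detected by a map of degree `d`;
* `piece_ne_bot_iff`: if `Hom(C, E') ≅ H` homogeneously, `H_d ≠ 0 ↔ C_{-d} ≠ 0`.
-/

set_option autoImplicit false
universe u

namespace Groth.Agent.Lib.Helper39.GrPieceDual

open DirectSum GrLC Groth.Agent.Lib.Helper39 Groth.Agent.Lib.Helper39.GrNak
  Groth.Agent.Lib.Helper39.GrStarLocal Groth.Agent.Lib.Helper39.GrPC
  Groth.Agent.Lib.Helper39.GrLes

variable {R : Type u} [CommRing R] (𝒜 : ℤ → AddSubgroup R) [GradedRing 𝒜]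
  (hpos : ∀ n : ℤ, n < 0 → 𝒜 n = ⊥)
  (m : HomogeneousIdeal 𝒜)
  (hmsp : m.toIdeal = Ideal.span (⋃ n ∈ Set.Ioi (0 : ℤ), (𝒜 n : Set R)))
  {E' : Type u} [AddCommGroup E'] [Module R E'] (𝓔 : ℤ → AddSubgroup E')
  [DirectSum.Decomposition 𝓔] [SetLike.GradedSMul 𝒜 𝓔]
  (e : (R ⧸ m.toIdeal) →ₗ[R] E') (he : GrLC.IsStarEss (GrLC.quotGr 𝒜 m) 𝓔 e)

include hpos hmsp he in
theorem e_mem_zero (y : R ⧸ m.toIdeal) : e y ∈ 𝓔 0 := by
  obtain ⟨y, rfl⟩ := Ideal.Quotient.mk_surjective y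
  have h1 : y - (decompose 𝒜 y 0 : R) ∈ m.toIdeal := by
    rw [hmsp]
    exact sub_decompose_zero_mem_irr 𝒜 hpos y
  have h2 : Ideal.Quotient.mk m.toIdeal y = Ideal.Quotient.mk m.toIdeal (decompose 𝒜 y 0 : R) := by
    rw [Ideal.Quotient.eq]
    exact h1
  rw [h2]
  apply he.grHom 0
  exact ⟨_, SetLike.coe_mem (decompose 𝒜 y 0), rfl⟩

include 𝒜 in
theorem span_singleton_isHomogeneous {j : ℤ} {x : E'} (hx : x ∈ 𝓔 j) :
    (Submodule.span R {x}).IsHomogeneous 𝓔 := by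
  intro i y hy
  obtain ⟨r, rfl⟩ := Submodule.mem_span_singleton.mp hy
  have h := GrPC.decompose_smul_of_right_mem 𝒜 𝓔 hx r (i - j)
  rw [sub_add_cancel] at h
  rw [h]
  exact Submodule.smul_mem _ _ (Submodule.mem_span_singleton_self x)

include hpos hmsp he in
/-- a nonzero homogeneous element of `E'` has a nonzero homogeneous multiple in the image of
`R/m` -/
theorem exists_smul_mem_range {j : ℤ} {x : E'} (hx : x ∈ 𝓔 j) (hx0 : x ≠ 0) :
    ∃ r ∈ 𝒜 (-j), r • x ≠ 0 ∧ r • x ∈ LinearMap.range e := by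
  have hP : (Submodule.span R {x}) ≠ ⊥ := by
    intro h
    apply hx0
    have : x ∈ (⊥ : Submodule R E') := h ▸ Submodule.mem_span_singleton_self x
    exact this
  have hne := he.essential _ (span_singleton_isHomogeneous 𝒜 𝓔 hx) hP
  obtain ⟨z, hz, hz0⟩ := Submodule.exists_mem_ne_zero_of_ne_bot hne
  obtain ⟨hz1, hz2⟩ := Submodule.mem_inf.mp hz
  obtain ⟨r, rfl⟩ := Submodule.mem_span_singleton.mp hz1
  obtain ⟨y, hy⟩ := hz2
  have hdeg : r • x ∈ 𝓔 0 := by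
    rw [← hy]
    exact e_mem_zero 𝒜 hpos m hmsp 𝓔 e he y
  have h := GrPC.decompose_smul_of_right_mem 𝒜 𝓔 hx r (-j)
  rw [neg_add_cancel, decompose_of_mem_same 𝓔 hdeg] at h
  refine ⟨(decompose 𝒜 r (-j) : R), SetLike.coe_mem _, ?_, ?_⟩
  · rw [← h]
    exact hz0
  · rw [← h]
    exact ⟨y, hy⟩

include hpos hmsp he in
theorem piece_eq_bot_of_pos {j : ℤ} (hj : 0 < j) : 𝓔 j = ⊥ := by
  rw [eq_bot_iff]
  intro x hx
  rw [AddSubgroup.mem_bot]
  by_contra hx0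
  obtain ⟨r, hr, hrx, -⟩ := exists_smul_mem_range 𝒜 hpos m hmsp 𝓔 e he hx hx0
  have h1 : 𝒜 (-j) = ⊥ := hpos (-j) (by omega)
  rw [h1, AddSubgroup.mem_bot] at hr
  apply hrx
  rw [hr, zero_smul]

include hpos hmsp he in
/-- on `E'_0` every scalar acts through its degree-zero component -/
theorem smul_eq_decompose_zero_smul {y : E'} (hy : y ∈ 𝓔 0) (r : R) :
    r • y = (decompose 𝒜 r 0 : R) • y := by
  have hkill : ∀ s ∈ Ideal.span (⋃ n ∈ Set.Ioi (0 : ℤ), (𝒜 n : Set R)), s • y = 0 := by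
    intro s hs
    induction hs using Submodule.span_induction with
    | mem s hs =>
      simp only [Set.mem_iUnion, Set.mem_Ioi] at hs
      obtain ⟨n, hn, hs⟩ := hs
      have h1 : s • y ∈ 𝓔 (n + 0) := SetLike.GradedSMul.smul_mem (A := 𝒜) (B := 𝓔) hs hy
      rw [add_zero, piece_eq_bot_of_pos 𝒜 hpos m hmsp 𝓔 e he hn, AddSubgroup.mem_bot] at h1
      exact h1
    | zero => exact zero_smul _ _
    | add s t _ _ hs ht => rw [add_smul, hs, ht, add_zero]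
    | smul a s _ hs => rw [smul_eq_mul, mul_smul, hs, smul_zero]
  have h1 := hkill _ (sub_decompose_zero_mem_irr 𝒜 hpos r)
  rw [sub_smul, sub_eq_zero] at h1
  exact h1

variable {C : Type u} [AddCommGroup C] [Module R C] (𝒞 : ℤ → AddSubgroup C)
  [DirectSum.Decomposition 𝒞] [SetLike.GradedSMul 𝒜 𝒞]

include hpos hmsp he in
/-- a nonzero map of degree `d` into `E'` is nonzero on `C_{-d}` -/
theorem exists_mem_of_homDeg_ne_zero (ψ : C →ₗ[R] E') (d : ℤ) (hψ : IsGrHomDeg 𝒞 𝓔 ψ d)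
    (hψ0 : ψ ≠ 0) : ∃ c ∈ 𝒞 (-d), ψ c ≠ 0 := by
  classical
  obtain ⟨c, hc⟩ : ∃ c, ψ c ≠ 0 := by
    by_contra h
    push Not at h
    exact hψ0 (LinearMap.ext h)
  obtain ⟨j, hj⟩ : ∃ j, ψ (decompose 𝒞 c j : C) ≠ 0 := by
    by_contra h
    push Not at h
    apply hc
    rw [← DirectSum.sum_support_decompose 𝒞 c, map_sum]
    exact Finset.sum_eq_zero (fun j _ => h j)
  have hy : ψ (decompose 𝒞 c j : C) ∈ 𝓔 (j + d) := hψ j _ (SetLike.coe_mem _)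
  obtain ⟨r, hr, hrx, -⟩ := exists_smul_mem_range 𝒜 hpos m hmsp 𝓔 e he hy hj
  refine ⟨r • (decompose 𝒞 c j : C), ?_, ?_⟩
  · have h1 : r • (decompose 𝒞 c j : C) ∈ 𝒞 (-(j + d) + j) :=
      SetLike.GradedSMul.smul_mem (A := 𝒜) (B := 𝒞) hr (SetLike.coe_mem _)
    have h2 : -(j + d) + j = -d := by ring
    rwa [h2] at h1
  · rw [map_smul]
    exact hrx

/-- the submodule of elements with no components below `t` -/
def geq (hpos : ∀ n : ℤ, n < 0 → 𝒜 n = ⊥) (t : ℤ) : Submodule R C where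
  carrier := {c | ∀ j, j < t → (decompose 𝒞 c j : C) = 0}
  zero_mem' := fun j _ => by simp
  add_mem' := by
    intro x y hx hy j hj
    rw [decompose_add, DirectSum.add_apply, AddSubgroup.coe_add, hx j hj, hy j hj, add_zero]
  smul_mem' := fun r x hx => decompose_smul_eq_zero_of_lt 𝒜 𝒞 hpos hx r

theorem mem_geq {t : ℤ} {c : C} :
    c ∈ geq 𝒜 𝒞 hpos t ↔ ∀ j, j < t → (decompose 𝒞 c j : C) = 0 := Iff.rfl

theorem geq_isHomogeneous (t : ℤ) : (geq 𝒜 𝒞 hpos t).IsHomogeneous 𝒞 := by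
  intro i c hc j hj
  by_cases hij : i = j
  · subst hij
    rw [decompose_of_mem_same 𝒞 (SetLike.coe_mem _)]
    exact hc i hj
  · rw [decompose_of_mem_ne 𝒞 (SetLike.coe_mem _) hij]

theorem mem_geq_of_mem {t j : ℤ} (h : t ≤ j) {c : C} (hc : c ∈ 𝒞 j) : c ∈ geq 𝒜 𝒞 hpos t := by
  intro i hi
  exact decompose_of_mem_ne 𝒞 hc (by omega)

include hpos hmsp he in
/-- every nonzero element of `C_{-d}` is detected by a homogeneous map of degree `d` into `E'` -/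
theorem exists_homDeg_of_ne_zero (h0 : IsField (GrLC.deg0 𝒜)) (hI : IsStarInj 𝒜 𝓔) (d : ℤ)
    {c0 : C} (hc0 : c0 ∈ 𝒞 (-d)) (hne : c0 ≠ 0) :
    ∃ ψ : C →ₗ[R] E', IsGrHomDeg 𝒞 𝓔 ψ d ∧ ψ c0 ≠ 0 := by
  classical
  letI : Field (GrLC.deg0 𝒜) := h0.toField
  let v0 : GrLC.comp 𝒜 𝒞 (-d) := ⟨c0, hc0⟩
  have hv0 : v0 ≠ 0 := fun h => hne (congrArg Subtype.val h)
  obtain ⟨f, hf⟩ := Module.Projective.exists_dual_ne_zero (GrLC.deg0 𝒜) hv0
  let N : Submodule R C := geq 𝒜 𝒞 hpos (-d)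
  have hNh : N.IsHomogeneous 𝒞 := geq_isHomogeneous 𝒜 hpos 𝒞 (-d)
  letI decN := subDecomposition 𝒞 N hNh
  haveI smulN := subGradedSMul 𝒜 𝒞 N
  have he1 : e 1 ∈ 𝓔 0 := e_mem_zero 𝒜 hpos m hmsp 𝓔 e he 1
  let pr : C → GrLC.comp 𝒜 𝒞 (-d) := fun c => ⟨(decompose 𝒞 c (-d) : C), SetLike.coe_mem _⟩
  have hpr_add : ∀ x y, pr (x + y) = pr x + pr y := by
    intro x y
    apply Subtype.ext
    show (decompose 𝒞 (x + y) (-d) : C) = (decompose 𝒞 x (-d) : C) + (decompose 𝒞 y (-d) : C)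
    rw [decompose_add, DirectSum.add_apply, AddSubgroup.coe_add]
  have hpr_smul : ∀ (r : R) (x : N), pr (r • (x : C)) =
      (⟨(decompose 𝒜 r 0 : R), SetLike.coe_mem _⟩ : GrLC.deg0 𝒜) • pr (x : C) := by
    intro r x
    apply Subtype.ext
    show (decompose 𝒞 (r • (x : C)) (-d) : C) = (decompose 𝒜 r 0 : R) • (decompose 𝒞 (x : C) (-d) : C)
    exact GrPieces.decompose_smul_of_ge 𝒜 𝒞 hpos x.2 r
  let g : N →ₗ[R] E' :=
    { toFun := fun c => ((f (pr (c : C)) : GrLC.deg0 𝒜) : R) • e 1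
      map_add' := by
        intro x y
        show ((f (pr ((x : C) + (y : C))) : GrLC.deg0 𝒜) : R) • e 1 = _
        rw [hpr_add, map_add, Subring.coe_add, add_smul]
      map_smul' := by
        intro r x
        show ((f (pr (r • (x : C))) : GrLC.deg0 𝒜) : R) • e 1 =
          r • (((f (pr (x : C)) : GrLC.deg0 𝒜) : R) • e 1)
        rw [hpr_smul, map_smul, smul_eq_mul, Subring.coe_mul, mul_smul]
        have h1 : ((f (pr (x : C)) : GrLC.deg0 𝒜) : R) • e 1 ∈ 𝓔 0 := by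
          have := SetLike.GradedSMul.smul_mem (A := 𝒜) (B := 𝓔)
            (show ((f (pr (x : C)) : GrLC.deg0 𝒜) : R) ∈ 𝒜 0 from (f (pr (x : C))).2) he1
          rwa [vadd_eq_add, zero_add] at this
        rw [smul_eq_decompose_zero_smul 𝒜 hpos m hmsp 𝓔 e he h1 r] }
  have hg : IsGrHomDeg (subPieces 𝒞 N) 𝓔 g d := by
    intro j c hc
    have hc' : (c : C) ∈ 𝒞 j := hc
    show ((f (pr (c : C)) : GrLC.deg0 𝒜) : R) • e 1 ∈ 𝓔 (j + d)
    by_cases hj : j = -d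
    · subst hj
      rw [neg_add_cancel]
      have := SetLike.GradedSMul.smul_mem (A := 𝒜) (B := 𝓔)
        (show ((f (pr (c : C)) : GrLC.deg0 𝒜) : R) ∈ 𝒜 0 from (f (pr (c : C))).2) he1
      rwa [vadd_eq_add, zero_add] at this
    · have h1 : pr (c : C) = 0 := by
        apply Subtype.ext
        show (decompose 𝒞 (c : C) (-d) : C) = 0
        exact decompose_of_mem_ne 𝒞 hc' hj
      rw [h1, map_zero, Subring.coe_zero, zero_smul]
      exact zero_mem _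
  obtain ⟨ψ, hψ, hψg⟩ := exists_grExtension_deg 𝒜 (subPieces 𝒞 N) 𝒞 𝓔 hI N.subtype
    (isGrHom_subtype 𝒞 N) Subtype.val_injective g d hg
  refine ⟨ψ, hψ, ?_⟩
  have hc0N : c0 ∈ N := mem_geq_of_mem 𝒜 hpos 𝒞 le_rfl hc0
  have h1 : ψ c0 = g ⟨c0, hc0N⟩ := LinearMap.congr_fun hψg ⟨c0, hc0N⟩
  rw [h1]
  show ((f (pr c0) : GrLC.deg0 𝒜) : R) • e 1 ≠ 0
  have hpr0 : pr c0 = v0 := by
    apply Subtype.ext
    show (decompose 𝒞 c0 (-d) : C) = c0
    exact decompose_of_mem_same 𝒞 hc0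
  rw [hpr0, ← map_smul]
  intro h
  have h2 : ((f v0 : GrLC.deg0 𝒜) : R) • (1 : R ⧸ m.toIdeal) = 0 := he.injective (by rw [h, map_zero])
  have h3 : ((f v0 : GrLC.deg0 𝒜) : R) ∈ m.toIdeal := by
    rw [← Ideal.Quotient.eq_zero_iff_mem]
    rw [← h2, Algebra.smul_def, mul_one]
    rfl
  rw [hmsp] at h3
  have h4 := decompose_eq_zero_of_mem_irr 𝒜 hpos h3 0 (by omega)
  rw [decompose_of_mem_same 𝒜 (f v0).2] at h4
  exact hf (Subtype.ext h4)

include hpos hmsp he in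
/-- **nonvanishing duality**: if `Hom(C, E') ≅ H` homogeneously then `H_d ≠ 0 ↔ C_{-d} ≠ 0` -/
theorem piece_ne_bot_iff [Module.Finite R C] (h0 : IsField (GrLC.deg0 𝒜)) (hI : IsStarInj 𝒜 𝓔)
    {Hh : Type u} [AddCommGroup Hh] [Module R Hh] (𝓗 : ℤ → AddSubgroup Hh)
    (hint : DirectSum.IsInternal 𝓗) (φ : (C →ₗ[R] E') ≃ₗ[R] Hh)
    (hφ : IsGrHom (fun d => (homDeg 𝒜 𝒞 𝓔 d).toAddSubgroup) 𝓗 φ.toLinearMap) (d : ℤ) :
    𝓗 d ≠ ⊥ ↔ 𝒞 (-d) ≠ ⊥ := by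
  classical
  constructor
  · intro hne
    obtain ⟨x, hx, hx0⟩ : ∃ x ∈ 𝓗 d, x ≠ 0 := by
      by_contra h
      push Not at h
      apply hne
      rw [eq_bot_iff]
      intro x hx
      exact AddSubgroup.mem_bot.mpr (h x hx)
    obtain ⟨S, hS⟩ := exists_finset_sum_compLin 𝒜 𝓔 𝒞 (φ.symm x)
    letI := hint.chooseDecomposition
    have hx1 : x = ∑ j ∈ S, φ (compLin 𝒜 𝒞 𝓔 (φ.symm x) j) := by
      conv_lhs => rw [← φ.apply_symm_apply x, hS, map_sum]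
    have hmem : ∀ j, φ (compLin 𝒜 𝒞 𝓔 (φ.symm x) j) ∈ 𝓗 j :=
      fun j => hφ j _ (compLin_isGrHomDeg 𝒜 𝒞 𝓔 _ j)
    have hx2 : x = (decompose 𝓗 x d : Hh) := (decompose_of_mem_same 𝓗 hx).symm
    have hψd : compLin 𝒜 𝒞 𝓔 (φ.symm x) d ≠ 0 := by
      intro h
      apply hx0
      rw [hx2, hx1, decompose_sum, DFinsupp.finsetSum_apply, AddSubmonoidClass.coe_finsetSum]
      apply Finset.sum_eq_zero
      intro j _
      by_cases hjd : j = d
      · subst hjd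
        rw [h, map_zero, decompose_zero]
        rfl
      · rw [decompose_of_mem_ne 𝓗 (hmem j) hjd]
    obtain ⟨c, hc, hc0⟩ := exists_mem_of_homDeg_ne_zero 𝒜 hpos m hmsp 𝓔 e he 𝒞 _ d
      (compLin_isGrHomDeg 𝒜 𝒞 𝓔 _ d) hψd
    intro hbot
    rw [hbot, AddSubgroup.mem_bot] at hc
    exact hc0 (by rw [hc, map_zero])
  · intro hne
    obtain ⟨c0, hc0, hne0⟩ : ∃ c ∈ 𝒞 (-d), c ≠ 0 := by
      by_contra h
      push Not at h
      apply hne
      rw [eq_bot_iff]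
      intro x hx
      exact AddSubgroup.mem_bot.mpr (h x hx)
    obtain ⟨ψ, hψ, hψ0⟩ := exists_homDeg_of_ne_zero 𝒜 hpos m hmsp 𝓔 e he 𝒞 h0 hI d hc0 hne0
    have h1 : φ ψ ∈ 𝓗 d := hφ d ψ hψ
    intro hbot
    rw [hbot, AddSubgroup.mem_bot] at h1
    have h2 : ψ = 0 := φ.injective (by rw [h1, map_zero])
    exact hψ0 (by rw [h2]; rfl)

end Groth.Agent.Lib.Helper39.GrPieceDual
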