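import Groth.Agent.Lib.Helper39.GrHilbExist
import Groth.Agent.Lib.Helper39.GrLinRegSeq

/-!
# Hilbert functions along a regular sequence of homogeneous elements (helper39)
-/

set_option autoImplicit false
universe u

namespace Groth.Agent.Lib.Helper39.GrPolyRegSeq

open DirectSum GrLC Polynomial Groth.Agent.Lib.Helper39 Groth.Agent.Lib.Helper39.GrLes
  Groth.Agent.Lib.Helper39.GrRegVanish Groth.Agent.Lib.Helper39.GrPieces
  Groth.Agent.Lib.Helper39.GrSerre Groth.Agent.Lib.Helper39.HilbPolyAux RingTheory.Sequence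

variable {R : Type u} [CommRing R] [IsNoetherianRing R] {𝒜 : ℤ → AddSubgroup R} [GradedRing 𝒜]
  (hpos : ∀ n : ℤ, n < 0 → 𝒜 n = ⊥) [IsArtinianRing (GrLC.deg0 𝒜)]

attribute [local instance] shiftDecomposition shiftGradedSMul

include hpos in
/-- the Hilbert function of `R/(J + xR)` when `x` is `R/J`-regular -/
theorem hfun_quot_step {e : ℤ} {x : R} (hx : x ∈ 𝒜 e) (J J' : Submodule R R)
    (hJ : J.IsHomogeneous 𝒜) (hJ' : J'.IsHomogeneous 𝒜)
    (hJJ' : J' = J ⊔ Ideal.span {x}) (hreg : IsSMulRegular (R ⧸ J) x) :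
    haveI := quotGradedSMul 𝒜 𝒜 J
    haveI := quotGradedSMul 𝒜 𝒜 J'
    ∀ n, hfun 𝒜 (quotPieces 𝒜 J') n =
      hfun 𝒜 (quotPieces 𝒜 J) n - hfun 𝒜 (quotPieces 𝒜 J) (n + -e) := by
  classical
  letI decJ := quotDecomposition 𝒜 J hJ
  haveI smulJ := quotGradedSMul 𝒜 𝒜 J
  letI decJ' := quotDecomposition 𝒜 J' hJ'
  haveI smulJ' := quotGradedSMul 𝒜 𝒜 J'
  have hle : J ≤ J'.comap (LinearMap.id : R →ₗ[R] R) := by
    rw [Submodule.comap_id, hJJ']
    exact le_sup_left
  have S : GrSES (shiftPieces (quotPieces 𝒜 J) (-e)) (quotPieces 𝒜 J) (quotPieces 𝒜 J')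
      (x • (LinearMap.id : (R ⧸ J) →ₗ[R] (R ⧸ J))) (Submodule.mapQ J J' LinearMap.id hle) :=
    { i_grHom := fun j y hy => by
        have := SetLike.GradedSMul.smul_mem (A := 𝒜) (B := quotPieces 𝒜 J) hx hy
        rw [vadd_eq_add, add_neg_cancel_comm_assoc] at this
        exact this
      p_grHom := by
        rintro j _ ⟨r, hr, rfl⟩
        exact ⟨r, hr, rfl⟩
      i_inj := hreg
      p_surj := by
        intro y
        obtain ⟨r, rfl⟩ := Submodule.mkQ_surjective J' y
        exact ⟨J.mkQ r, rfl⟩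
      exact := by
        ext y
        obtain ⟨r, rfl⟩ := Submodule.mkQ_surjective J y
        rw [LinearMap.mem_ker, Submodule.mkQ_apply, Submodule.mapQ_apply, LinearMap.id_apply,
          Submodule.Quotient.mk_eq_zero, hJJ', Submodule.mem_sup]
        constructor
        · rintro ⟨j, hj, z, hz, rfl⟩
          obtain ⟨c, rfl⟩ := Ideal.mem_span_singleton'.mp hz
          refine ⟨J.mkQ c, ?_⟩
          simp only [LinearMap.smul_apply, LinearMap.id_coe, id_eq, Submodule.mkQ_apply]
          rw [← Submodule.Quotient.mk_smul, Submodule.Quotient.eq]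
          have : x • c - (j + c * x) = -j := by
            rw [smul_eq_mul]; ring
          rw [this]
          exact neg_mem hj
        · rintro ⟨w, hw⟩
          obtain ⟨c, rfl⟩ := Submodule.mkQ_surjective J w
          simp only [LinearMap.smul_apply, LinearMap.id_coe, id_eq, Submodule.mkQ_apply] at hw
          rw [← Submodule.Quotient.mk_smul, Submodule.Quotient.eq] at hw
          refine ⟨r - x • c, ?_, x • c, ?_, by ring⟩
          · rw [← neg_sub]
            exact neg_mem hw
          · rw [smul_eq_mul, mul_comm]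
            exact Ideal.mem_span_singleton'.mpr ⟨c, rfl⟩ }
  intro n
  have h1 := hfun_ses hpos S n
  rw [hfun_shift] at h1
  linarith

end Groth.Agent.Lib.Helper39.GrPolyRegSeq
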