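import Groth.Agent.Lib.Helper39.GrPolyRegSeq1

/-!
# A regular sequence of `dim R` linear forms generates `R_+` when `a(R) = -dim R` (helper39)
-/

set_option autoImplicit false
universe u

namespace Groth.Agent.Lib.Helper39.GrPolyRegSeq

open DirectSum GrLC Polynomial Groth.Agent.Lib.Helper39 Groth.Agent.Lib.Helper39.GrLes
  Groth.Agent.Lib.Helper39.GrRegVanish Groth.Agent.Lib.Helper39.GrPieces
  Groth.Agent.Lib.Helper39.GrSerre Groth.Agent.Lib.Helper39.HilbPolyAux RingTheory.Sequence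

section Poly

theorem mu_Δ_le (r : ℚ) (P : ℚ[X]) : mu (Δ r P) ≤ mu P - 1 := by
  by_cases hP : P = 0
  · subst hP
    have : Δ r (0 : ℚ[X]) = 0 := by unfold Δ; simp
    rw [this]
    unfold mu
    simp
  · have := mu_sub_taylor_lt P hP (-r)
    unfold Δ
    omega

theorem mu_iterate_Δ_le (r : ℚ) (P : ℚ[X]) (k : ℕ) : mu ((Δ r)^[k] P) ≤ mu P - k := by
  induction k with
  | zero => simp
  | succ k ih =>
    rw [Function.iterate_succ_apply']
    have := mu_Δ_le r ((Δ r)^[k] P)
    omega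

end Poly

variable {R : Type u} [CommRing R] [IsNoetherianRing R] {𝒜 : ℤ → AddSubgroup R} [GradedRing 𝒜]
  (hpos : ∀ n : ℤ, n < 0 → 𝒜 n = ⊥) [IsArtinianRing (GrLC.deg0 𝒜)]

attribute [local instance] quotGradedSMul

/-- the ideal generated by the first `i` members of a list -/
abbrev J (rs : List R) (i : ℕ) : Submodule R R := Ideal.ofList (rs.take i) • (⊤ : Submodule R R)

theorem J_eq (rs : List R) (i : ℕ) : J rs i = Ideal.ofList (rs.take i) := by
  unfold J
  rw [smul_eq_mul, Ideal.mul_top]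

theorem J_isHomogeneous (rs : List R) (hdeg : ∀ r ∈ rs, r ∈ 𝒜 1) (i : ℕ) :
    (J rs i).IsHomogeneous 𝒜 := by
  rw [J_eq]
  apply Ideal.homogeneous_span
  intro r hr
  exact ⟨1, hdeg r (List.mem_of_mem_take hr)⟩

theorem J_succ (rs : List R) (i : ℕ) (hi : i < rs.length) :
    J rs (i + 1) = J rs i ⊔ Ideal.span {rs[i]} := by
  rw [J_eq, J_eq, List.take_succ_eq_append_getElem hi, Ideal.ofList_append,
    Ideal.ofList_singleton]

include hpos in
theorem hfun_quot_of_subsingleton (Q : Submodule R R) (hQ : Q.IsHomogeneous 𝒜)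
    (hsub : Subsingleton Q) (n : ℤ) : hfun 𝒜 (quotPieces 𝒜 Q) n = hfun 𝒜 𝒜 n := by
  classical
  letI decS := subDecomposition 𝒜 Q hQ
  haveI smulS := subGradedSMul 𝒜 𝒜 Q
  letI decQ := quotDecomposition 𝒜 Q hQ
  have S : GrSES (subPieces 𝒜 Q) 𝒜 (quotPieces 𝒜 Q) Q.subtype Q.mkQ :=
    { i_grHom := isGrHom_subtype 𝒜 Q
      p_grHom := isGrHom_mkQ 𝒜 Q
      i_inj := Subtype.val_injective
      p_surj := Submodule.mkQ_surjective _
      exact := by rw [Submodule.ker_mkQ, Submodule.range_subtype] }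
  haveI : Module.Finite R Q := Module.Finite.of_fg (IsNoetherian.noetherian _)
  have h1 := hfun_ses hpos S n
  have h0 : hfun 𝒜 (subPieces 𝒜 Q) n = 0 := by
    apply hfun_eq_zero_of_eq_bot
    rw [eq_bot_iff]
    intro y _
    rw [AddSubgroup.mem_bot]
    exact Subsingleton.elim _ _
  rw [h0, zero_add] at h1
  exact h1.symm

include hpos in
/-- the Hilbert functions of the successive quotients by a regular sequence of linear forms -/
theorem hfun_J (rs : List R) (hdeg : ∀ r ∈ rs, r ∈ 𝒜 1) (hreg : IsWeaklyRegular R rs)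
    (P : ℚ[X]) (hP : ∀ n : ℤ, -(rs.length : ℤ) < n → P.eval (n : ℚ) = hfun 𝒜 𝒜 n) :
    ∀ i : ℕ, i ≤ rs.length → ∀ n : ℤ, -((rs.length - i : ℕ) : ℤ) < n →
      hfun 𝒜 (quotPieces 𝒜 (J rs i)) n = ((Δ 1)^[i] P).eval (n : ℚ) := by
  classical
  intro i
  induction i with
  | zero =>
    intro _ n hn
    have hbot : J rs 0 = ⊥ := by
      rw [J_eq, List.take_zero, Ideal.ofList_nil]
    have hsub : Subsingleton (J rs 0) := by
      rw [hbot]
      infer_instance
    rw [hfun_quot_of_subsingleton hpos (J rs 0) (J_isHomogeneous rs hdeg 0) hsub n,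
      Function.iterate_zero, id_eq, hP n (by simpa using hn)]
  | succ i ih =>
    intro hi n hn
    have hi' : i < rs.length := by omega
    have hstep := hfun_quot_step hpos (hdeg _ (List.getElem_mem hi')) (J rs i) (J rs (i + 1))
      (J_isHomogeneous rs hdeg i) (J_isHomogeneous rs hdeg (i + 1)) (J_succ rs i hi')
      (hreg.regular_mod_prev i hi') n
    have hn' : -((rs.length - (i + 1) : ℕ) : ℤ) < n := hn
    have e1 : ((rs.length - (i + 1) : ℕ) : ℤ) = (rs.length : ℤ) - i - 1 := by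
      rw [Nat.cast_sub hi]; push_cast; ring
    have e2 : ((rs.length - i : ℕ) : ℤ) = (rs.length : ℤ) - i := by
      rw [Nat.cast_sub (by omega)]
    rw [hstep, ih (by omega) n (by rw [e2]; rw [e1] at hn'; omega),
      ih (by omega) (n + -1) (by rw [e2]; rw [e1] at hn'; omega),
      Function.iterate_succ_apply', Δ_eval]
    push_cast
    ring_nf

include hpos in
/-- if the Hilbert polynomial has degree `< length rs` and agrees with the Hilbert function in degrees
`> -length rs`, then the regular sequence of linear forms generates the irrelevant ideal -/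
theorem mem_J_of_pos (rs : List R) (hdeg : ∀ r ∈ rs, r ∈ 𝒜 1) (hreg : IsWeaklyRegular R rs)
    (P : ℚ[X]) (hP : ∀ n : ℤ, -(rs.length : ℤ) < n → P.eval (n : ℚ) = hfun 𝒜 𝒜 n)
    (hμ : mu P ≤ rs.length) (n : ℤ) (hn : 0 < n) (y : R) (hy : y ∈ 𝒜 n) :
    y ∈ Ideal.ofList rs := by
  classical
  have h1 := hfun_J hpos rs hdeg hreg P hP rs.length le_rfl n (by simpa using hn)
  have h2 : (Δ 1)^[rs.length] P = 0 := by
    have := mu_iterate_Δ_le 1 P rs.length
    exact (mu_eq_zero_iff _).mp (by omega)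
  rw [h2, eval_zero] at h1
  letI decQ := quotDecomposition 𝒜 (J rs rs.length) (J_isHomogeneous rs hdeg rs.length)
  have h3 : quotPieces 𝒜 (J rs rs.length) n = ⊥ := eq_bot_of_hfun_eq_zero hpos h1
  have h4 : (J rs rs.length).mkQ y ∈ quotPieces 𝒜 (J rs rs.length) n :=
    mk_mem_quotPieces 𝒜 _ hy
  rw [h3, AddSubgroup.mem_bot, Submodule.mkQ_apply, Submodule.Quotient.mk_eq_zero, J_eq,
    List.take_length] at h4
  exact h4

omit [IsNoetherianRing R] [IsArtinianRing (GrLC.deg0 𝒜)] in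
/-- linear forms in the ideal generated by linear forms are `R_0`-combinations of them -/
theorem mem_span_deg0 (rs : List R) (hdeg : ∀ r ∈ rs, r ∈ 𝒜 1) (y : R) (hy : y ∈ 𝒜 1)
    (hyJ : y ∈ Ideal.ofList rs) :
    y ∈ Submodule.span (GrLC.deg0 𝒜) {r | r ∈ rs} := by
  classical
  obtain ⟨N, f, g, rfl⟩ := Submodule.mem_span_set'.mp hyJ
  have h1 := decompose_of_mem_same 𝒜 hy
  rw [← h1, decompose_sum, DFinsupp.finsetSum_apply, AddSubmonoidClass.coe_finsetSum]
  refine Submodule.sum_mem _ (fun l _ => ?_)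
  have hgl : (g l : R) ∈ 𝒜 1 := hdeg _ (g l).2
  have h2 := coe_decompose_mul_add_of_right_mem 𝒜 (a := f l) (i := (0 : ℤ)) hgl
  rw [zero_add] at h2
  rw [smul_eq_mul, h2]
  exact Submodule.smul_mem _ (⟨(decompose 𝒜 (f l) 0 : R), SetLike.coe_mem _⟩ : GrLC.deg0 𝒜)
    (Submodule.subset_span (g l).2)

end Groth.Agent.Lib.Helper39.GrPolyRegSeq
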