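import Groth.Agent.Lib.Helper39.GrSerre3
import Mathlib.Algebra.Polynomial.Taylor

/-!
# Serre's formula for the irrelevant ideal (helper39)

`serre`: for a Noetherian positively graded ring `R` with `R_0` Artinian, `a = R_+`, `dim R ≤ D`,
a finitely generated graded module `M` with Hilbert polynomial `P`:
`H_M(n) − P(n) = ∑_{k ≤ D} (−1)^k ℓ(H^k_a(M)_n)` for all `n`.
-/

set_option autoImplicit false
universe u

namespace Groth.Agent.Lib.Helper39.GrSerre

open DirectSum GrLC Groth.Agent.Lib.Helper39 Groth.Agent.Lib.Helper39.GrLes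
  Groth.Agent.Lib.Helper39.GrRegVanish Groth.Agent.Lib.Helper39.GrPieces
  Groth.Agent.Lib.Helper39.GrTop

section Poly

/-- `0` for the zero polynomial, degree plus one otherwise -/
noncomputable def mu (P : Polynomial ℚ) : ℕ := if P = 0 then 0 else P.natDegree + 1

theorem mu_eq_zero_iff (P : Polynomial ℚ) : mu P = 0 ↔ P = 0 := by
  unfold mu
  split_ifs with h
  · simp [h]
  · simp [h]

theorem mu_sub_taylor_lt (P : Polynomial ℚ) (hP : P ≠ 0) (r : ℚ) :
    mu (P - Polynomial.taylor r P) < mu P := by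
  have h1 : (P - Polynomial.taylor r P).degree < P.degree :=
    Polynomial.degree_sub_lt_left (Polynomial.degree_taylor P r).symm hP
      (Polynomial.leadingCoeff_taylor _ _).symm
  unfold mu
  rw [if_neg hP]
  split_ifs with h
  · omega
  · have := Polynomial.natDegree_lt_natDegree h h1
    omega

theorem eq_zero_of_periodic (g : ℤ → ℚ) (e : ℤ) (he : 0 < e) (hper : ∀ n, g n = g (n + -e))
    (N : ℤ) (hN : ∀ n, N ≤ n → g n = 0) : ∀ n, g n = 0 := by
  have key : ∀ (k : ℕ) (n : ℤ), g n = g (n + k * e) := by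
    intro k
    induction k with
    | zero => intro n; simp
    | succ k ih =>
      intro n
      rw [ih n, hper (n + ((k + 1 : ℕ) : ℤ) * e)]
      congr 1
      push_cast
      ring
  intro n
  rw [key (N - n).toNat n]
  apply hN
  have h1 : ((N - n).toNat : ℤ) ≥ N - n := Int.self_le_toNat _
  have h2 : (0 : ℤ) ≤ ((N - n).toNat : ℤ) := Int.natCast_nonneg _
  nlinarith

end Poly

section Main
variable {R : Type u} [CommRing R] [IsNoetherianRing R] {𝒜 : ℤ → AddSubgroup R} [GradedRing 𝒜]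
  (hpos : ∀ n : ℤ, n < 0 → 𝒜 n = ⊥) [IsArtinianRing (GrLC.deg0 𝒜)]
  (a : HomogeneousIdeal 𝒜) (ha : a.toIdeal = Ideal.span (⋃ n ∈ Set.Ioi (0 : ℤ), (𝒜 n : Set R)))
  (D : ℕ) (hD : ringKrullDim R ≤ D)

include hpos in
theorem eq_bot_of_hfun_eq_zero {M : Type u} [AddCommGroup M] [Module R M] [Module.Finite R M]
    {ℳ : ℤ → AddSubgroup M} [DirectSum.Decomposition ℳ] [SetLike.GradedSMul 𝒜 ℳ] {n : ℤ}
    (h : hfun 𝒜 ℳ n = 0) : ℳ n = ⊥ := by
  unfold hfun at h
  have h1 : (Module.length (GrLC.deg0 𝒜) (GrLC.comp 𝒜 ℳ n)).toNat = 0 := by exact_mod_cast h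
  rw [ENat.toNat_eq_zero] at h1
  rcases h1 with h1 | h1
  · rw [Module.length_eq_zero_iff] at h1
    rw [eq_bot_iff]
    intro x hx
    have : (⟨x, hx⟩ : GrLC.comp 𝒜 ℳ n) = 0 := Subsingleton.elim _ _
    exact congrArg Subtype.val this
  · exact absurd h1 (length_comp_ne_top hpos n)

omit [IsNoetherianRing R] [IsArtinianRing (GrLC.deg0 𝒜)] in
theorem hfun_eq_zero_of_eq_bot {M : Type u} [AddCommGroup M] [Module R M]
    {ℳ : ℤ → AddSubgroup M} [DirectSum.Decomposition ℳ] [SetLike.GradedSMul 𝒜 ℳ] {n : ℤ}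
    (h : ℳ n = ⊥) : hfun 𝒜 ℳ n = 0 := by
  unfold hfun
  have : Module.length (GrLC.deg0 𝒜) (GrLC.comp 𝒜 ℳ n) = 0 := by
    rw [Module.length_eq_zero_iff]
    refine ⟨fun x y => Subtype.ext ?_⟩
    have hx : (x : M) ∈ ℳ n := x.2
    have hy : (y : M) ∈ ℳ n := y.2
    rw [h, AddSubgroup.mem_bot] at hx hy
    rw [hx, hy]
  rw [this]
  simp

include hpos ha in
/-- the case of the zero Hilbert polynomial -/
theorem serre_zero {M : Type u} [AddCommGroup M] [Module R M] [Module.Finite R M]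
    {ℳ : ℤ → AddSubgroup M} [DirectSum.Decomposition ℳ] [SetLike.GradedSMul 𝒜 ℳ]
    (E : StarInjRes 𝒜 ℳ) (hN : ∃ N : ℤ, ∀ n : ℤ, N ≤ n → hfun 𝒜 ℳ n = 0) (n : ℤ) :
    hfun 𝒜 ℳ n = chi a D E n := by
  obtain ⟨N, hN⟩ := hN
  have hbot : ∀ n, N ≤ n → ℳ n = ⊥ := fun n hn => eq_bot_of_hfun_eq_zero hpos (hN n hn)
  have htor := GrNak.torsion_of_eventually_bot 𝒜 ℳ a.toIdeal ha hbot
  exact (chi_torsion a D E htor n).symm

attribute [local instance] shiftDecomposition shiftGradedSMul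

include hpos ha hD in
/-- the induction step in the torsion-free case -/
theorem serre_tf_step (μ : ℕ)
    (IH : ∀ (M : Type u) [AddCommGroup M] [Module R M] [Module.Finite R M]
      (ℳ : ℤ → AddSubgroup M) [DirectSum.Decomposition ℳ] [SetLike.GradedSMul 𝒜 ℳ]
      (E : StarInjRes 𝒜 ℳ) (P : Polynomial ℚ), mu P ≤ μ →
      (∃ N : ℤ, ∀ n : ℤ, N ≤ n → P.eval (n : ℚ) = hfun 𝒜 ℳ n) →
      ∀ n : ℤ, hfun 𝒜 ℳ n - P.eval (n : ℚ) = chi a D E n)
    (M : Type u) [AddCommGroup M] [Module R M] [Module.Finite R M]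
    (ℳ : ℤ → AddSubgroup M) [DirectSum.Decomposition ℳ] [SetLike.GradedSMul 𝒜 ℳ]
    (hΓ : gam a.toIdeal M = ⊥)
    (E : StarInjRes 𝒜 ℳ) (P : Polynomial ℚ) (hμ : mu P ≤ μ + 1) (hP0 : P ≠ 0)
    (hP : ∃ N : ℤ, ∀ n : ℤ, N ≤ n → P.eval (n : ℚ) = hfun 𝒜 ℳ n) :
    ∀ n : ℤ, hfun 𝒜 ℳ n - P.eval (n : ℚ) = chi a D E n := by
  classical
  obtain ⟨e, x, he, hxe, hreg⟩ := exists_homogeneous_regular 𝒜 (M := M) a.toIdeal ha hpos hΓ
  -- the quotient by `x`
  let Q : Submodule R M := LinearMap.range (x • (LinearMap.id : M →ₗ[R] M))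
  have hQ : Q.IsHomogeneous ℳ := range_smul_isHomogeneous (𝒜 := 𝒜) hxe
  letI decN := quotDecomposition ℳ Q hQ
  haveI smulN := quotGradedSMul 𝒜 ℳ Q
  obtain ⟨F⟩ := Groth.Agent.S13215.result R 𝒜 (M ⧸ Q) (quotPieces ℳ Q)
  have hxg : IsGrHom (shiftPieces ℳ (-e)) ℳ (x • (LinearMap.id : M →ₗ[R] M)) := by
    intro j m hm
    have := SetLike.GradedSMul.smul_mem (A := 𝒜) (B := ℳ) hxe hm
    rw [vadd_eq_add, add_neg_cancel_comm_assoc] at this
    exact this
  have S : GrSES (shiftPieces ℳ (-e)) ℳ (quotPieces ℳ Q) (x • (LinearMap.id : M →ₗ[R] M)) Q.mkQ :=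
    { i_grHom := hxg
      p_grHom := isGrHom_mkQ ℳ Q
      i_inj := hreg
      p_surj := Submodule.mkQ_surjective _
      exact := Submodule.ker_mkQ Q }
  -- the Hilbert function of the quotient
  have hfunN : ∀ n, hfun 𝒜 (quotPieces ℳ Q) n = hfun 𝒜 ℳ n - hfun 𝒜 ℳ (n + -e) := by
    intro n
    have h1 := hfun_ses hpos S n
    rw [hfun_shift] at h1
    linarith
  -- the Hilbert polynomial of the quotient
  set PN : Polynomial ℚ := P - Polynomial.taylor (-(e : ℚ)) P with hPN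
  have hPNeval : ∀ n : ℤ, PN.eval (n : ℚ) = P.eval (n : ℚ) - P.eval ((n + -e : ℤ) : ℚ) := by
    intro n
    rw [hPN, Polynomial.eval_sub, Polynomial.taylor_eval]
    push_cast
    rfl
  have hμN : mu PN ≤ μ := by
    have := mu_sub_taylor_lt P hP0 (-(e : ℚ))
    rw [← hPN] at this
    omega
  obtain ⟨N, hN⟩ := hP
  have hPN' : ∃ N' : ℤ, ∀ n : ℤ, N' ≤ n → PN.eval (n : ℚ) = hfun 𝒜 (quotPieces ℳ Q) n := by
    refine ⟨N + e, fun n hn => ?_⟩
    rw [hPNeval, hfunN, hN n (by omega), hN (n + -e) (by omega)]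
  have hIH := IH (M ⧸ Q) (quotPieces ℳ Q) F PN hμN hPN'
  -- the Euler characteristic
  have heul : ∀ n, chi a D E (n + -e) - chi a D E n + chi a D F n = 0 := by
    intro n
    have := euler_ses hpos a ha D hD S (shiftRes E (-e)) E F n
    rwa [chi_shift] at this
  -- periodicity
  obtain ⟨N₂, hN₂⟩ := chi_eventually_zero hpos a ha D E
  have hg := eq_zero_of_periodic (fun n => hfun 𝒜 ℳ n - P.eval (n : ℚ) - chi a D E n) e he
    (by
      intro n
      have h1 := hIH n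
      have h2 := heul n
      have h3 := hfunN n
      have h4 := hPNeval n
      beta_reduce
      linarith)
    (max N N₂) (by
      intro n hn
      beta_reduce
      rw [hN n (le_trans (le_max_left _ _) hn), hN₂ n (le_trans (le_max_right _ _) hn)]
      ring)
  intro n
  have := hg n
  beta_reduce at this
  linarith

include hpos ha hD in
theorem serre_aux : ∀ (μ : ℕ) (M : Type u) [AddCommGroup M] [Module R M] [Module.Finite R M]
    (ℳ : ℤ → AddSubgroup M) [DirectSum.Decomposition ℳ] [SetLike.GradedSMul 𝒜 ℳ]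
    (E : StarInjRes 𝒜 ℳ) (P : Polynomial ℚ), mu P ≤ μ →
    (∃ N : ℤ, ∀ n : ℤ, N ≤ n → P.eval (n : ℚ) = hfun 𝒜 ℳ n) →
    ∀ n : ℤ, hfun 𝒜 ℳ n - P.eval (n : ℚ) = chi a D E n := by
  classical
  intro μ
  induction μ with
  | zero =>
    intro M _ _ _ ℳ _ _ E P hμ hP n
    have hP0 : P = 0 := (mu_eq_zero_iff P).mp (by omega)
    subst hP0
    obtain ⟨N, hN⟩ := hP
    rw [Polynomial.eval_zero, sub_zero]
    exact serre_zero hpos a ha D E ⟨N, fun n hn => by rw [← hN n hn, Polynomial.eval_zero]⟩ n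
  | succ μ ih =>
    intro M _ _ _ ℳ _ _ E P hμ hP n
    by_cases hP0 : P = 0
    · subst hP0
      obtain ⟨N, hN⟩ := hP
      rw [Polynomial.eval_zero, sub_zero]
      exact serre_zero hpos a ha D E ⟨N, fun n hn => by rw [← hN n hn, Polynomial.eval_zero]⟩ n
    · -- reduce modulo torsion
      have hT := gam_isHomogeneous 𝒜 ℳ a
      letI decT := subDecomposition ℳ (gam a.toIdeal M) hT
      haveI smulT := subGradedSMul 𝒜 ℳ (gam a.toIdeal M)
      letI decQ := quotDecomposition ℳ (gam a.toIdeal M) hT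
      haveI smulQ := quotGradedSMul 𝒜 ℳ (gam a.toIdeal M)
      obtain ⟨ET⟩ := Groth.Agent.S13215.result R 𝒜 (gam a.toIdeal M) (subPieces ℳ (gam a.toIdeal M))
      obtain ⟨EQ⟩ := Groth.Agent.S13215.result R 𝒜 (M ⧸ gam a.toIdeal M)
        (quotPieces ℳ (gam a.toIdeal M))
      have S : GrSES (subPieces ℳ (gam a.toIdeal M)) ℳ (quotPieces ℳ (gam a.toIdeal M))
          (gam a.toIdeal M).subtype (gam a.toIdeal M).mkQ :=
        { i_grHom := isGrHom_subtype ℳ (gam a.toIdeal M)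
          p_grHom := isGrHom_mkQ ℳ (gam a.toIdeal M)
          i_inj := Subtype.val_injective
          p_surj := Submodule.mkQ_surjective _
          exact := by rw [Submodule.ker_mkQ, Submodule.range_subtype] }
      haveI : IsNoetherian R M := isNoetherian_of_isNoetherianRing_of_finite R M
      haveI : Module.Finite R (gam a.toIdeal M) := Module.Finite.of_fg (IsNoetherian.noetherian _)
      have htor : ∀ x : gam a.toIdeal M, ∃ k : ℕ, ∀ r ∈ a.toIdeal ^ k, r • x = 0 := by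
        rintro ⟨x, k, hk⟩
        exact ⟨k, fun r hr => Subtype.ext (hk r hr)⟩
      have e1 := euler_ses hpos a ha D hD S ET E EQ
      have e2 := chi_torsion a D ET htor
      have e3 := hfun_ses hpos S
      obtain ⟨NT, hNT⟩ := eventually_bot_of_torsion' 𝒜 (subPieces ℳ (gam a.toIdeal M)) a.toIdeal ha htor
      have hΓ : gam a.toIdeal (M ⧸ gam a.toIdeal M) = ⊥ :=
        Groth.Agent.Lib.Helper60.torsionSub_quotient_eq_bot a.toIdeal M
      obtain ⟨N, hN⟩ := hP
      have hPQ : ∃ N' : ℤ, ∀ n : ℤ, N' ≤ n →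
          P.eval (n : ℚ) = hfun 𝒜 (quotPieces ℳ (gam a.toIdeal M)) n := by
        refine ⟨max N NT, fun n hn => ?_⟩
        rw [hN n (le_trans (le_max_left _ _) hn), e3 n,
          hfun_eq_zero_of_eq_bot (hNT n (le_trans (le_max_right _ _) hn)), zero_add]
      have key := serre_tf_step hpos a ha D hD μ ih (M ⧸ gam a.toIdeal M)
        (quotPieces ℳ (gam a.toIdeal M)) hΓ EQ P hμ hP0 hPQ n
      have h1 := e1 n
      have h2 := e2 n
      have h3 := e3 n
      linarith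

include hpos ha hD in
/-- **Serre's formula** (for the irrelevant ideal). -/
theorem serre (M : Type u) [AddCommGroup M] [Module R M] [Module.Finite R M]
    (ℳ : ℤ → AddSubgroup M) [DirectSum.Decomposition ℳ] [SetLike.GradedSMul 𝒜 ℳ]
    (E : StarInjRes 𝒜 ℳ) (P : Polynomial ℚ)
    (hP : ∃ N : ℤ, ∀ n : ℤ, N ≤ n → P.eval (n : ℚ) = hfun 𝒜 ℳ n) (n : ℤ) :
    hfun 𝒜 ℳ n - P.eval (n : ℚ) = chi a D E n :=
  serre_aux hpos a ha D hD (mu P) M ℳ E P le_rfl hP n

end Main

end Groth.Agent.Lib.Helper39.GrSerre
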