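import Mathlib
import Groth.Agent.Lib.Helper39.GrSerre4
import Groth.Agent.Lib.Helper17.HomogRank

/-!
# Standard graded rings as quotients of polynomial rings (helper39)

`R` positively `ℤ`-graded with irrelevant ideal generated in degree one.
* `mem_adjoin_of_mem`: `R` is generated over `R_0` by `R_1`;
* `aeval_surjective`: a spanning family of `R_1` induces a surjection from a polynomial ring;
* `injective_of_dim`: a surjection from a domain onto a ring of the same finite dimension is injective;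
* `aeval_mem`: homogeneous polynomials in linear forms are homogeneous;
* `hfun_eq_choose`: the Hilbert function of a polynomial ring over a field.
-/

set_option autoImplicit false
universe u

namespace Groth.Agent.Lib.Helper39.GrStdPoly

open DirectSum GrLC Groth.Agent.Lib.Helper39 Groth.Agent.Lib.Helper39.GrSerre

/-- a surjection from a domain onto a ring of the same finite dimension is injective -/
theorem injective_of_dim {S R : Type*} [CommRing S] [IsDomain S] [CommRing R] (φ : S →+* R)
    (hφ : Function.Surjective φ) (n : ℕ) (hS : ringKrullDim S = n) (hR : ringKrullDim R = n) :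
    Function.Injective φ := by
  rw [injective_iff_map_eq_zero]
  intro f hf
  by_contra hne
  have h1 := ringKrullDim_succ_le_of_surjective φ hφ (mem_nonZeroDivisors_of_ne_zero hne) hf
  rw [hS, hR] at h1
  have h2 : ((n + 1 : ℕ) : WithBot ℕ∞) ≤ ((n : ℕ) : WithBot ℕ∞) := by exact_mod_cast h1
  have h3 : n + 1 ≤ n := by exact_mod_cast h2
  omega

/-- the length of the space of homogeneous polynomials of degree `n` over a field -/
theorem length_homogeneousSubmodule (K : Type u) [CommRing K] (hK : IsField K) (r' n : ℕ) :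
    Module.length K ↥(MvPolynomial.homogeneousSubmodule (Fin (r' + 1)) K n) =
      (((n + r').choose r' : ℕ) : ℕ∞) := by
  letI : Field K := hK.toField
  have hfr : Module.finrank K ↥(MvPolynomial.homogeneousSubmodule (Fin (r' + 1)) K n) =
      (n + r').choose r' :=
    Groth.Agent.Lib.Helper17.HomogRank.finrank_homogeneousSubmodule K r' n
  haveI : Module.Finite K ↥(MvPolynomial.homogeneousSubmodule (Fin (r' + 1)) K n) :=
    Module.finite_of_finrank_pos (by rw [hfr]; exact Nat.choose_pos (by omega))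
  rw [Module.length_eq_finrank, hfr]

variable {R : Type u} [CommRing R] {𝒜 : ℤ → AddSubgroup R} [GradedRing 𝒜]
  (hpos : ∀ n : ℤ, n < 0 → 𝒜 n = ⊥)
  (hstd : Ideal.span (⋃ n ∈ Set.Ioi (0 : ℤ), (𝒜 n : Set R)) =
    Ideal.span ((𝒜 1 : AddSubgroup R) : Set R))

include hstd in
/-- a standard graded ring is generated by its degree one part -/
theorem mem_adjoin_of_mem : ∀ (n : ℕ) (x : R), x ∈ 𝒜 (n : ℤ) →
    x ∈ Algebra.adjoin (GrLC.deg0 𝒜) ((𝒜 1 : AddSubgroup R) : Set R) := by
  classical
  intro n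
  induction n with
  | zero =>
    intro x hx
    exact Subalgebra.algebraMap_mem _ (⟨x, hx⟩ : GrLC.deg0 𝒜)
  | succ n ih =>
    intro x hx
    have hx' : x ∈ 𝒜 ((n : ℤ) + 1) := by exact_mod_cast hx
    have hirr : x ∈ Ideal.span ((𝒜 1 : AddSubgroup R) : Set R) := by
      rw [← hstd]
      apply Ideal.subset_span
      simp only [Set.mem_iUnion, Set.mem_Ioi]
      exact ⟨(n : ℤ) + 1, by omega, hx'⟩
    obtain ⟨N, f, g, rfl⟩ := Submodule.mem_span_set'.mp hirr
    have h1 := decompose_of_mem_same 𝒜 hx'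
    rw [← h1, decompose_sum, DFinsupp.finsetSum_apply, AddSubmonoidClass.coe_finsetSum]
    refine Subalgebra.sum_mem _ (fun l _ => ?_)
    have hgl : (g l : R) ∈ 𝒜 1 := (g l).2
    have h2 := coe_decompose_mul_add_of_right_mem 𝒜 (a := f l) (i := (n : ℤ)) hgl
    rw [smul_eq_mul, h2]
    exact Subalgebra.mul_mem _ (ih _ (SetLike.coe_mem _)) (Algebra.subset_adjoin hgl)

include hpos hstd in
theorem aeval_surjective {s : ℕ} (x : Fin s → R)
    (hspan : ∀ y ∈ 𝒜 1, y ∈ Submodule.span (GrLC.deg0 𝒜) (Set.range x)) :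
    Function.Surjective
      (MvPolynomial.aeval x : MvPolynomial (Fin s) (GrLC.deg0 𝒜) →ₐ[GrLC.deg0 𝒜] R) := by
  classical
  set φ : MvPolynomial (Fin s) (GrLC.deg0 𝒜) →ₐ[GrLC.deg0 𝒜] R := MvPolynomial.aeval x with hφ
  have hx : ∀ i, x i ∈ φ.range := fun i =>
    (AlgHom.mem_range φ).mpr ⟨MvPolynomial.X i, MvPolynomial.aeval_X x i⟩
  have h1 : ((𝒜 1 : AddSubgroup R) : Set R) ⊆ φ.range := by
    intro y hy
    have := hspan y hy
    have hle : Submodule.span (GrLC.deg0 𝒜) (Set.range x) ≤ Subalgebra.toSubmodule φ.range := by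
      rw [Submodule.span_le]
      rintro _ ⟨i, rfl⟩
      exact hx i
    exact hle this
  have h2 : Algebra.adjoin (GrLC.deg0 𝒜) ((𝒜 1 : AddSubgroup R) : Set R) ≤ φ.range :=
    Algebra.adjoin_le h1
  intro r
  have : r ∈ φ.range := by
    rw [← sum_support_decompose 𝒜 r]
    refine Subalgebra.sum_mem _ (fun i _ => ?_)
    by_cases hi : i < 0
    · have hmem : (decompose 𝒜 r i : R) ∈ 𝒜 i := SetLike.coe_mem _
      generalize (decompose 𝒜 r i : R) = y at hmem ⊢
      rw [hpos i hi, AddSubgroup.mem_bot] at hmem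
      rw [hmem]
      exact zero_mem _
    · apply h2
      have hi' : ((i.toNat : ℕ) : ℤ) = i := Int.toNat_of_nonneg (by omega)
      apply mem_adjoin_of_mem hstd i.toNat
      rw [hi']
      exact SetLike.coe_mem _
  exact this

/-- homogeneous polynomials in linear forms are homogeneous -/
theorem aeval_mem {s : ℕ} (x : Fin s → R) (hx : ∀ i, x i ∈ 𝒜 1) (n : ℕ)
    (p : MvPolynomial (Fin s) (GrLC.deg0 𝒜)) (hp : p.IsHomogeneous n) :
    MvPolynomial.aeval x p ∈ 𝒜 (n : ℤ) := by
  classical
  rw [MvPolynomial.aeval_def, MvPolynomial.eval₂_eq]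
  refine sum_mem (fun d hd => ?_)
  have hdeg : d.degree = n := by
    have := hp (MvPolynomial.mem_support_iff.mp hd)
    rw [Finsupp.degree_eq_weight_one]
    exact this
  have h1 : ∏ i ∈ d.support, x i ^ d i ∈ 𝒜 (∑ i ∈ d.support, d i • (1 : ℤ)) :=
    SetLike.prod_pow_mem_graded 𝒜 (fun _ => (1 : ℤ)) x (F := d.support) (⇑d) (fun i _ => hx i)
  have h2 : (∑ i ∈ d.support, d i • (1 : ℤ)) = (n : ℤ) := by
    rw [← hdeg, Finsupp.degree]
    simp
  rw [h2] at h1
  have h3 : (algebraMap (GrLC.deg0 𝒜) R (p.coeff d)) ∈ 𝒜 0 := (p.coeff d).2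
  have := SetLike.mul_mem_graded h3 h1
  rwa [zero_add] at this

/-- a bijective `aeval` in linear forms identifies the homogeneous pieces -/
theorem length_piece_eq_homog {s : ℕ} (x : Fin s → R) (hx : ∀ i, x i ∈ 𝒜 1)
    (hbij : Function.Bijective
      (MvPolynomial.aeval x : MvPolynomial (Fin s) (GrLC.deg0 𝒜) →ₐ[GrLC.deg0 𝒜] R))
    (n : ℕ) : Module.length (GrLC.deg0 𝒜) ↥(GrLC.comp 𝒜 𝒜 (n : ℤ)) =
      Module.length (GrLC.deg0 𝒜)
        ↥(MvPolynomial.homogeneousSubmodule (Fin s) (GrLC.deg0 𝒜) n) := by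
  classical
  set φ : MvPolynomial (Fin s) (GrLC.deg0 𝒜) →ₐ[GrLC.deg0 𝒜] R := MvPolynomial.aeval x
    with hφ
  let f : ↥(MvPolynomial.homogeneousSubmodule (Fin s) (GrLC.deg0 𝒜) n) →ₗ[GrLC.deg0 𝒜]
      ↥(GrLC.comp 𝒜 𝒜 (n : ℤ)) :=
    (φ.toLinearMap.domRestrict _).codRestrict _ (fun p => aeval_mem x hx n p.1
      ((MvPolynomial.mem_homogeneousSubmodule n p.1).mp p.2))
  have hf : Function.Bijective f := by
    constructor
    · intro p q hpq
      apply Subtype.ext
      apply hbij.1
      exact congrArg Subtype.val hpq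
    · rintro ⟨y, hy⟩
      obtain ⟨p, rfl⟩ := hbij.2 y
      refine ⟨⟨MvPolynomial.homogeneousComponent n p,
        (MvPolynomial.mem_homogeneousSubmodule n _).mpr
          (MvPolynomial.homogeneousComponent_isHomogeneous n p)⟩, ?_⟩
      apply Subtype.ext
      change φ (MvPolynomial.homogeneousComponent n p) = φ p
      have hsum : φ p = ∑ i ∈ Finset.range (p.totalDegree + 1),
          φ (MvPolynomial.homogeneousComponent i p) := by
        conv_lhs => rw [← MvPolynomial.sum_homogeneousComponent p]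
        rw [map_sum]
      have hmem : ∀ i : ℕ, φ (MvPolynomial.homogeneousComponent i p) ∈ 𝒜 (i : ℤ) := fun i =>
        aeval_mem x hx i _ (MvPolynomial.homogeneousComponent_isHomogeneous i p)
      have hy' : φ p ∈ 𝒜 (n : ℤ) := hy
      have h1 := decompose_of_mem_same 𝒜 hy'
      rw [← h1, hsum, decompose_sum, DFinsupp.finsetSum_apply, AddSubmonoidClass.coe_finsetSum]
      by_cases hn : n ∈ Finset.range (p.totalDegree + 1)
      · rw [Finset.sum_eq_single n]
        · rw [decompose_of_mem_same 𝒜 (hmem n)]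
        · intro i _ hin
          rw [decompose_of_mem_ne 𝒜 (hmem i) (by exact_mod_cast hin)]
        · intro h
          exact absurd hn h
      · rw [Finset.sum_eq_zero]
        · rw [MvPolynomial.homogeneousComponent_eq_zero _ _ (by
            rw [Finset.mem_range] at hn; omega), map_zero]
        · intro i hi
          have hin : i ≠ n := fun h => hn (h ▸ hi)
          rw [decompose_of_mem_ne 𝒜 (hmem i) (by exact_mod_cast hin)]
  exact ((LinearEquiv.ofBijective f hf).length_eq).symm

/-- the Hilbert function of a polynomial ring over a field -/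
theorem hfun_eq_choose (h0 : IsField (GrLC.deg0 𝒜)) {r' : ℕ} (x : Fin (r' + 1) → R)
    (hx : ∀ i, x i ∈ 𝒜 1)
    (hbij : Function.Bijective
      (MvPolynomial.aeval x : MvPolynomial (Fin (r' + 1)) (GrLC.deg0 𝒜) →ₐ[GrLC.deg0 𝒜] R))
    (n : ℕ) : hfun 𝒜 𝒜 (n : ℤ) = (((n + r').choose r' : ℕ) : ℚ) := by
  classical
  unfold hfun
  rw [length_piece_eq_homog x hx hbij n, length_homogeneousSubmodule (GrLC.deg0 𝒜) h0 r' n]
  simp

end Groth.Agent.Lib.Helper39.GrStdPoly
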