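import Groth.Agent.Lib.Helper39.GrPolyRegSeq2
import Groth.Agent.Lib.Helper39.GrStdPoly

/-!
# Injectivity of a graded surjection from a polynomial ring via lengths (helper39)
-/

set_option autoImplicit false
universe u

namespace Groth.Agent.Lib.Helper39.GrPolyRegSeq

open DirectSum GrLC Groth.Agent.Lib.Helper39 Groth.Agent.Lib.Helper39.GrSerre
  Groth.Agent.Lib.Helper39.GrStdPoly

/-- the length of the module of homogeneous polynomials of degree `n` -/
theorem length_homog (K : Type u) [CommRing K] (r' n : ℕ) :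
    Module.length K ↥(MvPolynomial.homogeneousSubmodule (Fin (r' + 1)) K n) =
      (((n + r').choose r' : ℕ) : ℕ∞) * Module.length K K := by
  classical
  let s : Set (Fin (r' + 1) →₀ ℕ) := {μ | μ.degree = n}
  letI : Fintype s := Fintype.ofFinset ((Finset.univ : Finset (Fin (r' + 1))).finsuppAntidiag n)
    (fun μ => Groth.Agent.Lib.Helper17.HomogRank.mem_antidiag_iff r' n μ)
  have e1 : MvPolynomial.homogeneousSubmodule (Fin (r' + 1)) K n ≃ₗ[K] (s →₀ K) :=
    (LinearEquiv.ofEq _ _
      (MvPolynomial.homogeneousSubmodule_eq_finsupp_supported (Fin (r' + 1)) K n)).trans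
      (AddMonoidAlgebra.supportedEquivFinsupp s)
  rw [e1.length_eq, Module.length_finsupp, ENat.card_eq_coe_fintype_card, Fintype.card_ofFinset,
    Finset.card_finsuppAntidiag_nat_eq_choose, Finset.card_univ, Fintype.card_fin]
  have : r' + 1 + n - 1 = n + r' := by omega
  rw [this, Nat.choose_symm_add]

variable {R : Type u} [CommRing R] {𝒜 : ℤ → AddSubgroup R} [GradedRing 𝒜]

/-- the restriction of `aeval` in linear forms to homogeneous pieces -/
noncomputable def hpieceMap {s : ℕ} (x : Fin s → R) (hx : ∀ i, x i ∈ 𝒜 1) (n : ℕ) :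
    ↥(MvPolynomial.homogeneousSubmodule (Fin s) (GrLC.deg0 𝒜) n) →ₗ[GrLC.deg0 𝒜]
      ↥(GrLC.comp 𝒜 𝒜 (n : ℤ)) :=
  ((MvPolynomial.aeval x : MvPolynomial (Fin s) (GrLC.deg0 𝒜) →ₐ[GrLC.deg0 𝒜] R).toLinearMap.domRestrict
    _).codRestrict _ (fun p => aeval_mem x hx n p.1
      ((MvPolynomial.mem_homogeneousSubmodule n p.1).mp p.2))

theorem hpieceMap_coe {s : ℕ} (x : Fin s → R) (hx : ∀ i, x i ∈ 𝒜 1) (n : ℕ)
    (p : ↥(MvPolynomial.homogeneousSubmodule (Fin s) (GrLC.deg0 𝒜) n)) :
    ((hpieceMap x hx n p : GrLC.comp 𝒜 𝒜 (n : ℤ)) : R) = MvPolynomial.aeval x p.1 :=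
  rfl

/-- `aeval` of the degree `n` component is the degree `n` component of `aeval` -/
theorem aeval_homogeneousComponent {s : ℕ} (x : Fin s → R) (hx : ∀ i, x i ∈ 𝒜 1) (n : ℕ)
    (p : MvPolynomial (Fin s) (GrLC.deg0 𝒜)) :
    MvPolynomial.aeval x (MvPolynomial.homogeneousComponent n p) =
      (decompose 𝒜 (MvPolynomial.aeval x p) (n : ℤ) : R) := by
  classical
  set φ : MvPolynomial (Fin s) (GrLC.deg0 𝒜) →ₐ[GrLC.deg0 𝒜] R := MvPolynomial.aeval x with hφ
  have hsum : φ p = ∑ i ∈ Finset.range (p.totalDegree + 1),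
      φ (MvPolynomial.homogeneousComponent i p) := by
    conv_lhs => rw [← MvPolynomial.sum_homogeneousComponent p]
    rw [map_sum]
  have hmem : ∀ i : ℕ, φ (MvPolynomial.homogeneousComponent i p) ∈ 𝒜 (i : ℤ) := fun i =>
    aeval_mem x hx i _ (MvPolynomial.homogeneousComponent_isHomogeneous i p)
  rw [hsum, decompose_sum, DFinsupp.finsetSum_apply, AddSubmonoidClass.coe_finsetSum]
  by_cases hn : n ∈ Finset.range (p.totalDegree + 1)
  · rw [Finset.sum_eq_single n]
    · rw [decompose_of_mem_same 𝒜 (hmem n)]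
    · intro i _ hin
      rw [decompose_of_mem_ne 𝒜 (hmem i) (by exact_mod_cast hin)]
    · intro h
      exact absurd hn h
  · rw [Finset.sum_eq_zero]
    · rw [MvPolynomial.homogeneousComponent_eq_zero _ _ (by
        rw [Finset.mem_range] at hn; omega), map_zero]
    · intro i hi
      have hin : i ≠ n := fun h => hn (h ▸ hi)
      rw [decompose_of_mem_ne 𝒜 (hmem i) (by exact_mod_cast hin)]

theorem hpieceMap_surjective {s : ℕ} (x : Fin s → R) (hx : ∀ i, x i ∈ 𝒜 1)
    (hsurj : Function.Surjective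
      (MvPolynomial.aeval x : MvPolynomial (Fin s) (GrLC.deg0 𝒜) →ₐ[GrLC.deg0 𝒜] R)) (n : ℕ) :
    Function.Surjective (hpieceMap x hx n) := by
  rintro ⟨y, hy⟩
  obtain ⟨p, rfl⟩ := hsurj y
  refine ⟨⟨MvPolynomial.homogeneousComponent n p,
    (MvPolynomial.mem_homogeneousSubmodule n _).mpr
      (MvPolynomial.homogeneousComponent_isHomogeneous n p)⟩, ?_⟩
  apply Subtype.ext
  rw [hpieceMap_coe]
  change MvPolynomial.aeval x (MvPolynomial.homogeneousComponent n p) = MvPolynomial.aeval x p
  rw [aeval_homogeneousComponent x hx n p]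
  exact decompose_of_mem_same 𝒜 hy

theorem aeval_injective_of_pieceMap {s : ℕ} (x : Fin s → R) (hx : ∀ i, x i ∈ 𝒜 1)
    (h : ∀ n, Function.Injective (hpieceMap x hx n)) :
    Function.Injective
      (MvPolynomial.aeval x : MvPolynomial (Fin s) (GrLC.deg0 𝒜) →ₐ[GrLC.deg0 𝒜] R) := by
  rw [injective_iff_map_eq_zero]
  intro p hp
  rw [← MvPolynomial.sum_homogeneousComponent p]
  refine Finset.sum_eq_zero (fun n _ => ?_)
  have h1 := aeval_homogeneousComponent x hx n p
  rw [hp, decompose_zero, DirectSum.zero_apply, ZeroMemClass.coe_zero] at h1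
  have h2 : hpieceMap x hx n ⟨MvPolynomial.homogeneousComponent n p,
      (MvPolynomial.mem_homogeneousSubmodule n _).mpr
        (MvPolynomial.homogeneousComponent_isHomogeneous n p)⟩ = 0 := by
    apply Subtype.ext
    rw [hpieceMap_coe]
    exact h1
  have h3 := h n (h2.trans (LinearMap.map_zero (hpieceMap x hx n)).symm)
  exact congrArg Subtype.val h3

/-- a surjection between modules of the same finite length is injective -/
theorem injective_of_length_eq {K : Type*} [Ring K] {V W : Type*} [AddCommGroup V] [Module K V]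
    [AddCommGroup W] [Module K W] (f : V →ₗ[K] W) (hf : Function.Surjective f)
    (hlen : Module.length K V = Module.length K W) (hfin : Module.length K W ≠ ⊤) :
    Function.Injective f := by
  have h1 := Module.length_eq_add_of_exact (LinearMap.ker f).subtype f
    (Submodule.subtype_injective _) hf (LinearMap.exact_subtype_ker_map f)
  rw [hlen] at h1
  have h2 : Module.length K (LinearMap.ker f) = 0 := by
    have : (0 : ℕ∞) + Module.length K W = Module.length K (LinearMap.ker f) + Module.length K W := by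
      rw [zero_add]; exact h1
    exact (ENat.add_left_injective_of_ne_top hfin this).symm
  rw [Module.length_eq_zero_iff] at h2
  rw [← LinearMap.ker_eq_bot]
  exact Submodule.subsingleton_iff_eq_bot.mp h2

end Groth.Agent.Lib.Helper39.GrPolyRegSeq
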