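import Groth.Agent.Lib.Helper39.GrPolyRegSeq3
import Groth.Agent.Lib.Helper39.GrAInvPoly4

/-!
# `a(R) = -dim R` implies `R` is a polynomial ring over `R_0` (Artinian `R_0`, infinite residue field)
(helper39)
-/

set_option autoImplicit false
universe u

namespace Groth.Agent.Lib.Helper39.GrPolyRegSeq

open DirectSum GrLC Polynomial Groth.Agent.Lib.Helper39 Groth.Agent.Lib.Helper39.GrSerre
  Groth.Agent.Lib.Helper39.GrStdPoly Groth.Agent.Lib.Helper39.HilbPolyAux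
  Groth.Agent.Lib.Helper39.GrAInvPoly

variable (R : Type u) [CommRing R] [LocCoh.IsCohenMacaulayRing R] (𝒜 : ℤ → AddSubgroup R)
  [GradedRing 𝒜] (hpos : ∀ n : ℤ, n < 0 → 𝒜 n = ⊥)
  (hstd : Ideal.span (⋃ n ∈ Set.Ioi (0 : ℤ), (𝒜 n : Set R)) =
    Ideal.span ((𝒜 1 : AddSubgroup R) : Set R))
  [IsArtinianRing (GrLC.deg0 𝒜)] (m : HomogeneousIdeal 𝒜) (hm : GrLC.IsStarLocal 𝒜 m)
  (hinf : Infinite (R ⧸ m.toIdeal)) (d : ℕ) (hd : ringKrullDim R = d)
  (I : GrLC.StarInjRes 𝒜 𝒜)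
  (ha : GrLC.endDeg (I.Hgr m d) = (((-(d : ℤ) : ℤ) : WithTop ℤ) : WithBot (WithTop ℤ)))

omit [LocCoh.IsCohenMacaulayRing R] [IsArtinianRing (GrLC.deg0 𝒜)] in
theorem hpieceMap_injective_of_length {s : ℕ} (x : Fin s → R) (hx : ∀ i, x i ∈ 𝒜 1) (n : ℕ)
    (hf : Function.Surjective (hpieceMap x hx n))
    (hlen : Module.length (GrLC.deg0 𝒜)
      ↥(MvPolynomial.homogeneousSubmodule (Fin s) (GrLC.deg0 𝒜) n) =
      Module.length (GrLC.deg0 𝒜) ↥(GrLC.comp 𝒜 𝒜 (n : ℤ)))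
    (hfin : Module.length (GrLC.deg0 𝒜) ↥(GrLC.comp 𝒜 𝒜 (n : ℤ)) ≠ ⊤) :
    Function.Injective (hpieceMap x hx n) := by
  set f := hpieceMap x hx n with hfdef
  have := injective_of_length_eq f hf hlen hfin
  exact this

include hpos hstd hm hinf hd ha in
theorem exists_surj : ∃ P : ℚ[X], mu P ≤ d ∧
    (∀ n : ℤ, -(d : ℤ) < n → P.eval (n : ℚ) = hfun 𝒜 𝒜 n) ∧
    ∃ x : Fin d → R, (∀ i, x i ∈ 𝒜 1) ∧ Function.Surjective
      (MvPolynomial.aeval x : MvPolynomial (Fin d) (GrLC.deg0 𝒜) →ₐ[GrLC.deg0 𝒜] R) := by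
  classical
  obtain ⟨P, ⟨N, hP⟩, hμ, -, hiff⟩ := GrAInvHilb.hilb_facts R 𝒜 hpos m hm d hd I hstd
  have hvan := eq_bot_of_endDeg (I.Hgr m d) (-(d : ℤ)) ha
  have hPe : ∀ n : ℤ, -(d : ℤ) < n → P.eval (n : ℚ) = hfun 𝒜 𝒜 n := by
    intro n hn
    by_contra hne
    exact (hiff n).mpr hne (hvan n hn)
  refine ⟨P, hμ, hPe, ?_⟩
  obtain ⟨rs, hlen, hdeg, hreg⟩ :=
    GrLinAvoid.exists_linear_regular_seq hpos hstd hm hinf d hd d le_rfl
  have hPe' : ∀ n : ℤ, -(rs.length : ℤ) < n → P.eval (n : ℚ) = hfun 𝒜 𝒜 n := by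
    rw [hlen]; exact hPe
  have hμ' : mu P ≤ rs.length := by rw [hlen]; exact hμ
  let x : Fin d → R := fun i => rs[i.1]'(by rw [hlen]; exact i.2)
  have hx : ∀ i, x i ∈ 𝒜 1 := fun i => hdeg _ (List.getElem_mem _)
  have hrange : {r | r ∈ rs} ⊆ Set.range x := by
    intro r hr
    obtain ⟨i, hi, rfl⟩ := List.getElem_of_mem hr
    exact ⟨⟨i, by rw [← hlen]; exact hi⟩, rfl⟩
  refine ⟨x, hx, aeval_surjective hpos hstd x ?_⟩
  intro y hy
  have h1 := mem_J_of_pos hpos rs hdeg hreg P hPe' hμ' 1 one_pos y hy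
  exact Submodule.span_mono hrange (mem_span_deg0 rs hdeg y hy h1)

include hpos hstd hm hinf hd ha in
theorem main : ∃ x : Fin d → R, (∀ i, x i ∈ 𝒜 1) ∧ Function.Bijective
    (MvPolynomial.aeval x : MvPolynomial (Fin d) (GrLC.deg0 𝒜) →ₐ[GrLC.deg0 𝒜] R) := by
  classical
  obtain ⟨P, hμ, hPe, x, hx, hsurj⟩ := exists_surj R 𝒜 hpos hstd m hm hinf d hd I ha
  refine ⟨x, hx, ?_, hsurj⟩
  rcases d with _ | d'
  · rw [MvPolynomial.aeval_injective_iff_of_isEmpty]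
    exact Subtype.val_injective
  -- the length of `R_0`
  have hfinR0 : Module.length (GrLC.deg0 𝒜) (GrLC.deg0 𝒜) ≠ ⊤ := Module.length_ne_top
  have hne : (1 : R) ≠ 0 := by
    intro h
    have : m.toIdeal = ⊤ := (Ideal.eq_top_iff_one _).mpr (by rw [h]; exact zero_mem _)
    exact (GrStarLocal.isMaximal hpos hm).ne_top this
  haveI : Nontrivial (GrLC.deg0 𝒜) := ⟨⟨1, 0, fun h => hne (congrArg Subtype.val h)⟩⟩
  have hposR0 : 0 < (Module.length (GrLC.deg0 𝒜) (GrLC.deg0 𝒜)).toNat := by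
    rw [Nat.pos_iff_ne_zero, Ne, ENat.toNat_eq_zero, not_or]
    exact ⟨Module.length_pos.ne', hfinR0⟩
  set lam : ℕ := (Module.length (GrLC.deg0 𝒜) (GrLC.deg0 𝒜)).toNat with hlam
  have h0 : hfun 𝒜 𝒜 0 = (lam : ℚ) := by
    unfold hfun
    rw [← (e0 (𝒜 := 𝒜)).length_eq]
  have hlam0 : (lam : ℚ) ≠ 0 := by exact_mod_cast hposR0.ne'
  -- the Hilbert polynomial
  have hPb : C (1 / (lam : ℚ)) * P = binPoly d' := by
    apply eq_binPoly _ d' (le_trans (mu_C_mul_le _ _) hμ)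
    · rw [eval_mul, eval_C]
      have := hPe 0 (by push_cast; omega)
      rw [h0] at this
      have h' : P.eval 0 = (lam : ℚ) := by exact_mod_cast this
      rw [h', one_div, inv_mul_cancel₀ hlam0]
    · intro k hk hk'
      rw [eval_mul]
      have := hPe (-(k : ℤ)) (by push_cast; omega)
      rw [GrAInvHilb.hfun_neg R 𝒜 hpos _ (by omega)] at this
      push_cast at this
      rw [this, mul_zero]
  have hPb' : P = C (lam : ℚ) * binPoly d' := by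
    rw [← hPb, ← mul_assoc, ← C_mul, mul_one_div_cancel hlam0, C_1, one_mul]
  have hH : ∀ n : ℕ, hfun 𝒜 𝒜 (n : ℤ) = (lam : ℚ) * (((n + d').choose d' : ℕ) : ℚ) := by
    intro n
    rw [← hPe n (by push_cast; omega), hPb', eval_mul, eval_C]
    have := binPoly_eval_nat d' n
    push_cast at this ⊢
    rw [this]
  have hlenR : ∀ n : ℕ, Module.length (GrLC.deg0 𝒜) ↥(GrLC.comp 𝒜 𝒜 (n : ℤ)) =
      (((n + d').choose d' : ℕ) : ℕ∞) * Module.length (GrLC.deg0 𝒜) (GrLC.deg0 𝒜) := by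
    intro n
    have hfin := length_comp_ne_top (𝒜 := 𝒜) (ℳ := 𝒜) hpos (n : ℤ)
    have h1 := hH n
    unfold hfun at h1
    have h2 : (Module.length (GrLC.deg0 𝒜) ↥(GrLC.comp 𝒜 𝒜 (n : ℤ))).toNat =
        lam * (n + d').choose d' := by exact_mod_cast h1
    rw [← ENat.coe_toNat hfin, h2, ← ENat.coe_toNat hfinR0, ← hlam]
    push_cast
    ring
  apply aeval_injective_of_pieceMap x hx
  intro n
  have hf := hpieceMap_surjective x hx hsurj n
  have hfin := length_comp_ne_top (𝒜 := 𝒜) (ℳ := 𝒜) hpos (n : ℤ)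
  have hlen : Module.length (GrLC.deg0 𝒜)
      ↥(MvPolynomial.homogeneousSubmodule (Fin (d' + 1)) (GrLC.deg0 𝒜) n) =
      Module.length (GrLC.deg0 𝒜) ↥(GrLC.comp 𝒜 𝒜 (n : ℤ)) := by
    rw [length_homog, hlenR]
  exact hpieceMap_injective_of_length R 𝒜 x hx n hf hlen hfin

end Groth.Agent.Lib.Helper39.GrPolyRegSeq
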