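import Groth.Agent.Lib.Helper39.GrQuasi
import Groth.Agent.Lib.Helper39.GrKoszul5

/-!
# Regularity and quotients by quasi-regular linear forms (helper39)

* `endDeg_le_iff`
* `quasi_step_up`: `H^i(N)_{n+d} = 0` and `H^{i+1}(M)_{n+d} = 0` imply `H^{i+1}(M)_n = 0`.
* `reg_quot_iff`: `M` is `d`-regular iff `N = M/xM` is `d`-regular and `end H^0(M) ≤ d`.
-/

set_option autoImplicit false
universe u

namespace Groth.Agent.Lib.Helper39.GrQuasi

open DirectSum GrLC Groth.Agent.Lib.Helper39 Groth.Agent.Lib.Helper39.GrLes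
  Groth.Agent.Lib.Helper39.GrRegVanish Groth.Agent.Lib.Helper39.GrTop
  Groth.Agent.Lib.Helper39.GrNak Groth.Agent.Lib.Helper39.GrKoszul

theorem endDeg_le_iff {M : Type u} [AddCommGroup M] (𝒢 : ℤ → AddSubgroup M) (d : ℤ) :
    GrLC.endDeg 𝒢 ≤ ((d : WithTop ℤ) : WithBot (WithTop ℤ)) ↔ ∀ n : ℤ, d < n → 𝒢 n = ⊥ := by
  unfold GrLC.endDeg
  rw [iSup₂_le_iff]
  constructor
  · intro h n hn
    by_contra hne
    have := h n hne
    have h' : n ≤ d := by exact_mod_cast this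
    omega
  · intro h n hne
    have : n ≤ d := by
      by_contra hlt
      exact hne (h n (by omega))
    exact_mod_cast this

section Quasi
variable {ι : Type} [AddCommGroup ι] [DecidableEq ι] [Module.Free ℤ ι] [Module.Finite ℤ ι]
  {R : Type u} [CommRing R] [IsNoetherianRing R] {𝒜 : ι → AddSubgroup R} [GradedRing 𝒜]
  {M : Type u} [AddCommGroup M] [Module R M] {ℳ : ι → AddSubgroup M} [DirectSum.Decomposition ℳ]
  [SetLike.GradedSMul 𝒜 ℳ]
  {N : Type u} [AddCommGroup N] [Module R N] {𝒩 : ι → AddSubgroup N} [DirectSum.Decomposition 𝒩]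
  [SetLike.GradedSMul 𝒜 𝒩]

attribute [local instance] shiftDecomposition shiftGradedSMul

theorem quasi_step_up {d : ι} {x : R} (hx : x ∈ 𝒜 d)
    (π : M →ₗ[R] N) (hπ : Function.Surjective π) (hπg : IsGrHom ℳ 𝒩 π)
    (hker : LinearMap.ker π = LinearMap.range (x • (LinearMap.id : M →ₗ[R] M)))
    (a : HomogeneousIdeal 𝒜) (hK : ∀ z : M, x • z = 0 → z ∈ gam a.toIdeal M)
    (E : StarInjRes 𝒜 ℳ) (F : StarInjRes 𝒜 𝒩) (i : ℕ) (n : ι)
    (h1 : F.Hcomp a i (n + d) = ⊥) (h2 : E.Hcomp a (i + 1) (n + d) = ⊥) :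
    E.Hcomp a (i + 1) n = ⊥ := by
  classical
  have hKh : (LinearMap.ker (x • (LinearMap.id : M →ₗ[R] M))).IsHomogeneous ℳ :=
    ker_smul_isHomogeneous hx
  generalize hKdef : LinearMap.ker (x • (LinearMap.id : M →ₗ[R] M)) = K at hKh
  have hKmem : ∀ z : M, z ∈ K ↔ x • z = 0 := fun z => by
    rw [← hKdef]
    simp
  letI decK := subDecomposition ℳ K hKh
  haveI smulK := subGradedSMul 𝒜 ℳ K
  letI decQ := quotDecomposition ℳ K hKh
  haveI smulQ := quotGradedSMul 𝒜 ℳ K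
  obtain ⟨EK⟩ := Groth.Agent.S13215.result R 𝒜 K (subPieces ℳ K)
  obtain ⟨G⟩ := Groth.Agent.S13215.result R 𝒜 (M ⧸ K) (quotPieces ℳ K)
  have SA : GrSES (subPieces ℳ K) ℳ (quotPieces ℳ K) K.subtype K.mkQ :=
    { i_grHom := isGrHom_subtype ℳ K
      p_grHom := isGrHom_mkQ ℳ K
      i_inj := Subtype.val_injective
      p_surj := Submodule.mkQ_surjective K
      exact := by rw [Submodule.ker_mkQ, Submodule.range_subtype] }
  have htor : ∀ z : K, ∃ k : ℕ, ∀ r ∈ a.toIdeal ^ k, r • z = 0 := by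
    rintro ⟨z, hz⟩
    obtain ⟨k, hk⟩ := hK z ((hKmem z).mp hz)
    exact ⟨k, fun r hr => Subtype.ext (hk r hr)⟩
  -- `H^{i+1}(M) → H^{i+1}(M/K)` is injective
  obtain ⟨δA, -, hA1, -, -⟩ := exists_les SA EK E G a
  haveI hsub : Subsingleton (EK.H a (i + 1)) := H_subsingleton_of_torsion a EK htor (i + 1) (by omega)
  have hinjA : ∀ z : E.H a (i + 1), Hmap₀ E G a K.mkQ (isGrHom_mkQ ℳ K) (i + 1) z = 0 → z = 0 := by
    intro z hz
    obtain ⟨y, hy⟩ := (hA1 (i + 1) z).mp hz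
    rw [← hy, Subsingleton.elim y 0, map_zero]
  -- multiplication by `x` as an injection `(M/K)(-d) → M`
  let xbar : (M ⧸ K) →ₗ[R] M := K.liftQ (x • (LinearMap.id : M →ₗ[R] M)) (le_of_eq hKdef.symm)
  have hxbar_inj : Function.Injective xbar := by
    rw [← LinearMap.ker_eq_bot]
    show LinearMap.ker (K.liftQ _ _) = ⊥
    rw [Submodule.ker_liftQ, hKdef, Submodule.mkQ_map_self]
  have hxbar_g : IsGrHom (shiftPieces (quotPieces ℳ K) (-d)) ℳ xbar := by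
    rintro j _ ⟨m, hm, rfl⟩
    have := SetLike.GradedSMul.smul_mem (A := 𝒜) (B := ℳ) hx hm
    rw [vadd_eq_add, add_neg_cancel_comm_assoc] at this
    exact this
  have SB : GrSES (shiftPieces (quotPieces ℳ K) (-d)) ℳ 𝒩 xbar π :=
    { i_grHom := hxbar_g
      p_grHom := hπg
      i_inj := hxbar_inj
      p_surj := hπ
      exact := by
        rw [hker]
        show _ = LinearMap.range (K.liftQ _ _)
        rw [Submodule.range_liftQ] }
  obtain ⟨δ, hδ, -, -, hB3⟩ := exists_les SB (shiftRes G (-d)) E F a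
  rw [eq_bot_iff]
  intro z hz
  rw [Submodule.mem_bot]
  apply hinjA
  -- the image `w` of `z` in `H^{i+1}(M/K)_n`
  have hw : Hmap₀ E G a K.mkQ (isGrHom_mkQ ℳ K) (i + 1) z ∈ G.Hgr a (i + 1) n :=
    Hmap₀_isGrHom E G a K.mkQ (isGrHom_mkQ ℳ K) (i + 1) n z hz
  generalize Hmap₀ E G a K.mkQ (isGrHom_mkQ ℳ K) (i + 1) z = w at hw
  have hw' : w ∈ (shiftRes G (-d)).Hgr a (i + 1) (n + d) := by
    show w ∈ G.Hgr a (i + 1) (n + d + -d)
    rw [add_neg_cancel_right]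
    exact hw
  -- its image in `H^{i+1}(M)_{n+d}` vanishes
  have hxw : Hmap₀ (shiftRes G (-d)) E a xbar hxbar_g (i + 1) w = 0 := by
    have := Hmap₀_isGrHom (shiftRes G (-d)) E a xbar hxbar_g (i + 1) (n + d) w hw'
    have h' : Hmap₀ (shiftRes G (-d)) E a xbar hxbar_g (i + 1) w ∈ E.Hcomp a (i + 1) (n + d) := this
    rw [h2, Submodule.mem_bot] at h'
    exact h'
  obtain ⟨v₀, hv₀⟩ := (hB3 i w).mp hxw
  obtain ⟨v, hv, hvw⟩ := exists_mem_of_isInternal (Hgr_isInternal F a i)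
    (Hgr_isInternal (shiftRes G (-d)) a (i + 1)) _ (hδ i) hw' v₀ hv₀
  have hv' : v ∈ F.Hcomp a i (n + d) := hv
  rw [h1, Submodule.mem_bot] at hv'
  rw [← hvw, hv', map_zero]
  rfl

end Quasi

section Reg
variable {R : Type u} [CommRing R] [IsNoetherianRing R] {𝒜 : ℤ → AddSubgroup R} [GradedRing 𝒜]
  {M : Type u} [AddCommGroup M] [Module R M] {ℳ : ℤ → AddSubgroup M} [DirectSum.Decomposition ℳ]
  [SetLike.GradedSMul 𝒜 ℳ]
  {N : Type u} [AddCommGroup N] [Module R N] {𝒩 : ℤ → AddSubgroup N} [DirectSum.Decomposition 𝒩]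
  [SetLike.GradedSMul 𝒜 𝒩]

/-- persistence in the form used for `d`-regularity -/
theorem persist_form (a : HomogeneousIdeal 𝒜)
    (hstd : a.toIdeal = Ideal.span ((𝒜 1 : AddSubgroup R) : Set R))
    (E : StarInjRes 𝒜 ℳ) (d : ℤ)
    (h : ∀ i : ℕ, 0 < i → E.Hcomp a i (d - (i : ℤ) + 1) = ⊥) (i : ℕ) (hi : 0 < i) (n : ℤ)
    (hn : d - (i : ℤ) + 1 ≤ n) : E.Hcomp a i n = ⊥ := by
  have h0 : ∀ j : ℕ, 1 ≤ j → HVan a (GrLC.GMod.of 𝒜 M ℳ) j (d + 1 - j) := fun j hj => by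
    have := h j hj
    rw [show d - (j : ℤ) + 1 = d + 1 - j by ring] at this
    exact HVan.of_one (X := GrLC.GMod.of 𝒜 M ℳ) E this
  have key := persistence a hstd (GrLC.GMod.of 𝒜 M ℳ) 1 le_rfl d h0 (n - (d - i + 1)).toNat i hi
  have e : d + 1 + ((n - (d - i + 1)).toNat : ℤ) - (i : ℤ) = n := by
    rw [Int.toNat_of_nonneg (by omega)]
    ring
  rw [e] at key
  exact key E

theorem reg_quot_iff (hpos : ∀ n : ℤ, n < 0 → 𝒜 n = ⊥) (a : HomogeneousIdeal 𝒜)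
    (ha : a.toIdeal = Ideal.span (⋃ n ∈ Set.Ioi (0 : ℤ), (𝒜 n : Set R)))
    (hstd : a.toIdeal = Ideal.span ((𝒜 1 : AddSubgroup R) : Set R))
    [Module.Finite R M] {x : R} (hx : x ∈ 𝒜 1)
    (π : M →ₗ[R] N) (hπ : Function.Surjective π) (hπg : IsGrHom ℳ 𝒩 π)
    (hker : LinearMap.ker π = LinearMap.range (x • (LinearMap.id : M →ₗ[R] M)))
    (hK : ∀ z : M, x • z = 0 → z ∈ gam a.toIdeal M)
    (E : StarInjRes 𝒜 ℳ) (F : StarInjRes 𝒜 𝒩) (d : ℤ) :
    ((∀ n : ℤ, d < n → E.Hcomp a 0 n = ⊥) ∧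
        ∀ i : ℕ, 0 < i → E.Hcomp a i (d - (i : ℤ) + 1) = ⊥) ↔
      (((∀ n : ℤ, d < n → F.Hcomp a 0 n = ⊥) ∧
        ∀ i : ℕ, 0 < i → F.Hcomp a i (d - (i : ℤ) + 1) = ⊥) ∧
        (∀ n : ℤ, d < n → E.Hcomp a 0 n = ⊥)) := by
  constructor
  · rintro ⟨hE0, hE⟩
    refine ⟨⟨fun n hn => ?_, fun i hi => ?_⟩, hE0⟩
    · refine quasi_step hx π hπ hπg hker a hK E F 0 n (hE0 n hn) ?_
      exact persist_form a hstd E d hE (0 + 1) (by omega) _ (by push_cast; omega)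
    · refine quasi_step hx π hπ hπg hker a hK E F i _ (hE i hi) ?_
      exact persist_form a hstd E d hE (i + 1) (by omega) _ (by push_cast; omega)
  · rintro ⟨⟨hF0, hF⟩, hE0⟩
    refine ⟨hE0, ?_⟩
    -- vanishing of `H^{i-1}(N)` in the relevant degrees
    have hFv : ∀ (i : ℕ) (n : ℤ), d - (i : ℤ) + 1 ≤ n → F.Hcomp a i n = ⊥ := by
      intro i n hn
      rcases Nat.eq_zero_or_pos i with rfl | hi
      · exact hF0 n (by push_cast at hn; omega)
      · exact persist_form a hstd F d hF i hi n hn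
    intro i hi
    obtain ⟨j, rfl⟩ : ∃ j, i = j + 1 := ⟨i - 1, by omega⟩
    obtain ⟨⟨r₀, hr₀⟩, -⟩ := GrRegVanish.main 𝒜 hpos a ha (j + 1) M ℳ E
    have key : ∀ (t : ℕ) (n : ℤ), d - ((j + 1 : ℕ) : ℤ) + 1 ≤ n → r₀ ≤ n + t →
        E.Hcomp a (j + 1) n = ⊥ := by
      intro t
      induction t with
      | zero =>
        intro n _ hn
        exact hr₀ n (by simpa using hn)
      | succ t ih =>
        intro n hn1 hn2
        refine quasi_step_up hx π hπ hπg hker a hK E F j n ?_ ?_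
        · exact hFv j (n + 1) (by push_cast at hn1 ⊢; omega)
        · exact ih (n + 1) (by omega) (by push_cast at hn2 ⊢; omega)
    exact key (r₀ - (d - ((j + 1 : ℕ) : ℤ) + 1)).toNat _ le_rfl (by omega)

end Reg

end Groth.Agent.Lib.Helper39.GrQuasi
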