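import Groth.Agent.Lib.Helper39.GrQuasi2
import Groth.Agent.Lib.Helper39.GrKoszul6
import Mathlib.RingTheory.Regular.RegularSequence

/-!
# Castelnuovo–Mumford regularity via graded local cohomology (helper39)

* `hvan_zero_iff`, `HVan.left`, `HVan.of_bijective`
* `RegLE a X d`: `H^j_a(X)_n = 0` for all `n > d - j`.
* `regLE_iff_weak`, `regLE_of_torsion`, `regLE_quot_iff`, `regLE_regseq_iff`.
-/

set_option autoImplicit false
universe u

namespace Groth.Agent.Lib.Helper39.GrReg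

open Pointwise DirectSum GrLC Groth.Agent.Lib.Helper39 Groth.Agent.Lib.Helper39.GrLes
  Groth.Agent.Lib.Helper39.GrRegVanish Groth.Agent.Lib.Helper39.GrTop
  Groth.Agent.Lib.Helper39.GrKoszul Groth.Agent.Lib.Helper39.GrQuasi

variable {R : Type u} [CommRing R] [IsNoetherianRing R] {𝒜 : ℤ → AddSubgroup R} [GradedRing 𝒜]
  {a : HomogeneousIdeal 𝒜}

/-- `H^0_a(X)_e = 0` iff `X_e` has no nonzero torsion element -/
theorem hvan_zero_iff {X : GMod.{u} 𝒜} {e : ℤ} :
    HVan a X 0 e ↔ ∀ q ∈ X.gr e, q ∈ gam a.toIdeal X.carrier → q = 0 := by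
  constructor
  · intro h q hq htor
    exact eq_zero_of_hvan_zero a h hq htor
  · intro h G
    rw [eq_bot_iff]
    intro y hy
    obtain ⟨m, hm, hmn, hmt, rfl⟩ := exists_eq_toH_ε G a e y hy
    have hm0 := h m hmn hmt
    rw [Submodule.mem_bot, toH_eq_zero_iff]
    show G.ε m ∈ G.cobdy a 0
    rw [hm0, map_zero]
    exact zero_mem _

/-- left part of the long exact sequence -/
theorem HVan.left {X' X X'' : GMod.{u} 𝒜} {i : X'.carrier →ₗ[R] X.carrier}
    {p : X.carrier →ₗ[R] X''.carrier} (S : GrSES X'.gr X.gr X''.gr i p) {j : ℕ} {e : ℤ}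
    (h : HVan a X j e) (h'' : ∀ j' : ℕ, j' + 1 = j → HVan a X'' j' e) : HVan a X' j e := by
  cases j with
  | zero =>
    rw [hvan_zero_iff] at h ⊢
    intro q hq htor
    have := h (i q) (S.i_grHom e q hq) (gam_map a.toIdeal i htor)
    exact S.i_inj (this.trans (map_zero i).symm)
  | succ j =>
    intro E'
    obtain ⟨E⟩ := Groth.Agent.S13215.result R 𝒜 X.carrier X.gr
    obtain ⟨E''⟩ := Groth.Agent.S13215.result R 𝒜 X''.carrier X''.gr
    obtain ⟨δ, hδ, -, -, h3⟩ := exists_les S E' E E'' a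
    rw [eq_bot_iff]
    intro y hy
    have hy' : y ∈ E'.Hgr a (j + 1) e := hy
    have h1 : Hmap₀ E' E a i S.i_grHom (j + 1) y ∈ E.Hcomp a (j + 1) e :=
      Hmap₀_isGrHom E' E a i S.i_grHom (j + 1) e y hy'
    rw [h E, Submodule.mem_bot] at h1
    obtain ⟨v₀, hv₀⟩ := (h3 j y).mp h1
    obtain ⟨v, hv, hvy⟩ := exists_mem_of_isInternal (Hgr_isInternal E'' a j)
      (Hgr_isInternal E' a (j + 1)) _ (hδ j) hy' v₀ hv₀
    have hv' : v ∈ E''.Hcomp a j e := hv
    rw [h'' j rfl E'', Submodule.mem_bot] at hv'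
    rw [Submodule.mem_bot, ← hvy, hv', map_zero]

/-- invariance under graded isomorphisms -/
theorem HVan.of_bijective {X Y : GMod.{u} 𝒜} (π : X.carrier →ₗ[R] Y.carrier)
    (hπ : Function.Bijective π) (hπg : IsGrHom X.gr Y.gr π) {j : ℕ} {e : ℤ} :
    HVan a Y j e ↔ HVan a X j e := by
  have key : ∀ (X Y : GMod.{u} 𝒜) (π : X.carrier →ₗ[R] Y.carrier), Function.Bijective π →
      IsGrHom X.gr Y.gr π → HVan a Y j e → HVan a X j e := by
    intro X Y π hπ hπg h G
    obtain ⟨F⟩ := Groth.Agent.S13215.result R 𝒜 Y.carrier Y.gr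
    rw [eq_bot_iff]
    intro y hy
    have hy' : y ∈ G.Hgr a j e := hy
    have h1 : Hmap₀ G F a π hπg j y ∈ F.Hcomp a j e := Hmap₀_isGrHom G F a π hπg j e y hy'
    rw [h F, Submodule.mem_bot] at h1
    rw [Submodule.mem_bot]
    exact Hmap₀_injective_of_bijective π hπ hπg G F a j (h1.trans (map_zero _).symm)
  refine ⟨key X Y π hπ hπg, ?_⟩
  let eqv : X.carrier ≃ₗ[R] Y.carrier := LinearEquiv.ofBijective π hπ
  have heg : IsGrHom Y.gr X.gr eqv.symm.toLinearMap := by
    intro n y hy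
    apply IsGrHom.mem_of_injective X.gr Y.gr hπg hπ.1
    have : π (eqv.symm y) = y := eqv.apply_symm_apply y
    show π (eqv.symm y) ∈ Y.gr n
    rw [this]
    exact hy
  exact key Y X eqv.symm.toLinearMap eqv.symm.bijective heg

variable (a) in
/-- `X` is `d`-regular: `H^j_a(X)_n = 0` for `n > d - j` -/
def RegLE (X : GMod.{u} 𝒜) (d : ℤ) : Prop :=
  ∀ (j : ℕ) (n : ℤ), d - j < n → HVan a X j n

theorem regLE_iff_weak (hstd : a.toIdeal = Ideal.span ((𝒜 1 : AddSubgroup R) : Set R))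
    (X : GMod.{u} 𝒜) (E : StarInjRes 𝒜 X.gr) (d : ℤ) :
    RegLE a X d ↔ ((∀ n : ℤ, d < n → E.Hcomp a 0 n = ⊥) ∧
      ∀ i : ℕ, 0 < i → E.Hcomp a i (d - (i : ℤ) + 1) = ⊥) := by
  constructor
  · intro h
    exact ⟨fun n hn => h 0 n (by simpa using hn) E, fun i _ => h i _ (by omega) E⟩
  · rintro ⟨h0, hi⟩ j n hn
    rcases Nat.eq_zero_or_pos j with rfl | hj
    · exact HVan.of_one E (h0 n (by simpa using hn))
    · exact HVan.of_one E (persist_form a hstd E d hi j hj n (by omega))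

theorem regLE_of_torsion {X : GMod.{u} 𝒜}
    (htor : ∀ x : X.carrier, ∃ k : ℕ, ∀ r ∈ a.toIdeal ^ k, r • x = 0) (d : ℤ) :
    RegLE a X d ↔ ∀ n : ℤ, d < n → X.gr n = ⊥ := by
  constructor
  · intro h n hn
    have h0 := h 0 n (by simpa using hn)
    rw [hvan_zero_iff] at h0
    rw [eq_bot_iff]
    intro q hq
    rw [AddSubgroup.mem_bot]
    exact h0 q hq (htor q)
  · intro h j n hn
    rcases Nat.eq_zero_or_pos j with rfl | hj
    · rw [hvan_zero_iff]
      intro q hq _
      rw [h n (by simpa using hn), AddSubgroup.mem_bot] at hq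
      exact hq
    · exact HVan.of_torsion htor hj n

theorem regLE_quot_iff (hpos : ∀ n : ℤ, n < 0 → 𝒜 n = ⊥)
    (ha : a.toIdeal = Ideal.span (⋃ n ∈ Set.Ioi (0 : ℤ), (𝒜 n : Set R)))
    (hstd : a.toIdeal = Ideal.span ((𝒜 1 : AddSubgroup R) : Set R))
    {X Y : GMod.{u} 𝒜} [Module.Finite R X.carrier] {x : R} (hx : x ∈ 𝒜 1)
    (π : X.carrier →ₗ[R] Y.carrier) (hπ : Function.Surjective π) (hπg : IsGrHom X.gr Y.gr π)
    (hker : LinearMap.ker π = LinearMap.range (x • (LinearMap.id : X.carrier →ₗ[R] X.carrier)))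
    (hK : ∀ z : X.carrier, x • z = 0 → z ∈ gam a.toIdeal X.carrier) (d : ℤ) :
    RegLE a X d ↔ (RegLE a Y d ∧ ∀ n : ℤ, d < n → HVan a X 0 n) := by
  obtain ⟨E⟩ := Groth.Agent.S13215.result R 𝒜 X.carrier X.gr
  obtain ⟨F⟩ := Groth.Agent.S13215.result R 𝒜 Y.carrier Y.gr
  rw [regLE_iff_weak hstd X E, regLE_iff_weak hstd Y F]
  have h0 : (∀ n : ℤ, d < n → HVan a X 0 n) ↔ ∀ n : ℤ, d < n → E.Hcomp a 0 n = ⊥ :=
    forall_congr' fun n => imp_congr_right fun _ => hvan_iff E
  rw [h0]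
  exact reg_quot_iff hpos a ha hstd hx π hπ hπg hker hK E F d

/-- **Regularity and regular sequences of linear forms.** -/
theorem regLE_regseq_iff (hpos : ∀ n : ℤ, n < 0 → 𝒜 n = ⊥)
    (ha : a.toIdeal = Ideal.span (⋃ n ∈ Set.Ioi (0 : ℤ), (𝒜 n : Set R)))
    (hstd : a.toIdeal = Ideal.span ((𝒜 1 : AddSubgroup R) : Set R)) :
    ∀ (xs : List R), (∀ x ∈ xs, x ∈ 𝒜 1) → ∀ (X : GMod.{u} 𝒜) [Module.Finite R X.carrier]
      (Y : GMod.{u} 𝒜) (π : X.carrier →ₗ[R] Y.carrier), Function.Surjective π →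
      IsGrHom X.gr Y.gr π → LinearMap.ker π = Ideal.ofList xs • (⊤ : Submodule R X.carrier) →
      RingTheory.Sequence.IsWeaklyRegular X.carrier xs → ∀ d : ℤ, RegLE a X d ↔ RegLE a Y d := by
  intro xs
  induction xs with
  | nil =>
    intro _ X _ Y π hπ hπg hker _ d
    have hinj : Function.Injective π := by
      rw [← LinearMap.ker_eq_bot, hker, Ideal.ofList_nil, Submodule.bot_smul]
    have hb : ∀ j n, HVan a Y j n ↔ HVan a X j n := fun j n =>
      HVan.of_bijective π ⟨hinj, hπ⟩ hπg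
    exact ⟨fun h j n hn => (hb j n).mpr (h j n hn), fun h j n hn => (hb j n).mp (h j n hn)⟩
  | cons x xs ih =>
    intro hxs X _ Y π hπ hπg hker hreg d
    have hx : x ∈ 𝒜 1 := hxs x (List.mem_cons_self)
    obtain ⟨hxreg, hreg'⟩ := (RingTheory.Sequence.isWeaklyRegular_cons_iff X.carrier x xs).mp hreg
    have hKeq : (x • (⊤ : Submodule R X.carrier)) =
        LinearMap.range (x • (LinearMap.id : X.carrier →ₗ[R] X.carrier)) := by
      ext m
      rw [Submodule.mem_smul_pointwise_iff_exists, LinearMap.mem_range]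
      constructor
      · rintro ⟨b, -, rfl⟩
        exact ⟨b, rfl⟩
      · rintro ⟨b, rfl⟩
        exact ⟨b, Submodule.mem_top, rfl⟩
    have hKh : (x • (⊤ : Submodule R X.carrier)).IsHomogeneous X.gr := by
      rw [hKeq]
      exact range_smul_isHomogeneous hx
    have hKle : x • (⊤ : Submodule R X.carrier) ≤ LinearMap.ker π := by
      rw [hker, Ideal.ofList_cons_smul]
      exact le_sup_left
    -- the quotient `X' = X/xX`
    have hπ' : Function.Surjective ((x • (⊤ : Submodule R X.carrier)).liftQ π hKle) := by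
      intro y
      obtain ⟨m, rfl⟩ := hπ y
      exact ⟨Submodule.Quotient.mk m, rfl⟩
    have hπg' : IsGrHom (gquot X _ hKh).gr Y.gr ((x • (⊤ : Submodule R X.carrier)).liftQ π hKle) := by
      rintro n _ ⟨m, hm, rfl⟩
      exact hπg n m hm
    have hker' : LinearMap.ker ((x • (⊤ : Submodule R X.carrier)).liftQ π hKle) =
        Ideal.ofList xs • (⊤ : Submodule R (X.carrier ⧸ x • (⊤ : Submodule R X.carrier))) := by
      rw [Submodule.ker_liftQ, hker, Ideal.ofList_cons_smul, Submodule.map_sup,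
        Submodule.mkQ_map_self, bot_sup_eq, Submodule.map_smul'', Submodule.map_top,
        Submodule.range_mkQ]
    haveI : Module.Finite R (gquot X _ hKh).carrier := by
      show Module.Finite R (X.carrier ⧸ x • (⊤ : Submodule R X.carrier))
      infer_instance
    have hIH := ih (fun y hy => hxs y (List.mem_cons_of_mem _ hy)) (gquot X _ hKh) Y
      ((x • (⊤ : Submodule R X.carrier)).liftQ π hKle) hπ' hπg' hker' hreg' d
    -- `H^0(X) = 0`
    have hxa : x ∈ a.toIdeal := by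
      rw [hstd]
      exact Ideal.subset_span hx
    have hH0 : ∀ n : ℤ, HVan a X 0 n := by
      intro n
      rw [hvan_zero_iff]
      rintro q - ⟨k, hk⟩
      have h1 : x ^ k • q = 0 := hk _ (Ideal.pow_mem_pow hxa k)
      exact (hxreg.pow k) (h1.trans (smul_zero _).symm)
    have hstep := regLE_quot_iff hpos ha hstd (X := X) (Y := gquot X _ hKh) hx
      (x • (⊤ : Submodule R X.carrier)).mkQ (Submodule.mkQ_surjective _)
      (isGrHom_mkQ X.gr _) (by rw [Submodule.ker_mkQ, hKeq])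
      (fun z hz => by
        have : z = 0 := hxreg (hz.trans (smul_zero _).symm)
        rw [this]
        exact zero_mem _) d
    rw [hstep, hIH]
    exact ⟨fun h => h.1, fun h => ⟨h, fun n _ => hH0 n⟩⟩

end Groth.Agent.Lib.Helper39.GrReg
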