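import Groth.Agent.Lib.Helper39.GrPieces
import Groth.Agent.Lib.Helper29.DepthLoc2

/-!
# Homogeneous regular sequences of length two from depth at the irrelevant ideal (helper39)
-/

set_option autoImplicit false
universe u

namespace Groth.Agent.Lib.Helper39.GrRegSeqDepth

open DirectSum GrLC Groth.Agent.Lib.Helper39 Groth.Agent.Lib.Helper29

section Gam
variable {R : Type u} [CommRing R] [IsNoetherianRing R] (m : Ideal R) [hmax : m.IsMaximal]
  (C : Type u) [AddCommGroup C] [Module R C] [Module.Finite R C]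

/-- positive depth at the maximal ideal `m` kills the `m`-torsion -/
theorem gam_eq_bot_of_depth
    (h : 1 ≤ LocCoh.depth (Localization.AtPrime m) (LocalizedModule m.primeCompl C)) :
    GrLC.gam m C = ⊥ := by
  by_contra hne
  haveI : Nontrivial (GrLC.gam m C) := Submodule.nontrivial_iff_ne_bot.mpr hne
  obtain ⟨P, hP⟩ := associatedPrimes.nonempty R (GrLC.gam m C)
  have hP' : P ∈ associatedPrimes R C :=
    associatedPrimes.subset_of_injective (f := (GrLC.gam m C).subtype) Subtype.val_injective hP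
  obtain ⟨hPp, c, hc⟩ := isAssociatedPrime_iff.mp hP
  obtain ⟨k, hk⟩ := c.2
  have hle : m ^ k ≤ P := by
    intro r hr
    rw [hc, Submodule.mem_colon_singleton, Submodule.mem_bot]
    exact Subtype.ext (hk r hr)
  have hmP : m ≤ P := hPp.le_of_pow_le hle
  have hPm : m = P := hmax.eq_of_le hPp.ne_top hmP
  rw [← hPm] at hP'
  have h2 := depth_localizedModule_eq_zero_of_mem_associatedPrimes R C m hP'
  rw [h2] at h
  simp at h

end Gam

section RS
variable {R : Type u} [CommRing R] [IsNoetherianRing R] (𝒜 : ℤ → AddSubgroup R) [GradedRing 𝒜]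
  (hpos : ∀ n : ℤ, n < 0 → 𝒜 n = ⊥) (m : Ideal R) [hmax : m.IsMaximal]
  (hmsp : m = Ideal.span (⋃ n ∈ Set.Ioi (0 : ℤ), (𝒜 n : Set R)))
  (C : Type u) [AddCommGroup C] [Module R C] [Module.Finite R C]

include hpos hmsp in
/-- a homogeneous regular sequence of length two on a finite module of depth `≥ 2` at `m` -/
theorem exists_regular_pair
    (h : 2 ≤ LocCoh.depth (Localization.AtPrime m) (LocalizedModule m.primeCompl C)) :
    ∃ (d : ℤ) (x : R) (d' : ℤ) (y : R), 0 < d ∧ x ∈ 𝒜 d ∧ 0 < d' ∧ y ∈ 𝒜 d' ∧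
      IsSMulRegular C x ∧ IsSMulRegular (QuotSMulTop x C) y := by
  classical
  have h1 : 1 ≤ LocCoh.depth (Localization.AtPrime m) (LocalizedModule m.primeCompl C) :=
    le_trans (by norm_num) h
  obtain ⟨d, x, hd, hxd, hxreg⟩ := GrPieces.exists_homogeneous_regular 𝒜 m hmsp hpos
    (gam_eq_bot_of_depth m C h1)
  have hxm : x ∈ m := GrPieces.mem_irrelevant_of_pos 𝒜 m hmsp hd hxd
  have h2 := depth_localizedModule_quotSMulTop_add_one R m C hxm hxreg
  have h3 : 1 ≤ LocCoh.depth (Localization.AtPrime m)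
      (LocalizedModule m.primeCompl (QuotSMulTop x C)) := by
    rw [← h2] at h
    have h4 : (2 : ℕ∞) = 1 + 1 := by norm_num
    rw [h4] at h
    exact (ENat.add_le_add_iff_right (by norm_num)).mp h
  obtain ⟨d', y, hd', hyd', hyreg⟩ := GrPieces.exists_homogeneous_regular 𝒜 m hmsp hpos
    (gam_eq_bot_of_depth m (QuotSMulTop x C) h3)
  exact ⟨d, x, d', y, hd, hxd, hd', hyd', hxreg, hyreg⟩

end RS

end Groth.Agent.Lib.Helper39.GrRegSeqDepth
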