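import Groth.Agent.Lib.Helper39.GrLD4
import Groth.Agent.Lib.Helper39.GrBridge2

/-!
# Pieces of a *canonical module are dual to pieces of the top local cohomology (helper39)

* `IsGDual.nonempty_piece_equiv`: for a graded dual `D` of `H`, `D_n ≃ (H_{-n})^*`;
* `finrank_comp_canonical`: `dim (K_T)_d = dim H^n_m(T)_{-d}` for a *canonical module of a
  positively graded Noetherian ring `T` with `T_0` a field (gradings by additive subgroups);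
* `finrank_comp_canonical_sub`: the same for gradings by arbitrary subobjects.
-/

set_option autoImplicit false
universe u

namespace Groth.Agent.Lib.Helper39.GrSegCanon

open DirectSum GrLC GrSeg Groth.Agent.Lib.Helper39 Groth.Agent.Lib.Helper39.GrDual
  Groth.Agent.Lib.Helper39.GrBridge

section Piece
variable {k : Type u} [Field k] {R : Type u} [CommRing R] [Algebra k R]
  {H : Type u} [AddCommGroup H] [Module R H] [Module k H] [IsScalarTower k R H]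
  {𝓗 : ℤ → AddSubgroup H} [DirectSum.Decomposition 𝓗]
  {D : Type u} [AddCommGroup D] [Module R D] [Module k D] [IsScalarTower k R D]
  {𝒟 : ℤ → AddSubgroup D} [DirectSum.Decomposition 𝒟]
  {β : D →ₗ[k] H →ₗ[k] k}

/-- for a graded dual `D` of `H`: `D_n ≃ (H_{-n})^*`, with the formula -/
theorem IsGDual.exists_piece_equiv (hD : IsGDual R 𝓗 𝒟 β) (n : ℤ)
    (DS : Submodule k D) (hDS : ∀ x, x ∈ DS ↔ x ∈ 𝒟 n)
    (HS : Submodule k H) (hHS : ∀ x, x ∈ HS ↔ x ∈ 𝓗 (-n)) :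
    ∃ Λ : DS ≃ₗ[k] Module.Dual k HS, ∀ (δ : DS) (x : HS), Λ δ x = β δ.1 x.1 := by
  let Λ : DS →ₗ[k] Module.Dual k HS :=
    { toFun := fun δ => (β δ.1).comp HS.subtype
      map_add' := fun δ δ' => by
        ext x
        show β (δ.1 + δ'.1) x.1 = β δ.1 x.1 + β δ'.1 x.1
        rw [map_add]
        rfl
      map_smul' := fun c δ => by
        ext x
        show β (c • δ.1) x.1 = c • β δ.1 x.1
        rw [map_smul]
        rfl }
  have hΛ : ∀ (δ : DS) (x : HS), Λ δ x = β δ.1 x.1 := fun _ _ => rfl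
  have hinj : Function.Injective Λ := by
    rw [← LinearMap.ker_eq_bot, LinearMap.ker_eq_bot']
    intro δ hδ
    apply Subtype.ext
    apply hD.eq_zero n δ.1 ((hDS _).mp δ.2)
    intro x hx
    have := LinearMap.congr_fun hδ ⟨x, (hHS x).mpr hx⟩
    rw [hΛ] at this
    exact this
  have hsurj : Function.Surjective Λ := by
    intro g
    obtain ⟨g', hg'⟩ := LinearMap.exists_extend g
    obtain ⟨δ, hδ, hδx⟩ := hD.exists_eq n g'
    refine ⟨⟨δ, (hDS δ).mpr hδ⟩, ?_⟩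
    ext x
    rw [hΛ]
    show β δ x.1 = g x
    rw [hδx x.1 ((hHS _).mp x.2), ← hg']
    rfl
  exact ⟨LinearEquiv.ofBijective Λ ⟨hinj, hsurj⟩, fun δ x => rfl⟩

/-- for a graded dual `D` of `H`: `D_n ≃ (H_{-n})^*` -/
theorem IsGDual.nonempty_piece_equiv (hD : IsGDual R 𝓗 𝒟 β) (n : ℤ)
    (DS : Submodule k D) (hDS : ∀ x, x ∈ DS ↔ x ∈ 𝒟 n)
    (HS : Submodule k H) (hHS : ∀ x, x ∈ HS ↔ x ∈ 𝓗 (-n)) :
    Nonempty (DS ≃ₗ[k] Module.Dual k HS) := by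
  obtain ⟨Λ, -⟩ := IsGDual.exists_piece_equiv hD n DS hDS HS hHS
  exact ⟨Λ⟩

/-- for a graded dual `D` of `H` with `H_d` finite dimensional: every functional on `D_{-d}`
is the pairing with an element of `H_d` -/
theorem IsGDual.exists_flip (hD : IsGDual R 𝓗 𝒟 β) (d : ℤ)
    (DS : Submodule k D) (hDS : ∀ x, x ∈ DS ↔ x ∈ 𝒟 (-d))
    (HS : Submodule k H) (hHS : ∀ x, x ∈ HS ↔ x ∈ 𝓗 d) [Module.Finite k HS]
    (μ : D →ₗ[k] k) : ∃ h ∈ 𝓗 d, ∀ c ∈ 𝒟 (-d), β c h = μ c := by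
  obtain ⟨Λ, hΛ⟩ := IsGDual.exists_piece_equiv hD (-d) DS hDS HS
    (fun x => by rw [neg_neg]; exact hHS x)
  let ν : Module.Dual k (Module.Dual k HS) := (μ.comp DS.subtype).comp Λ.symm.toLinearMap
  obtain ⟨h, hh⟩ := (Module.evalEquiv k HS).surjective ν
  refine ⟨h.1, (hHS _).mp h.2, fun c hc => ?_⟩
  have h1 : ν (Λ ⟨c, (hDS c).mpr hc⟩) = Λ ⟨c, (hDS c).mpr hc⟩ h := by
    rw [← hh]
    rfl
  rw [hΛ] at h1
  rw [← h1]
  have h2 : ν (Λ ⟨c, (hDS c).mpr hc⟩) =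
      μ (DS.subtype (Λ.symm (Λ ⟨c, (hDS c).mpr hc⟩))) := rfl
  rw [h2, Λ.symm_apply_apply]
  rfl

/-- for a graded dual `D` of `H`: an element of `H_d` pairing to zero with `D_{-d}` is zero -/
theorem IsGDual.eq_zero_flip (hD : IsGDual R 𝓗 𝒟 β) (d : ℤ)
    (DS : Submodule k D) (hDS : ∀ x, x ∈ DS ↔ x ∈ 𝒟 (-d))
    (HS : Submodule k H) (hHS : ∀ x, x ∈ HS ↔ x ∈ 𝓗 d)
    (h : H) (hh : h ∈ 𝓗 d) (hzero : ∀ c ∈ 𝒟 (-d), β c h = 0) : h = 0 := by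
  obtain ⟨Λ, hΛ⟩ := IsGDual.exists_piece_equiv hD (-d) DS hDS HS
    (fun x => by rw [neg_neg]; exact hHS x)
  have h1 : (⟨h, (hHS h).mpr hh⟩ : HS) = 0 := by
    rw [← Module.forall_dual_apply_eq_zero_iff k]
    intro f
    obtain ⟨δ, rfl⟩ := Λ.surjective f
    rw [hΛ]
    exact hzero _ ((hDS _).mp δ.2)
  exact congrArg Subtype.val h1

/-- for `c ∈ D_{-d}` the pairing with `h` only sees the component `h_d` -/
theorem IsGDual.beta_component_right (hD : IsGDual R 𝓗 𝒟 β) (d : ℤ) (c : D) (hc : c ∈ 𝒟 (-d))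
    (h : H) : β c h = β c (decompose 𝓗 h d : H) := by
  classical
  conv_lhs => rw [← DirectSum.sum_support_decompose 𝓗 h]
  rw [map_sum]
  by_cases hd : d ∈ (decompose 𝓗 h).support
  · rw [Finset.sum_eq_single d]
    · intro d' _ hd'
      exact hD.vanish (-d) c hc d' (by rw [neg_neg]; exact hd') _ (SetLike.coe_mem _)
    · intro h'
      exact absurd hd h'
  · have h0 : (decompose 𝓗 h d : H) = 0 := by
      rw [DFinsupp.mem_support_iff, not_not] at hd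
      rw [hd]
      rfl
    rw [h0, map_zero]
    apply Finset.sum_eq_zero
    intro d' hd'
    refine hD.vanish (-d) c hc d' ?_ _ (SetLike.coe_mem _)
    rw [neg_neg]
    intro h'
    exact hd (h' ▸ hd')

end Piece

section Canon
variable {T : Type u} [CommRing T] [IsNoetherianRing T]
  (𝒯 : ℤ → AddSubgroup T) [GradedRing 𝒯]
  (hpos : ∀ n : ℤ, n < 0 → 𝒯 n = ⊥) (h0 : IsField (GrLC.deg0 𝒯))
  (m : HomogeneousIdeal 𝒯)
  (hmsp : m.toIdeal = Ideal.span (⋃ n ∈ Set.Ioi (0 : ℤ), (𝒯 n : Set T)))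
  {E' : Type u} [AddCommGroup E'] [Module T E']
  (𝓔 : ℤ → AddSubgroup E') [DirectSum.Decomposition 𝓔] [SetLike.GradedSMul 𝒯 𝓔]
  (e : (T ⧸ m.toIdeal) →ₗ[T] E') (he : GrLC.IsStarInjHull 𝒯 (GrLC.quotGr 𝒯 m) 𝓔 e)
  {C : Type u} [AddCommGroup C] [Module T C]
  (𝒞 : ℤ → AddSubgroup C) [DirectSum.Decomposition 𝒞] [SetLike.GradedSMul 𝒯 𝒞]
  (n : ℕ) (I : GrLC.StarInjRes 𝒯 𝒯)

include hpos h0 hmsp he in
/-- `dim (K_T)_d = dim H^n_m(T)_{-d}` -/
theorem finrank_comp_canonical (hC : GrLC.IsStarCanonical 𝒯 𝒞 𝓔 m n I) (d : ℤ) :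
    Module.finrank (GrLC.deg0 𝒯) (GrLC.comp 𝒯 𝒞 d) =
      Module.finrank (GrLC.deg0 𝒯) (I.Hcomp m n (-d)) := by
  classical
  letI fieldk : Field (GrLC.deg0 𝒯) := h0.toField
  letI decI : DirectSum.Decomposition (I.Hgr m n) := (Hgr_isInternal I m n).chooseDecomposition
  obtain ⟨βC, hK⟩ := exists_gdual_of_canonical (k := GrLC.deg0 𝒯) 𝒯 hpos h0 (fun c => c.2)
    (fun t ht => ⟨⟨t, ht⟩, rfl⟩) m hmsp 𝓔 e he 𝒞 n I hC
  obtain ⟨Λ⟩ := IsGDual.nonempty_piece_equiv hK d (GrLC.comp 𝒯 𝒞 d) (fun _ => Iff.rfl)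
    (I.Hcomp m n (-d)) (fun _ => Iff.rfl)
  rw [Λ.finrank_eq, Subspace.dual_finrank_eq]

end Canon

section Sub
variable {T : Type u} [CommRing T] [IsNoetherianRing T]
  {σ : Type u} [SetLike σ T] [AddSubgroupClass σ T] (𝒯 : ℤ → σ) [GradedRing 𝒯]
  (hpos : ∀ n : ℤ, n < 0 → ∀ x ∈ 𝒯 n, x = 0) (h0 : IsField (GrLC.deg0 𝒯))
  (m : HomogeneousIdeal 𝒯)
  (hmsp : m.toIdeal = Ideal.span (⋃ n ∈ Set.Ioi (0 : ℤ), (𝒯 n : Set T)))
  {E' : Type u} [AddCommGroup E'] [Module T E']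
  (𝓔 : ℤ → AddSubgroup E') [DirectSum.Decomposition 𝓔] [SetLike.GradedSMul 𝒯 𝓔]
  (e : (T ⧸ m.toIdeal) →ₗ[T] E') (he : GrLC.IsStarInjHull 𝒯 (GrLC.quotGr 𝒯 m) 𝓔 e)
  {C : Type u} [AddCommGroup C] [Module T C]
  (𝒞 : ℤ → AddSubgroup C) [DirectSum.Decomposition 𝒞] [SetLike.GradedSMul 𝒯 𝒞]
  (n : ℕ) (I : GrLC.StarInjRes 𝒯 𝒯)

attribute [local instance] toSubGradedRing toSubDecomposition toSubGradedSMul

include hpos h0 hmsp he in
/-- `dim (K_T)_d = dim H^n_m(T)_{-d}`, for gradings by arbitrary subobjects -/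
theorem finrank_comp_canonical_sub (hC : GrLC.IsStarCanonical 𝒯 𝒞 𝓔 m n I) (d : ℤ) :
    Module.finrank (GrLC.deg0 𝒯) (GrLC.comp 𝒯 𝒞 d) =
      Module.finrank (GrLC.deg0 𝒯) (I.Hcomp m n (-d)) := by
  haveI := gsmul_toSub 𝒯 𝓔
  haveI := gsmul_toSub 𝒯 𝒞
  have hpos' : ∀ n : ℤ, n < 0 → toSub 𝒯 n = ⊥ := by
    intro n hn
    rw [eq_bot_iff]
    intro x hx
    exact (AddSubgroup.mem_bot).mpr (hpos n hn x hx)
  have h0' : IsField (GrLC.deg0 (toSub 𝒯)) := h0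
  have hmsp' : (convIdeal m).toIdeal =
      Ideal.span (⋃ n ∈ Set.Ioi (0 : ℤ), (toSub 𝒯 n : Set T)) := hmsp
  exact finrank_comp_canonical (toSub 𝒯) hpos' h0' (convIdeal m) hmsp' 𝓔 e
    (isStarInjHull_conv 𝓔 e he) 𝒞 n (convRes I) (isStarCanonical_conv 𝓔 𝒞 n I hC) d

end Sub

end Groth.Agent.Lib.Helper39.GrSegCanon
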