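import Groth.Agent.Lib.Helper39.GrSegCanon1
import Groth.Agent.S13226

/-!
# A finitely generated graded dual of the top local cohomology is a *canonical module (helper39)

`isStarCanonical_of_gdual`: the converse of `GrDual.exists_gdual_of_canonical`.
-/

set_option autoImplicit false
universe u

namespace Groth.Agent.Lib.Helper39.GrSegCanon

open DirectSum GrLC GrSeg Groth.Agent.Lib.Helper39 Groth.Agent.Lib.Helper39.GrDual
  Groth.Agent.Lib.Helper39.GrPieceDual Groth.Agent.Lib.Helper39.GrHomInt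
  Groth.Agent.Lib.Helper39.GrMatlis Groth.Agent.Lib.Helper39.GrStarLocal

section PieceK
variable {k : Type u} [Field k] {X : Type u} [AddCommGroup X] [Module k X]

/-- pieces as `k`-subspaces -/
def pieceK (𝒳 : ℤ → AddSubgroup X)
    (hk𝒳 : ∀ (c : k) (l : ℤ) (x : X), x ∈ 𝒳 l → c • x ∈ 𝒳 l) (d : ℤ) : Submodule k X where
  carrier := 𝒳 d
  add_mem' := (𝒳 d).add_mem
  zero_mem' := (𝒳 d).zero_mem
  smul_mem' c x hx := hk𝒳 c d x hx

variable {T : Type u} [CommRing T] [Algebra k T] [Module T X] [IsScalarTower k T X]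
  (𝒯 : ℤ → AddSubgroup T) [GradedRing 𝒯]

theorem finite_of_deg0 (hksurj : ∀ t : T, t ∈ 𝒯 0 → ∃ c : k, algebraMap k T c = t)
    (V : Submodule (GrLC.deg0 𝒯) X) (W : Submodule k X) (hVW : ∀ x, x ∈ W ↔ x ∈ V)
    [hV : Module.Finite (GrLC.deg0 𝒯) V] : Module.Finite k W := by
  rw [Module.Finite.iff_fg] at hV ⊢
  obtain ⟨s, hs⟩ := hV
  have key : ∀ x, x ∈ Submodule.span (GrLC.deg0 𝒯) (s : Set X) →
      x ∈ Submodule.span k (s : Set X) := by
    intro x hx'
    induction hx' using Submodule.span_induction with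
    | mem x hx => exact Submodule.subset_span hx
    | zero => exact zero_mem _
    | add x y _ _ hx hy => exact add_mem hx hy
    | smul t x _ hx =>
      obtain ⟨c, hc⟩ := hksurj (t : T) t.2
      have h1 : t • x = c • x := by
        show (t : T) • x = c • x
        rw [← hc, algebraMap_smul]
      rw [h1]
      exact Submodule.smul_mem _ c hx
  refine ⟨s, le_antisymm ?_ ?_⟩
  · rw [Submodule.span_le]
    intro x hx
    exact (hVW x).mpr (hs ▸ Submodule.subset_span hx)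
  · intro x hx
    exact key x (hs ▸ (hVW x).mp hx)

end PieceK

section Conv
variable {k : Type u} [Field k] {T : Type u} [CommRing T] [IsNoetherianRing T] [Algebra k T]
  (𝒯 : ℤ → AddSubgroup T) [GradedRing 𝒯]
  (hpos : ∀ n : ℤ, n < 0 → 𝒯 n = ⊥) (h0 : IsField (GrLC.deg0 𝒯))
  (hk0 : ∀ c : k, algebraMap k T c ∈ 𝒯 0)
  (hksurj : ∀ t : T, t ∈ 𝒯 0 → ∃ c : k, algebraMap k T c = t)
  (m : HomogeneousIdeal 𝒯)
  (hmsp : m.toIdeal = Ideal.span (⋃ n ∈ Set.Ioi (0 : ℤ), (𝒯 n : Set T)))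
  {E' : Type u} [AddCommGroup E'] [Module T E'] [Module k E'] [IsScalarTower k T E']
  (𝓔 : ℤ → AddSubgroup E') [DirectSum.Decomposition 𝓔] [SetLike.GradedSMul 𝒯 𝓔]
  (e : (T ⧸ m.toIdeal) →ₗ[T] E') (he : GrLC.IsStarInjHull 𝒯 (GrLC.quotGr 𝒯 m) 𝓔 e)
  {C : Type u} [AddCommGroup C] [Module T C] [Module k C] [IsScalarTower k T C]
  (𝒞 : ℤ → AddSubgroup C) [DirectSum.Decomposition 𝒞] [SetLike.GradedSMul 𝒯 𝒞]
  (n : ℕ) (I : GrLC.StarInjRes 𝒯 𝒯)
  [Module k (I.H m n)] [IsScalarTower k T (I.H m n)] [DirectSum.Decomposition (I.Hgr m n)]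

include hpos h0 hk0 hksurj hmsp he in
/-- a finitely generated graded `k`-dual of `H^n_m(T)` is a *canonical module -/
theorem isStarCanonical_of_gdual [Module.Finite T C] (βC : C →ₗ[k] I.H m n →ₗ[k] k)
    (hD : IsGDual T (I.Hgr m n) 𝒞 βC) : GrLC.IsStarCanonical 𝒯 𝒞 𝓔 m n I := by
  classical
  letI : Field (GrLC.deg0 𝒯) := h0.toField
  have hess : GrLC.IsStarEss (GrLC.quotGr 𝒯 m) 𝓔 e := he.toIsStarEss
  have hI : IsStarInj 𝒯 𝓔 := he.starInj
  have he1 : e 1 ∈ 𝓔 0 := e_mem_zero 𝒯 hpos m hmsp 𝓔 e hess 1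
  let v : GrLC.comp 𝒯 𝓔 0 := ⟨e 1, he1⟩
  have hv : v ≠ 0 := by
    intro h
    have h1 : e 1 = 0 := congrArg Subtype.val h
    have h2 : (1 : T ⧸ m.toIdeal) = 0 := hess.injective (by rw [h1, map_zero])
    have h3 : (1 : T) ∈ m.toIdeal := Ideal.Quotient.eq_zero_iff_mem.mp h2
    rw [hmsp] at h3
    have h4 := decompose_eq_zero_of_mem_irr 𝒯 hpos h3 0 (by omega)
    rw [decompose_of_mem_same 𝒯 (SetLike.GradedOne.one_mem (A := 𝒯))] at h4
    exact (one_ne_zero : (1 : GrLC.deg0 𝒯) ≠ 0) (Subtype.ext h4)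
  have hne1 : e 1 ≠ 0 := fun h => hv (Subtype.ext h)
  have hdim := (finrank_eq_one_iff_of_nonzero' v hv).mp
    (GrHullDim.finrank_zero 𝒯 hpos h0 m hmsp 𝓔 e hess)
  have hspan : ∀ y : E', y ∈ 𝓔 0 → ∃ c : k, c • e 1 = y := by
    intro y hy
    obtain ⟨t, ht⟩ := hdim ⟨y, hy⟩
    obtain ⟨c, hc⟩ := hksurj (t : T) t.2
    refine ⟨c, ?_⟩
    have h1 : ((t : T)) • e 1 = y := congrArg Subtype.val ht
    rw [← h1, ← hc, algebraMap_smul]
  have hkE : ∀ (c : k) (l : ℤ) (y : E'), y ∈ 𝓔 l → c • y ∈ 𝓔 l := by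
    intro c l y hy
    rw [← algebraMap_smul T c y]
    have := SetLike.GradedSMul.smul_mem (A := 𝒯) (B := 𝓔) (hk0 c) hy
    rw [vadd_eq_add, zero_add] at this
    exact this
  have hkC : ∀ (c : k) (l : ℤ) (y : C), y ∈ 𝒞 l → c • y ∈ 𝒞 l := by
    intro c l y hy
    rw [← algebraMap_smul T c y]
    have := SetLike.GradedSMul.smul_mem (A := 𝒯) (B := 𝒞) (hk0 c) hy
    rw [vadd_eq_add, zero_add] at this
    exact this
  have hkH : ∀ (c : k) (l : ℤ) (h : I.H m n), h ∈ I.Hgr m n l → c • h ∈ I.Hgr m n l := by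
    intro c l h hh
    rw [← algebraMap_smul T c h]
    exact (I.Hcomp m n l).smul_mem ⟨algebraMap k T c, hk0 c⟩ hh
  obtain ⟨π, hπ⟩ := exists_proj 𝓔 hkE 0
  obtain ⟨lam0, hlam0⟩ := Module.Projective.exists_dual_eq_one k hne1
  let lam : E' →ₗ[k] k := lam0.comp π
  have hlam : ∀ y, lam y = lam0 (decompose 𝓔 y 0 : E') := fun y => by
    show lam0 (π y) = _
    rw [hπ]
  have hlam_zero : ∀ (l : ℤ) (y : E'), y ∈ 𝓔 l → l ≠ 0 → lam y = 0 := by
    intro l y hy hl
    rw [hlam, decompose_of_mem_ne 𝓔 hy hl, map_zero]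
  have hlam_smul : ∀ c : k, lam (c • e 1) = c := by
    intro c
    rw [map_smul, hlam, decompose_of_mem_same 𝓔 he1, hlam0, smul_eq_mul, mul_one]
  have hlam_inj : ∀ y : E', y ∈ 𝓔 0 → lam y = 0 → y = 0 := by
    intro y hy hy0
    obtain ⟨c, rfl⟩ := hspan y hy
    rw [hlam_smul] at hy0
    rw [hy0, zero_smul]
  -- finiteness of the pieces of `H`
  have hfinH : ∀ d, Module.Finite k (pieceK (I.Hgr m n) hkH d) := by
    intro d
    haveI : Module.Finite (GrLC.deg0 𝒯) (I.Hcomp m n d) :=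
      Groth.Agent.S13226.result T 𝒯 hpos m hmsp T 𝒯 I n d
    exact finite_of_deg0 𝒯 hksurj (I.Hcomp m n d) (pieceK (I.Hgr m n) hkH d) (fun _ => Iff.rfl)
  have hflip_ex : ∀ (d : ℤ) (μ : C →ₗ[k] k), ∃ h ∈ I.Hgr m n d, ∀ c ∈ 𝒞 (-d), βC c h = μ c :=
    fun d μ => by
      haveI := hfinH d
      exact IsGDual.exists_flip hD d (pieceK 𝒞 hkC (-d)) (fun _ => Iff.rfl)
        (pieceK (I.Hgr m n) hkH d) (fun _ => Iff.rfl) μ
  have hflip_zero : ∀ (d : ℤ) (h : I.H m n), h ∈ I.Hgr m n d →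
      (∀ c ∈ 𝒞 (-d), βC c h = 0) → h = 0 :=
    fun d h hh hz => IsGDual.eq_zero_flip hD d (pieceK 𝒞 hkC (-d)) (fun _ => Iff.rfl)
      (pieceK (I.Hgr m n) hkH d) (fun _ => Iff.rfl) h hh hz
  have hBinj : ∀ h : I.H m n, (∀ c, βC c h = 0) → h = 0 := by
    intro h hh
    rw [← DirectSum.sum_support_decompose (I.Hgr m n) h]
    apply Finset.sum_eq_zero
    intro d _
    apply hflip_zero d _ (SetLike.coe_mem _)
    intro c hc
    rw [← IsGDual.beta_component_right hD d c hc h]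
    exact hh c
  have hBinj' : ∀ h h' : I.H m n, (∀ c, βC c h = βC c h') → h = h' := by
    intro h h' hh
    rw [← sub_eq_zero]
    apply hBinj
    intro c
    rw [map_sub, hh c, sub_self]
  -- homogeneous maps
  have hAB_hom : ∀ (d : ℤ) (ψ : C →ₗ[T] E'), IsGrHomDeg 𝒞 𝓔 ψ d →
      ∃ h ∈ I.Hgr m n d, ∀ c, βC c h = lam (ψ c) := by
    intro d ψ hψ
    obtain ⟨h, hh, hc⟩ := hflip_ex d (lam.comp (ψ.restrictScalars k))
    refine ⟨h, hh, fun c => ?_⟩
    induction c using DirectSum.Decomposition.inductionOn 𝒞 with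
    | zero => simp
    | @homogeneous j c =>
      by_cases hj : j = -d
      · subst hj
        exact hc _ c.2
      · rw [hD.vanish j c c.2 d (by omega) h hh]
        exact (hlam_zero (j + d) _ (hψ j c c.2) (by omega)).symm
    | add c c' hc hc' => rw [map_add, LinearMap.add_apply, hc, hc', map_add, map_add]
  have hAB : ∀ ψ : C →ₗ[T] E', ∃ h, ∀ c, βC c h = lam (ψ c) := by
    intro ψ
    letI := (homGr_isInternal 𝒯 𝒞 𝓔).chooseDecomposition
    induction ψ using DirectSum.Decomposition.inductionOn (homGr 𝒯 𝒞 𝓔) with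
    | zero => exact ⟨0, fun c => by rw [map_zero, LinearMap.zero_apply, map_zero]⟩
    | @homogeneous d ψ =>
      obtain ⟨h, -, hh⟩ := hAB_hom d ψ ψ.2
      exact ⟨h, hh⟩
    | add ψ ψ' hψ hψ' =>
      obtain ⟨h, hh⟩ := hψ
      obtain ⟨h', hh'⟩ := hψ'
      exact ⟨h + h', fun c => by rw [map_add, hh, hh', LinearMap.add_apply, map_add]⟩
  -- the map
  let φ0 : (C →ₗ[T] E') →ₗ[T] I.H m n :=
    { toFun := fun ψ => Classical.choose (hAB ψ)
      map_add' := fun ψ ψ' => by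
        apply hBinj'
        intro c
        rw [Classical.choose_spec (hAB (ψ + ψ')) c, map_add, Classical.choose_spec (hAB ψ) c,
          Classical.choose_spec (hAB ψ') c, LinearMap.add_apply, map_add]
      map_smul' := fun t ψ => by
        apply hBinj'
        intro c
        rw [Classical.choose_spec (hAB (t • ψ)) c, RingHom.id_apply, ← hD.map_smul,
          Classical.choose_spec (hAB ψ) (t • c), LinearMap.smul_apply, ψ.map_smul] }
  have hφ0 : ∀ ψ c, βC c (φ0 ψ) = lam (ψ c) := fun ψ c => Classical.choose_spec (hAB ψ) c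
  have hgr : ∀ (d : ℤ) (ψ : C →ₗ[T] E'), IsGrHomDeg 𝒞 𝓔 ψ d → φ0 ψ ∈ I.Hgr m n d := by
    intro d ψ hψ
    obtain ⟨h, hh, hc⟩ := hAB_hom d ψ hψ
    have : φ0 ψ = h := hBinj' _ _ (fun c => by rw [hφ0, hc])
    rw [this]
    exact hh
  have hinj : Function.Injective φ0 := by
    rw [← LinearMap.ker_eq_bot, LinearMap.ker_eq_bot']
    intro ψ hψ
    by_contra hne
    have hlamψ : ∀ c, lam (ψ c) = 0 := fun c => by
      rw [← hφ0, hψ, map_zero]
    -- a homogeneous element with nonzero image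
    obtain ⟨j, c, hc, hc0⟩ : ∃ (j : ℤ) (c : C), c ∈ 𝒞 j ∧ ψ c ≠ 0 := by
      by_contra hcon
      push Not at hcon
      apply hne
      exact ext_of_homogeneous 𝒞 (fun j c hc => by rw [hcon j c hc, LinearMap.zero_apply])
    obtain ⟨i, hi⟩ : ∃ i, (decompose 𝓔 (ψ c) i : E') ≠ 0 := by
      by_contra hcon
      push Not at hcon
      apply hc0
      rw [← DirectSum.sum_support_decompose 𝓔 (ψ c)]
      exact Finset.sum_eq_zero (fun i _ => hcon i)
    obtain ⟨r, hr, hry, hrange⟩ := exists_smul_mem_range 𝒯 hpos m hmsp 𝓔 e hess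
      (SetLike.coe_mem (decompose 𝓔 (ψ c) i)) hi
    apply hry
    have hr0 : r • (decompose 𝓔 (ψ c) i : E') ∈ 𝓔 0 := by
      have := SetLike.GradedSMul.smul_mem (A := 𝒯) (B := 𝓔) hr
        (SetLike.coe_mem (decompose 𝓔 (ψ c) i))
      rwa [vadd_eq_add, neg_add_cancel] at this
    apply hlam_inj _ hr0
    have h1 : (decompose 𝓔 (r • ψ c) 0 : E') = r • (decompose 𝓔 (ψ c) i : E') := by
      have := Groth.Agent.Lib.Helper39.decompose_smul_of_mem 𝒯 𝓔 hr (ψ c) i
      rw [neg_add_cancel] at this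
      exact this
    rw [← h1, hlam, decompose_of_mem_same 𝓔 (SetLike.coe_mem _), ← hlam, ← ψ.map_smul]
    exact hlamψ _
  have hsurj : Function.Surjective φ0 := by
    intro h
    induction h using DirectSum.Decomposition.inductionOn (I.Hgr m n) with
    | zero => exact ⟨0, map_zero _⟩
    | @homogeneous d h =>
      let mu : GrLC.comp 𝒯 𝒞 (-d) →ₗ[GrLC.deg0 𝒯] GrLC.comp 𝒯 𝓔 0 :=
        { toFun := fun c => ⟨βC (c : C) (h : I.H m n) • e 1, hkE _ 0 _ he1⟩
          map_add' := fun c c' => by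
            apply Subtype.ext
            show βC ((c : C) + (c' : C)) (h : I.H m n) • e 1 = _
            rw [map_add, LinearMap.add_apply, add_smul]
            rfl
          map_smul' := fun t c => by
            apply Subtype.ext
            obtain ⟨a, ha⟩ := hksurj (t : T) t.2
            show βC ((t : T) • (c : C)) (h : I.H m n) • e 1 =
              (t : T) • (βC (c : C) (h : I.H m n) • e 1)
            rw [← ha, algebraMap_smul, map_smul, LinearMap.smul_apply, smul_eq_mul, mul_smul,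
              algebraMap_smul] }
      obtain ⟨ψ, hψ, hψc⟩ := GrMatlis.exists_hom_rep 𝒯 hpos h0 m hmsp 𝓔 e hess hI 𝒞 (-d) d
        (neg_add_cancel d) mu
      refine ⟨ψ, hBinj' _ _ (fun c => ?_)⟩
      rw [hφ0]
      induction c using DirectSum.Decomposition.inductionOn 𝒞 with
      | zero => simp
      | @homogeneous j c =>
        by_cases hj : j = -d
        · subst hj
          rw [hψc c c.2]
          show lam (βC (c : C) (h : I.H m n) • e 1) = _
          rw [hlam_smul]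
        · rw [hD.vanish j c c.2 d (by omega) h h.2]
          exact hlam_zero (j + d) _ (hψ j c c.2) (by omega)
      | add c c' hc hc' => rw [map_add, map_add, hc, hc', map_add, LinearMap.add_apply]
    | add h h' hh hh' =>
      obtain ⟨ψ, rfl⟩ := hh
      obtain ⟨ψ', rfl⟩ := hh'
      exact ⟨ψ + ψ', map_add _ _ _⟩
  exact ⟨inferInstance, LinearEquiv.ofBijective φ0 ⟨hinj, hsurj⟩, fun d ψ hψ => hgr d ψ hψ⟩

end Conv

end Groth.Agent.Lib.Helper39.GrSegCanon
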