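import Groth.Agent.Lib.Helper39.GrSegCanon2
import Mathlib.LinearAlgebra.Contraction

/-!
# The Segre product of graded duals is a graded dual of the Segre product (helper39)

`isGDual_segre`: if `H_T` is a Segre product of `H_R` and `H_S` (through `Φ`), `C_R`, `C_S` are
graded `k`-duals of `H_R`, `H_S` (with finite dimensional pieces) and `P` is a Segre product of
`C_R` and `C_S` (through `φ`), then `P` is a graded `k`-dual of `H_T` through
`β(p, h) = (β_R ⊗ β_S)(φ p, Φ h)`.
-/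

set_option autoImplicit false
universe u
open scoped TensorProduct

namespace Groth.Agent.Lib.Helper39.GrSegCanon

open DirectSum GrLC GrSeg Groth.Agent.Lib.Helper39

section LinAlg
variable {k : Type u} [Field k] {A B U V : Type u} [AddCommGroup A] [Module k A]
  [AddCommGroup B] [Module k B] [AddCommGroup U] [Module k U] [AddCommGroup V] [Module k V]

/-- the tensor product of two perfect pairings (with finite dimensional right factors) is perfect -/
theorem tensor_perfect [Module.Finite k U] [Module.Finite k V]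
    (ΛA : A ≃ₗ[k] Module.Dual k U) (ΛB : B ≃ₗ[k] Module.Dual k V) :
    Function.Bijective ((TensorProduct.dualDistrib k U V) ∘ₗ
      (TensorProduct.map ΛA.toLinearMap ΛB.toLinearMap)) := by
  have h1 : ((TensorProduct.dualDistrib k U V) ∘ₗ
      (TensorProduct.map ΛA.toLinearMap ΛB.toLinearMap) : A ⊗[k] B → Module.Dual k (U ⊗[k] V)) =
      (TensorProduct.dualDistribEquiv k U V) ∘ (TensorProduct.congr ΛA ΛB) := rfl
  rw [h1]
  exact (TensorProduct.dualDistribEquiv k U V).bijective.comp (TensorProduct.congr ΛA ΛB).bijective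

end LinAlg

section Pieces
variable {k : Type u} [Field k] {M N : Type u} [AddCommGroup M] [Module k M]
  [AddCommGroup N] [Module k N] (ℳ : ℤ → AddSubgroup M) (𝒩 : ℤ → AddSubgroup N)
  (hkM : ∀ (c : k) (l : ℤ) (x : M), x ∈ ℳ l → c • x ∈ ℳ l)
  (hkN : ∀ (c : k) (l : ℤ) (x : N), x ∈ 𝒩 l → c • x ∈ 𝒩 l)

/-- the Segre piece is the image of the tensor product of the pieces -/
theorem segrePiece_eq_range (n : ℤ) :
    segrePiece k ℳ 𝒩 n = LinearMap.range
      (TensorProduct.map (pieceK ℳ hkM n).subtype (pieceK 𝒩 hkN n).subtype) := by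
  apply le_antisymm
  · refine Submodule.span_le.mpr ?_
    rintro _ ⟨a, ha, b, hb, rfl⟩
    exact ⟨(⟨a, ha⟩ : pieceK ℳ hkM n) ⊗ₜ[k] (⟨b, hb⟩ : pieceK 𝒩 hkN n), rfl⟩
  · rintro _ ⟨z, rfl⟩
    induction z using TensorProduct.induction_on with
    | zero => rw [map_zero]; exact zero_mem _
    | tmul a b => exact Submodule.subset_span ⟨a.1, a.2, b.1, b.2, rfl⟩
    | add z z' hz hz' => rw [map_add]; exact add_mem hz hz'

theorem map_subtype_injective (n : ℤ) : Function.Injective
    (TensorProduct.map (pieceK ℳ hkM n).subtype (pieceK 𝒩 hkN n).subtype) :=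
  TensorProduct.map_injective_of_flat_flat _ _ (Submodule.injective_subtype _)
    (Submodule.injective_subtype _)

end Pieces

section Main
variable {k : Type u} [Field k] {R S T : Type u} [CommRing R] [CommRing S] [CommRing T]
  [Algebra k R] [Algebra k S] [Algebra k T] (ψ : T →ₐ[k] R ⊗[k] S)
  {HR : Type u} [AddCommGroup HR] [Module R HR] [Module k HR] [IsScalarTower k R HR]
  (𝓗R : ℤ → AddSubgroup HR) [DirectSum.Decomposition 𝓗R]
  {HS : Type u} [AddCommGroup HS] [Module S HS] [Module k HS] [IsScalarTower k S HS]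
  (𝓗S : ℤ → AddSubgroup HS) [DirectSum.Decomposition 𝓗S]
  {HT : Type u} [AddCommGroup HT] [Module T HT] [Module k HT] [IsScalarTower k T HT]
  (𝓗T : ℤ → AddSubgroup HT) [DirectSum.Decomposition 𝓗T]
  (Φ : HT →ₗ[k] HR ⊗[k] HS) (hΦ : IsSegreMod ψ 𝓗R 𝓗S 𝓗T Φ)
  {CR : Type u} [AddCommGroup CR] [Module R CR] [Module k CR] [IsScalarTower k R CR]
  (𝒞R : ℤ → AddSubgroup CR) [DirectSum.Decomposition 𝒞R]
  (βR : CR →ₗ[k] HR →ₗ[k] k) (hR : IsGDual R 𝓗R 𝒞R βR)
  {CS : Type u} [AddCommGroup CS] [Module S CS] [Module k CS] [IsScalarTower k S CS]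
  (𝒞S : ℤ → AddSubgroup CS) [DirectSum.Decomposition 𝒞S]
  (βS : CS →ₗ[k] HS →ₗ[k] k) (hS : IsGDual S 𝓗S 𝒞S βS)
  {P : Type u} [AddCommGroup P] [Module T P] [Module k P] [IsScalarTower k T P]
  (𝒬 : ℤ → AddSubgroup P) [DirectSum.Decomposition 𝒬]
  (φ : P →ₗ[k] CR ⊗[k] CS) (hP : IsSegreMod ψ 𝒞R 𝒞S 𝒬 φ)
  (hkHR : ∀ (c : k) (l : ℤ) (x : HR), x ∈ 𝓗R l → c • x ∈ 𝓗R l)
  (hkHS : ∀ (c : k) (l : ℤ) (x : HS), x ∈ 𝓗S l → c • x ∈ 𝓗S l)
  (hkCR : ∀ (c : k) (l : ℤ) (x : CR), x ∈ 𝒞R l → c • x ∈ 𝒞R l)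
  (hkCS : ∀ (c : k) (l : ℤ) (x : CS), x ∈ 𝒞S l → c • x ∈ 𝒞S l)
  (hfinR : ∀ d, Module.Finite k (pieceK 𝓗R hkHR d))
  (hfinS : ∀ d, Module.Finite k (pieceK 𝓗S hkHS d))

/-- the tensor product of the two pairings -/
noncomputable def pairRS : CR ⊗[k] CS →ₗ[k] HR ⊗[k] HS →ₗ[k] k :=
  (TensorProduct.dualDistrib k HR HS) ∘ₗ (TensorProduct.map βR βS)

omit [Module R HR] [IsScalarTower k R HR] [Module S HS] [IsScalarTower k S HS] [Module R CR]
  [IsScalarTower k R CR] [Module S CS] [IsScalarTower k S CS] in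
@[simp] theorem pairRS_tmul (c : CR) (c' : CS) (h : HR) (h' : HS) :
    pairRS βR βS (c ⊗ₜ[k] c') (h ⊗ₜ[k] h') = βR c h * βS c' h' := rfl

/-- the pairing on the Segre products -/
noncomputable def pairT : P →ₗ[k] HT →ₗ[k] k :=
  ((LinearMap.lcomp k k Φ) ∘ₗ (pairRS βR βS)) ∘ₗ φ

omit [Module R HR] [IsScalarTower k R HR] [Module S HS] [IsScalarTower k S HS] [Module R CR]
  [IsScalarTower k R CR] [Module S CS] [IsScalarTower k S CS] [Module T HT] [IsScalarTower k T HT]
  [Module T P] [IsScalarTower k T P] in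
theorem pairT_apply (p : P) (h : HT) :
    pairT Φ βR βS φ p h = pairRS βR βS (φ p) (Φ h) := rfl

include hR hS in
theorem pairRS_act (v : R ⊗[k] S) (x : CR ⊗[k] CS) (y : HR ⊗[k] HS) :
    pairRS βR βS (act k R S CR CS v x) y = pairRS βR βS x (act k R S HR HS v y) := by
  induction v using TensorProduct.induction_on with
  | zero => simp
  | tmul a b =>
    induction x using TensorProduct.induction_on with
    | zero => simp
    | tmul c c' =>
      induction y using TensorProduct.induction_on with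
      | zero => simp
      | tmul h h' =>
        rw [act_tmul, act_tmul, pairRS_tmul, pairRS_tmul, hR.map_smul, hS.map_smul]
      | add y y' hy hy' => rw [map_add, hy, hy', map_add, map_add]
    | add x x' hx hx' =>
      rw [map_add, map_add, LinearMap.add_apply, hx, hx', map_add, LinearMap.add_apply]
  | add v v' hv hv' =>
    rw [map_add, LinearMap.add_apply, map_add, LinearMap.add_apply, hv, hv', map_add,
      LinearMap.add_apply, map_add]

include hR in
omit [Module S HS] [IsScalarTower k S HS] [Module S CS] [IsScalarTower k S CS]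
  [DirectSum.Decomposition 𝓗S] [DirectSum.Decomposition 𝒞S] in
theorem pairRS_vanish (n l : ℤ) (hl : l ≠ -n) (x : CR ⊗[k] CS) (hx : x ∈ segrePiece k 𝒞R 𝒞S n)
    (y : HR ⊗[k] HS) (hy : y ∈ segrePiece k 𝓗R 𝓗S l) : pairRS βR βS x y = 0 := by
  induction hx using Submodule.span_induction with
  | mem x hx =>
    obtain ⟨c, hc, c', -, rfl⟩ := hx
    induction hy using Submodule.span_induction with
    | mem y hy =>
      obtain ⟨h, hh, h', -, rfl⟩ := hy
      rw [pairRS_tmul, hR.vanish n c hc l hl h hh, zero_mul]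
    | zero => rw [map_zero]
    | add y y' _ _ hy hy' => rw [map_add, hy, hy', add_zero]
    | smul a y _ hy => rw [map_smul, hy, smul_zero]
  | zero => rw [map_zero, LinearMap.zero_apply]
  | add x x' _ _ hx hx' => rw [map_add, LinearMap.add_apply, hx, hx', add_zero]
  | smul a x _ hx => rw [map_smul, LinearMap.smul_apply, hx, smul_zero]

include hΦ hR hS hP hfinR hfinS hkCR hkCS in
/-- **the Segre product of graded duals is a graded dual of the Segre product** -/
theorem isGDual_segre : IsGDual T 𝓗T 𝒬 (pairT Φ βR βS φ) := by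
  classical
  -- the perfect pairing in each degree
  have key : ∀ n : ℤ, ∃ Θ : (pieceK 𝒞R hkCR n) ⊗[k] (pieceK 𝒞S hkCS n) ≃ₗ[k]
      Module.Dual k ((pieceK 𝓗R hkHR (-n)) ⊗[k] (pieceK 𝓗S hkHS (-n))),
      ∀ x y, Θ x y = pairRS βR βS
        (TensorProduct.map (pieceK 𝒞R hkCR n).subtype (pieceK 𝒞S hkCS n).subtype x)
        (TensorProduct.map (pieceK 𝓗R hkHR (-n)).subtype (pieceK 𝓗S hkHS (-n)).subtype y) := by
    intro n
    haveI := hfinR (-n)
    haveI := hfinS (-n)
    obtain ⟨ΛA, hΛA⟩ := IsGDual.exists_piece_equiv hR n (pieceK 𝒞R hkCR n) (fun _ => Iff.rfl)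
      (pieceK 𝓗R hkHR (-n)) (fun _ => Iff.rfl)
    obtain ⟨ΛB, hΛB⟩ := IsGDual.exists_piece_equiv hS n (pieceK 𝒞S hkCS n) (fun _ => Iff.rfl)
      (pieceK 𝓗S hkHS (-n)) (fun _ => Iff.rfl)
    refine ⟨LinearEquiv.ofBijective _ (tensor_perfect ΛA ΛB), fun x y => ?_⟩
    show TensorProduct.dualDistrib k _ _ (TensorProduct.map ΛA.toLinearMap ΛB.toLinearMap x) y = _
    induction x using TensorProduct.induction_on with
    | zero => simp
    | tmul a b =>
      induction y using TensorProduct.induction_on with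
      | zero => simp
      | tmul u v =>
        rw [TensorProduct.map_tmul, TensorProduct.dualDistrib_apply, TensorProduct.map_tmul,
          TensorProduct.map_tmul, pairRS_tmul]
        show ΛA a u * ΛB b v = _
        rw [hΛA, hΛB]
        rfl
      | add y y' hy hy' => rw [map_add, hy, hy', map_add, map_add]
    | add x x' hx hx' =>
      rw [map_add, map_add, LinearMap.add_apply, hx, hx', map_add, map_add, LinearMap.add_apply]
  have hφmem : ∀ (n : ℤ) (p : P), p ∈ 𝒬 n → φ p ∈ segrePiece k 𝒞R 𝒞S n := by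
    intro n p hp
    have : φ p ∈ φ '' (𝒬 n : Set P) := ⟨p, hp, rfl⟩
    rw [hP.image_piece n] at this
    exact this
  have hΦmem : ∀ (n : ℤ) (h : HT), h ∈ 𝓗T n → Φ h ∈ segrePiece k 𝓗R 𝓗S n := by
    intro n h hh
    have : Φ h ∈ Φ '' (𝓗T n : Set HT) := ⟨h, hh, rfl⟩
    rw [hΦ.image_piece n] at this
    exact this
  refine ⟨?_, ?_, ?_, ?_⟩
  · intro t p h
    rw [pairT_apply, pairT_apply, hP.map_smul, hΦ.map_smul, pairRS_act (hR := hR) (hS := hS)]
  · intro n p hp l hl h hh
    rw [pairT_apply]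
    exact pairRS_vanish 𝓗R 𝓗S 𝒞R βR hR 𝒞S βS n l hl _ (hφmem n p hp) _ (hΦmem l h hh)
  · intro n p hp hzero
    apply hP.injective
    rw [map_zero]
    obtain ⟨Θ, hΘ⟩ := key n
    have h1 := hφmem n p hp
    rw [segrePiece_eq_range 𝒞R 𝒞S hkCR hkCS n] at h1
    obtain ⟨x, hx⟩ := h1
    have h2 : Θ x = 0 := by
      ext u v
      rw [TensorProduct.AlgebraTensorModule.curry_apply, TensorProduct.curry_apply,
        LinearMap.coe_restrictScalars, hΘ, hx]
      have h3 : TensorProduct.map (pieceK 𝓗R hkHR (-n)).subtype (pieceK 𝓗S hkHS (-n)).subtype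
          (u ⊗ₜ[k] v) ∈ segrePiece k 𝓗R 𝓗S (-n) := by
        rw [segrePiece_eq_range 𝓗R 𝓗S hkHR hkHS (-n)]
        exact ⟨_, rfl⟩
      have h4 : TensorProduct.map (pieceK 𝓗R hkHR (-n)).subtype (pieceK 𝓗S hkHS (-n)).subtype
          (u ⊗ₜ[k] v) ∈ Φ '' (𝓗T (-n) : Set HT) := by
        rw [hΦ.image_piece (-n)]
        exact h3
      obtain ⟨h, hh, hh'⟩ := h4
      rw [← hh', ← pairT_apply, hzero h hh]
      rfl
    rw [← hx, Θ.map_eq_zero_iff.mp h2, map_zero]
  · intro n g
    obtain ⟨Θ, hΘ⟩ := key n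
    -- the functional on `U ⊗ V`
    have hex : ∀ y : (pieceK 𝓗R hkHR (-n)) ⊗[k] (pieceK 𝓗S hkHS (-n)),
        ∃ h : HT, h ∈ 𝓗T (-n) ∧ Φ h =
          TensorProduct.map (pieceK 𝓗R hkHR (-n)).subtype (pieceK 𝓗S hkHS (-n)).subtype y := by
      intro y
      have h3 : TensorProduct.map (pieceK 𝓗R hkHR (-n)).subtype (pieceK 𝓗S hkHS (-n)).subtype y
          ∈ segrePiece k 𝓗R 𝓗S (-n) := by
        rw [segrePiece_eq_range 𝓗R 𝓗S hkHR hkHS (-n)]
        exact ⟨_, rfl⟩
      have h4 : TensorProduct.map (pieceK 𝓗R hkHR (-n)).subtype (pieceK 𝓗S hkHS (-n)).subtype y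
          ∈ Φ '' (𝓗T (-n) : Set HT) := by
        rw [hΦ.image_piece (-n)]
        exact h3
      obtain ⟨h, hh, hh'⟩ := h4
      exact ⟨h, hh, hh'⟩
    choose ch hch1 hch2 using hex
    let g' : Module.Dual k ((pieceK 𝓗R hkHR (-n)) ⊗[k] (pieceK 𝓗S hkHS (-n))) :=
      { toFun := fun y => g (ch y)
        map_add' := fun y y' => by
          rw [← map_add]
          congr 1
          apply hΦ.injective
          rw [map_add, hch2, hch2, hch2, map_add]
        map_smul' := fun c y => by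
          rw [RingHom.id_apply, ← map_smul]
          congr 1
          apply hΦ.injective
          rw [map_smul, hch2, hch2, map_smul] }
    obtain ⟨x, hx⟩ := Θ.surjective g'
    have h1 : TensorProduct.map (pieceK 𝒞R hkCR n).subtype (pieceK 𝒞S hkCS n).subtype x ∈
        φ '' (𝒬 n : Set P) := by
      rw [hP.image_piece n, segrePiece_eq_range 𝒞R 𝒞S hkCR hkCS n]
      exact ⟨_, rfl⟩
    obtain ⟨p, hp, hpx⟩ := h1
    refine ⟨p, hp, fun h hh => ?_⟩
    have h2 := hΦmem (-n) h hh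
    rw [segrePiece_eq_range 𝓗R 𝓗S hkHR hkHS (-n)] at h2
    obtain ⟨y, hy⟩ := h2
    rw [pairT_apply, hpx, ← hy, ← hΘ, hx]
    show g (ch y) = g h
    congr 1
    apply hΦ.injective
    rw [hch2, hy]

end Main

end Groth.Agent.Lib.Helper39.GrSegCanon
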