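import Groth.Agent.Lib.Helper39.GrSegCanon1
import Groth.Agent.Lib.Helper87.Kun39

/-!
# `dim (K_T)_n = dim (K_R)_n · dim (K_S)_n` for the Segre product (helper39)

Assembly of helper87's top Künneth formula (`Kun.kunneth_top_ring`) with the duality
`dim (K_A)_n = dim H^{dim A}(A)_{-n}` (`finrank_comp_canonical_sub`).
-/

set_option autoImplicit false
universe u
open scoped TensorProduct

namespace Groth.Agent.Lib.Helper39.GrSegCanon

open DirectSum GrLC GrSeg Groth.Agent.Lib.Helper39 Groth.Agent.Lib.Helper39.GrBridge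
  Groth.Agent.Lib.Helper87.SegOne

section Field0
variable {k : Type u} [Field k] {T : Type u} [CommRing T] [Nontrivial T] [Algebra k T]
  (𝒯 : ℤ → Submodule k T) [GradedAlgebra 𝒯]

/-- if `T_0 = k·1` then `T_0` is a field -/
theorem isField_deg0_of_span_one (h0 : 𝒯 0 = Submodule.span k {(1 : T)}) :
    IsField (GrLC.deg0 𝒯) := by
  refine { exists_pair_ne := ⟨0, 1, ?_⟩, mul_comm := mul_comm, mul_inv_cancel := ?_ }
  · intro h
    have : ((0 : GrLC.deg0 𝒯) : T) = 1 := congrArg Subtype.val h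
    exact zero_ne_one this
  · intro a ha
    have ha' : (a : T) ∈ 𝒯 0 := a.2
    rw [h0, Submodule.mem_span_singleton] at ha'
    obtain ⟨c, hc'⟩ := ha'
    have hc : c ≠ 0 := by
      intro hc
      apply ha
      apply Subtype.ext
      rw [← hc', hc, zero_smul]
      rfl
    have hmem : c⁻¹ • (1 : T) ∈ 𝒯 0 := by
      rw [h0]
      exact Submodule.smul_mem _ _ (Submodule.mem_span_singleton_self 1)
    refine ⟨⟨c⁻¹ • (1 : T), hmem⟩, ?_⟩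
    apply Subtype.ext
    show (a : T) * (c⁻¹ • (1 : T)) = 1
    rw [← hc', smul_mul_smul_comm, mul_one, mul_inv_cancel₀ hc, one_smul]

end Field0

/-- **`dim (K_T)_n = dim (K_R)_n · dim (K_S)_n`** for the Segre product `T = R # S` -/
theorem finrank_canonical_segre (k : Type u) [Field k] (R : Type u) [CommRing R]
    [Algebra k R] (𝒜 : ℤ → Submodule k R) [GradedAlgebra 𝒜] (hposR : ∀ n : ℤ, n < 0 → 𝒜 n = ⊥)
    (h0R : 𝒜 0 = Submodule.span k {(1 : R)}) [Algebra.FiniteType k R] (S : Type u) [CommRing S]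
    [Algebra k S] (ℬ : ℤ → Submodule k S) [GradedAlgebra ℬ]
    (hposS : ∀ n : ℤ, n < 0 → ℬ n = ⊥) (h0S : ℬ 0 = Submodule.span k {(1 : S)})
    [Algebra.FiniteType k S] (T : Type u) [CommRing T] [Algebra k T] (𝒯 : ℤ → Submodule k T)
    [GradedAlgebra 𝒯] (ψ : T →ₐ[k] TensorProduct k R S) (hψ : Function.Injective ψ)
    (hdegT : ∀ n : ℤ, (𝒯 n).map ψ.toLinearMap =
      Submodule.span k {x : TensorProduct k R S | ∃ a ∈ 𝒜 n, ∃ b ∈ ℬ n, x = a ⊗ₜ[k] b})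
    (mR : HomogeneousIdeal 𝒜)
    (hmR : mR.toIdeal = Ideal.span (⋃ n ∈ Set.Ioi (0 : ℤ), (𝒜 n : Set R)))
    (I : GrLC.StarInjRes 𝒜 𝒜) (mS : HomogeneousIdeal ℬ)
    (hmS : mS.toIdeal = Ideal.span (⋃ n ∈ Set.Ioi (0 : ℤ), (ℬ n : Set S)))
    (J : GrLC.StarInjRes ℬ ℬ) (mT : HomogeneousIdeal 𝒯)
    (hmT : mT.toIdeal = Ideal.span (⋃ n ∈ Set.Ioi (0 : ℤ), (𝒯 n : Set T)))
    (IT : GrLC.StarInjRes 𝒯 𝒯) (r s : ℕ) (hr : ringKrullDim R = r) (hs : ringKrullDim S = s)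
    (h2r : 2 ≤ r) (h2s : 2 ≤ s)
    (ER : Type u) [AddCommGroup ER] [Module R ER] (𝓔R : ℤ → AddSubgroup ER)
    [DirectSum.Decomposition 𝓔R] [SetLike.GradedSMul 𝒜 𝓔R] (eR : (R ⧸ mR.toIdeal) →ₗ[R] ER)
    (heR : GrLC.IsStarInjHull 𝒜 (GrLC.quotGr 𝒜 mR) 𝓔R eR)
    (CR : Type u) [AddCommGroup CR] [Module R CR] (𝒞R : ℤ → AddSubgroup CR)
    [DirectSum.Decomposition 𝒞R] [SetLike.GradedSMul 𝒜 𝒞R]
    (hCR : GrLC.IsStarCanonical 𝒜 𝒞R 𝓔R mR r I)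
    (ES : Type u) [AddCommGroup ES] [Module S ES] (𝓔S : ℤ → AddSubgroup ES)
    [DirectSum.Decomposition 𝓔S] [SetLike.GradedSMul ℬ 𝓔S] (eS : (S ⧸ mS.toIdeal) →ₗ[S] ES)
    (heS : GrLC.IsStarInjHull ℬ (GrLC.quotGr ℬ mS) 𝓔S eS)
    (CS : Type u) [AddCommGroup CS] [Module S CS] (𝒞S : ℤ → AddSubgroup CS)
    [DirectSum.Decomposition 𝒞S] [SetLike.GradedSMul ℬ 𝒞S]
    (hCS : GrLC.IsStarCanonical ℬ 𝒞S 𝓔S mS s J)
    (ET : Type u) [AddCommGroup ET] [Module T ET] (𝓔T : ℤ → AddSubgroup ET)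
    [DirectSum.Decomposition 𝓔T] [SetLike.GradedSMul 𝒯 𝓔T] (eT : (T ⧸ mT.toIdeal) →ₗ[T] ET)
    (heT : GrLC.IsStarInjHull 𝒯 (GrLC.quotGr 𝒯 mT) 𝓔T eT)
    (CT : Type u) [AddCommGroup CT] [Module T CT] (𝒞T : ℤ → AddSubgroup CT)
    [DirectSum.Decomposition 𝒞T] [SetLike.GradedSMul 𝒯 𝒞T]
    (hCT : GrLC.IsStarCanonical 𝒯 𝒞T 𝓔T mT (r + s - 1) IT) (n : ℤ) :
    Module.finrank (GrLC.deg0 𝒯) (GrLC.comp 𝒯 𝒞T n) =
      Module.finrank (GrLC.deg0 𝒜) (GrLC.comp 𝒜 𝒞R n) *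
        Module.finrank (GrLC.deg0 ℬ) (GrLC.comp ℬ 𝒞S n) := by
  classical
  haveI : Nontrivial R := by
    by_contra hcon
    rw [not_nontrivial_iff_subsingleton] at hcon
    rw [ringKrullDim_eq_bot_of_subsingleton] at hr
    exact WithBot.bot_ne_coe hr
  haveI : Nontrivial S := by
    by_contra hcon
    rw [not_nontrivial_iff_subsingleton] at hcon
    rw [ringKrullDim_eq_bot_of_subsingleton] at hs
    exact WithBot.bot_ne_coe hs
  haveI : IsNoetherianRing R := Algebra.FiniteType.isNoetherianRing k R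
  haveI : IsNoetherianRing S := Algebra.FiniteType.isNoetherianRing k S
  haveI : Nontrivial (R ⊗[k] S) :=
    Algebra.TensorProduct.nontrivial_of_algebraMap_injective_of_flat_left (R := k) (A := R)
      (B := S) (algebraMap k S).injective
  haveI : Nontrivial T := by
    by_contra hcon
    rw [not_nontrivial_iff_subsingleton] at hcon
    have h1 : ψ 1 = ψ 0 := congrArg ψ (Subsingleton.elim _ _)
    rw [map_one, map_zero] at h1
    exact one_ne_zero h1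
  have hT : GrSeg.IsSegreRing 𝒜 ℬ 𝒯 ψ := ⟨hψ, hdegT⟩
  haveI : IsNoetherianRing T :=
    Groth.Agent.Lib.Helper99.isNoetherianRing_segre 𝒜 ℬ 𝒯 hposR ψ hT.1 hT.2
  have hposT := segre_pos 𝒜 ℬ 𝒯 ψ hT hposR
  have h0T : 𝒯 0 = Submodule.span k {(1 : T)} := segre_zero 𝒜 ℬ 𝒯 ψ hT h0R h0S
  have hneg : ∀ {A : Type u} [CommRing A] [Algebra k A] (𝒜' : ℤ → Submodule k A),
      (∀ n : ℤ, n < 0 → 𝒜' n = ⊥) → ∀ n : ℤ, n < 0 → ∀ x ∈ 𝒜' n, x = 0 := by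
    intro A _ _ 𝒜' h n hn x hx
    rw [h n hn] at hx
    exact (Submodule.mem_bot k).mp hx
  rw [finrank_comp_canonical_sub 𝒯 (hneg 𝒯 hposT) (isField_deg0_of_span_one 𝒯 h0T) mT hmT 𝓔T eT
      heT 𝒞T (r + s - 1) IT hCT n,
    finrank_comp_canonical_sub 𝒜 (hneg 𝒜 hposR) (isField_deg0_of_span_one 𝒜 h0R) mR hmR 𝓔R eR
      heR 𝒞R r I hCR n,
    finrank_comp_canonical_sub ℬ (hneg ℬ hposS) (isField_deg0_of_span_one ℬ h0S) mS hmS 𝓔S eS
      heS 𝒞S s J hCS n]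
  exact Groth.Agent.Lib.Helper87.Kun.kunneth_top_ring k R 𝒜 hposR h0R S ℬ hposS h0S T 𝒯 ψ hψ hdegT
    mR hmR I mS hmS J mT hmT IT r s hr hs h2r h2s (-n)

end Groth.Agent.Lib.Helper39.GrSegCanon
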