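import Groth.Agent.Lib.Helper87.StarGor3

/-!
# A *local ring whose graded local cohomology is concentrated in one degree and *injective there
is Gorenstein (helper39; adapted from helper87's `StarGor.isGorensteinLocalRing_of_starInj`,
replacing the Cohen–Macaulay hypothesis by the vanishing of the graded local cohomology)
-/

set_option autoImplicit false
universe u

namespace Groth.Agent.Lib.Helper39.StarGorV

open CategoryTheory Abelian IsLocalRing GrLC DirectSum TensorProduct
  Groth.Agent.Lib.Helper87.BassFlat Groth.Agent.Lib.Helper87.StarGor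
  Groth.Agent.Lib.Helper87.StarCount Groth.Agent.Lib.Helper87.StarRes
  Groth.Agent.Lib.Helper39.Acyclic Groth.Agent.Lib.Helper39 Groth.Agent.Lib.Helper39.GrLes

attribute [-instance] Groth.Agent.Lib.Helper89.ExtBaseChange.extModule

variable {ι : Type} [AddCommGroup ι] [DecidableEq ι] [Module.Free ℤ ι] [Module.Finite ℤ ι]

/-- If `R` is Noetherian `*`local, `H^j_m(R) = 0` for `j ≠ n` and `H^n_m(R)` is `*`injective,
then the localization of `R` at `m` is Gorenstein. -/
theorem isGorensteinLocalRing_of_starInj (R : Type u) [CommRing R] [IsNoetherianRing R]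
    (𝒜 : ι → AddSubgroup R) [GradedRing 𝒜] (m : HomogeneousIdeal 𝒜) (hm : GrLC.IsStarLocal 𝒜 m)
    [hmp : m.toIdeal.IsPrime]
    (n : ℕ) (I : GrLC.StarInjRes 𝒜 𝒜)
    (hvan : ∀ j, j ≠ n → Subsingleton (I.H m j))
    (X : GrLC.GMod.{u} 𝒜)
    (φ : I.H m n ≃ₗ[R] X.carrier) (hX : GrLC.IsStarInj 𝒜 X.gr)
    (hφ : GrLC.IsGrHom (I.Hgr m n) X.gr φ.toLinearMap) :
    LocCoh.IsGorensteinLocalRing (Localization.AtPrime m.toIdeal) := by
  classical
  have h𝔭 : m.toIdeal.FG := (isNoetherianRing_iff_ideal_fg R).mp inferInstance _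
  obtain ⟨E, hmin0, hmin⟩ := Groth.Agent.Lib.Helper87.StarMin.exists_minimal_starInjRes 𝒜 (M := R) 𝒜
  have hlen := fun j => length_socle_eq_bassNum R 𝒜 R 𝒜 E hmin0 hmin m j
  have hgamhom := fun j => gam_isHomogeneous 𝒜 (E.X j).gr m
  have hvanE : ∀ j, j ≠ n → Subsingleton (E.H m j) := fun j hj =>
    haveI := hvan j hj
    (Hequiv m E I j).injective.subsingleton
  -- no torsion below `n`
  have hlow : ∀ j, j < n → gam m.toIdeal (E.X j).carrier = ⊥ := by
    intro j
    induction j with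
    | zero =>
      intro hj
      by_contra hne
      have h1 := Zk_starEss R 𝒜 R 𝒜 E hmin0 hmin 0 _ (hgamhom 0) hne
      obtain ⟨v, ⟨hvT, hvZ⟩, hv0⟩ := (Submodule.ne_bot_iff _).mp h1
      haveI := hvanE 0 (by omega)
      have h2 : E.toH m 0 ⟨v, hvT, hvZ⟩ = 0 := Subsingleton.elim _ _
      rw [toH_eq_zero_iff] at h2
      exact hv0 h2
    | succ k ih =>
      intro hj
      by_contra hne
      have h1 := Zk_starEss R 𝒜 R 𝒜 E hmin0 hmin (k + 1) _ (hgamhom (k + 1)) hne
      obtain ⟨v, ⟨hvT, hvZ⟩, hv0⟩ := (Submodule.ne_bot_iff _).mp h1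
      haveI := hvanE (k + 1) (by omega)
      have h2 : E.toH m (k + 1) ⟨v, hvT, hvZ⟩ = 0 := Subsingleton.elim _ _
      rw [toH_eq_zero_iff] at h2
      obtain ⟨y, hy, hyv⟩ := h2
      have hy' : y ∈ gam m.toIdeal (E.X k).carrier := hy
      rw [ih (by omega)] at hy'
      apply hv0
      have : v = E.d k y := hyv.symm
      rw [this, (Submodule.mem_bot R).mp hy', map_zero]
  have hprev : ∀ k, k + 1 = n → gam m.toIdeal (E.X k).carrier = ⊥ :=
    fun k hk => hlow k (by omega)
  have hcob : E.cobdy m n = ⊥ := cobdy_eq_bot E m n hprev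
  -- the homogeneous isomorphism `α : cocyc ≃ X`
  let eH : E.H m n ≃ₗ[R] E.cocyc m n := Submodule.quotEquivOfEqBot _ (by
    rw [hcob, Submodule.comap_bot, Submodule.ker_subtype])
  let α : E.cocyc m n ≃ₗ[R] X.carrier := (eH.symm.trans (Hequiv m E I n)).trans φ
  have hαgr : ∀ (h : ι) (z : E.cocyc m n), (z : (E.X n).carrier) ∈ (E.X n).gr h →
      α z ∈ X.gr h := by
    intro h z hz
    have h1 : eH.symm z = E.toH m n z := rfl
    have h2 : E.toH m n z ∈ E.Hgr m n h := ⟨z, hz, rfl⟩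
    have h3 := Hequiv_mem_Hgr m E I n h2
    exact hφ h _ h3
  -- extend `α` to `E.X n`
  have hcochom := cocyc_isHomogeneous E m n
  let decC := subDecomposition (E.X n).gr (E.cocyc m n) hcochom
  have smulC := subGradedSMul 𝒜 (E.X n).gr (E.cocyc m n)
  obtain ⟨η, hηgr, hη⟩ := hX (GMod.of 𝒜 (E.cocyc m n) (subPieces (E.X n).gr (E.cocyc m n)))
    (E.X n) (E.cocyc m n).subtype (isGrHom_subtype (E.X n).gr (E.cocyc m n))
    Subtype.val_injective α.toLinearMap (fun h z hz => hαgr h z hz)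
  have hη' : ∀ z : E.cocyc m n, η (z : (E.X n).carrier) = α z := fun z => LinearMap.congr_fun hη z
  have hkerhom : (LinearMap.ker η).IsHomogeneous (E.X n).gr :=
    IsGrHom.ker_isHomogeneous (E.X n).gr X.gr hηgr
  -- `ker η` has no torsion
  have hCT : LinearMap.ker η ⊓ gam m.toIdeal (E.X n).carrier = ⊥ := by
    by_contra hne
    have h1 := Zk_starEss R 𝒜 R 𝒜 E hmin0 hmin n _
      (isHomogeneous_inf (E.X n).gr hkerhom (hgamhom n)) hne
    obtain ⟨v, ⟨⟨hvk, hvT⟩, hvZ⟩, hv0⟩ := (Submodule.ne_bot_iff _).mp h1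
    have hvc : v ∈ E.cocyc m n := ⟨hvT, hvZ⟩
    have h2 : α ⟨v, hvc⟩ = 0 := by
      rw [← hη' ⟨v, hvc⟩]
      exact hvk
    have h3 : (⟨v, hvc⟩ : E.cocyc m n) = 0 := α.injective (by rw [h2, map_zero])
    exact hv0 (congrArg Subtype.val h3)
  -- Claim A: the torsion of `E.X n` consists of cocycles
  have hA : gam m.toIdeal (E.X n).carrier ≤ LinearMap.ker (E.d n) := by
    intro w hw
    let c : E.cocyc m n := α.symm (η w)
    have h1 : w - (c : (E.X n).carrier) ∈ LinearMap.ker η ⊓ gam m.toIdeal (E.X n).carrier := by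
      refine ⟨?_, Submodule.sub_mem _ hw c.2.1⟩
      show η (w - (c : (E.X n).carrier)) = 0
      rw [map_sub, hη' c, LinearEquiv.apply_symm_apply, sub_self]
    rw [hCT, Submodule.mem_bot, sub_eq_zero] at h1
    rw [h1]
    exact c.2.2
  -- Claim B: no torsion above `n`
  have hB : ∀ k : ℕ, gam m.toIdeal (E.X (n + 1 + k)).carrier = ⊥ := by
    intro k
    induction k with
    | zero =>
      by_contra hne
      have h1 := Zk_starEss R 𝒜 R 𝒜 E hmin0 hmin (n + 1) _ (hgamhom (n + 1)) hne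
      obtain ⟨v, ⟨hvT, hvZ⟩, hv0⟩ := (Submodule.ne_bot_iff _).mp h1
      haveI := hvanE (n + 1) (by omega)
      have h2 : E.toH m (n + 1) ⟨v, hvT, hvZ⟩ = 0 := Subsingleton.elim _ _
      rw [toH_eq_zero_iff] at h2
      obtain ⟨y, hy, hyv⟩ := h2
      have h3 : E.d n y = 0 := hA hy
      apply hv0
      have : v = E.d n y := hyv.symm
      rw [this, h3]
    | succ k ih =>
      by_contra hne
      have h1 := Zk_starEss R 𝒜 R 𝒜 E hmin0 hmin (n + 1 + (k + 1)) _
        (hgamhom (n + 1 + (k + 1))) hne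
      obtain ⟨v, ⟨hvT, hvZ⟩, hv0⟩ := (Submodule.ne_bot_iff _).mp h1
      haveI := hvanE (n + 1 + (k + 1)) (by omega)
      have h2 : E.toH m (n + 1 + (k + 1)) ⟨v, hvT, hvZ⟩ = 0 := Subsingleton.elim _ _
      rw [toH_eq_zero_iff] at h2
      obtain ⟨y, hy, hyv⟩ := h2
      have hy' : y ∈ gam m.toIdeal (E.X (n + 1 + k)).carrier := hy
      rw [ih] at hy'
      apply hv0
      have : v = E.d (n + 1 + k) y := hyv.symm
      rw [this, (Submodule.mem_bot R).mp hy', map_zero]
  -- Bass numbers vanish above `n`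
  have hbass : ∀ j, n < j → GrLC.bassNum m.toIdeal R j = 0 := by
    intro j hj
    obtain ⟨k, rfl⟩ : ∃ k, j = n + 1 + k := ⟨j - (n + 1), by omega⟩
    rw [← hlen (n + 1 + k)]
    haveI : Subsingleton (socle (Localization.AtPrime m.toIdeal)
        (LocalizedModule m.toIdeal.primeCompl (E.X (n + 1 + k)).carrier)) := by
      refine ⟨fun a b => ?_⟩
      have hz : ∀ w : socle (Localization.AtPrime m.toIdeal)
          (LocalizedModule m.toIdeal.primeCompl (E.X (n + 1 + k)).carrier), w = 0 := by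
        rintro ⟨y', hy'⟩
        obtain ⟨x, s, rfl, hx⟩ := exists_rep_of_mem_socle m.toIdeal h𝔭 y' hy'
        have hxT : x ∈ gam m.toIdeal (E.X (n + 1 + k)).carrier :=
          ⟨1, fun r hr => hx r (by rwa [pow_one] at hr)⟩
        rw [hB k] at hxT
        have hx0 : x = 0 := (Submodule.mem_bot R).mp hxT
        subst hx0
        apply Subtype.ext
        exact LocalizedModule.zero_mk s
      rw [hz a, hz b]
    exact Module.length_eq_zero
  -- conclude with the `Ext` criterion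
  rw [Groth.Agent.S0340.result]
  refine ⟨n + 1, fun i hi => ?_⟩
  have h1 := hbass i (by omega)
  unfold GrLC.bassNum at h1
  let e : LocalizedModule m.toIdeal.primeCompl R ≃ₗ[Localization.AtPrime m.toIdeal]
      Localization.AtPrime m.toIdeal :=
    (LocalizedModule.equivTensorProduct m.toIdeal.primeCompl R).trans
      (TensorProduct.AlgebraTensorModule.rid R (Localization.AtPrime m.toIdeal)
        (Localization.AtPrime m.toIdeal))
  rw [bassNumLocal_congr e i] at h1
  unfold GrLC.bassNumLocal at h1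
  exact Module.length_eq_zero_iff.mp h1

/-- global version -/
theorem isGorensteinRing_of_starInj (R : Type u) [CommRing R] [IsNoetherianRing R]
    (𝒜 : ι → AddSubgroup R) [GradedRing 𝒜] (m : HomogeneousIdeal 𝒜) (hm : GrLC.IsStarLocal 𝒜 m)
    (n : ℕ) (I : GrLC.StarInjRes 𝒜 𝒜)
    (hvan : ∀ j, j ≠ n → Subsingleton (I.H m j)) (X : GrLC.GMod.{u} 𝒜)
    (φ : I.H m n ≃ₗ[R] X.carrier) (hX : GrLC.IsStarInj 𝒜 X.gr)
    (hφ : GrLC.IsGrHom (I.Hgr m n) X.gr φ.toLinearMap) : LocCoh.IsGorensteinRing R := by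
  haveI hmp : m.toIdeal.IsPrime := isPrime_of_isStarLocal 𝒜 hm
  have hA := isGorensteinLocalRing_of_starInj R 𝒜 m hm n I hvan X φ hX hφ
  let _ := lexLinearOrder ι
  have := lexLinearOrder_isOrderedCancelAddMonoid ι
  refine { isGorensteinLocalRing_localization := ?_ }
  intro p hp
  haveI hcp : (Ideal.homogeneousCore 𝒜 p).toIdeal.IsPrime := hp.homogeneousCore
  rw [Groth.Agent.Lib.Helper87.GorLocal.isGorensteinLocalRing_iff_core R 𝒜 p]
  have hle : (Ideal.homogeneousCore 𝒜 p).toIdeal ≤ m.toIdeal :=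
    ideal_le_of_ne_top 𝒜 hm _ (Ideal.homogeneousCore 𝒜 p).isHomogeneous hcp.ne_top
  exact Groth.Agent.Lib.Helper87.GorLocal.isGorensteinLocalRing_of_le R _ m.toIdeal hle hA

end Groth.Agent.Lib.Helper39.StarGorV
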