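import Groth.Agent.Lib.Helper39.GrVer13
import Groth.Agent.Lib.Helper39.GrVer14
import Groth.Agent.Lib.Helper39.GrLinRegSeq
import Groth.Agent.Lib.Helper39.GrCanonDim2
import Groth.Agent.Lib.Helper39.GrAInvPoly4
import Groth.Agent.Lib.Helper60.LocalCohDepth
import Groth.Agent.H34.GorLinkGlobal
import Groth.Agent.S13244

/-!
# The irrelevant ideal of a graded ring over a field is *maximal; vanishing of graded local
cohomology of a Cohen–Macaulay graded ring (helper39)
-/

set_option autoImplicit false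
universe u

namespace Groth.Agent.Lib.Helper39.Ver

open DirectSum GrLC Groth.Agent.Lib.Helper39 Groth.Agent.Lib.Helper39.GrStarLocal

section Irr
variable {R : Type u} [CommRing R] (𝒜 : ℤ → AddSubgroup R) [GradedRing 𝒜]
  (hpos : ∀ n : ℤ, n < 0 → 𝒜 n = ⊥) (h0 : IsField (GrLC.deg0 𝒜))

include hpos h0 in
theorem le_irr_of_ne_top (J : HomogeneousIdeal 𝒜) (hJ : J.toIdeal ≠ ⊤) :
    J.toIdeal ≤ (irr 𝒜).toIdeal := by
  letI : Field (GrLC.deg0 𝒜) := h0.toField
  intro x hx
  have hx0 : (decompose 𝒜 x 0 : R) ∈ J.toIdeal := J.isHomogeneous 0 hx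
  have hzero : (decompose 𝒜 x 0 : R) = 0 := by
    by_contra hne
    let c : GrLC.deg0 𝒜 := ⟨(decompose 𝒜 x 0 : R), SetLike.coe_mem _⟩
    have hc : c ≠ 0 := fun h => hne (congrArg Subtype.val h)
    apply hJ
    rw [Ideal.eq_top_iff_one]
    have h1 : ((c⁻¹ * c : GrLC.deg0 𝒜) : R) ∈ J.toIdeal := by
      rw [Subring.coe_mul]
      exact J.toIdeal.mul_mem_left _ hx0
    rwa [inv_mul_cancel₀ hc, Subring.coe_one] at h1
  have := sub_decompose_zero_mem_irr 𝒜 hpos x
  rwa [hzero, sub_zero] at this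

include hpos h0 in
theorem irr_ne_top : (irr 𝒜).toIdeal ≠ ⊤ := by
  intro h
  have h1 : (1 : R) ∈ (irr 𝒜).toIdeal := by rw [h]; exact Submodule.mem_top
  have h2 := decompose_eq_zero_of_mem_irr 𝒜 hpos h1 0 (by omega)
  rw [decompose_of_mem_same 𝒜 (SetLike.GradedOne.one_mem (A := 𝒜))] at h2
  obtain ⟨x, y, hxy⟩ := h0.exists_pair_ne
  apply hxy
  apply Subtype.ext
  calc (x : R) = x * 1 := (mul_one _).symm
    _ = y * 1 := by rw [h2, mul_zero, mul_zero]
    _ = y := mul_one _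

include hpos h0 in
/-- the irrelevant ideal of a graded ring over a field is the unique *maximal ideal -/
theorem isStarLocal_irr : IsStarLocal 𝒜 (irr 𝒜) := by
  have htop : ∀ J : HomogeneousIdeal 𝒜, J ≠ ⊤ → J ≤ irr 𝒜 := by
    intro J hJ
    have hJ' : J.toIdeal ≠ ⊤ := fun h => hJ (HomogeneousIdeal.toIdeal_injective h)
    exact le_irr_of_ne_top 𝒜 hpos h0 J hJ'
  have hirr : irr 𝒜 ≠ ⊤ := fun h => irr_ne_top 𝒜 hpos h0 (congrArg HomogeneousIdeal.toIdeal h)
  refine ⟨⟨hirr, fun J hJ => ?_⟩, fun n hn => ?_⟩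
  · by_contra hne
    exact absurd (htop J hne) (not_le_of_gt hJ)
  · have h1 := htop n hn.1
    rcases eq_or_lt_of_le h1 with h | h
    · exact h
    · exact absurd (hn.2 _ h) hirr

end Irr

section Vanish
variable {R : Type u} [CommRing R] [LocCoh.IsCohenMacaulayRing R] (𝒜 : ℤ → AddSubgroup R)
  [GradedRing 𝒜] (hpos : ∀ n : ℤ, n < 0 → 𝒜 n = ⊥) (h0 : IsField (GrLC.deg0 𝒜))
  (m : HomogeneousIdeal 𝒜) (hm : GrLC.IsStarLocal 𝒜 m) (n : ℕ) (hn : ringKrullDim R = n)
  (I : StarInjRes 𝒜 𝒜)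

include hpos h0 hm hn in
theorem height_eq : m.toIdeal.height = n := by
  haveI : IsArtinianRing (GrLC.deg0 𝒜) := GrAInvPoly.isArtinianRing_of_isField _ h0
  have hht := GrHeightArt.height_star_eq 𝒜 hpos hm
  rw [hn] at hht
  exact_mod_cast hht

include hpos h0 hm hn in
/-- graded local cohomology of a Cohen–Macaulay graded ring over a field vanishes off the
dimension -/
theorem H_subsingleton_of_ne (j : ℕ) (hj : j ≠ n) : Subsingleton (I.H m j) := by
  haveI : IsArtinianRing (GrLC.deg0 𝒜) := GrAInvPoly.isArtinianRing_of_isField _ h0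
  haveI : m.toIdeal.IsPrime := (GrStarLocal.isMaximal hpos hm).isPrime
  rcases lt_or_gt_of_ne hj with hlt | hgt
  · have hdepth := GrLinAvoid.idealDepth_star_eq hpos hm n hn
    have hne : m.toIdeal • (⊤ : Submodule R R) ≠ ⊤ := by
      intro h
      have hle : m.toIdeal • (⊤ : Submodule R R) ≤ m.toIdeal :=
        Submodule.smul_le.mpr (fun r hr x _ => m.toIdeal.mul_mem_right x hr)
      rw [h] at hle
      exact (GrStarLocal.isMaximal hpos hm).ne_top (top_le_iff.mp hle)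
    have h1 := ((Groth.Agent.Lib.Helper60.idealDepth_eq_iff_lc m.toIdeal R hne n).mp hdepth).1 j hlt
    obtain ⟨φ⟩ := Groth.Agent.S13224.result R 𝒜 m R 𝒜 I j
    exact φ.injective.subsingleton
  · exact Groth.Agent.Lib.Helper87.StarGor.H_subsingleton_of_height_lt R 𝒜 m hm n
      (height_eq 𝒜 hpos h0 m hm n hn) I j hgt

end Vanish

end Groth.Agent.Lib.Helper39.Ver
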