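import Groth.Agent.Lib.Helper39.GrSegCanon3
import Groth.Agent.Lib.Helper39.GrSegCanon4
import Groth.Agent.S19761
import Groth.Agent.S13224
import Groth.Agent.Lib.Helper39.LcMaxArtinian
import Groth.Agent.Lib.Helper39.GrVer15
import Groth.Agent.Lib.Helper39.GrRegVanish

/-!
# *Canonical modules and graded duals over `Submodule`-graded algebras; the Segre product of
*canonical modules (helper39)

* `exists_gdual_of_canonical_sub`, `isStarCanonical_of_gdual_sub`: a graded module over a graded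
  ring defined over a field is *canonical iff it is a graded `k`-dual of the top local cohomology;
* `isStarCanonical_segre_of_isSegreMod`: `K_R # K_S` is a *canonical module of `T = R # S`, given a
  presentation of `H^{r+s-1}_{T_+}(T)` as the Segre product of `H^r_{R_+}(R)` and `H^s_{S_+}(S)`.
-/

set_option autoImplicit false
universe u
open scoped TensorProduct

namespace Groth.Agent.Lib.Helper39.GrSegCanon

open DirectSum GrLC GrSeg Groth.Agent.Lib.Helper39 Groth.Agent.Lib.Helper39.GrBridge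
  Groth.Agent.Lib.Helper39.GrDual Groth.Agent.Lib.Helper39.GrStarLocal

section One
variable {k : Type u} [Field k] {A : Type u} [CommRing A] [Nontrivial A] [Algebra k A]
  [IsNoetherianRing A]
  (𝒜 : ℤ → Submodule k A) [GradedAlgebra 𝒜] (hpos : ∀ n : ℤ, n < 0 → 𝒜 n = ⊥)
  (h0 : 𝒜 0 = Submodule.span k {(1 : A)})
  (m : HomogeneousIdeal 𝒜) (hm : m.toIdeal = Ideal.span (⋃ n ∈ Set.Ioi (0 : ℤ), (𝒜 n : Set A)))
  {E : Type u} [AddCommGroup E] [Module A E] (𝓔 : ℤ → AddSubgroup E) [DirectSum.Decomposition 𝓔]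
  [SetLike.GradedSMul 𝒜 𝓔]
  (e : (A ⧸ m.toIdeal) →ₗ[A] E) (he : IsStarInjHull 𝒜 (quotGr 𝒜 m) 𝓔 e)
  {C : Type u} [AddCommGroup C] [Module A C] [Module k C] [IsScalarTower k A C]
  (𝒞 : ℤ → AddSubgroup C) [DirectSum.Decomposition 𝒞] [SetLike.GradedSMul 𝒜 𝒞]
  (n : ℕ) (I : StarInjRes 𝒜 𝒜)
  [Module k (I.H m n)] [IsScalarTower k A (I.H m n)] [DirectSum.Decomposition (I.Hgr m n)]

attribute [local instance] toSubGradedRing toSubDecomposition toSubGradedSMul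

omit [Nontrivial A] [IsNoetherianRing A] in
theorem algebraMap_mem_zero (c : k) : algebraMap k A c ∈ toSub 𝒜 0 := by
  rw [Algebra.algebraMap_eq_smul_one]
  exact (𝒜 0).smul_mem c (SetLike.GradedOne.one_mem (A := 𝒜))

omit [Nontrivial A] [IsNoetherianRing A] in
include h0 in
theorem exists_algebraMap_eq (t : A) (ht : t ∈ toSub 𝒜 0) : ∃ c : k, algebraMap k A c = t := by
  have ht' : t ∈ 𝒜 0 := ht
  rw [h0, Submodule.mem_span_singleton] at ht'
  obtain ⟨c, hc⟩ := ht'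
  exact ⟨c, by rw [Algebra.algebraMap_eq_smul_one, hc]⟩

omit [Nontrivial A] [IsNoetherianRing A] in
include hpos in
theorem toSub_neg (j : ℤ) (hj : j < 0) : toSub 𝒜 j = ⊥ := by
  rw [eq_bot_iff]
  intro x hx
  have hx' : x ∈ 𝒜 j := hx
  rw [hpos j hj] at hx'
  exact (AddSubgroup.mem_bot).mpr ((Submodule.mem_bot k).mp hx')

omit [Nontrivial A] [IsNoetherianRing A] [DirectSum.Decomposition (I.Hgr m n)] in
theorem Hgr_smul_mem_sub (c : k) (l : ℤ) (h : I.H m n) (hh : h ∈ I.Hgr m n l) :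
    c • h ∈ I.Hgr m n l := by
  rw [← algebraMap_smul A c h]
  exact (I.Hcomp m n l).smul_mem ⟨algebraMap k A c, algebraMap_mem_zero 𝒜 c⟩ hh

omit [Nontrivial A] [IsNoetherianRing A] in
theorem piece_smul_mem_sub {X : Type u} [AddCommGroup X] [Module A X] [Module k X]
    [IsScalarTower k A X] (𝒳 : ℤ → AddSubgroup X) [SetLike.GradedSMul 𝒜 𝒳] (c : k) (l : ℤ) (x : X)
    (hx : x ∈ 𝒳 l) : c • x ∈ 𝒳 l := by
  rw [← algebraMap_smul A c x]
  have := SetLike.GradedSMul.smul_mem (A := 𝒜) (B := 𝒳) (algebraMap_mem_zero 𝒜 c) hx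
  rw [vadd_eq_add, zero_add] at this
  exact this

include hpos h0 hm he in
/-- a *canonical module is a graded `k`-dual of the top local cohomology -/
theorem exists_gdual_of_canonical_sub (hC : IsStarCanonical 𝒜 𝒞 𝓔 m n I) :
    ∃ β : C →ₗ[k] I.H m n →ₗ[k] k, IsGDual A (I.Hgr m n) 𝒞 β := by
  letI : Module k E := Module.compHom E (algebraMap k A)
  haveI : IsScalarTower k A E := IsScalarTower.of_algebraMap_smul (fun c x => rfl)
  haveI := gsmul_toSub 𝒜 𝓔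
  haveI := gsmul_toSub 𝒜 𝒞
  letI : Module k ((convRes I).H (convIdeal m) n) := ‹Module k (I.H m n)›
  haveI : IsScalarTower k A ((convRes I).H (convIdeal m) n) := ‹IsScalarTower k A (I.H m n)›
  letI : DirectSum.Decomposition ((convRes I).Hgr (convIdeal m) n) :=
    ‹DirectSum.Decomposition (I.Hgr m n)›
  exact exists_gdual_of_canonical (k := k) (toSub 𝒜) (toSub_neg 𝒜 hpos)
    (isField_deg0_of_span_one 𝒜 h0) (algebraMap_mem_zero 𝒜) (exists_algebraMap_eq 𝒜 h0)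
    (convIdeal m) hm 𝓔 e (isStarInjHull_conv 𝓔 e he) 𝒞 n (convRes I)
    (isStarCanonical_conv 𝓔 𝒞 n I hC)

omit [Module k (I.H m n)] [IsScalarTower k A (I.H m n)] [DirectSum.Decomposition (I.Hgr m n)] in
include hpos h0 hm in
theorem isMaximal_irr_sub : m.toIdeal.IsMaximal := by
  have h1 : IsStarLocal (toSub 𝒜) (irr (toSub 𝒜)) :=
    Ver.isStarLocal_irr (toSub 𝒜) (toSub_neg 𝒜 hpos) (isField_deg0_of_span_one 𝒜 h0)
  have h2 := GrStarLocal.isMaximal (toSub_neg 𝒜 hpos) h1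
  have h3 : (irr (toSub 𝒜)).toIdeal = m.toIdeal := hm.symm
  rw [← h3]
  exact h2

omit [Module k (I.H m n)] [IsScalarTower k A (I.H m n)] [DirectSum.Decomposition (I.Hgr m n)] in
include hpos h0 hm in
theorem isArtinian_H_sub : IsArtinian A (I.H m n) := by
  haveI := isMaximal_irr_sub 𝒜 hpos h0 m hm
  obtain ⟨ε⟩ := Groth.Agent.S13224.result A (toSub 𝒜) (convIdeal m) A (toSub 𝒜) (convRes I) n
  haveI : IsArtinian A (LocCoh.H (convIdeal m).toIdeal n A) :=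
    LcMaxArtinian.locCohH_isArtinian m.toIdeal n A
  exact isArtinian_of_linearEquiv ε.symm

omit [Nontrivial A] [DirectSum.Decomposition (I.Hgr m n)] in
include hpos h0 hm in
theorem finite_piece_H_sub
    (hkH : ∀ (c : k) (l : ℤ) (h : I.H m n), h ∈ I.Hgr m n l → c • h ∈ I.Hgr m n l) (d : ℤ) :
    Module.Finite k (pieceK (I.Hgr m n) hkH d) := by
  letI : Module k ((convRes I).H (convIdeal m) n) := ‹Module k (I.H m n)›
  haveI : IsScalarTower k A ((convRes I).H (convIdeal m) n) := ‹IsScalarTower k A (I.H m n)›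
  haveI : Module.Finite (GrLC.deg0 (toSub 𝒜)) ((convRes I).Hcomp (convIdeal m) n d) :=
    Groth.Agent.S13226.result A (toSub 𝒜) (toSub_neg 𝒜 hpos) (convIdeal m) hm A (toSub 𝒜)
      (convRes I) n d
  exact finite_of_deg0 (toSub 𝒜) (exists_algebraMap_eq 𝒜 h0)
    ((convRes I).Hcomp (convIdeal m) n d) (pieceK (I.Hgr m n) hkH d) (fun _ => Iff.rfl)

include hpos h0 hm he in
/-- a graded `k`-dual of the top local cohomology is a *canonical module -/
theorem isStarCanonical_of_gdual_sub (β : C →ₗ[k] I.H m n →ₗ[k] k)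
    (hD : IsGDual A (I.Hgr m n) 𝒞 β) : IsStarCanonical 𝒜 𝒞 𝓔 m n I := by
  classical
  haveI : Algebra.FiniteType k A :=
    Groth.Agent.Lib.Helper87.SegOne.finiteType_of_isNoetherianRing 𝒜 hpos h0
  haveI hart : IsArtinian A (I.H m n) := isArtinian_H_sub 𝒜 hpos h0 m hm n I
  haveI gs : SetLike.GradedSMul 𝒜 (I.Hgr m n) := ⟨fun {d l} x y hx hy => by
    have := GrRegVanish.smul_mem_Hgr (convRes I) (convIdeal m) n (d := d) (n := l) (x := x) hx
      (y := y) hy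
    rw [vadd_eq_add, add_comm]
    exact this⟩
  haveI hfin : Module.Finite A C :=
    ((Groth.Agent.S19761.result k A 𝒜 hpos h0 (I.H m n) (I.Hgr m n) C 𝒞 β hD).2 hart).1
  letI : Module k E := Module.compHom E (algebraMap k A)
  haveI : IsScalarTower k A E := IsScalarTower.of_algebraMap_smul (fun c x => rfl)
  haveI := gsmul_toSub 𝒜 𝓔
  haveI := gsmul_toSub 𝒜 𝒞
  letI : Module k ((convRes I).H (convIdeal m) n) := ‹Module k (I.H m n)›
  haveI : IsScalarTower k A ((convRes I).H (convIdeal m) n) := ‹IsScalarTower k A (I.H m n)›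
  letI : DirectSum.Decomposition ((convRes I).Hgr (convIdeal m) n) :=
    ‹DirectSum.Decomposition (I.Hgr m n)›
  obtain ⟨hf, φ, hφ⟩ := isStarCanonical_of_gdual (k := k) (toSub 𝒜) (toSub_neg 𝒜 hpos)
    (isField_deg0_of_span_one 𝒜 h0) (algebraMap_mem_zero 𝒜) (exists_algebraMap_eq 𝒜 h0)
    (convIdeal m) hm 𝓔 e (isStarInjHull_conv 𝓔 e he) 𝒞 n (convRes I) β hD
  exact ⟨hf, φ, fun d ψ hψ => hφ d ψ hψ⟩

end One

/-- **`K_R # K_S` is a *canonical module of the Segre product `T = R # S`**, given a presentation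
of `H^{r+s-1}_{T_+}(T)` as the Segre product of `H^r_{R_+}(R)` and `H^s_{S_+}(S)` -/
theorem isStarCanonical_segre_of_isSegreMod (k : Type u) [Field k] (R : Type u) [CommRing R]
    [Algebra k R] (𝒜 : ℤ → Submodule k R) [GradedAlgebra 𝒜] (hposR : ∀ n : ℤ, n < 0 → 𝒜 n = ⊥)
    (h0R : 𝒜 0 = Submodule.span k {(1 : R)}) [Algebra.FiniteType k R] (S : Type u) [CommRing S]
    [Algebra k S] (ℬ : ℤ → Submodule k S) [GradedAlgebra ℬ]
    (hposS : ∀ n : ℤ, n < 0 → ℬ n = ⊥) (h0S : ℬ 0 = Submodule.span k {(1 : S)})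
    [Algebra.FiniteType k S] (T : Type u) [CommRing T] [Algebra k T] (𝒯 : ℤ → Submodule k T)
    [GradedAlgebra 𝒯] (ψ : T →ₐ[k] TensorProduct k R S) (hT : GrSeg.IsSegreRing 𝒜 ℬ 𝒯 ψ)
    (mR : HomogeneousIdeal 𝒜)
    (hmR : mR.toIdeal = Ideal.span (⋃ n ∈ Set.Ioi (0 : ℤ), (𝒜 n : Set R)))
    (I : GrLC.StarInjRes 𝒜 𝒜) (mS : HomogeneousIdeal ℬ)
    (hmS : mS.toIdeal = Ideal.span (⋃ n ∈ Set.Ioi (0 : ℤ), (ℬ n : Set S)))
    (J : GrLC.StarInjRes ℬ ℬ) (mT : HomogeneousIdeal 𝒯)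
    (hmT : mT.toIdeal = Ideal.span (⋃ n ∈ Set.Ioi (0 : ℤ), (𝒯 n : Set T)))
    (IT : GrLC.StarInjRes 𝒯 𝒯) (r s : ℕ) (hr : ringKrullDim R = r) (hs : ringKrullDim S = s)
    (ER : Type u) [AddCommGroup ER] [Module R ER] (𝓔R : ℤ → AddSubgroup ER)
    [DirectSum.Decomposition 𝓔R] [SetLike.GradedSMul 𝒜 𝓔R] (eR : (R ⧸ mR.toIdeal) →ₗ[R] ER)
    (heR : GrLC.IsStarInjHull 𝒜 (GrLC.quotGr 𝒜 mR) 𝓔R eR)
    (CR : Type u) [AddCommGroup CR] [Module R CR] [Module k CR] [IsScalarTower k R CR]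
    (𝒞R : ℤ → AddSubgroup CR) [DirectSum.Decomposition 𝒞R] [SetLike.GradedSMul 𝒜 𝒞R]
    (hCR : GrLC.IsStarCanonical 𝒜 𝒞R 𝓔R mR r I)
    (ES : Type u) [AddCommGroup ES] [Module S ES] (𝓔S : ℤ → AddSubgroup ES)
    [DirectSum.Decomposition 𝓔S] [SetLike.GradedSMul ℬ 𝓔S] (eS : (S ⧸ mS.toIdeal) →ₗ[S] ES)
    (heS : GrLC.IsStarInjHull ℬ (GrLC.quotGr ℬ mS) 𝓔S eS)
    (CS : Type u) [AddCommGroup CS] [Module S CS] [Module k CS] [IsScalarTower k S CS]
    (𝒞S : ℤ → AddSubgroup CS) [DirectSum.Decomposition 𝒞S] [SetLike.GradedSMul ℬ 𝒞S]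
    (hCS : GrLC.IsStarCanonical ℬ 𝒞S 𝓔S mS s J)
    (ET : Type u) [AddCommGroup ET] [Module T ET] (𝓔T : ℤ → AddSubgroup ET)
    [DirectSum.Decomposition 𝓔T] [SetLike.GradedSMul 𝒯 𝓔T] (eT : (T ⧸ mT.toIdeal) →ₗ[T] ET)
    (heT : GrLC.IsStarInjHull 𝒯 (GrLC.quotGr 𝒯 mT) 𝓔T eT)
    (P : Type u) [AddCommGroup P] [Module T P] [Module k P] [IsScalarTower k T P]
    (𝒬 : ℤ → AddSubgroup P) [DirectSum.Decomposition 𝒬] [SetLike.GradedSMul 𝒯 𝒬]
    (φ : P →ₗ[k] TensorProduct k CR CS) (hP : GrSeg.IsSegreMod ψ 𝒞R 𝒞S 𝒬 φ)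
    (t : ℕ)
    [Module k (I.H mR r)] [IsScalarTower k R (I.H mR r)] [DirectSum.Decomposition (I.Hgr mR r)]
    [Module k (J.H mS s)] [IsScalarTower k S (J.H mS s)] [DirectSum.Decomposition (J.Hgr mS s)]
    [Module k (IT.H mT t)] [IsScalarTower k T (IT.H mT t)] [DirectSum.Decomposition (IT.Hgr mT t)]
    (Φ : IT.H mT t →ₗ[k] TensorProduct k (I.H mR r) (J.H mS s))
    (hΦ : GrSeg.IsSegreMod ψ (I.Hgr mR r) (J.Hgr mS s) (IT.Hgr mT t) Φ) :
    GrLC.IsStarCanonical 𝒯 𝒬 𝓔T mT t IT := by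
  classical
  haveI : Nontrivial R := by
    by_contra hcon
    rw [not_nontrivial_iff_subsingleton] at hcon
    rw [ringKrullDim_eq_bot_of_subsingleton] at hr
    exact WithBot.bot_ne_coe hr
  haveI : Nontrivial S := by
    by_contra hcon
    rw [not_nontrivial_iff_subsingleton] at hcon
    rw [ringKrullDim_eq_bot_of_subsingleton] at hs
    exact WithBot.bot_ne_coe hs
  haveI : IsNoetherianRing R := Algebra.FiniteType.isNoetherianRing k R
  haveI : IsNoetherianRing S := Algebra.FiniteType.isNoetherianRing k S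
  haveI : Nontrivial (R ⊗[k] S) :=
    Algebra.TensorProduct.nontrivial_of_algebraMap_injective_of_flat_left (R := k) (A := R)
      (B := S) (algebraMap k S).injective
  haveI : Nontrivial T := by
    by_contra hcon
    rw [not_nontrivial_iff_subsingleton] at hcon
    have h1 : ψ 1 = ψ 0 := congrArg ψ (Subsingleton.elim _ _)
    rw [map_one, map_zero] at h1
    exact one_ne_zero h1
  haveI : IsNoetherianRing T :=
    Groth.Agent.Lib.Helper99.isNoetherianRing_segre 𝒜 ℬ 𝒯 hposR ψ hT.1 hT.2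
  have hposT := Groth.Agent.Lib.Helper87.SegOne.segre_pos 𝒜 ℬ 𝒯 ψ hT hposR
  have h0T : 𝒯 0 = Submodule.span k {(1 : T)} :=
    Groth.Agent.Lib.Helper87.SegOne.segre_zero 𝒜 ℬ 𝒯 ψ hT h0R h0S
  obtain ⟨βR, hR⟩ := exists_gdual_of_canonical_sub 𝒜 hposR h0R mR hmR 𝓔R eR heR 𝒞R r I hCR
  obtain ⟨βS, hS⟩ := exists_gdual_of_canonical_sub ℬ hposS h0S mS hmS 𝓔S eS heS 𝒞S s J hCS
  have hD := isGDual_segre (ψ := ψ) (𝓗R := I.Hgr mR r) (𝓗S := J.Hgr mS s) (𝓗T := IT.Hgr mT t)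
    (Φ := Φ) (hΦ := hΦ) (𝒞R := 𝒞R) (βR := βR) (hR := hR) (𝒞S := 𝒞S) (βS := βS) (hS := hS)
    (𝒬 := 𝒬) (φ := φ) (hP := hP)
    (hkHR := Hgr_smul_mem_sub 𝒜 mR r I) (hkHS := Hgr_smul_mem_sub ℬ mS s J)
    (hkCR := piece_smul_mem_sub 𝒜 𝒞R) (hkCS := piece_smul_mem_sub ℬ 𝒞S)
    (hfinR := finite_piece_H_sub 𝒜 hposR h0R mR hmR r I _)
    (hfinS := finite_piece_H_sub ℬ hposS h0S mS hmS s J _)
  exact isStarCanonical_of_gdual_sub 𝒯 hposT h0T mT hmT 𝓔T eT heT 𝒬 t IT _ hD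

end Groth.Agent.Lib.Helper39.GrSegCanon
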