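import Groth.Agent.Lib.Helper39.GrSegGor2
import Groth.Agent.Lib.Helper87.Kun45

/-!
# `K_{R # S} = K_R # K_S` and Segre products of Gorenstein rings (helper39)

Final assembly with helper87's T-linear top Künneth formula `Kun.kunneth_top_mod_ring`.
-/

set_option autoImplicit false
universe u
open scoped TensorProduct

namespace Groth.Agent.Lib.Helper39.GrSegCanon

open DirectSum GrLC GrSeg Groth.Agent.Lib.Helper39 Groth.Agent.Lib.Helper39.GrBridge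

attribute [local instance] toSubGradedRing toSubDecomposition toSubGradedSMul in
/-- **`K_R # K_S` is a *canonical module of `T = R # S`** -/
theorem isStarCanonical_segre (k : Type u) [Field k] (R : Type u) [CommRing R]
    [Algebra k R] (𝒜 : ℤ → Submodule k R) [GradedAlgebra 𝒜] (hposR : ∀ n : ℤ, n < 0 → 𝒜 n = ⊥)
    (h0R : 𝒜 0 = Submodule.span k {(1 : R)}) [Algebra.FiniteType k R] (S : Type u) [CommRing S]
    [Algebra k S] (ℬ : ℤ → Submodule k S) [GradedAlgebra ℬ]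
    (hposS : ∀ n : ℤ, n < 0 → ℬ n = ⊥) (h0S : ℬ 0 = Submodule.span k {(1 : S)})
    [Algebra.FiniteType k S] (T : Type u) [CommRing T] [Algebra k T] (𝒯 : ℤ → Submodule k T)
    [GradedAlgebra 𝒯] (ψ : T →ₐ[k] TensorProduct k R S) (hT : GrSeg.IsSegreRing 𝒜 ℬ 𝒯 ψ)
    (mR : HomogeneousIdeal 𝒜)
    (hmR : mR.toIdeal = Ideal.span (⋃ n ∈ Set.Ioi (0 : ℤ), (𝒜 n : Set R)))
    (I : GrLC.StarInjRes 𝒜 𝒜) (mS : HomogeneousIdeal ℬ)
    (hmS : mS.toIdeal = Ideal.span (⋃ n ∈ Set.Ioi (0 : ℤ), (ℬ n : Set S)))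
    (J : GrLC.StarInjRes ℬ ℬ) (mT : HomogeneousIdeal 𝒯)
    (hmT : mT.toIdeal = Ideal.span (⋃ n ∈ Set.Ioi (0 : ℤ), (𝒯 n : Set T)))
    (IT : GrLC.StarInjRes 𝒯 𝒯) (r s : ℕ) (hr : ringKrullDim R = r) (hs : ringKrullDim S = s)
    (h2r : 2 ≤ r) (h2s : 2 ≤ s)
    (ER : Type u) [AddCommGroup ER] [Module R ER] (𝓔R : ℤ → AddSubgroup ER)
    [DirectSum.Decomposition 𝓔R] [SetLike.GradedSMul 𝒜 𝓔R] (eR : (R ⧸ mR.toIdeal) →ₗ[R] ER)
    (heR : GrLC.IsStarInjHull 𝒜 (GrLC.quotGr 𝒜 mR) 𝓔R eR)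
    (CR : Type u) [AddCommGroup CR] [Module R CR] [Module k CR] [IsScalarTower k R CR]
    (𝒞R : ℤ → AddSubgroup CR) [DirectSum.Decomposition 𝒞R] [SetLike.GradedSMul 𝒜 𝒞R]
    (hCR : GrLC.IsStarCanonical 𝒜 𝒞R 𝓔R mR r I)
    (ES : Type u) [AddCommGroup ES] [Module S ES] (𝓔S : ℤ → AddSubgroup ES)
    [DirectSum.Decomposition 𝓔S] [SetLike.GradedSMul ℬ 𝓔S] (eS : (S ⧸ mS.toIdeal) →ₗ[S] ES)
    (heS : GrLC.IsStarInjHull ℬ (GrLC.quotGr ℬ mS) 𝓔S eS)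
    (CS : Type u) [AddCommGroup CS] [Module S CS] [Module k CS] [IsScalarTower k S CS]
    (𝒞S : ℤ → AddSubgroup CS) [DirectSum.Decomposition 𝒞S] [SetLike.GradedSMul ℬ 𝒞S]
    (hCS : GrLC.IsStarCanonical ℬ 𝒞S 𝓔S mS s J)
    (ET : Type u) [AddCommGroup ET] [Module T ET] (𝓔T : ℤ → AddSubgroup ET)
    [DirectSum.Decomposition 𝓔T] [SetLike.GradedSMul 𝒯 𝓔T] (eT : (T ⧸ mT.toIdeal) →ₗ[T] ET)
    (heT : GrLC.IsStarInjHull 𝒯 (GrLC.quotGr 𝒯 mT) 𝓔T eT)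
    (P : Type u) [AddCommGroup P] [Module T P] [Module k P] [IsScalarTower k T P]
    (𝒬 : ℤ → AddSubgroup P) [DirectSum.Decomposition 𝒬] [SetLike.GradedSMul 𝒯 𝒬]
    (φ : P →ₗ[k] TensorProduct k CR CS) (hP : GrSeg.IsSegreMod ψ 𝒞R 𝒞S 𝒬 φ) :
    GrLC.IsStarCanonical 𝒯 𝒬 𝓔T mT (r + s - 1) IT := by
  classical
  letI : Module k (I.H mR r) := Module.compHom _ (algebraMap k R)
  haveI : IsScalarTower k R (I.H mR r) := IsScalarTower.of_algebraMap_smul (fun c x => rfl)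
  letI : Module k (J.H mS s) := Module.compHom _ (algebraMap k S)
  haveI : IsScalarTower k S (J.H mS s) := IsScalarTower.of_algebraMap_smul (fun c x => rfl)
  letI : Module k (IT.H mT (r + s - 1)) := Module.compHom _ (algebraMap k T)
  haveI : IsScalarTower k T (IT.H mT (r + s - 1)) :=
    IsScalarTower.of_algebraMap_smul (fun c x => rfl)
  letI : DirectSum.Decomposition (I.Hgr mR r) :=
    (Hgr_isInternal (convRes I) (convIdeal mR) r).chooseDecomposition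
  letI : DirectSum.Decomposition (J.Hgr mS s) :=
    (Hgr_isInternal (convRes J) (convIdeal mS) s).chooseDecomposition
  letI : DirectSum.Decomposition (IT.Hgr mT (r + s - 1)) :=
    (Hgr_isInternal (convRes IT) (convIdeal mT) (r + s - 1)).chooseDecomposition
  obtain ⟨Φ, hΦ⟩ := Groth.Agent.Lib.Helper87.Kun.kunneth_top_mod_ring k R 𝒜 hposR h0R S ℬ hposS h0S
    T 𝒯 ψ hT mR hmR I mS hmS J mT hmT IT r s (r + s - 1) hr hs h2r h2s (by omega)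
  exact isStarCanonical_segre_of_isSegreMod k R 𝒜 hposR h0R S ℬ hposS h0S T 𝒯 ψ hT mR hmR I
    mS hmS J mT hmT IT r s hr hs ER 𝓔R eR heR CR 𝒞R hCR ES 𝓔S eS heS CS 𝒞S hCS ET 𝓔T eT heT P 𝒬 φ hP
    (r + s - 1) Φ hΦ

/-- **Segre products of Gorenstein graded rings with equal a-invariants are Gorenstein** (when
Cohen–Macaulay) -/
theorem gorenstein_segre (k : Type u) [Field k] (R : Type u) [CommRing R]
    [Algebra k R] (𝒜 : ℤ → Submodule k R) [GradedAlgebra 𝒜] (hposR : ∀ n : ℤ, n < 0 → 𝒜 n = ⊥)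
    (h0R : 𝒜 0 = Submodule.span k {(1 : R)}) [Algebra.FiniteType k R] (S : Type u) [CommRing S]
    [Algebra k S] (ℬ : ℤ → Submodule k S) [GradedAlgebra ℬ]
    (hposS : ∀ n : ℤ, n < 0 → ℬ n = ⊥) (h0S : ℬ 0 = Submodule.span k {(1 : S)})
    [Algebra.FiniteType k S] (T : Type u) [CommRing T] [Algebra k T] (𝒯 : ℤ → Submodule k T)
    [GradedAlgebra 𝒯] (ψ : T →ₐ[k] TensorProduct k R S) (hψ : Function.Injective ψ)
    (hdegT : ∀ n : ℤ, (𝒯 n).map ψ.toLinearMap =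
      Submodule.span k {x : TensorProduct k R S | ∃ a ∈ 𝒜 n, ∃ b ∈ ℬ n, x = a ⊗ₜ[k] b})
    [LocCoh.IsGorensteinRing R] [LocCoh.IsGorensteinRing S]
    (mR : HomogeneousIdeal 𝒜)
    (hmR : mR.toIdeal = Ideal.span (⋃ n ∈ Set.Ioi (0 : ℤ), (𝒜 n : Set R)))
    (I : GrLC.StarInjRes 𝒜 𝒜) (mS : HomogeneousIdeal ℬ)
    (hmS : mS.toIdeal = Ideal.span (⋃ n ∈ Set.Ioi (0 : ℤ), (ℬ n : Set S)))
    (J : GrLC.StarInjRes ℬ ℬ) (r s : ℕ) (hr : ringKrullDim R = r) (hs : ringKrullDim S = s)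
    (h2r : 2 ≤ r) (h2s : 2 ≤ s)
    (haeq : GrLC.endDeg (I.Hgr mR r) = GrLC.endDeg (J.Hgr mS s))
    [LocCoh.IsCohenMacaulayRing T] : LocCoh.IsGorensteinRing T := by
  refine gorenstein_segre_of_isSegreMod k R 𝒜 hposR h0R S ℬ hposS h0S T 𝒯 ψ hψ hdegT mR hmR I mS hmS
    J r s hr hs h2r h2s haeq ?_
  intro mT hmT IT _ _ _ _ _ _ _
  exact Groth.Agent.Lib.Helper87.Kun.kunneth_top_mod_ring k R 𝒜 hposR h0R S ℬ hposS h0S
    T 𝒯 ψ ⟨hψ, hdegT⟩ mR hmR I mS hmS J mT hmT IT r s (r + s - 1) hr hs h2r h2s (by omega)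

end Groth.Agent.Lib.Helper39.GrSegCanon
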