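import Groth.Agent.Lib.Helper39.GrTop

/-!
# The top local cohomology of a standard graded ring is generated "from below" (helper39)

`Hgr_le_closure_smul`: for a standard graded ring `R` of dimension `r ≥ 1`,
`H^r_m(R)_h = R_1 · H^r_m(R)_{h-1}` for every `h` (a consequence of the right exactness of the top
local cohomology: `H^r_m(R) / m H^r_m(R) = H^r_m(R/m) = 0`).
-/

set_option autoImplicit false
universe u

namespace Groth.Agent.Lib.Helper39.GrTop

open DirectSum GrLC Groth.Agent.Lib.Helper39 Groth.Agent.Lib.Helper39.GrLes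
  Groth.Agent.Lib.Helper39.GrRegVanish

theorem Hgr_le_closure_smul (R : Type u) [CommRing R] [IsNoetherianRing R] (𝒜 : ℤ → AddSubgroup R)
    [GradedRing 𝒜] (m : HomogeneousIdeal 𝒜)
    (hmsp : m.toIdeal = Ideal.span (⋃ n ∈ Set.Ioi (0 : ℤ), (𝒜 n : Set R)))
    (hstd : Ideal.span (⋃ n ∈ Set.Ioi (0 : ℤ), (𝒜 n : Set R)) =
      Ideal.span ((𝒜 1 : AddSubgroup R) : Set R))
    (r : ℕ) (hr : ringKrullDim R = r) (h1 : 1 ≤ r) (I : GrLC.StarInjRes 𝒜 𝒜)
    (h : ℤ) (y : I.H m r) (hy : y ∈ I.Hgr m r h) :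
    y ∈ AddSubgroup.closure {w | ∃ x ∈ 𝒜 1, ∃ z ∈ I.Hgr m r (h + -1), w = x • z} := by
  classical
  -- finitely many generators of degree one
  have hmfg : (Ideal.span ((𝒜 1 : AddSubgroup R) : Set R)).FG := IsNoetherian.noetherian _
  obtain ⟨T, hTsub, hTspan⟩ := (Submodule.fg_span_iff_fg_span_finset_subset _).mp hmfg
  let l : List (R × ℤ) := T.toList.map (fun x => (x, (1 : ℤ)))
  have hl : ∀ p ∈ l, p.1 ∈ 𝒜 p.2 := by
    intro p hp
    obtain ⟨x, hx, rfl⟩ := List.mem_map.mp hp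
    exact hTsub (Finset.mem_toList.mp hx)
  have hl2 : ∀ p ∈ l, p.2 = 1 := by
    intro p hp
    obtain ⟨x, hx, rfl⟩ := List.mem_map.mp hp
    rfl
  have hlspan : Ideal.ofList (l.map Prod.fst) = m.toIdeal := by
    rw [hmsp, hstd]
    have : l.map Prod.fst = T.toList := by
      simp [l, List.map_map, Function.comp_def]
    rw [this, Ideal.ofList]
    have h2 : {x | x ∈ T.toList} = (T : Set R) := by
      ext x
      simp
    rw [h2]
    exact hTspan.symm
  -- the quotient R/m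
  have hmh : (m.toIdeal : Submodule R R).IsHomogeneous 𝒜 := m.isHomogeneous
  letI decN := quotDecomposition 𝒜 (m.toIdeal : Submodule R R) hmh
  haveI smulN := quotGradedSMul 𝒜 𝒜 (m.toIdeal : Submodule R R)
  obtain ⟨F⟩ := Groth.Agent.S13215.result R 𝒜 (R ⧸ (m.toIdeal : Submodule R R))
    (quotPieces 𝒜 (m.toIdeal : Submodule R R))
  have htor : ∀ x : R ⧸ (m.toIdeal : Submodule R R), ∃ k : ℕ, ∀ s ∈ m.toIdeal ^ k, s • x = 0 := by
    intro x
    refine ⟨1, fun s hs => ?_⟩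
    rw [pow_one] at hs
    obtain ⟨y, rfl⟩ := Submodule.mkQ_surjective _ x
    rw [← map_smul, Submodule.mkQ_apply, Submodule.Quotient.mk_eq_zero]
    exact Ideal.mul_mem_right y _ hs
  haveI hsub : Subsingleton (F.H m r) := H_subsingleton_of_torsion m F htor r h1
  have hvan : VanishAll m (r + 1) := fun P _ _ 𝓟 _ _ G =>
    H_subsingleton_of_dim m (le_of_eq hr) G (r + 1) (Nat.lt_succ_self r)
  have hkerπ : LinearMap.ker (m.toIdeal : Submodule R R).mkQ =
      Ideal.ofList (l.map Prod.fst) • (⊤ : Submodule R R) := by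
    rw [Submodule.ker_mkQ, hlspan]
    simp
  have := top_ker_list m r hvan l hl R 𝒜 (R ⧸ (m.toIdeal : Submodule R R))
    (quotPieces 𝒜 (m.toIdeal : Submodule R R)) (m.toIdeal : Submodule R R).mkQ
    (Submodule.mkQ_surjective _) (isGrHom_mkQ 𝒜 _) hkerπ I F h y hy (Subsingleton.elim _ _)
  refine AddSubgroup.closure_mono ?_ this
  rintro _ ⟨p, hp, z, hz, rfl⟩
  refine ⟨p.1, ?_, z, ?_, rfl⟩
  · have := hl p hp
    rwa [hl2 p hp] at this
  · rwa [hl2 p hp] at hz

end Groth.Agent.Lib.Helper39.GrTop
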