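import Groth.Agent.Lib.Helper39.GrSegCanon6
import Groth.Agent.Lib.Helper39.GrTopGen
import Groth.Agent.Lib.Helper39.GrCanonShift
import Groth.Agent.Lib.Helper39.GrDualEx2

/-!
# Graded modules dual to the top local cohomology of a standard graded ring (helper39)

Generic lemmas for the converse of the Gorenstein property of Segre products:
* `eq_zero_of_deg_one_smul`: an element of the graded dual `K` of `H^n_m(A)` killed by `A_1` is zero;
* `piece_succ_ne_bot`: `K_j ≠ 0 → K_{j+1} ≠ 0`;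
* `piece_pred_eq_bot`: if `K_c = k u` with `ann_{A_1} u = 0` and `dim A ≥ 2` then `K_{c-1} = 0`;
* `bijective_toSpanSingleton`: `K = A u` freely, if generated in degrees `≥ c`.
-/

set_option autoImplicit false
universe u
open scoped TensorProduct

namespace Groth.Agent.Lib.Helper39.GrSegCanon

open DirectSum GrLC GrSeg Groth.Agent.Lib.Helper39 Groth.Agent.Lib.Helper39.GrBridge
  Groth.Agent.Lib.Helper39.GrDual Groth.Agent.Lib.Helper39.GrStarLocal

section One
variable {k : Type u} [Field k] {A : Type u} [CommRing A] [Nontrivial A] [Algebra k A]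
  [IsNoetherianRing A]
  (𝒜 : ℤ → Submodule k A) [GradedAlgebra 𝒜] (hpos : ∀ n : ℤ, n < 0 → 𝒜 n = ⊥)
  (h0 : 𝒜 0 = Submodule.span k {(1 : A)})
  (m : HomogeneousIdeal 𝒜) (hm : m.toIdeal = Ideal.span (⋃ n ∈ Set.Ioi (0 : ℤ), (𝒜 n : Set A)))
  (hstd : Ideal.span (⋃ n ∈ Set.Ioi (0 : ℤ), (𝒜 n : Set A)) =
    Ideal.span ((𝒜 1 : Submodule k A) : Set A))
  {C : Type u} [AddCommGroup C] [Module A C] [Module k C] [IsScalarTower k A C]
  (𝒞 : ℤ → AddSubgroup C) [DirectSum.Decomposition 𝒞] [SetLike.GradedSMul 𝒜 𝒞]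
  (n : ℕ) (hn : ringKrullDim A = n) (I : StarInjRes 𝒜 𝒜)
  [Module k (I.H m n)] [IsScalarTower k A (I.H m n)] [DirectSum.Decomposition (I.Hgr m n)]
  (β : C →ₗ[k] I.H m n →ₗ[k] k) (hD : IsGDual A (I.Hgr m n) 𝒞 β)

attribute [local instance] toSubGradedRing toSubDecomposition toSubGradedSMul

omit [Nontrivial A] [SetLike.GradedSMul 𝒜 𝒞] in
include hm hstd hn hD in
/-- an element of the graded dual of the top local cohomology killed by `A_1` vanishes -/
theorem eq_zero_of_deg_one_smul (h1 : 1 ≤ n) (j : ℤ) (u : C) (hu : u ∈ 𝒞 j)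
    (hk : ∀ x ∈ 𝒜 1, x • u = 0) : u = 0 := by
  apply hD.eq_zero j u hu
  intro y hy
  have hstd' : Ideal.span (⋃ n ∈ Set.Ioi (0 : ℤ), (toSub 𝒜 n : Set A)) =
      Ideal.span ((toSub 𝒜 1 : AddSubgroup A) : Set A) := hstd
  have hcl := GrTop.Hgr_le_closure_smul A (toSub 𝒜) (convIdeal m) hm hstd' n hn h1 (convRes I)
    (-j) y hy
  have key : ∀ w ∈ AddSubgroup.closure {w : I.H m n | ∃ x ∈ toSub 𝒜 1,
      ∃ z ∈ I.Hgr m n (-j + -1), w = x • z}, β u w = 0 := by
    intro w hw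
    induction hw using AddSubgroup.closure_induction with
    | mem w hw =>
      obtain ⟨x, hx, z, -, rfl⟩ := hw
      rw [← hD.map_smul, hk x hx, map_zero, LinearMap.zero_apply]
    | zero => exact map_zero _
    | add a b _ _ ha hb => rw [map_add, ha, hb, add_zero]
    | neg a _ ha => rw [map_neg, ha, neg_zero]
  exact key y hcl

omit [Nontrivial A] in
include hm hstd hn hD in
theorem piece_succ_ne_bot (h1 : 1 ≤ n) (j : ℤ) (hj : 𝒞 j ≠ ⊥) : 𝒞 (j + 1) ≠ ⊥ := by
  intro hbot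
  apply hj
  rw [eq_bot_iff]
  intro u hu
  rw [AddSubgroup.mem_bot]
  apply eq_zero_of_deg_one_smul 𝒜 m hm hstd 𝒞 n hn I β hD h1 j u hu
  intro x hx
  have h2 : x • u ∈ 𝒞 (1 + j) := SetLike.GradedSMul.smul_mem (A := 𝒜) (B := 𝒞) hx hu
  rw [add_comm, hbot, AddSubgroup.mem_bot] at h2
  exact h2

omit [Nontrivial A] in
include hm hstd hn hD in
theorem piece_add_ne_bot (h1 : 1 ≤ n) (j : ℤ) (hj : 𝒞 j ≠ ⊥) (i : ℕ) : 𝒞 (j + i) ≠ ⊥ := by
  induction i with
  | zero => simpa using hj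
  | succ i ih =>
    have := piece_succ_ne_bot 𝒜 m hm hstd 𝒞 n hn I β hD h1 (j + i) ih
    have e : j + ((i + 1 : ℕ) : ℤ) = j + i + 1 := by push_cast; ring
    rw [e]
    exact this

omit [Nontrivial A] in
include hm hstd hn hD in
theorem piece_eq_bot_of_lt (h1 : 1 ≤ n) (c : ℤ) (hc : 𝒞 (c - 1) = ⊥) (j : ℤ) (hj : j < c) :
    𝒞 j = ⊥ := by
  by_contra hne
  have := piece_add_ne_bot 𝒜 m hm hstd 𝒞 n hn I β hD h1 j hne (c - 1 - j).toNat
  rw [Int.toNat_of_nonneg (by omega)] at this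
  apply this
  have e : j + (c - 1 - j) = c - 1 := by ring
  rw [e]
  exact hc

include hpos h0 hm hstd hn hD in
/-- if `K_c = k u`, `ann_{A_1} u = 0` and `dim A ≥ 2` then `K_{c-1} = 0` -/
theorem piece_pred_eq_bot (h2 : 2 ≤ n) (c : ℤ) (u : C)
    (hspan : ∀ w ∈ 𝒞 c, ∃ l : k, w = l • u)
    (hann : ∀ x ∈ 𝒜 1, x • u = 0 → x = 0) : 𝒞 (c - 1) = ⊥ := by
  classical
  by_contra hne
  obtain ⟨w, hw, hw0⟩ : ∃ w ∈ 𝒞 (c - 1), w ≠ 0 := by
    by_contra hcon
    push Not at hcon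
    apply hne
    rw [eq_bot_iff]
    intro w hw
    exact AddSubgroup.mem_bot.mpr (hcon w hw)
  -- the functional `λ`
  have hl : ∀ x ∈ 𝒜 1, ∃ l : k, x • w = l • u := by
    intro x hx
    have h3 : x • w ∈ 𝒞 (1 + (c - 1)) := SetLike.GradedSMul.smul_mem (A := 𝒜) (B := 𝒞) hx hw
    have e : (1 : ℤ) + (c - 1) = c := by ring
    rw [e] at h3
    exact hspan _ h3
  -- some `y` with `y w ≠ 0`
  obtain ⟨y, hy, hyw⟩ : ∃ y ∈ 𝒜 1, y • w ≠ 0 := by
    by_contra hcon
    push Not at hcon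
    exact hw0 (eq_zero_of_deg_one_smul 𝒜 m hm hstd 𝒞 n hn I β hD (by omega) (c - 1) w hw hcon)
  obtain ⟨ly, hly⟩ := hl y hy
  have hly0 : ly ≠ 0 := by
    rintro rfl
    rw [zero_smul] at hly
    exact hyw hly
  -- `A_1 = k y`
  have hA1 : ∀ x ∈ 𝒜 1, ∃ l : k, x = l • y := by
    intro x hx
    obtain ⟨lx, hlx⟩ := hl x hx
    have h3 : (ly • x - lx • y) • u = 0 := by
      have e1 : x • (y • w) = y • (x • w) := smul_comm x y w
      rw [hly, hlx, smul_comm x ly u, smul_comm y lx u] at e1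
      rw [sub_smul, smul_assoc, smul_assoc, e1, sub_self]
    have h4 : ly • x - lx • y ∈ 𝒜 1 :=
      Submodule.sub_mem _ (Submodule.smul_mem _ _ hx) (Submodule.smul_mem _ _ hy)
    have h5 := hann _ h4 h3
    refine ⟨ly⁻¹ * lx, ?_⟩
    have h6 : ly • x = lx • y := sub_eq_zero.mp h5
    calc x = ly⁻¹ • (ly • x) := by rw [smul_smul, inv_mul_cancel₀ hly0, one_smul]
      _ = (ly⁻¹ * lx) • y := by rw [h6, smul_smul]
  -- `m = (y)`
  have hmy : m.toIdeal = Ideal.span {y} := by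
    rw [hm, hstd]
    apply le_antisymm
    · rw [Ideal.span_le]
      intro x hx
      obtain ⟨l, rfl⟩ := hA1 x hx
      rw [SetLike.mem_coe, Ideal.mem_span_singleton']
      exact ⟨algebraMap k A l, by rw [Algebra.smul_def]⟩
    · rw [Ideal.span_le]
      intro x hx
      rw [Set.mem_singleton_iff] at hx
      subst hx
      exact Ideal.subset_span hy
  -- heights
  have hpos' := toSub_neg 𝒜 hpos
  have h0' := isField_deg0_of_span_one 𝒜 h0
  have hloc := isStarLocal_sub 𝒜 hpos h0 m hm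
  haveI : IsArtinianRing (GrLC.deg0 (toSub 𝒜)) := GrAInvPoly.isArtinianRing_of_isField _ h0'
  have hht : (convIdeal m).toIdeal.height = n := by
    have := GrHeightArt.height_star_eq (toSub 𝒜) hpos' hloc
    rw [hn] at this
    exact_mod_cast this
  have hht' : m.toIdeal.height = n := hht
  haveI hprime : m.toIdeal.IsPrime := (isMaximal_irr_sub 𝒜 hpos h0 m hm).isPrime
  haveI : (Ideal.span {y}).IsPrincipal := ⟨⟨y, rfl⟩⟩
  have hmin : m.toIdeal ∈ (Ideal.span {y}).minimalPrimes := by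
    rw [← hmy, Ideal.minimalPrimes_eq_subsingleton_self]
    exact Set.mem_singleton _
  have hle := Ideal.height_le_one_of_isPrincipal_of_mem_minimalPrimes (Ideal.span {y}) m.toIdeal hmin
  rw [hht'] at hle
  have : (n : ℕ∞) ≤ 1 := hle
  have h3 : n ≤ 1 := by exact_mod_cast this
  omega

omit [Nontrivial A] [IsNoetherianRing A] in
/-- `K = A u` freely, if generated in degrees `≥ c` -/
theorem bijective_toSpanSingleton (c : ℤ) (u : C) (hu : u ∈ 𝒞 c)
    (hlow : ∀ j, j < c → 𝒞 j = ⊥)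
    (hgen : ∀ i : ℤ, 0 ≤ i → ∀ w ∈ 𝒞 (c + i), ∃ x ∈ 𝒜 i, w = x • u)
    (hann : ∀ i : ℤ, ∀ x ∈ 𝒜 i, x • u = 0 → x = 0) :
    Function.Bijective (LinearMap.toSpanSingleton A C u) ∧
      IsGrHomDeg (toSub 𝒜) 𝒞 (LinearMap.toSpanSingleton A C u) c := by
  classical
  refine ⟨⟨?_, ?_⟩, ?_⟩
  · rw [injective_iff_map_eq_zero]
    intro x hx
    have hx' : x • u = 0 := hx
    have key : ∀ i, (decompose 𝒜 x i : A) = 0 := by
      intro i
      apply hann i _ (SetLike.coe_mem _)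
      have h1 := Groth.Agent.Lib.Helper99.coe_decompose_smul_of_mem 𝒜 𝒞 x hu (i + c)
      rw [add_sub_cancel_right] at h1
      rw [← h1, hx', decompose_zero]
      rfl
    rw [← DirectSum.sum_support_decompose 𝒜 x]
    exact Finset.sum_eq_zero fun i _ => key i
  · intro w
    induction w using DirectSum.Decomposition.inductionOn 𝒞 with
    | zero => exact ⟨0, map_zero _⟩
    | @homogeneous j w =>
      obtain ⟨w, hw⟩ := w
      show ∃ a, (LinearMap.toSpanSingleton A C u) a = w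
      by_cases hj : j < c
      · rw [hlow j hj, AddSubgroup.mem_bot] at hw
        exact ⟨0, by rw [map_zero, hw]⟩
      · have e : j = c + (j - c) := by ring
        rw [e] at hw
        obtain ⟨x, -, hxw⟩ := hgen (j - c) (by omega) _ hw
        exact ⟨x, hxw.symm⟩
    | add w w' hw hw' =>
      obtain ⟨x, hx⟩ := hw
      obtain ⟨x', hx'⟩ := hw'
      exact ⟨x + x', by rw [map_add, hx, hx']⟩
  · intro j x hx
    exact SetLike.GradedSMul.smul_mem (A := 𝒜) (B := 𝒞) hx hu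

end One

end Groth.Agent.Lib.Helper39.GrSegCanon
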