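import Groth.Agent.Lib.Helper39.GrSegConv1

/-!
# A graded ring whose graded dual of the top local cohomology is cyclic is Gorenstein (helper39)
-/

set_option autoImplicit false
universe u
open scoped TensorProduct

namespace Groth.Agent.Lib.Helper39.GrSegCanon

open DirectSum GrLC GrSeg Groth.Agent.Lib.Helper39 Groth.Agent.Lib.Helper39.GrBridge
  Groth.Agent.Lib.Helper39.GrDual Groth.Agent.Lib.Helper39.GrStarLocal

section One
variable {k : Type u} [Field k] {A : Type u} [CommRing A] [Nontrivial A] [Algebra k A]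
  [LocCoh.IsCohenMacaulayRing A]
  (𝒜 : ℤ → Submodule k A) [GradedAlgebra 𝒜] (hpos : ∀ n : ℤ, n < 0 → 𝒜 n = ⊥)
  (h0 : 𝒜 0 = Submodule.span k {(1 : A)})
  (m : HomogeneousIdeal 𝒜) (hm : m.toIdeal = Ideal.span (⋃ n ∈ Set.Ioi (0 : ℤ), (𝒜 n : Set A)))
  (hstd : Ideal.span (⋃ n ∈ Set.Ioi (0 : ℤ), (𝒜 n : Set A)) =
    Ideal.span ((𝒜 1 : Submodule k A) : Set A))
  {E : Type u} [AddCommGroup E] [Module A E] (𝓔 : ℤ → AddSubgroup E) [DirectSum.Decomposition 𝓔]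
  [SetLike.GradedSMul 𝒜 𝓔]
  (e : (A ⧸ m.toIdeal) →ₗ[A] E) (he : IsStarInjHull 𝒜 (quotGr 𝒜 m) 𝓔 e)
  {C : Type u} [AddCommGroup C] [Module A C] [Module k C] [IsScalarTower k A C]
  (𝒞 : ℤ → AddSubgroup C) [DirectSum.Decomposition 𝒞] [SetLike.GradedSMul 𝒜 𝒞]
  (n : ℕ) (hn : ringKrullDim A = n) (I : StarInjRes 𝒜 𝒜)
  [Module k (I.H m n)] [IsScalarTower k A (I.H m n)] [DirectSum.Decomposition (I.Hgr m n)]
  (β : C →ₗ[k] I.H m n →ₗ[k] k) (hD : IsGDual A (I.Hgr m n) 𝒞 β)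

attribute [local instance] toSubGradedRing toSubDecomposition toSubGradedSMul

include hpos h0 hm hstd he hn hD in
/-- if the graded dual `K` of `H^n_m(A)` satisfies `K_c = k u`, `K_{c+i} = A_i u` for `i ≥ 0` and
`ann u = 0`, then `A` is Gorenstein with `a(A) = -c` (`dim A ≥ 2`, `A` standard graded
Cohen–Macaulay) -/
theorem gorenstein_of_gen (h2 : 2 ≤ n) (c : ℤ) (u : C) (hu : u ∈ 𝒞 c)
    (hspan : ∀ w ∈ 𝒞 c, ∃ l : k, w = l • u)
    (hgen : ∀ i : ℤ, 0 ≤ i → ∀ w ∈ 𝒞 (c + i), ∃ x ∈ 𝒜 i, w = x • u)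
    (hann : ∀ i : ℤ, ∀ x ∈ 𝒜 i, x • u = 0 → x = 0) :
    LocCoh.IsGorensteinRing A ∧
      GrLC.endDeg (I.Hgr m n) = (((-c : ℤ) : WithTop ℤ) : WithBot (WithTop ℤ)) := by
  classical
  haveI : IsNoetherianRing A := inferInstance
  have hC := isStarCanonical_of_gdual_sub 𝒜 hpos h0 m hm 𝓔 e he 𝒞 n I β hD
  have hpred := piece_pred_eq_bot 𝒜 hpos h0 m hm hstd 𝒞 n hn I β hD h2 c u hspan (hann 1)
  have hlow := piece_eq_bot_of_lt 𝒜 m hm hstd 𝒞 n hn I β hD (by omega) c hpred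
  obtain ⟨hbij, hdeg⟩ := bijective_toSpanSingleton 𝒜 𝒞 c u hu hlow hgen hann
  haveI := gsmul_toSub 𝒜 𝓔
  haveI := gsmul_toSub 𝒜 𝒞
  have hpos' := toSub_neg 𝒜 hpos
  have h0' := isField_deg0_of_span_one 𝒜 h0
  have hloc := isStarLocal_sub 𝒜 hpos h0 m hm
  have he' := isStarInjHull_conv 𝓔 e he
  have hC' := isStarCanonical_conv 𝓔 𝒞 n I hC
  constructor
  · exact (Groth.Agent.S18638.result A (toSub 𝒜) hpos' h0' (convIdeal m) hloc hm n hn (convRes I)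
      E 𝓔 e he' C 𝒞 hC').mpr ⟨c, LinearMap.toSpanSingleton A C u, hbij, hdeg⟩
  · have key := GrCanonShift.endDeg_eq_neg (toSub 𝒜) hpos' h0' 𝒞 c
      (LinearMap.toSpanSingleton A C u) hbij hdeg (convIdeal m) hm 𝓔 e he' n (convRes I) hC'
    exact key

end One

end Groth.Agent.Lib.Helper39.GrSegCanon
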