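import Groth.Agent.Lib.Helper39.GrSegConv2

/-!
# Cyclic Segre products of graded modules (helper39)

If `K_R # K_S ≅ T(-c)` as graded `T = R # S`-modules (and the nonzero pieces of `K_R`, `K_S`
propagate upwards), then `K_R` and `K_S` are generated in degree `c` by elements `u`, `v` with zero
annihilators.
-/

set_option autoImplicit false
universe u
open scoped TensorProduct

namespace Groth.Agent.Lib.Helper39.GrSegCanon

open DirectSum GrLC GrSeg Groth.Agent.Lib.Helper39 Groth.Agent.Lib.Helper39.GrBridge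

section Tensor
variable {k : Type u} [Field k] {X Y : Type u} [AddCommGroup X] [Module k X] [AddCommGroup Y]
  [Module k Y]

theorem tmul_mem_span_left (U' : Submodule k X) (V' : Submodule k Y) (a : X) (b : Y) (hb : b ≠ 0)
    (h : a ⊗ₜ[k] b ∈ Submodule.span k {z | ∃ u' ∈ U', ∃ v' ∈ V', z = u' ⊗ₜ[k] v'}) : a ∈ U' := by
  by_contra ha
  obtain ⟨φ, hφa, hφU⟩ := Submodule.exists_le_ker_of_notMem ha
  obtain ⟨χ, hχ⟩ := Module.Projective.exists_dual_ne_zero k hb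
  let Θ : X ⊗[k] Y →ₗ[k] k := (TensorProduct.lid k k).toLinearMap ∘ₗ TensorProduct.map φ χ
  have h1 : Θ (a ⊗ₜ[k] b) = φ a * χ b := by
    simp [Θ]
  have h2 : Submodule.span k {z | ∃ u' ∈ U', ∃ v' ∈ V', z = u' ⊗ₜ[k] v'} ≤ LinearMap.ker Θ := by
    rw [Submodule.span_le]
    rintro _ ⟨u', hu', v', -, rfl⟩
    rw [SetLike.mem_coe, LinearMap.mem_ker]
    have : φ u' = 0 := hφU hu'
    simp [Θ, this]
  have h3 : Θ (a ⊗ₜ[k] b) = 0 := h2 h
  rw [h1] at h3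
  exact (mul_ne_zero hφa hχ) h3

theorem tmul_mem_span_right (U' : Submodule k X) (V' : Submodule k Y) (a : X) (b : Y) (ha : a ≠ 0)
    (h : a ⊗ₜ[k] b ∈ Submodule.span k {z | ∃ u' ∈ U', ∃ v' ∈ V', z = u' ⊗ₜ[k] v'}) : b ∈ V' := by
  by_contra hb
  obtain ⟨χ, hχb, hχV⟩ := Submodule.exists_le_ker_of_notMem hb
  obtain ⟨φ, hφ⟩ := Module.Projective.exists_dual_ne_zero k ha
  let Θ : X ⊗[k] Y →ₗ[k] k := (TensorProduct.lid k k).toLinearMap ∘ₗ TensorProduct.map φ χ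
  have h1 : Θ (a ⊗ₜ[k] b) = φ a * χ b := by
    simp [Θ]
  have h2 : Submodule.span k {z | ∃ u' ∈ U', ∃ v' ∈ V', z = u' ⊗ₜ[k] v'} ≤ LinearMap.ker Θ := by
    rw [Submodule.span_le]
    rintro _ ⟨u', -, v', hv', rfl⟩
    rw [SetLike.mem_coe, LinearMap.mem_ker]
    have : χ v' = 0 := hχV hv'
    simp [Θ, this]
  have h3 : Θ (a ⊗ₜ[k] b) = 0 := h2 h
  rw [h1] at h3
  exact (mul_ne_zero hφ hχb) h3

theorem tmul_eq_zero_field (a : X) (b : Y) (h : a ⊗ₜ[k] b = 0) : a = 0 ∨ b = 0 := by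
  by_contra hcon
  push Not at hcon
  have h1 : a ∈ (⊥ : Submodule k X) := by
    apply tmul_mem_span_left ⊥ (⊥ : Submodule k Y) a b hcon.2
    rw [h]
    exact Submodule.zero_mem _
  exact hcon.1 ((Submodule.mem_bot k).mp h1)

end Tensor

section Seg
variable {k : Type u} [Field k] {R S T : Type u} [CommRing R] [CommRing S] [CommRing T]
  [Nontrivial T] [Algebra k R] [Algebra k S] [Algebra k T]
  (𝒜 : ℤ → Submodule k R) [GradedAlgebra 𝒜] (ℬ : ℤ → Submodule k S) [GradedAlgebra ℬ]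
  (𝒯 : ℤ → Submodule k T) [GradedAlgebra 𝒯]
  (hposR : ∀ n : ℤ, n < 0 → 𝒜 n = ⊥) (hposS : ∀ n : ℤ, n < 0 → ℬ n = ⊥)
  (h0T : 𝒯 0 = Submodule.span k {(1 : T)})
  (ψ : T →ₐ[k] R ⊗[k] S) (hT : GrSeg.IsSegreRing 𝒜 ℬ 𝒯 ψ)
  {CR : Type u} [AddCommGroup CR] [Module R CR] [Module k CR] [IsScalarTower k R CR]
  (𝒞R : ℤ → AddSubgroup CR) [SetLike.GradedSMul 𝒜 𝒞R]
  {CS : Type u} [AddCommGroup CS] [Module S CS] [Module k CS] [IsScalarTower k S CS]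
  (𝒞S : ℤ → AddSubgroup CS) [SetLike.GradedSMul ℬ 𝒞S]
  {P : Type u} [AddCommGroup P] [Module T P] [Module k P] [IsScalarTower k T P]
  (𝒬 : ℤ → AddSubgroup P) [DirectSum.Decomposition 𝒬]
  (φ : P →ₗ[k] CR ⊗[k] CS) (hP : GrSeg.IsSegreMod ψ 𝒞R 𝒞S 𝒬 φ)
  (c : ℤ) (f : T →ₗ[T] P) (hf : Function.Bijective f)

attribute [local instance] toSubGradedRing toSubDecomposition toSubGradedSMul

include hposR hposS h0T hT hP hf in
theorem segre_cyclic_data (hfd : IsGrHomDeg (toSub 𝒯) 𝒬 f c)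
    (hpropR : ∀ j, 𝒞R j ≠ ⊥ → ∀ i : ℕ, 𝒞R (j + i) ≠ ⊥)
    (hpropS : ∀ j, 𝒞S j ≠ ⊥ → ∀ i : ℕ, 𝒞S (j + i) ≠ ⊥) :
    ∃ u ∈ 𝒞R c, ∃ v ∈ 𝒞S c,
      (∀ w ∈ 𝒞R c, ∃ l : k, w = l • u) ∧ (∀ w ∈ 𝒞S c, ∃ l : k, w = l • v) ∧
      (∀ i : ℤ, 0 ≤ i → ∀ w ∈ 𝒞R (c + i), ∃ x ∈ 𝒜 i, w = x • u) ∧
      (∀ i : ℤ, 0 ≤ i → ∀ w ∈ 𝒞S (c + i), ∃ y ∈ ℬ i, w = y • v) ∧
      (∀ i : ℤ, ∀ x ∈ 𝒜 i, x • u = 0 → x = 0) ∧
      (∀ i : ℤ, ∀ y ∈ ℬ i, y • v = 0 → y = 0) := by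
  classical
  have hkR : ∀ (l : k) (j : ℤ) (x : CR), x ∈ 𝒞R j → l • x ∈ 𝒞R j :=
    fun l j x hx => piece_smul_mem_sub 𝒜 𝒞R l j x hx
  have hkS : ∀ (l : k) (j : ℤ) (x : CS), x ∈ 𝒞S j → l • x ∈ 𝒞S j :=
    fun l j x hx => piece_smul_mem_sub ℬ 𝒞S l j x hx
  set g : P := f 1 with hg
  have hgc : g ∈ 𝒬 c := by
    have := hfd 0 1 (SetLike.GradedOne.one_mem (A := 𝒯))
    rwa [zero_add] at this
  have hft : ∀ t : T, f t = t • g := by
    intro t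
    rw [hg, ← map_smul, smul_eq_mul, mul_one]
  have hg0 : g ≠ 0 := by
    intro h
    have : f 1 = f 0 := by rw [map_zero]; exact h
    exact one_ne_zero (hf.1 this)
  -- elements of `P_j` are `T_{j-c} g`
  have hgenP : ∀ j, ∀ p ∈ 𝒬 j, ∃ t ∈ 𝒯 (j - c), p = t • g := by
    intro j p hp
    obtain ⟨t₀, ht₀⟩ := hf.2 p
    have hp' : p ∈ 𝒬 ((j - c) + c) := by rwa [sub_add_cancel]
    obtain ⟨t, ht, hft'⟩ := GrRegVanish.exists_mem_of_isInternal_deg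
      (DirectSum.Decomposition.isInternal (toSub 𝒯)) (DirectSum.Decomposition.isInternal 𝒬) f hfd
      hp' t₀ ht₀
    exact ⟨t, ht, by rw [← hft', hft]⟩
  have himg : ∀ j z, z ∈ GrSeg.segrePiece k 𝒞R 𝒞S j → ∃ t ∈ 𝒯 (j - c), z = φ (t • g) := by
    intro j z hz
    have : z ∈ φ '' (𝒬 j : Set P) := by rw [hP.image_piece j]; exact hz
    obtain ⟨p, hp, rfl⟩ := this
    obtain ⟨t, ht, rfl⟩ := hgenP j p hp
    exact ⟨t, ht, rfl⟩
  have hφg0 : φ g ≠ 0 := by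
    intro h
    exact hg0 (hP.injective (by rw [h, map_zero]))
  have hφgc : φ g ∈ GrSeg.segrePiece k 𝒞R 𝒞S c := by
    have : φ g ∈ φ '' (𝒬 c : Set P) := ⟨g, hgc, rfl⟩
    rw [hP.image_piece c] at this
    exact this
  -- the degree `c` piece is a line
  have hline : ∀ z ∈ GrSeg.segrePiece k 𝒞R 𝒞S c, ∃ l : k, z = l • φ g := by
    intro z hz
    obtain ⟨t, ht, rfl⟩ := himg c z hz
    rw [sub_self, h0T, Submodule.mem_span_singleton] at ht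
    obtain ⟨l, rfl⟩ := ht
    exact ⟨l, by rw [smul_assoc, one_smul, map_smul]⟩
  -- a nonzero pure tensor
  obtain ⟨a, ha, b, hb, hab⟩ : ∃ a ∈ 𝒞R c, ∃ b ∈ 𝒞S c, a ⊗ₜ[k] b ≠ 0 := by
    by_contra hcon
    push Not at hcon
    apply hφg0
    have : GrSeg.segrePiece k 𝒞R 𝒞S c ≤ ⊥ := by
      apply Submodule.span_le.mpr
      rintro _ ⟨a, ha, b, hb, rfl⟩
      rw [hcon a ha b hb]
      exact Submodule.zero_mem _
    exact (Submodule.mem_bot k).mp (this hφgc)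
  have habm : a ⊗ₜ[k] b ∈ GrSeg.segrePiece k 𝒞R 𝒞S c := Submodule.subset_span ⟨a, ha, b, hb, rfl⟩
  obtain ⟨l, hl⟩ := hline _ habm
  have hl0 : l ≠ 0 := by
    rintro rfl
    rw [zero_smul] at hl
    exact hab hl
  set u : CR := l⁻¹ • a with hu
  have huc : u ∈ 𝒞R c := hkR _ _ _ ha
  have huv : u ⊗ₜ[k] b = φ g := by
    rw [hu, ← TensorProduct.smul_tmul', hl, smul_smul, inv_mul_cancel₀ hl0, one_smul]
  have hu0 : u ≠ 0 := by
    intro h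
    rw [h, TensorProduct.zero_tmul] at huv
    exact hφg0 huv.symm
  have hb0 : b ≠ 0 := by
    intro h
    rw [h, TensorProduct.tmul_zero] at huv
    exact hφg0 huv.symm
  -- spans in degree `c`
  have hspanR : ∀ w ∈ 𝒞R c, ∃ l : k, w = l • u := by
    intro w hw
    obtain ⟨l', hl'⟩ := hline (w ⊗ₜ[k] b) (Submodule.subset_span ⟨w, hw, b, hb, rfl⟩)
    refine ⟨l', ?_⟩
    have h1 : (w - l' • u) ⊗ₜ[k] b = 0 := by
      rw [TensorProduct.sub_tmul, hl', ← huv, TensorProduct.smul_tmul', sub_self]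
    rcases tmul_eq_zero_field _ _ h1 with h | h
    · exact sub_eq_zero.mp h
    · exact absurd h hb0
  have hspanS : ∀ w ∈ 𝒞S c, ∃ l : k, w = l • b := by
    intro w hw
    obtain ⟨l', hl'⟩ := hline (u ⊗ₜ[k] w) (Submodule.subset_span ⟨u, huc, w, hw, rfl⟩)
    refine ⟨l', ?_⟩
    have h1 : u ⊗ₜ[k] (w - l' • b) = 0 := by
      rw [TensorProduct.tmul_sub, hl', ← huv, TensorProduct.tmul_smul, sub_self]
    rcases tmul_eq_zero_field _ _ h1 with h | h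
    · exact absurd h hu0
    · exact sub_eq_zero.mp h
  -- nonvanishing of the pieces
  have hneR : ∀ i : ℕ, 𝒞R (c + i) ≠ ⊥ := hpropR c (fun h => hu0 (by
    have := huc
    rwa [h, AddSubgroup.mem_bot] at this))
  have hneS : ∀ i : ℕ, 𝒞S (c + i) ≠ ⊥ := hpropS c (fun h => hb0 (by
    have := hb
    rwa [h, AddSubgroup.mem_bot] at this))
  have hexR : ∀ i : ℤ, 0 ≤ i → ∃ w ∈ 𝒞R (c + i), w ≠ 0 := by
    intro i hi
    by_contra hcon
    push Not at hcon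
    have := hneR i.toNat
    rw [Int.toNat_of_nonneg hi] at this
    apply this
    rw [eq_bot_iff]
    intro w hw
    exact AddSubgroup.mem_bot.mpr (hcon w hw)
  have hexS : ∀ i : ℤ, 0 ≤ i → ∃ w ∈ 𝒞S (c + i), w ≠ 0 := by
    intro i hi
    by_contra hcon
    push Not at hcon
    have := hneS i.toNat
    rw [Int.toNat_of_nonneg hi] at this
    apply this
    rw [eq_bot_iff]
    intro w hw
    exact AddSubgroup.mem_bot.mpr (hcon w hw)
  -- the subspaces `R_i u`, `S_i b`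
  let UU : ℤ → Submodule k CR := fun i =>
    (𝒜 i).map ((LinearMap.toSpanSingleton R CR u).restrictScalars k)
  let VV : ℤ → Submodule k CS := fun i =>
    (ℬ i).map ((LinearMap.toSpanSingleton S CS b).restrictScalars k)
  have hact : ∀ i : ℤ, ∀ q ∈ GrSeg.segrePiece k 𝒜 ℬ i, GrSeg.act k R S CR CS q (u ⊗ₜ[k] b) ∈
      Submodule.span k {z | ∃ u' ∈ UU i, ∃ v' ∈ VV i, z = u' ⊗ₜ[k] v'} := by
    intro i q hq
    induction hq using Submodule.span_induction with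
    | mem q hq =>
      obtain ⟨x, hx, y, hy, rfl⟩ := hq
      rw [GrSeg.act_tmul]
      exact Submodule.subset_span ⟨x • u, ⟨x, hx, rfl⟩, y • b, ⟨y, hy, rfl⟩, rfl⟩
    | zero => rw [map_zero, LinearMap.zero_apply]; exact Submodule.zero_mem _
    | add q q' _ _ hq hq' => rw [map_add, LinearMap.add_apply]; exact Submodule.add_mem _ hq hq'
    | smul l q _ hq => rw [map_smul, LinearMap.smul_apply]; exact Submodule.smul_mem _ l hq
  have hpiece : ∀ i : ℤ, ∀ z ∈ GrSeg.segrePiece k 𝒞R 𝒞S (c + i),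
      z ∈ Submodule.span k {z | ∃ u' ∈ UU i, ∃ v' ∈ VV i, z = u' ⊗ₜ[k] v'} := by
    intro i z hz
    obtain ⟨t, ht, rfl⟩ := himg (c + i) z hz
    rw [add_sub_cancel_left] at ht
    rw [hP.map_smul, ← huv]
    apply hact i
    rw [← hT.2 i]
    exact ⟨t, ht, rfl⟩
  have hgenR : ∀ i : ℤ, 0 ≤ i → ∀ w ∈ 𝒞R (c + i), ∃ x ∈ 𝒜 i, w = x • u := by
    intro i hi w hw
    obtain ⟨b', hb', hb'0⟩ := hexS i hi
    have h1 := hpiece i (w ⊗ₜ[k] b') (Submodule.subset_span ⟨w, hw, b', hb', rfl⟩)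
    obtain ⟨x, hx, hxw⟩ := tmul_mem_span_left (UU i) (VV i) w b' hb'0 h1
    exact ⟨x, hx, hxw.symm⟩
  have hgenS : ∀ i : ℤ, 0 ≤ i → ∀ w ∈ 𝒞S (c + i), ∃ y ∈ ℬ i, w = y • b := by
    intro i hi w hw
    obtain ⟨a', ha', ha'0⟩ := hexR i hi
    have h1 := hpiece i (a' ⊗ₜ[k] w) (Submodule.subset_span ⟨a', ha', w, hw, rfl⟩)
    obtain ⟨y, hy, hyw⟩ := tmul_mem_span_right (UU i) (VV i) a' w ha'0 h1
    exact ⟨y, hy, hyw.symm⟩
  -- nonzero elements of `R_i`, `S_i`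
  have hneA : ∀ i : ℤ, 0 ≤ i → ∃ x ∈ 𝒜 i, x ≠ 0 := by
    intro i hi
    obtain ⟨w, hw, hw0⟩ := hexR i hi
    obtain ⟨x, hx, rfl⟩ := hgenR i hi w hw
    exact ⟨x, hx, fun h => hw0 (by rw [h, zero_smul])⟩
  have hneB : ∀ i : ℤ, 0 ≤ i → ∃ y ∈ ℬ i, y ≠ 0 := by
    intro i hi
    obtain ⟨w, hw, hw0⟩ := hexS i hi
    obtain ⟨y, hy, rfl⟩ := hgenS i hi w hw
    exact ⟨y, hy, fun h => hw0 (by rw [h, zero_smul])⟩
  -- annihilators
  have hkey : ∀ i : ℤ, ∀ x ∈ 𝒜 i, ∀ y ∈ ℬ i, (x • u) ⊗ₜ[k] (y • b) = 0 → x ⊗ₜ[k] y = 0 := by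
    intro i x hx y hy h
    have h3 : x ⊗ₜ[k] y ∈ GrSeg.segrePiece k 𝒜 ℬ i := Submodule.subset_span ⟨x, hx, y, hy, rfl⟩
    rw [← hT.2 i] at h3
    obtain ⟨t, -, hψt⟩ := h3
    have hψt' : ψ t = x ⊗ₜ[k] y := hψt
    have h4 : φ (t • g) = 0 := by
      rw [hP.map_smul, ← huv, hψt', GrSeg.act_tmul, h]
    have h5 : t • g = 0 := hP.injective (by rw [h4, map_zero])
    have h6 : t = 0 := hf.1 (by rw [hft, h5, map_zero])
    rw [← hψt', h6, map_zero]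
  refine ⟨u, huc, b, hb, hspanR, hspanS, hgenR, hgenS, ?_, ?_⟩
  · intro i x hx hxu
    by_cases hi : 0 ≤ i
    · obtain ⟨y, hy, hy0⟩ := hneB i hi
      have := hkey i x hx y hy (by rw [hxu, TensorProduct.zero_tmul])
      rcases tmul_eq_zero_field _ _ this with h | h
      · exact h
      · exact absurd h hy0
    · rw [hposR i (by omega), Submodule.mem_bot] at hx
      exact hx
  · intro i y hy hyb
    by_cases hi : 0 ≤ i
    · obtain ⟨x, hx, hx0⟩ := hneA i hi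
      have := hkey i x hx y hy (by rw [hyb, TensorProduct.tmul_zero])
      rcases tmul_eq_zero_field _ _ this with h | h
      · exact absurd h hx0
      · exact h
    · rw [hposS i (by omega), Submodule.mem_bot] at hy
      exact hy

end Seg

end Groth.Agent.Lib.Helper39.GrSegCanon
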