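import Groth.Agent.Lib.Helper39.GrSegConv3
import Groth.Agent.Lib.Helper87.Kun27

/-!
# Gorenstein Segre products: the converse (helper39)

`segre_gorenstein_converse`: if `R`, `S` are Cohen–Macaulay standard graded rings over a field of
dimensions `≥ 2` whose Segre product is Gorenstein, then `R` and `S` are Gorenstein and
`a(R) = a(S) < 0`.
-/

set_option autoImplicit false
universe u
open scoped TensorProduct

namespace Groth.Agent.Lib.Helper39.GrSegCanon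

open DirectSum GrLC GrSeg Groth.Agent.Lib.Helper39 Groth.Agent.Lib.Helper39.GrBridge
  Groth.Agent.Lib.Helper39.GrDual Groth.Agent.Lib.Helper39.GrStarLocal
  Groth.Agent.Lib.Helper87.Kun Groth.Agent.Lib.Helper39.GrDualEx

section HgrSMul
variable {k : Type u} [Field k] {A : Type u} [CommRing A] [Algebra k A]
  (𝒜 : ℤ → Submodule k A) [GradedAlgebra 𝒜] (m : HomogeneousIdeal 𝒜) (n : ℕ)
  (I : StarInjRes 𝒜 𝒜)

attribute [local instance] toSubGradedRing toSubDecomposition toSubGradedSMul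

/-- graded local cohomology is a graded module -/
theorem gradedSMul_Hgr_sub : SetLike.GradedSMul 𝒜 (I.Hgr m n) :=
  ⟨fun {d l} x y hx hy => by
    have := GrRegVanish.smul_mem_Hgr (convRes I) (convIdeal m) n (d := d) (n := l) (x := x) hx
      (y := y) hy
    rw [vadd_eq_add, add_comm]
    exact this⟩

end HgrSMul

attribute [local instance] toSubGradedRing toSubDecomposition toSubGradedSMul in
/-- **Gorenstein Segre products of Cohen–Macaulay standard graded rings** -/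
theorem segre_gorenstein_converse (k : Type u) [Field k] (R : Type u) [CommRing R]
    [Algebra k R] (𝒜 : ℤ → Submodule k R) [GradedAlgebra 𝒜] (hposR : ∀ n : ℤ, n < 0 → 𝒜 n = ⊥)
    (h0R : 𝒜 0 = Submodule.span k {(1 : R)}) [Algebra.FiniteType k R] (S : Type u) [CommRing S]
    [Algebra k S] (ℬ : ℤ → Submodule k S) [GradedAlgebra ℬ]
    (hposS : ∀ n : ℤ, n < 0 → ℬ n = ⊥) (h0S : ℬ 0 = Submodule.span k {(1 : S)})
    [Algebra.FiniteType k S] (T : Type u) [CommRing T] [Algebra k T] (𝒯 : ℤ → Submodule k T)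
    [GradedAlgebra 𝒯] (ψ : T →ₐ[k] TensorProduct k R S) (hψ : Function.Injective ψ)
    (hdegT : ∀ n : ℤ, (𝒯 n).map ψ.toLinearMap =
      Submodule.span k {x : TensorProduct k R S | ∃ a ∈ 𝒜 n, ∃ b ∈ ℬ n, x = a ⊗ₜ[k] b})
    [LocCoh.IsCohenMacaulayRing R] [LocCoh.IsCohenMacaulayRing S]
    (mR : HomogeneousIdeal 𝒜)
    (hmR : mR.toIdeal = Ideal.span (⋃ n ∈ Set.Ioi (0 : ℤ), (𝒜 n : Set R)))
    (hstdR : Ideal.span (⋃ n ∈ Set.Ioi (0 : ℤ), (𝒜 n : Set R)) =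
      Ideal.span ((𝒜 1 : Submodule k R) : Set R))
    (I : GrLC.StarInjRes 𝒜 𝒜) (mS : HomogeneousIdeal ℬ)
    (hmS : mS.toIdeal = Ideal.span (⋃ n ∈ Set.Ioi (0 : ℤ), (ℬ n : Set S)))
    (hstdS : Ideal.span (⋃ n ∈ Set.Ioi (0 : ℤ), (ℬ n : Set S)) =
      Ideal.span ((ℬ 1 : Submodule k S) : Set S))
    (J : GrLC.StarInjRes ℬ ℬ) (r s : ℕ) (hr : ringKrullDim R = r) (hs : ringKrullDim S = s)
    (h2r : 2 ≤ r) (h2s : 2 ≤ s) [LocCoh.IsGorensteinRing T] :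
    LocCoh.IsGorensteinRing R ∧ LocCoh.IsGorensteinRing S ∧
      GrLC.endDeg (I.Hgr mR r) = GrLC.endDeg (J.Hgr mS s) ∧ GrLC.endDeg (I.Hgr mR r) < 0 := by
  classical
  haveI : Nontrivial R := by
    by_contra hcon
    rw [not_nontrivial_iff_subsingleton] at hcon
    rw [ringKrullDim_eq_bot_of_subsingleton] at hr
    exact WithBot.bot_ne_coe hr
  haveI : Nontrivial S := by
    by_contra hcon
    rw [not_nontrivial_iff_subsingleton] at hcon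
    rw [ringKrullDim_eq_bot_of_subsingleton] at hs
    exact WithBot.bot_ne_coe hs
  haveI : IsNoetherianRing R := Algebra.FiniteType.isNoetherianRing k R
  haveI : IsNoetherianRing S := Algebra.FiniteType.isNoetherianRing k S
  haveI : Nontrivial (R ⊗[k] S) :=
    Algebra.TensorProduct.nontrivial_of_algebraMap_injective_of_flat_left (R := k) (A := R)
      (B := S) (algebraMap k S).injective
  haveI : Nontrivial T := by
    by_contra hcon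
    rw [not_nontrivial_iff_subsingleton] at hcon
    have h1 : ψ 1 = ψ 0 := congrArg ψ (Subsingleton.elim _ _)
    rw [map_one, map_zero] at h1
    exact one_ne_zero h1
  have hT : GrSeg.IsSegreRing 𝒜 ℬ 𝒯 ψ := ⟨hψ, hdegT⟩
  haveI : IsNoetherianRing T :=
    Groth.Agent.Lib.Helper99.isNoetherianRing_segre 𝒜 ℬ 𝒯 hposR ψ hT.1 hT.2
  haveI : LocCoh.IsCohenMacaulayRing T :=
    { isCohenMacaulayLocalRing_localization := fun p _ => by
        haveI := LocCoh.IsGorensteinRing.isGorensteinLocalRing_localization (A := T) p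
        exact Groth.Agent.H34.GorLinkGlobal.isCohenMacaulayLocalRing_of_isGorensteinLocalRing _ }
  have hneg := (Groth.Agent.Lib.Helper87.Kun.segre_cm_ring_iff_aInv k R 𝒜 hposR h0R S ℬ hposS h0S T 𝒯
    ψ hψ hdegT mR hmR hstdR I mS hmS hstdS J r s hr hs h2r h2s).mp inferInstance
  have hposT := Groth.Agent.Lib.Helper87.SegOne.segre_pos 𝒜 ℬ 𝒯 ψ hT hposR
  have h0T : 𝒯 0 = Submodule.span k {(1 : T)} :=
    Groth.Agent.Lib.Helper87.SegOne.segre_zero 𝒜 ℬ 𝒯 ψ hT h0R h0S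
  -- the irrelevant ideal and a resolution of `T`
  let mT : HomogeneousIdeal 𝒯 := Groth.Agent.Lib.Helper87.Kun.irrH 𝒯
  have hmT : mT.toIdeal = Ideal.span (⋃ n ∈ Set.Ioi (0 : ℤ), (𝒯 n : Set T)) := rfl
  obtain ⟨IT⟩ := exists_selfRes 𝒯
  -- hulls
  obtain ⟨XR, eR, heR⟩ := exists_hull_sub 𝒜 mR
  obtain ⟨XS, eS, heS⟩ := exists_hull_sub ℬ mS
  obtain ⟨XT, eT, heT⟩ := exists_hull_sub 𝒯 mT
  -- `k`-structures
  letI : Module k (I.H mR r) := Module.compHom _ (algebraMap k R)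
  haveI : IsScalarTower k R (I.H mR r) := IsScalarTower.of_algebraMap_smul (fun c x => rfl)
  letI : Module k (J.H mS s) := Module.compHom _ (algebraMap k S)
  haveI : IsScalarTower k S (J.H mS s) := IsScalarTower.of_algebraMap_smul (fun c x => rfl)
  letI : DirectSum.Decomposition (I.Hgr mR r) :=
    (Hgr_isInternal (convRes I) (convIdeal mR) r).chooseDecomposition
  letI : DirectSum.Decomposition (J.Hgr mS s) :=
    (Hgr_isInternal (convRes J) (convIdeal mS) s).chooseDecomposition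
  haveI := gradedSMul_Hgr_sub 𝒜 mR r I
  haveI := gradedSMul_Hgr_sub ℬ mS s J
  -- the graded duals
  letI := gdDecomposition 𝒜 (I.Hgr mR r)
  letI := gdDecomposition ℬ (J.Hgr mS s)
  have hDR := isGDual_gd 𝒜 (I.Hgr mR r)
  have hDS := isGDual_gd ℬ (J.Hgr mS s)
  have hCR := isStarCanonical_of_gdual_sub 𝒜 hposR h0R mR hmR XR.gr eR heR
    (gdGr 𝒜 (I.Hgr mR r)) r I (gdPair 𝒜 (I.Hgr mR r)) hDR
  have hCS := isStarCanonical_of_gdual_sub ℬ hposS h0S mS hmS XS.gr eS heS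
    (gdGr ℬ (J.Hgr mS s)) s J (gdPair ℬ (J.Hgr mS s)) hDS
  -- the canonical module of `T`
  letI := segDecomposition 𝒜 ℬ 𝒯 ψ hT (gdGr 𝒜 (I.Hgr mR r)) (gdGr ℬ (J.Hgr mS s))
  haveI := segGradedSMul 𝒜 ℬ 𝒯 ψ hT (gdGr 𝒜 (I.Hgr mR r)) (gdGr ℬ (J.Hgr mS s))
  have hCT := isStarCanonical_segre k R 𝒜 hposR h0R S ℬ hposS h0S T 𝒯 ψ hT mR hmR I
    mS hmS J mT hmT IT r s hr hs h2r h2s XR.carrier XR.gr eR heR (GD 𝒜 (I.Hgr mR r))
    (gdGr 𝒜 (I.Hgr mR r)) hCR XS.carrier XS.gr eS heS (GD ℬ (J.Hgr mS s)) (gdGr ℬ (J.Hgr mS s)) hCS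
    XT.carrier XT.gr eT heT
    (segSub 𝒜 ℬ 𝒯 ψ hT (gdGr 𝒜 (I.Hgr mR r)) (gdGr ℬ (J.Hgr mS s)))
    (segGr 𝒜 ℬ 𝒯 ψ hT (gdGr 𝒜 (I.Hgr mR r)) (gdGr ℬ (J.Hgr mS s)))
    (segVal 𝒜 ℬ 𝒯 ψ hT (gdGr 𝒜 (I.Hgr mR r)) (gdGr ℬ (J.Hgr mS s)))
    (isSegreMod_segVal 𝒜 ℬ 𝒯 ψ hT (gdGr 𝒜 (I.Hgr mR r)) (gdGr ℬ (J.Hgr mS s)))
  -- `K_T ≅ T(-c)`
  haveI := gsmul_toSub 𝒯 XT.gr
  haveI := gsmul_toSub 𝒯 (segGr 𝒜 ℬ 𝒯 ψ hT (gdGr 𝒜 (I.Hgr mR r)) (gdGr ℬ (J.Hgr mS s)))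
  have hdimT : ringKrullDim T = ((r + s - 1 : ℕ) : WithBot ℕ∞) :=
    Groth.Agent.Lib.Helper87.ringKrullDim_segreProduct k R 𝒜 hposR h0R S ℬ hposS h0S T 𝒯 ψ hψ hdegT
      r s hr hs (by omega) (by omega)
  have key := Groth.Agent.S18638.result T (toSub 𝒯) (toSub_neg 𝒯 hposT)
    (isField_deg0_of_span_one 𝒯 h0T) (convIdeal mT) (isStarLocal_sub 𝒯 hposT h0T mT hmT) hmT
    (r + s - 1) hdimT (convRes IT) XT.carrier XT.gr eT (isStarInjHull_conv XT.gr eT heT)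
    (segSub 𝒜 ℬ 𝒯 ψ hT (gdGr 𝒜 (I.Hgr mR r)) (gdGr ℬ (J.Hgr mS s)))
    (segGr 𝒜 ℬ 𝒯 ψ hT (gdGr 𝒜 (I.Hgr mR r)) (gdGr ℬ (J.Hgr mS s)))
    (isStarCanonical_conv XT.gr (segGr 𝒜 ℬ 𝒯 ψ hT (gdGr 𝒜 (I.Hgr mR r)) (gdGr ℬ (J.Hgr mS s)))
      (r + s - 1) IT hCT)
  obtain ⟨c, f, hf, hfd⟩ := key.mp inferInstance
  -- the analysis of the Segre product
  obtain ⟨u, huc, v, hvc, hspanR, hspanS, hgenR, hgenS, hannR, hannS⟩ :=
    segre_cyclic_data 𝒜 ℬ 𝒯 hposR hposS h0T ψ hT (gdGr 𝒜 (I.Hgr mR r)) (gdGr ℬ (J.Hgr mS s))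
      (segGr 𝒜 ℬ 𝒯 ψ hT (gdGr 𝒜 (I.Hgr mR r)) (gdGr ℬ (J.Hgr mS s)))
      (segVal 𝒜 ℬ 𝒯 ψ hT (gdGr 𝒜 (I.Hgr mR r)) (gdGr ℬ (J.Hgr mS s)))
      (isSegreMod_segVal 𝒜 ℬ 𝒯 ψ hT (gdGr 𝒜 (I.Hgr mR r)) (gdGr ℬ (J.Hgr mS s))) c f hf hfd
      (fun j hj i => piece_add_ne_bot 𝒜 mR hmR hstdR (gdGr 𝒜 (I.Hgr mR r)) r hr I
        (gdPair 𝒜 (I.Hgr mR r)) hDR (by omega) j hj i)
      (fun j hj i => piece_add_ne_bot ℬ mS hmS hstdS (gdGr ℬ (J.Hgr mS s)) s hs J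
        (gdPair ℬ (J.Hgr mS s)) hDS (by omega) j hj i)
  obtain ⟨hGR, haR⟩ := gorenstein_of_gen 𝒜 hposR h0R mR hmR hstdR XR.gr eR heR
    (gdGr 𝒜 (I.Hgr mR r)) r hr I (gdPair 𝒜 (I.Hgr mR r)) hDR h2r c u huc hspanR hgenR hannR
  obtain ⟨hGS, haS⟩ := gorenstein_of_gen ℬ hposS h0S mS hmS hstdS XS.gr eS heS
    (gdGr ℬ (J.Hgr mS s)) s hs J (gdPair ℬ (J.Hgr mS s)) hDS h2s c v hvc hspanS hgenS hannS
  exact ⟨hGR, hGS, haR.trans haS.symm, hneg.1⟩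

end Groth.Agent.Lib.Helper39.GrSegCanon
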