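import Groth.Agent.Lib.Helper39.GrVer15
import Groth.Agent.Lib.Helper39.GrRegVanish
import Groth.Agent.Lib.Helper39.GrRes
import Groth.Agent.Lib.Helper87.StarMin

/-!
# Veronese subrings of Gorenstein graded rings (helper39)

`isGorensteinRing_ver`: if `R` is a Gorenstein graded ring over a field and `q ∣ a(R)` then the
Veronese subring `R^(q)` is Gorenstein.
-/

set_option autoImplicit false
universe u

namespace Groth.Agent.Lib.Helper39.Ver

open DirectSum GrLC Groth.Agent.Lib.Helper39 Groth.Agent.Lib.Helper39.GrStarLocal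
  Groth.Agent.Lib.Helper39.GrPieceDual Groth.Agent.Lib.Helper39.GrLes

section Deg
variable {R : Type u} [CommRing R] (𝒜 : ℤ → AddSubgroup R) [GradedRing 𝒜]
  (hpos : ∀ n : ℤ, n < 0 → 𝒜 n = ⊥) (h0 : IsField (GrLC.deg0 𝒜))
  (m : HomogeneousIdeal 𝒜)
  (hmsp : m.toIdeal = Ideal.span (⋃ n ∈ Set.Ioi (0 : ℤ), (𝒜 n : Set R)))
  {E' : Type u} [AddCommGroup E'] [Module R E'] (𝓔 : ℤ → AddSubgroup E')
  [DirectSum.Decomposition 𝓔] [SetLike.GradedSMul 𝒜 𝓔]
  (e : (R ⧸ m.toIdeal) →ₗ[R] E') (he : GrLC.IsStarEss (GrLC.quotGr 𝒜 m) 𝓔 e)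
  {H : Type u} [AddCommGroup H] [Module R H] (ℋ : ℤ → AddSubgroup H)
  (hH : DirectSum.IsInternal ℋ) (a : ℤ)
  (ha : GrLC.endDeg ℋ = ((a : WithTop ℤ) : WithBot (WithTop ℤ)))
  (g₀ : ℤ) (φ₀ : H ≃ₗ[R] E') (hφ₀ : GrLC.IsGrHomDeg ℋ 𝓔 φ₀.toLinearMap g₀)

include hpos h0 hmsp he hH ha hφ₀ in
/-- a homogeneous isomorphism from a graded module with end degree `a` onto `*E(R/m)` has degree
`-a` -/
theorem deg_eq_neg_endDeg : g₀ = -a := by
  have h1 : ¬ 0 < a + g₀ := by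
    intro hlt
    have hne := GrCanonDim2.ne_bot_of_endDeg ℋ a ha
    apply hne
    rw [eq_bot_iff]
    intro x hx
    rw [AddSubgroup.mem_bot]
    have h2 : φ₀ x ∈ 𝓔 (a + g₀) := hφ₀ a x hx
    rw [piece_eq_bot_of_pos 𝒜 hpos m hmsp 𝓔 e he hlt, AddSubgroup.mem_bot] at h2
    exact φ₀.injective (by rw [h2, map_zero])
  have h2 : ¬ a < -g₀ := by
    intro hlt
    have hbot := GrAInvPoly.eq_bot_of_endDeg ℋ a ha (-g₀) hlt
    have hy : e 1 ∈ 𝓔 (-g₀ + g₀) := by
      rw [neg_add_cancel]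
      exact e_mem_zero 𝒜 hpos m hmsp 𝓔 e he 1
    obtain ⟨x, hx, hxy⟩ := GrRegVanish.exists_mem_of_isInternal_deg hH
      (DirectSum.Decomposition.isInternal 𝓔) φ₀.toLinearMap hφ₀ hy (φ₀.symm (e 1))
      (φ₀.apply_symm_apply _)
    rw [hbot, AddSubgroup.mem_bot] at hx
    rw [hx, map_zero] at hxy
    have h3 : (1 : R ⧸ m.toIdeal) = 0 := he.injective (by rw [← hxy, map_zero])
    have h4 : (1 : R) ∈ m.toIdeal := by
      rw [← Ideal.Quotient.eq_zero_iff_mem]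
      exact h3
    apply irr_ne_top 𝒜 hpos h0
    rw [irr_toIdeal, ← hmsp]
    exact (Ideal.eq_top_iff_one _).mpr h4
  omega

end Deg

section Main
variable {R R' : Type u} [CommRing R] [CommRing R'] [LocCoh.IsGorensteinRing R]
  {𝒜 : ℤ → AddSubgroup R} [GradedRing 𝒜]
  {𝒜' : ℤ → AddSubgroup R'} [GradedRing 𝒜'] (D : VerData 𝒜 𝒜')
  (hpos : ∀ n : ℤ, n < 0 → 𝒜 n = ⊥) (h0 : IsField (GrLC.deg0 𝒜))
  (m : HomogeneousIdeal 𝒜) (hm : GrLC.IsStarLocal 𝒜 m)
  (hmsp : m.toIdeal = Ideal.span (⋃ n ∈ Set.Ioi (0 : ℤ), (𝒜 n : Set R)))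
  (n : ℕ) (hn : ringKrullDim R = n) (I : GrLC.StarInjRes 𝒜 𝒜) (a : ℤ)
  (ha : GrLC.endDeg (I.Hgr m n) = ((a : WithTop ℤ) : WithBot (WithTop ℤ)))

include hpos h0 hm hmsp hn ha in
/-- **Veronese subrings of Gorenstein graded rings**: if `q ∣ a(R)` then `R^(q)` is Gorenstein. -/
theorem isGorensteinRing_ver (hdvd : (D.q : ℤ) ∣ a) : LocCoh.IsGorensteinRing R' := by
  haveI : IsNoetherianRing R := inferInstance
  haveI : LocCoh.IsCohenMacaulayRing R :=
    { isCohenMacaulayLocalRing_localization := fun p _ => by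
        haveI := LocCoh.IsGorensteinRing.isGorensteinLocalRing_localization (A := R) p
        exact Groth.Agent.H34.GorLinkGlobal.isCohenMacaulayLocalRing_of_isGorensteinLocalRing _ }
  haveI : IsNoetherianRing R' := D.isNoetherianRing
  -- the hull over `R`
  let decQ := quotGrDecomposition 𝒜 m
  have smulQ := quotGrGradedSMul 𝒜 m
  obtain ⟨E, e, he⟩ := Groth.Agent.Lib.Helper87.StarMin.exists_hull 𝒜
    (GMod.of 𝒜 (R ⧸ m.toIdeal) (GrLC.quotGr 𝒜 m))
  have hht := height_eq 𝒜 hpos h0 m hm n hn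
  obtain ⟨g₀, φ₀, hφ₀⟩ := Groth.Agent.S13244.result R 𝒜 m hm n hht I E.carrier E.gr e he
  have hg₀ : g₀ = -a := deg_eq_neg_endDeg 𝒜 hpos h0 m hmsp E.gr e he.toIsStarEss (I.Hgr m n)
    (Hgr_isInternal I m n) a ha g₀ φ₀ hφ₀
  subst hg₀
  obtain ⟨a', ha'⟩ := hdvd
  -- the Veronese side
  have hpos' := D.hpos' hpos
  have h0' := D.h0' h0
  let m' : HomogeneousIdeal 𝒜' := irr 𝒜'
  have hm' : GrLC.IsStarLocal 𝒜' m' := isStarLocal_irr 𝒜' hpos' h0'
  have hm'sp : m'.toIdeal = Ideal.span (⋃ j ∈ Set.Ioi (0 : ℤ), (𝒜' j : Set R')) := rfl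
  let I' : GrLC.StarInjRes 𝒜' 𝒜' := starInjRes (𝒜 := 𝒜') 𝒜'
  have hθ := fun p => exists_theta_irrelevant D m m' hmsp hm'sp p I D.φₛ D.isVer_self I'
  have hvan : ∀ j, j ≠ n → Subsingleton (I'.H m' j) := by
    intro j hj
    obtain ⟨θ, hθv⟩ := hθ j
    haveI := H_subsingleton_of_ne 𝒜 hpos h0 m hm n hn I j hj
    exact hθv.inj.subsingleton
  obtain ⟨θ, hθv⟩ := hθ n
  -- the comparison map
  have hdeg : ∀ (j : ℤ) (x : I'.H m' n), x ∈ I'.Hgr m' n j →
      φ₀ (θ x) ∈ E.gr ((j + -a') * D.q) := by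
    intro j x hx
    have h1 := hφ₀ (j * D.q) (θ x) (hθv.map_mem j x hx)
    have h2 : (j + -a') * (D.q : ℤ) = j * D.q + -a := by rw [ha']; ring
    rw [h2]
    exact h1
  have hmem : ∀ x : I'.H m' n, (φ₀.toLinearMap.comp θ) x ∈ verSub E.gr D.q := by
    intro x
    have hint := Hgr_isInternal I' m' n
    letI := hint.chooseDecomposition
    induction x using DirectSum.Decomposition.inductionOn (I'.Hgr m' n) with
    | zero => rw [map_zero]; exact zero_mem _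
    | @homogeneous j x => exact mem_verSub_of_mem E.gr D.q (hdeg j x x.2)
    | add x y hx hy => rw [map_add]; exact add_mem hx hy
  let ψ : I'.H m' n →ₗ[R'] Ver D E := verLift D E (φ₀.toLinearMap.comp θ) hmem
  have hψval : ∀ x, Ver.val D E (ψ x) = φ₀ (θ x) := fun x => rfl
  have hψinj : Function.Injective ψ := by
    intro x y hxy
    have h1 : φ₀ (θ x) = φ₀ (θ y) := by rw [← hψval, ← hψval, hxy]
    exact hθv.inj (φ₀.injective h1)
  have hψsurj : Function.Surjective ψ := by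
    intro v
    induction v using DirectSum.Decomposition.inductionOn (verGr D E) with
    | zero => exact ⟨0, map_zero _⟩
    | @homogeneous j v =>
      have hv : Ver.val D E (v : Ver D E) ∈ E.gr ((j + a') * D.q + -a) := by
        have h2 : (j + a') * (D.q : ℤ) + -a = j * D.q := by rw [ha']; ring
        rw [h2]
        exact (mem_verGr D E).mp v.2
      obtain ⟨h', hh', e1⟩ := GrRegVanish.exists_mem_of_isInternal_deg (Hgr_isInternal I m n)
        (DirectSum.Decomposition.isInternal E.gr) φ₀.toLinearMap hφ₀ hv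
        (φ₀.symm (Ver.val D E (v : Ver D E))) (φ₀.apply_symm_apply _)
      obtain ⟨x, -, e2⟩ := hθv.surj (j + a') h' hh'
      refine ⟨x, Ver.ext D E ?_⟩
      rw [hψval, e2]
      exact e1
    | add v w hv hw =>
      obtain ⟨x, rfl⟩ := hv
      obtain ⟨y, rfl⟩ := hw
      exact ⟨x + y, map_add _ _ _⟩
  have hX : GrLC.IsStarInj 𝒜' (gshift (verG D E) (-a')).gr :=
    isStarInj_shift (verGr D E) (isStarInj_ver_hull D hpos h0 m m' hmsp hm'sp E e he) (-a')
  have hψgr : GrLC.IsGrHom (I'.Hgr m' n) (gshift (verG D E) (-a')).gr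
      (LinearEquiv.ofBijective ψ ⟨hψinj, hψsurj⟩).toLinearMap := by
    intro j x hx
    show ψ x ∈ verGr D E (j + -a')
    rw [mem_verGr, hψval]
    exact hdeg j x hx
  exact StarGorV.isGorensteinRing_of_starInj R' 𝒜' m' hm' n I' hvan (gshift (verG D E) (-a'))
    (LinearEquiv.ofBijective ψ ⟨hψinj, hψsurj⟩) hX hψgr

end Main

end Groth.Agent.Lib.Helper39.Ver
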