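import Groth.Agent.Lib.Helper39.GrSegCanon5
import Groth.Agent.Lib.Helper39.GrVer16
import Groth.Agent.Lib.Helper39.GrHullPrime
import Groth.Agent.S13244

/-!
# The *canonical module of a Gorenstein graded ring over a field is a shift of the ring (helper39)

* `endDeg_eq_of_equiv_hull`: a homogeneous isomorphism of degree `g` onto `*E(R/m)` forces the end
  degree to be `-g`;
* `exists_hull_sub`: *injective hulls of `A/A_+` for gradings by `k`-subspaces;
* `gorenstein_canonical`: for a Gorenstein graded ring `A` over a field, `A(a)` (with `a = a(A)`)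
  is a *canonical module.
-/

set_option autoImplicit false
universe u
open scoped TensorProduct

namespace Groth.Agent.Lib.Helper39.GrSegCanon

open DirectSum GrLC GrSeg Groth.Agent.Lib.Helper39 Groth.Agent.Lib.Helper39.GrBridge
  Groth.Agent.Lib.Helper39.GrDual Groth.Agent.Lib.Helper39.GrStarLocal
  Groth.Agent.Lib.Helper39.GrPieceDual

section EndDeg
variable {R : Type u} [CommRing R] (𝒜 : ℤ → AddSubgroup R) [GradedRing 𝒜]
  (hpos : ∀ n : ℤ, n < 0 → 𝒜 n = ⊥) (h0 : IsField (GrLC.deg0 𝒜))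
  (m : HomogeneousIdeal 𝒜)
  (hmsp : m.toIdeal = Ideal.span (⋃ n ∈ Set.Ioi (0 : ℤ), (𝒜 n : Set R)))
  {E' : Type u} [AddCommGroup E'] [Module R E'] (𝓔 : ℤ → AddSubgroup E')
  [DirectSum.Decomposition 𝓔] [SetLike.GradedSMul 𝒜 𝓔]
  (e : (R ⧸ m.toIdeal) →ₗ[R] E') (he : GrLC.IsStarEss (GrLC.quotGr 𝒜 m) 𝓔 e)
  {H : Type u} [AddCommGroup H] [Module R H] (ℋ : ℤ → AddSubgroup H)
  (hH : DirectSum.IsInternal ℋ)
  (g₀ : ℤ) (φ₀ : H ≃ₗ[R] E') (hφ₀ : GrLC.IsGrHomDeg ℋ 𝓔 φ₀.toLinearMap g₀)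

include hpos h0 hmsp he hH hφ₀ in
/-- a homogeneous isomorphism of degree `g` onto `*E(R/m)` forces the end degree to be `-g` -/
theorem endDeg_eq_of_equiv_hull :
    GrLC.endDeg ℋ = (((-g₀ : ℤ) : WithTop ℤ) : WithBot (WithTop ℤ)) := by
  have hne1 : e 1 ≠ 0 := by
    intro h1
    have h3 : (1 : R ⧸ m.toIdeal) = 0 := he.injective (by rw [h1, map_zero])
    have h4 : (1 : R) ∈ m.toIdeal := by
      rw [← Ideal.Quotient.eq_zero_iff_mem]
      exact h3
    apply Ver.irr_ne_top 𝒜 hpos h0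
    rw [irr_toIdeal, ← hmsp]
    exact (Ideal.eq_top_iff_one _).mpr h4
  apply GrAInvPoly.endDeg_eq
  · intro hbot
    have hy : e 1 ∈ 𝓔 (-g₀ + g₀) := by
      rw [neg_add_cancel]
      exact e_mem_zero 𝒜 hpos m hmsp 𝓔 e he 1
    obtain ⟨x, hx, hxy⟩ := GrRegVanish.exists_mem_of_isInternal_deg hH
      (DirectSum.Decomposition.isInternal 𝓔) φ₀.toLinearMap hφ₀ hy (φ₀.symm (e 1))
      (φ₀.apply_symm_apply _)
    rw [hbot, AddSubgroup.mem_bot] at hx
    rw [hx, map_zero] at hxy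
    exact hne1 hxy.symm
  · intro n hn
    rw [eq_bot_iff]
    intro x hx
    rw [AddSubgroup.mem_bot]
    have h2 : φ₀ x ∈ 𝓔 (n + g₀) := hφ₀ n x hx
    rw [piece_eq_bot_of_pos 𝒜 hpos m hmsp 𝓔 e he (by omega : 0 < n + g₀),
      AddSubgroup.mem_bot] at h2
    exact φ₀.injective (by rw [h2, map_zero])

end EndDeg

section Hull
variable {k : Type u} [Field k] {A : Type u} [CommRing A] [Algebra k A] [IsNoetherianRing A]
  (𝒜 : ℤ → Submodule k A) [GradedAlgebra 𝒜] (m : HomogeneousIdeal 𝒜)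

attribute [local instance] toSubGradedRing toSubDecomposition toSubGradedSMul

theorem isStarInjHull_unconv {E' : Type u} [AddCommGroup E'] [Module A E']
    (𝓔 : ℤ → AddSubgroup E') [DirectSum.Decomposition 𝓔] [SetLike.GradedSMul (toSub 𝒜) 𝓔]
    (e : (A ⧸ m.toIdeal) →ₗ[A] E')
    (he : IsStarInjHull (toSub 𝒜) (quotGr (toSub 𝒜) (convIdeal m)) 𝓔 e) :
    haveI := gsmul_of_toSub 𝒜 𝓔
    IsStarInjHull 𝒜 (quotGr 𝒜 m) 𝓔 e := by
  haveI := gsmul_of_toSub 𝒜 𝓔
  refine { injective := he.injective, grHom := ?_, essential := he.essential, starInj := ?_ }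
  · rintro g _ ⟨y, hy, rfl⟩
    exact he.grHom g _ ⟨y, hy, rfl⟩
  · exact Groth.Agent.Lib.Helper87.Kun.isStarInj_unconv 𝓔 he.starInj

/-- *injective hulls of `A/m` exist -/
theorem exists_hull_sub : ∃ (X : GMod.{u} 𝒜) (e : (A ⧸ m.toIdeal) →ₗ[A] X.carrier),
    IsStarInjHull 𝒜 (quotGr 𝒜 m) X.gr e := by
  letI decQ := quotGrDecomposition (toSub 𝒜) (convIdeal m)
  haveI smulQ := quotGrGradedSMul (toSub 𝒜) (convIdeal m)
  obtain ⟨X, e, he⟩ := Groth.Agent.Lib.Helper87.StarMin.exists_hull (toSub 𝒜)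
    (GMod.of (toSub 𝒜) (A ⧸ (convIdeal m).toIdeal) (GrLC.quotGr (toSub 𝒜) (convIdeal m)))
  exact ⟨unconvGMod X, e, isStarInjHull_unconv 𝒜 m X.gr e he⟩

end Hull

section Shift
variable {k : Type u} [Field k] {A : Type u} [CommRing A] [Algebra k A]
  (𝒜 : ℤ → Submodule k A) [GradedAlgebra 𝒜]

attribute [local instance] toSubGradedRing toSubDecomposition toSubGradedSMul

/-- the shifted ring `A(a)` as a graded module over `A` -/
def shiftSelf (a : ℤ) : ℤ → AddSubgroup A := shiftPieces (toSub 𝒜) a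

theorem mem_shiftSelf {a j : ℤ} {x : A} : x ∈ shiftSelf 𝒜 a j ↔ x ∈ 𝒜 (j + a) := Iff.rfl

noncomputable instance shiftSelfDecomposition (a : ℤ) : DirectSum.Decomposition (shiftSelf 𝒜 a) :=
  shiftDecomposition (toSub 𝒜) a

instance shiftSelfGradedSMul (a : ℤ) : SetLike.GradedSMul 𝒜 (shiftSelf 𝒜 a) where
  smul_mem := fun {i j x y} hx hy => by
    show x * y ∈ 𝒜 (i + j + a)
    rw [add_assoc]
    exact SetLike.GradedMul.mul_mem (A := 𝒜) hx hy

end Shift

section Gor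
variable {k : Type u} [Field k] {A : Type u} [CommRing A] [Nontrivial A] [Algebra k A]
  (𝒜 : ℤ → Submodule k A) [GradedAlgebra 𝒜] (hpos : ∀ n : ℤ, n < 0 → 𝒜 n = ⊥)
  (h0 : 𝒜 0 = Submodule.span k {(1 : A)})
  (m : HomogeneousIdeal 𝒜) (hm : m.toIdeal = Ideal.span (⋃ n ∈ Set.Ioi (0 : ℤ), (𝒜 n : Set A)))
  {E : Type u} [AddCommGroup E] [Module A E] (𝓔 : ℤ → AddSubgroup E) [DirectSum.Decomposition 𝓔]
  [SetLike.GradedSMul 𝒜 𝓔]
  (e : (A ⧸ m.toIdeal) →ₗ[A] E) (he : IsStarInjHull 𝒜 (quotGr 𝒜 m) 𝓔 e)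
  (n : ℕ) (hn : ringKrullDim A = n) (I : StarInjRes 𝒜 𝒜)

attribute [local instance] toSubGradedRing toSubDecomposition toSubGradedSMul

omit [Nontrivial A] in
include hpos h0 hm in
theorem isStarLocal_sub [Nontrivial A] : IsStarLocal (toSub 𝒜) (convIdeal m) := by
  have h1 := Ver.isStarLocal_irr (toSub 𝒜) (toSub_neg 𝒜 hpos) (isField_deg0_of_span_one 𝒜 h0)
  have h2 : irr (toSub 𝒜) = convIdeal m := HomogeneousIdeal.toIdeal_injective hm.symm
  rw [← h2]
  exact h1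

include hpos h0 hm he hn in
/-- for a Gorenstein graded ring `A` over a field, `A(a)` with `a = a(A)` is *canonical -/
theorem gorenstein_canonical [LocCoh.IsGorensteinRing A] :
    ∃ a : ℤ, GrLC.endDeg (I.Hgr m n) = ((a : WithTop ℤ) : WithBot (WithTop ℤ)) ∧
      IsStarCanonical 𝒜 (shiftSelf 𝒜 a) 𝓔 m n I := by
  classical
  haveI : IsNoetherianRing A := inferInstance
  haveI := gsmul_toSub 𝒜 𝓔
  have hpos' := toSub_neg 𝒜 hpos
  have h0' := isField_deg0_of_span_one 𝒜 h0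
  have hloc := isStarLocal_sub 𝒜 hpos h0 m hm
  haveI : IsArtinianRing (GrLC.deg0 (toSub 𝒜)) := GrAInvPoly.isArtinianRing_of_isField _ h0'
  have hht : (convIdeal m).toIdeal.height = n := by
    have := GrHeightArt.height_star_eq (toSub 𝒜) hpos' hloc
    rw [hn] at this
    exact_mod_cast this
  have he' := isStarInjHull_conv 𝓔 e he
  obtain ⟨g, φ₀, hφ₀⟩ := Groth.Agent.S13244.result A (toSub 𝒜) (convIdeal m) hloc n hht
    (convRes I) E 𝓔 e he'
  refine ⟨-g, ?_, ?_⟩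
  · exact endDeg_eq_of_equiv_hull (toSub 𝒜) hpos' h0' (convIdeal m) hm 𝓔 e he'.toIsStarEss
      ((convRes I).Hgr (convIdeal m) n) (Hgr_isInternal (convRes I) (convIdeal m) n) g φ₀ hφ₀
  · refine ⟨inferInstance, (LinearMap.ringLmapEquivSelf A A E).trans φ₀.symm, ?_⟩
    intro d f hf
    show φ₀.symm (f 1) ∈ I.Hgr m n d
    have h1 : f 1 ∈ 𝓔 (g + d) := by
      refine hf g 1 ?_
      show (1 : A) ∈ 𝒜 (g + -g)
      rw [add_neg_cancel]
      exact SetLike.GradedOne.one_mem (A := 𝒜)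
    obtain ⟨x, hx, hxe⟩ := GrRegVanish.exists_mem_of_isInternal_deg
      (Hgr_isInternal (convRes I) (convIdeal m) n) (DirectSum.Decomposition.isInternal 𝓔)
      φ₀.toLinearMap hφ₀ (h := d) (b := f 1) (by rw [add_comm]; exact h1) (φ₀.symm (f 1))
      (φ₀.apply_symm_apply _)
    have h2 : φ₀.symm (f 1) = x := by
      rw [← hxe]
      exact φ₀.symm_apply_apply x
    rw [h2]
    exact hx

end Gor

end Groth.Agent.Lib.Helper39.GrSegCanon
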