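import Groth.Agent.Lib.Helper39.GrSegGor1
import Groth.Agent.Lib.Helper87.SegreDim
import Groth.Agent.S18638

/-!
# Segre products of Gorenstein graded rings with equal a-invariants (helper39)

`gorenstein_segre_of_isSegreMod`: if `R`, `S` are Gorenstein graded rings over a field of
dimensions `≥ 2` with `a(R) = a(S)` and `T = R # S` is Cohen–Macaulay then `T` is Gorenstein —
given the presentation of `H^{r+s-1}_{T_+}(T)` as a Segre product of `H^r_{R_+}(R)` and
`H^s_{S_+}(S)` (helper87's T-linear top Künneth formula).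
-/

set_option autoImplicit false
universe u
open scoped TensorProduct

namespace Groth.Agent.Lib.Helper39.GrSegCanon

open DirectSum GrLC GrSeg Groth.Agent.Lib.Helper39 Groth.Agent.Lib.Helper39.GrBridge
  Groth.Agent.Lib.Helper39.GrDual Groth.Agent.Lib.Helper39.GrStarLocal

section SelfRes
variable {k : Type u} [Field k] {T : Type u} [CommRing T] [Algebra k T] [IsNoetherianRing T]
  (𝒯 : ℤ → Submodule k T) [GradedAlgebra 𝒯]

attribute [local instance] toSubGradedRing toSubDecomposition toSubGradedSMul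

/-- a *injective resolution of the ring itself -/
theorem exists_selfRes : Nonempty (StarInjRes 𝒯 𝒯) := by
  haveI : SetLike.GradedSMul 𝒯 (toSub 𝒯) :=
    ⟨fun {i j a b} ha hb => SetLike.GradedMul.mul_mem (A := 𝒯) ha hb⟩
  obtain ⟨E⟩ := Groth.Agent.Lib.Helper87.Kun.exists_starInjRes 𝒯 (toSub 𝒯)
  exact ⟨{ X := E.X
           d := E.d
           ε := E.ε
           d_grHom := E.d_grHom
           ε_grHom := fun j m hm => E.ε_grHom j m hm
           ε_injective := E.ε_injective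
           exact_zero := E.exact_zero
           exact_succ := E.exact_succ
           starInj := E.starInj }⟩

end SelfRes

section ShiftSegre
variable {k : Type u} [Field k] {R S T : Type u} [CommRing R] [CommRing S] [CommRing T]
  [Algebra k R] [Algebra k S] [Algebra k T]
  (𝒜 : ℤ → Submodule k R) [GradedAlgebra 𝒜] (ℬ : ℤ → Submodule k S) [GradedAlgebra ℬ]
  (𝒯 : ℤ → Submodule k T) [GradedAlgebra 𝒯]
  (ψ : T →ₐ[k] R ⊗[k] S) (hT : GrSeg.IsSegreRing 𝒜 ℬ 𝒯 ψ)

include hT in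
/-- `T(a)` is the Segre product of `R(a)` and `S(a)` -/
theorem isSegreMod_shiftSelf (a : ℤ) :
    GrSeg.IsSegreMod ψ (shiftSelf 𝒜 a) (shiftSelf ℬ a) (shiftSelf 𝒯 a) ψ.toLinearMap :=
  { injective := hT.1
    image_piece := fun n => by
      have h1 := hT.2 (n + a)
      have h2 : (ψ.toLinearMap '' ((shiftSelf 𝒯 a n : AddSubgroup T) : Set T)) =
          (((𝒯 (n + a)).map ψ.toLinearMap : Submodule k (R ⊗[k] S)) : Set (R ⊗[k] S)) := rfl
      rw [h2, h1]
      rfl
    map_smul := fun t p => by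
      rw [Groth.Agent.Lib.Helper87.Kun.act_self']
      exact map_mul ψ t p }

end ShiftSegre

attribute [local instance] toSubGradedRing toSubDecomposition toSubGradedSMul in
/-- **Segre products of Gorenstein rings with equal a-invariants are Gorenstein** (when
Cohen–Macaulay), given the T-linear top Künneth formula -/
theorem gorenstein_segre_of_isSegreMod (k : Type u) [Field k] (R : Type u) [CommRing R]
    [Algebra k R] (𝒜 : ℤ → Submodule k R) [GradedAlgebra 𝒜] (hposR : ∀ n : ℤ, n < 0 → 𝒜 n = ⊥)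
    (h0R : 𝒜 0 = Submodule.span k {(1 : R)}) [Algebra.FiniteType k R] (S : Type u) [CommRing S]
    [Algebra k S] (ℬ : ℤ → Submodule k S) [GradedAlgebra ℬ]
    (hposS : ∀ n : ℤ, n < 0 → ℬ n = ⊥) (h0S : ℬ 0 = Submodule.span k {(1 : S)})
    [Algebra.FiniteType k S] (T : Type u) [CommRing T] [Algebra k T] (𝒯 : ℤ → Submodule k T)
    [GradedAlgebra 𝒯] (ψ : T →ₐ[k] TensorProduct k R S) (hψ : Function.Injective ψ)
    (hdegT : ∀ n : ℤ, (𝒯 n).map ψ.toLinearMap =
      Submodule.span k {x : TensorProduct k R S | ∃ a ∈ 𝒜 n, ∃ b ∈ ℬ n, x = a ⊗ₜ[k] b})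
    [LocCoh.IsGorensteinRing R] [LocCoh.IsGorensteinRing S]
    (mR : HomogeneousIdeal 𝒜)
    (hmR : mR.toIdeal = Ideal.span (⋃ n ∈ Set.Ioi (0 : ℤ), (𝒜 n : Set R)))
    (I : GrLC.StarInjRes 𝒜 𝒜) (mS : HomogeneousIdeal ℬ)
    (hmS : mS.toIdeal = Ideal.span (⋃ n ∈ Set.Ioi (0 : ℤ), (ℬ n : Set S)))
    (J : GrLC.StarInjRes ℬ ℬ) (r s : ℕ) (hr : ringKrullDim R = r) (hs : ringKrullDim S = s)
    (h2r : 2 ≤ r) (h2s : 2 ≤ s)
    (haeq : GrLC.endDeg (I.Hgr mR r) = GrLC.endDeg (J.Hgr mS s))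
    [LocCoh.IsCohenMacaulayRing T]
    (hKun : ∀ (mT : HomogeneousIdeal 𝒯)
      (_ : mT.toIdeal = Ideal.span (⋃ n ∈ Set.Ioi (0 : ℤ), (𝒯 n : Set T)))
      (IT : GrLC.StarInjRes 𝒯 𝒯)
      [Module k (I.H mR r)] [IsScalarTower k R (I.H mR r)]
      [Module k (J.H mS s)] [IsScalarTower k S (J.H mS s)]
      [Module k (IT.H mT (r + s - 1))] [IsScalarTower k T (IT.H mT (r + s - 1))]
      [DirectSum.Decomposition (IT.Hgr mT (r + s - 1))],
      ∃ Φ : IT.H mT (r + s - 1) →ₗ[k] TensorProduct k (I.H mR r) (J.H mS s),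
        GrSeg.IsSegreMod ψ (I.Hgr mR r) (J.Hgr mS s) (IT.Hgr mT (r + s - 1)) Φ) :
    LocCoh.IsGorensteinRing T := by
  classical
  haveI : Nontrivial R := by
    by_contra hcon
    rw [not_nontrivial_iff_subsingleton] at hcon
    rw [ringKrullDim_eq_bot_of_subsingleton] at hr
    exact WithBot.bot_ne_coe hr
  haveI : Nontrivial S := by
    by_contra hcon
    rw [not_nontrivial_iff_subsingleton] at hcon
    rw [ringKrullDim_eq_bot_of_subsingleton] at hs
    exact WithBot.bot_ne_coe hs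
  haveI : IsNoetherianRing R := Algebra.FiniteType.isNoetherianRing k R
  haveI : IsNoetherianRing S := Algebra.FiniteType.isNoetherianRing k S
  haveI : Nontrivial (R ⊗[k] S) :=
    Algebra.TensorProduct.nontrivial_of_algebraMap_injective_of_flat_left (R := k) (A := R)
      (B := S) (algebraMap k S).injective
  haveI : Nontrivial T := by
    by_contra hcon
    rw [not_nontrivial_iff_subsingleton] at hcon
    have h1 : ψ 1 = ψ 0 := congrArg ψ (Subsingleton.elim _ _)
    rw [map_one, map_zero] at h1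
    exact one_ne_zero h1
  have hT : GrSeg.IsSegreRing 𝒜 ℬ 𝒯 ψ := ⟨hψ, hdegT⟩
  haveI : IsNoetherianRing T :=
    Groth.Agent.Lib.Helper99.isNoetherianRing_segre 𝒜 ℬ 𝒯 hposR ψ hT.1 hT.2
  have hposT := Groth.Agent.Lib.Helper87.SegOne.segre_pos 𝒜 ℬ 𝒯 ψ hT hposR
  have h0T : 𝒯 0 = Submodule.span k {(1 : T)} :=
    Groth.Agent.Lib.Helper87.SegOne.segre_zero 𝒜 ℬ 𝒯 ψ hT h0R h0S
  -- the irrelevant ideal and a resolution of `T`
  let mT : HomogeneousIdeal 𝒯 := Groth.Agent.Lib.Helper87.Kun.irrH 𝒯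
  have hmT : mT.toIdeal = Ideal.span (⋃ n ∈ Set.Ioi (0 : ℤ), (𝒯 n : Set T)) := rfl
  obtain ⟨IT⟩ := exists_selfRes 𝒯
  -- hulls
  obtain ⟨XR, eR, heR⟩ := exists_hull_sub 𝒜 mR
  obtain ⟨XS, eS, heS⟩ := exists_hull_sub ℬ mS
  obtain ⟨XT, eT, heT⟩ := exists_hull_sub 𝒯 mT
  -- canonical modules of `R` and `S`
  obtain ⟨a, haR, hCR⟩ := gorenstein_canonical 𝒜 hposR h0R mR hmR XR.gr eR heR r hr I
  obtain ⟨b, hbS, hCS⟩ := gorenstein_canonical ℬ hposS h0S mS hmS XS.gr eS heS s hs J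
  have hab : a = b := by
    rw [haR, hbS] at haeq
    exact_mod_cast haeq
  subst hab
  -- `k`-structures
  letI : Module k (I.H mR r) := Module.compHom _ (algebraMap k R)
  haveI : IsScalarTower k R (I.H mR r) := IsScalarTower.of_algebraMap_smul (fun c x => rfl)
  letI : Module k (J.H mS s) := Module.compHom _ (algebraMap k S)
  haveI : IsScalarTower k S (J.H mS s) := IsScalarTower.of_algebraMap_smul (fun c x => rfl)
  letI : Module k (IT.H mT (r + s - 1)) := Module.compHom _ (algebraMap k T)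
  haveI : IsScalarTower k T (IT.H mT (r + s - 1)) :=
    IsScalarTower.of_algebraMap_smul (fun c x => rfl)
  letI : DirectSum.Decomposition (I.Hgr mR r) :=
    (Hgr_isInternal (convRes I) (convIdeal mR) r).chooseDecomposition
  letI : DirectSum.Decomposition (J.Hgr mS s) :=
    (Hgr_isInternal (convRes J) (convIdeal mS) s).chooseDecomposition
  letI : DirectSum.Decomposition (IT.Hgr mT (r + s - 1)) :=
    (Hgr_isInternal (convRes IT) (convIdeal mT) (r + s - 1)).chooseDecomposition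
  obtain ⟨Φ, hΦ⟩ := hKun mT hmT IT
  -- the canonical module of `T`
  have hCT := isStarCanonical_segre_of_isSegreMod k R 𝒜 hposR h0R S ℬ hposS h0S T 𝒯 ψ hT mR hmR I
    mS hmS J mT hmT IT r s hr hs XR.carrier XR.gr eR heR R (shiftSelf 𝒜 a) hCR XS.carrier XS.gr eS
    heS S (shiftSelf ℬ a) hCS XT.carrier XT.gr eT heT T (shiftSelf 𝒯 a) ψ.toLinearMap
    (isSegreMod_shiftSelf 𝒜 ℬ 𝒯 ψ hT a) (r + s - 1) Φ hΦ
  -- the criterion
  haveI := gsmul_toSub 𝒯 XT.gr
  haveI := gsmul_toSub 𝒯 (shiftSelf 𝒯 a)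
  have hdimT : ringKrullDim T = ((r + s - 1 : ℕ) : WithBot ℕ∞) :=
    Groth.Agent.Lib.Helper87.ringKrullDim_segreProduct k R 𝒜 hposR h0R S ℬ hposS h0S T 𝒯 ψ hψ hdegT
      r s hr hs (by omega) (by omega)
  have key := Groth.Agent.S18638.result T (toSub 𝒯) (toSub_neg 𝒯 hposT)
    (isField_deg0_of_span_one 𝒯 h0T) (convIdeal mT) (isStarLocal_sub 𝒯 hposT h0T mT hmT) hmT
    (r + s - 1) hdimT (convRes IT) XT.carrier XT.gr eT (isStarInjHull_conv XT.gr eT heT) T
    (shiftSelf 𝒯 a) (isStarCanonical_conv XT.gr (shiftSelf 𝒯 a) (r + s - 1) IT hCT)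
  refine key.mpr ⟨-a, LinearMap.id, Function.bijective_id, fun j x hx => ?_⟩
  show x ∈ 𝒯 (j + -a + a)
  rw [neg_add_cancel_right]
  exact hx

end Groth.Agent.Lib.Helper39.GrSegCanon
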