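import Groth.Agent.Lib.Helper39.GrVer26

/-!
# The type of a Veronese subring of a Gorenstein standard graded ring: assembly (helper39)
-/

set_option autoImplicit false
universe u
open scoped TensorProduct

namespace Groth.Agent.Lib.Helper39.Ver

open DirectSum GrLC Groth.Agent.Lib.Helper39 Groth.Agent.Lib.Helper39.GrStarLocal
  Groth.Agent.Lib.Helper39.GrPieceDual Groth.Agent.Lib.Helper39.GrLes
  Groth.Agent.Lib.Helper39.GrHomInt Groth.Agent.Lib.Helper39.GrMatlis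

section Main
variable {R R' : Type u} [CommRing R] [CommRing R'] [LocCoh.IsGorensteinRing R]
  {𝒜 : ℤ → AddSubgroup R} [GradedRing 𝒜]
  {𝒜' : ℤ → AddSubgroup R'} [GradedRing 𝒜'] (D : VerData 𝒜 𝒜')
  (hpos : ∀ n : ℤ, n < 0 → 𝒜 n = ⊥) (h0 : IsField (GrLC.deg0 𝒜))
  (m : HomogeneousIdeal 𝒜) (hm : GrLC.IsStarLocal 𝒜 m)
  (hmsp : m.toIdeal = Ideal.span (⋃ n ∈ Set.Ioi (0 : ℤ), (𝒜 n : Set R)))
  (hstd : Ideal.span (⋃ n ∈ Set.Ioi (0 : ℤ), (𝒜 n : Set R)) =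
    Ideal.span ((𝒜 1 : AddSubgroup R) : Set R))
  (n : ℕ) (hn : ringKrullDim R = n) (I : GrLC.StarInjRes 𝒜 𝒜) (a : ℤ)
  (ha : GrLC.endDeg (I.Hgr m n) = ((a : WithTop ℤ) : WithBot (WithTop ℤ)))
  (m' : HomogeneousIdeal 𝒜') [hmax' : m'.toIdeal.IsMaximal]
  (hm'sp : m'.toIdeal = Ideal.span (⋃ j ∈ Set.Ioi (0 : ℤ), (𝒜' j : Set R')))
  (ρ : ℤ) (hρ0 : 0 ≤ ρ) (hρq : ρ < D.q) (hρa : (D.q : ℤ) ∣ a - ρ)

include hpos h0 hm hmsp hstd hn ha hm'sp hρ0 hρq hρa in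
/-- **the type of the Veronese subring `R^(q)` of a Gorenstein standard graded ring `R` is
`dim R_ρ`, `ρ = a(R) mod q`** -/
theorem bassNum_ver :
    GrLC.bassNum m'.toIdeal R' n = (Module.finrank (GrLC.deg0 𝒜) (GrLC.comp 𝒜 𝒜 ρ) : ℕ∞) := by
  haveI : IsNoetherianRing R := inferInstance
  haveI : LocCoh.IsCohenMacaulayRing R :=
    { isCohenMacaulayLocalRing_localization := fun p _ => by
        haveI := LocCoh.IsGorensteinRing.isGorensteinLocalRing_localization (A := R) p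
        exact Groth.Agent.H34.GorLinkGlobal.isCohenMacaulayLocalRing_of_isGorensteinLocalRing _ }
  haveI : IsNoetherianRing R' := D.isNoetherianRing
  -- the hull over `R`
  let decQ := quotGrDecomposition 𝒜 m
  have smulQ := quotGrGradedSMul 𝒜 m
  obtain ⟨E, e, he⟩ := Groth.Agent.Lib.Helper87.StarMin.exists_hull 𝒜
    (GMod.of 𝒜 (R ⧸ m.toIdeal) (GrLC.quotGr 𝒜 m))
  have hht := height_eq 𝒜 hpos h0 m hm n hn
  obtain ⟨g₀, φ₀, hφ₀⟩ := Groth.Agent.S13244.result R 𝒜 m hm n hht I E.carrier E.gr e he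
  have hg₀ : g₀ = -a := deg_eq_neg_endDeg 𝒜 hpos h0 m hmsp E.gr e he.toIsStarEss (I.Hgr m n)
    (Hgr_isInternal I m n) a ha g₀ φ₀ hφ₀
  subst hg₀
  have hCg := isStarCanonical_shift_self 𝒜 m n I E a φ₀ hφ₀
  -- the Veronese side
  have hpos' := D.hpos' hpos
  have h0' := D.h0' h0
  let I' : GrLC.StarInjRes 𝒜' 𝒜' := starInjRes (𝒜 := 𝒜') 𝒜'
  have hV := isStarCanonical_ver D hpos h0 m m' hmsp hm'sp E e he n I I' (RS 𝒜 a) hCg
  have hvan : ∀ i < n, Subsingleton (I'.H m' i) := by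
    intro i hi
    obtain ⟨θ, hθv⟩ := exists_theta_irrelevant D m m' hmsp hm'sp i I D.φₛ D.isVer_self I'
    haveI := H_subsingleton_of_ne 𝒜 hpos h0 m hm n hn I i (by omega)
    exact hθv.inj.subsingleton
  have hhull' := isStarInjHull_eVer D hpos h0 m m' hmsp hm'sp E e he
  have hb := bassNum_eq_finrank_of_vanishing R' 𝒜' m' n I' hvan (Ver D E) (verGr D E)
    (eVer D hpos m m' hmsp hm'sp E e he.toIsStarEss) hhull' (Ver D (RS 𝒜 a))
    (verGr D (RS 𝒜 a)) hV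
  -- the lowest degree
  obtain ⟨t, ht⟩ := hρa
  have hj₁ : (-t) * (D.q : ℤ) + a = ρ := by
    have : a = ρ + D.q * t := by omega
    rw [this]; ring
  haveI := hV.1
  have htens := GrGenDeg.finrank_tensor_eq 𝒜' hpos' h0' m' hm'sp (verGr D (RS 𝒜 a)) (-t)
    (verGr_shift_eq_bot D hpos a ρ (-t) hρq hj₁)
    (verGr_shift_le_smul_top D hstd m' hm'sp a ρ (-t) hρ0 hj₁)
  have hd : Module.finrank (GrLC.deg0 𝒜') (GrLC.comp 𝒜' (verGr D (RS 𝒜 a)) (-t)) =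
      Module.finrank (GrLC.deg0 𝒜) (GrLC.comp 𝒜 𝒜 ρ) := by
    let P : Submodule (GrLC.deg0 𝒜) R := GrLC.comp 𝒜 𝒜 ρ
    refine finrank_eq_of_semilinear D (verIncl D (RS 𝒜 a)) (verIncl_injective D (RS 𝒜 a)) _
      P ?_ ?_
    · intro x hx
      have h1 : Ver.val D (RS 𝒜 a) x ∈ 𝒜 (-t * D.q + a) := (mem_verGr D (RS 𝒜 a)).mp hx
      rw [hj₁] at h1
      exact h1
    · intro y hy
      have hy' : y ∈ (RS 𝒜 a).gr (-t * D.q) := by
        show y ∈ 𝒜 (-t * D.q + a)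
        rw [hj₁]
        exact hy
      exact ⟨Ver.mk D (RS 𝒜 a) y (mem_verSub_of_mem (RS 𝒜 a).gr D.q hy'), hy', rfl⟩
  rw [hb, htens, hd]

end Main

end Groth.Agent.Lib.Helper39.Ver
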