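import Groth.Agent.Lib.Helper39.GrSegCanon6
import Groth.Agent.Lib.Helper39.GrVer27

/-!
# The type of a Segre product of Gorenstein graded rings (helper39)

`bassNum_segre`: for standard graded Gorenstein `R`, `S` over a field with `a(S) ≤ a(R)` and
`T = R # S` Cohen–Macaulay, the type of `T` is `dim_k R_{a(R) - a(S)}`.
-/

set_option autoImplicit false
universe u
open scoped TensorProduct

namespace Groth.Agent.Lib.Helper39.GrSegCanon

open DirectSum GrLC GrSeg Groth.Agent.Lib.Helper39 Groth.Agent.Lib.Helper39.GrBridge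
  Groth.Agent.Lib.Helper39.GrDual Groth.Agent.Lib.Helper39.GrStarLocal

section Conv
variable {k : Type u} [Field k] {T : Type u} [CommRing T] [Nontrivial T] [Algebra k T]
  (𝒯 : ℤ → Submodule k T) [GradedAlgebra 𝒯] (h0 : 𝒯 0 = Submodule.span k {(1 : T)})
  {P : Type u} [AddCommGroup P] [Module T P] [Module k P] [IsScalarTower k T P]

attribute [local instance] toSubGradedRing toSubDecomposition toSubGradedSMul

include h0 in
/-- dimensions of pieces over the degree zero field and over `k` agree -/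
theorem finrank_comp_eq_finrank (𝒬 : ℤ → AddSubgroup P) [SetLike.GradedSMul (toSub 𝒯) 𝒬]
    (d : ℤ) (V : Submodule k P) (hV : ∀ x, x ∈ V ↔ x ∈ 𝒬 d) :
    Module.finrank (GrLC.deg0 (toSub 𝒯)) (GrLC.comp (toSub 𝒯) 𝒬 d) = Module.finrank k V := by
  have hκ : ∀ c : k, algebraMap k T c ∈ toSub 𝒯 0 := algebraMap_mem_zero 𝒯
  have hκb := Groth.Agent.Lib.Helper87.Kun.kappa_bijective (𝒯' := toSub 𝒯) hκ
    (exists_algebraMap_eq 𝒯 h0)
  rw [← Groth.Agent.Lib.Helper87.Kun.finrank_compHom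
    (Groth.Agent.Lib.Helper87.Kun.kappa (𝒯' := toSub 𝒯) hκ) hκb]
  letI : Module k (GrLC.comp (toSub 𝒯) 𝒬 d) :=
    Module.compHom _ (Groth.Agent.Lib.Helper87.Kun.kappa (𝒯' := toSub 𝒯) hκ)
  let f : V ≃ₗ[k] GrLC.comp (toSub 𝒯) 𝒬 d :=
    { toFun := fun x => ⟨x.1, (hV x.1).mp x.2⟩
      invFun := fun y => ⟨y.1, (hV y.1).mpr y.2⟩
      left_inv := fun x => rfl
      right_inv := fun y => rfl
      map_add' := fun x y => rfl
      map_smul' := fun c x => by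
        apply Subtype.ext
        show c • (x : P) = algebraMap k T c • (x : P)
        rw [algebraMap_smul] }
  exact f.finrank_eq.symm

end Conv

section Seg
variable {k : Type u} [Field k] {R S T : Type u} [CommRing R] [CommRing S] [CommRing T]
  [Algebra k R] [Algebra k S] [Algebra k T]
  (𝒜 : ℤ → Submodule k R) [GradedAlgebra 𝒜] (ℬ : ℤ → Submodule k S) [GradedAlgebra ℬ]
  (𝒯 : ℤ → Submodule k T) [GradedAlgebra 𝒯]
  (ψ : T →ₐ[k] R ⊗[k] S) (hT : GrSeg.IsSegreRing 𝒜 ℬ 𝒯 ψ) (a b : ℤ)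

open Groth.Agent.Lib.Helper87.Kun

attribute [local instance] toSubGradedRing toSubDecomposition toSubGradedSMul

local notation "SV" => segVal 𝒜 ℬ 𝒯 ψ hT (shiftSelf 𝒜 a) (shiftSelf ℬ b)

theorem segShift_low (hposS : ∀ n : ℤ, n < 0 → ℬ n = ⊥) (j : ℤ) (hj : j < -b) :
    segGr 𝒜 ℬ 𝒯 ψ hT (shiftSelf 𝒜 a) (shiftSelf ℬ b) j = ⊥ := by
  rw [eq_bot_iff]
  intro c hc
  rw [AddSubgroup.mem_bot]
  have h1 : SV c ∈ GrSeg.segrePiece k (shiftSelf 𝒜 a) (shiftSelf ℬ b) j := hc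
  have h2 : GrSeg.segrePiece k (shiftSelf 𝒜 a) (shiftSelf ℬ b) j = ⊥ := by
    rw [eq_bot_iff]
    apply Submodule.span_le.mpr
    rintro _ ⟨x, -, y, hy, rfl⟩
    have hy' : y ∈ ℬ (j + b) := hy
    rw [hposS (j + b) (by omega), Submodule.mem_bot] at hy'
    rw [hy', TensorProduct.tmul_zero]
    exact Submodule.zero_mem _
  rw [h2, Submodule.mem_bot] at h1
  apply segVal_injective 𝒜 ℬ 𝒯 ψ hT (shiftSelf 𝒜 a) (shiftSelf ℬ b)
  rw [h1, map_zero]

theorem segShift_gen (hab : b ≤ a)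
    (hstd : Ideal.span (⋃ n ∈ Set.Ioi (0 : ℤ), (𝒜 n : Set R)) =
      Ideal.span ((𝒜 1 : Submodule k R) : Set R))
    (mT : HomogeneousIdeal 𝒯)
    (hmT : mT.toIdeal = Ideal.span (⋃ n ∈ Set.Ioi (0 : ℤ), (𝒯 n : Set T)))
    (j : ℤ) (hj : -b < j) (c : segSub 𝒜 ℬ 𝒯 ψ hT (shiftSelf 𝒜 a) (shiftSelf ℬ b))
    (hc : c ∈ segGr 𝒜 ℬ 𝒯 ψ hT (shiftSelf 𝒜 a) (shiftSelf ℬ b) j) :
    c ∈ (mT.toIdeal • ⊤ :
      Submodule T (segSub 𝒜 ℬ 𝒯 ψ hT (shiftSelf 𝒜 a) (shiftSelf ℬ b))) := by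
  classical
  let N : Submodule T (segSub 𝒜 ℬ 𝒯 ψ hT (shiftSelf 𝒜 a) (shiftSelf ℬ b)) := mT.toIdeal • ⊤
  let W : Submodule k (R ⊗[k] S) := (N.restrictScalars k).map SV
  have h1 : SV c ∈ GrSeg.segrePiece k (shiftSelf 𝒜 a) (shiftSelf ℬ b) j := hc
  have hle : GrSeg.segrePiece k (shiftSelf 𝒜 a) (shiftSelf ℬ b) j ≤ W := by
    apply Submodule.span_le.mpr
    rintro _ ⟨x, hx, y, hy, rfl⟩
    have hx' : x ∈ 𝒜 (j + a) := hx
    have hy' : y ∈ ℬ (j + b) := hy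
    obtain ⟨n, hn⟩ : ∃ n : ℕ, (n : ℤ) = j + b := ⟨(j + b).toNat, by
      rw [Int.toNat_of_nonneg (by omega)]⟩
    have hx2 : x ∈ toSub 𝒜 ((n : ℤ) + (a - b)) := by
      have : (n : ℤ) + (a - b) = j + a := by omega
      rw [this]
      exact hx'
    have hstd' : Ideal.span (⋃ n ∈ Set.Ioi (0 : ℤ), (toSub 𝒜 n : Set R)) =
      Ideal.span ((toSub 𝒜 1 : AddSubgroup R) : Set R) := hstd
    have h2 := GrCanonDim2.mem_closure_prod (toSub 𝒜) hstd' (a - b) (by omega) n hx2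
    have key : ∀ z ∈ AddSubgroup.closure (GrCanonDim2.prodSet (toSub 𝒜) (n : ℤ) (a - b)),
        z ⊗ₜ[k] y ∈ W := by
      intro z hz
      induction hz using AddSubgroup.closure_induction with
      | mem z hz =>
        obtain ⟨α, hα, β, hβ, rfl⟩ := hz
        have hα' : α ∈ 𝒜 (n : ℤ) := hα
        have hβ' : β ∈ 𝒜 (a - b) := hβ
        -- `α ⊗ y = ψ t`
        have h3 : α ⊗ₜ[k] y ∈ GrSeg.segrePiece k 𝒜 ℬ (n : ℤ) :=
          Submodule.subset_span ⟨α, hα', y, by rw [hn]; exact hy', rfl⟩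
        rw [← hT.2 (n : ℤ)] at h3
        obtain ⟨t, ht, hψt⟩ := h3
        have htm : t ∈ mT.toIdeal := by
          rw [hmT]
          apply Ideal.subset_span
          simp only [Set.mem_iUnion, Set.mem_Ioi]
          exact ⟨(n : ℤ), by omega, ht⟩
        -- `β ⊗ 1`
        have h4 : β ⊗ₜ[k] (1 : S) ∈ GrSeg.segrePiece k (shiftSelf 𝒜 a) (shiftSelf ℬ b) (-b) := by
          refine Submodule.subset_span ⟨β, ?_, 1, ?_, rfl⟩
          · show β ∈ 𝒜 (-b + a)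
            rw [neg_add_eq_sub]
            exact hβ'
          · show (1 : S) ∈ ℬ (-b + b)
            rw [neg_add_cancel]
            exact SetLike.GradedOne.one_mem (A := ℬ)
        have h5 : β ⊗ₜ[k] (1 : S) ∈ segAll (k := k) (shiftSelf 𝒜 a) (shiftSelf ℬ b) :=
          Submodule.mem_iSup_of_mem (-b) h4
        refine Submodule.mem_map.mpr
          ⟨t • segMk 𝒜 ℬ 𝒯 ψ hT (shiftSelf 𝒜 a) (shiftSelf ℬ b) _ h5,
          Submodule.smul_mem_smul htm Submodule.mem_top, ?_⟩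
        rw [segVal_smul, segVal_segMk]
        have hψt' : ψ t = α ⊗ₜ[k] y := hψt
        rw [hψt', GrSeg.act_tmul]
        simp only [smul_eq_mul, mul_one]
      | zero =>
        rw [TensorProduct.zero_tmul]
        exact Submodule.zero_mem _
      | add u v _ _ hu hv =>
        rw [TensorProduct.add_tmul]
        exact Submodule.add_mem _ hu hv
      | neg u _ hu =>
        rw [TensorProduct.neg_tmul]
        exact Submodule.neg_mem _ hu
    exact key x h2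
  obtain ⟨c', hc', e⟩ := Submodule.mem_map.mp (hle h1)
  have : c' = c := segVal_injective 𝒜 ℬ 𝒯 ψ hT (shiftSelf 𝒜 a) (shiftSelf ℬ b) e
  rw [← this]
  exact hc'

omit [GradedAlgebra 𝒯] in
theorem segrePiece_shift_eq_map (h0S : ℬ 0 = Submodule.span k {(1 : S)}) :
    GrSeg.segrePiece k (shiftSelf 𝒜 a) (shiftSelf ℬ b) (-b) =
      (𝒜 (a - b)).map (Algebra.TensorProduct.includeLeft : R →ₐ[k] R ⊗[k] S).toLinearMap := by
  apply le_antisymm
  · apply Submodule.span_le.mpr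
    rintro _ ⟨x, hx, y, hy, rfl⟩
    have hx' : x ∈ 𝒜 (-b + a) := hx
    rw [neg_add_eq_sub] at hx'
    have hy' : y ∈ ℬ (-b + b) := hy
    rw [neg_add_cancel, h0S, Submodule.mem_span_singleton] at hy'
    obtain ⟨c, rfl⟩ := hy'
    refine ⟨c • x, (𝒜 (a - b)).smul_mem c hx', ?_⟩
    show (c • x) ⊗ₜ[k] (1 : S) = x ⊗ₜ[k] (c • (1 : S))
    rw [TensorProduct.smul_tmul]
  · rintro _ ⟨x, hx, rfl⟩
    refine Submodule.subset_span ⟨x, ?_, 1, ?_, rfl⟩
    · show x ∈ 𝒜 (-b + a)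
      rw [neg_add_eq_sub]
      exact hx
    · show (1 : S) ∈ ℬ (-b + b)
      rw [neg_add_cancel]
      exact SetLike.GradedOne.one_mem (A := ℬ)

theorem finrank_segShift_piece [Nontrivial S] (h0S : ℬ 0 = Submodule.span k {(1 : S)}) :
    Module.finrank k ((GrSeg.segrePiece k (shiftSelf 𝒜 a) (shiftSelf ℬ b) (-b)).comap SV) =
      Module.finrank k (𝒜 (a - b)) := by
  have hinj := segVal_injective 𝒜 ℬ 𝒯 ψ hT (shiftSelf 𝒜 a) (shiftSelf ℬ b)
  have e1 := Submodule.equivMapOfInjective SV hinj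
    ((GrSeg.segrePiece k (shiftSelf 𝒜 a) (shiftSelf ℬ b) (-b)).comap SV)
  have hle : GrSeg.segrePiece k (shiftSelf 𝒜 a) (shiftSelf ℬ b) (-b) ≤ LinearMap.range SV := by
    intro z hz
    exact ⟨segMk 𝒜 ℬ 𝒯 ψ hT (shiftSelf 𝒜 a) (shiftSelf ℬ b) z
      (Submodule.mem_iSup_of_mem (-b) hz), rfl⟩
  rw [e1.finrank_eq, Submodule.map_comap_eq_self hle, segrePiece_shift_eq_map 𝒜 ℬ a b h0S]
  have hinj2 : Function.Injective
      (Algebra.TensorProduct.includeLeft : R →ₐ[k] R ⊗[k] S).toLinearMap :=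
    Algebra.TensorProduct.includeLeft_injective (R := k) (S := k) (A := R) (B := S)
      (algebraMap k S).injective
  exact (Submodule.equivMapOfInjective _ hinj2 (𝒜 (a - b))).finrank_eq.symm

end Seg

end Groth.Agent.Lib.Helper39.GrSegCanon
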