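import Groth.Agent.Lib.Helper39.GrSegType1

/-!
# The type of a Segre product of Gorenstein graded rings: assembly (helper39)
-/

set_option autoImplicit false
universe u
open scoped TensorProduct

namespace Groth.Agent.Lib.Helper39.GrSegCanon

open DirectSum GrLC GrSeg Groth.Agent.Lib.Helper39 Groth.Agent.Lib.Helper39.GrBridge
  Groth.Agent.Lib.Helper39.GrDual Groth.Agent.Lib.Helper39.GrStarLocal
  Groth.Agent.Lib.Helper87.Kun

attribute [local instance] toSubGradedRing toSubDecomposition toSubGradedSMul in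
/-- **the type of the Segre product of two Gorenstein standard graded rings** -/
theorem bassNum_segre (k : Type u) [Field k] (R : Type u) [CommRing R]
    [Algebra k R] (𝒜 : ℤ → Submodule k R) [GradedAlgebra 𝒜] (hposR : ∀ n : ℤ, n < 0 → 𝒜 n = ⊥)
    (h0R : 𝒜 0 = Submodule.span k {(1 : R)}) [Algebra.FiniteType k R] (S : Type u) [CommRing S]
    [Algebra k S] (ℬ : ℤ → Submodule k S) [GradedAlgebra ℬ]
    (hposS : ∀ n : ℤ, n < 0 → ℬ n = ⊥) (h0S : ℬ 0 = Submodule.span k {(1 : S)})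
    [Algebra.FiniteType k S] (T : Type u) [CommRing T] [Algebra k T] (𝒯 : ℤ → Submodule k T)
    [GradedAlgebra 𝒯] (ψ : T →ₐ[k] TensorProduct k R S) (hψ : Function.Injective ψ)
    (hdegT : ∀ n : ℤ, (𝒯 n).map ψ.toLinearMap =
      Submodule.span k {x : TensorProduct k R S | ∃ a ∈ 𝒜 n, ∃ b ∈ ℬ n, x = a ⊗ₜ[k] b})
    [LocCoh.IsGorensteinRing R] [LocCoh.IsGorensteinRing S]
    (mR : HomogeneousIdeal 𝒜)
    (hmR : mR.toIdeal = Ideal.span (⋃ n ∈ Set.Ioi (0 : ℤ), (𝒜 n : Set R)))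
    (hstdR : Ideal.span (⋃ n ∈ Set.Ioi (0 : ℤ), (𝒜 n : Set R)) =
      Ideal.span ((𝒜 1 : Submodule k R) : Set R))
    (I : GrLC.StarInjRes 𝒜 𝒜) (mS : HomogeneousIdeal ℬ)
    (hmS : mS.toIdeal = Ideal.span (⋃ n ∈ Set.Ioi (0 : ℤ), (ℬ n : Set S)))
    (J : GrLC.StarInjRes ℬ ℬ) (r s : ℕ) (hr : ringKrullDim R = r) (hs : ringKrullDim S = s)
    (h2r : 2 ≤ r) (h2s : 2 ≤ s) (a b : ℤ)
    (ha : GrLC.endDeg (I.Hgr mR r) = ((a : WithTop ℤ) : WithBot (WithTop ℤ)))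
    (hb : GrLC.endDeg (J.Hgr mS s) = ((b : WithTop ℤ) : WithBot (WithTop ℤ))) (hab : b ≤ a)
    [LocCoh.IsCohenMacaulayRing T] (mT : HomogeneousIdeal 𝒯) [mT.toIdeal.IsMaximal]
    (hmT : mT.toIdeal = Ideal.span (⋃ n ∈ Set.Ioi (0 : ℤ), (𝒯 n : Set T))) :
    GrLC.bassNum mT.toIdeal T (r + s - 1) = (Module.finrank k (𝒜 (a - b)) : ℕ∞) := by
  classical
  haveI : Nontrivial R := by
    by_contra hcon
    rw [not_nontrivial_iff_subsingleton] at hcon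
    rw [ringKrullDim_eq_bot_of_subsingleton] at hr
    exact WithBot.bot_ne_coe hr
  haveI : Nontrivial S := by
    by_contra hcon
    rw [not_nontrivial_iff_subsingleton] at hcon
    rw [ringKrullDim_eq_bot_of_subsingleton] at hs
    exact WithBot.bot_ne_coe hs
  haveI : IsNoetherianRing R := Algebra.FiniteType.isNoetherianRing k R
  haveI : IsNoetherianRing S := Algebra.FiniteType.isNoetherianRing k S
  haveI : Nontrivial (R ⊗[k] S) :=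
    Algebra.TensorProduct.nontrivial_of_algebraMap_injective_of_flat_left (R := k) (A := R)
      (B := S) (algebraMap k S).injective
  haveI : Nontrivial T := by
    by_contra hcon
    rw [not_nontrivial_iff_subsingleton] at hcon
    have h1 : ψ 1 = ψ 0 := congrArg ψ (Subsingleton.elim _ _)
    rw [map_one, map_zero] at h1
    exact one_ne_zero h1
  have hT : GrSeg.IsSegreRing 𝒜 ℬ 𝒯 ψ := ⟨hψ, hdegT⟩
  haveI : IsNoetherianRing T :=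
    Groth.Agent.Lib.Helper99.isNoetherianRing_segre 𝒜 ℬ 𝒯 hposR ψ hT.1 hT.2
  have hposT := Groth.Agent.Lib.Helper87.SegOne.segre_pos 𝒜 ℬ 𝒯 ψ hT hposR
  have h0T : 𝒯 0 = Submodule.span k {(1 : T)} :=
    Groth.Agent.Lib.Helper87.SegOne.segre_zero 𝒜 ℬ 𝒯 ψ hT h0R h0S
  obtain ⟨IT⟩ := exists_selfRes 𝒯
  -- hulls
  obtain ⟨XR, eR, heR⟩ := exists_hull_sub 𝒜 mR
  obtain ⟨XS, eS, heS⟩ := exists_hull_sub ℬ mS
  obtain ⟨XT, eT, heT⟩ := exists_hull_sub 𝒯 mT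
  -- canonical modules of `R` and `S`
  obtain ⟨a', haR, hCR⟩ := gorenstein_canonical 𝒜 hposR h0R mR hmR XR.gr eR heR r hr I
  obtain ⟨b', hbS, hCS⟩ := gorenstein_canonical ℬ hposS h0S mS hmS XS.gr eS heS s hs J
  have haa : a' = a := by
    rw [haR] at ha
    exact_mod_cast ha
  have hbb : b' = b := by
    rw [hbS] at hb
    exact_mod_cast hb
  subst haa
  subst hbb
  -- the canonical module of `T`
  letI := segDecomposition 𝒜 ℬ 𝒯 ψ hT (shiftSelf 𝒜 a') (shiftSelf ℬ b')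
  haveI := segGradedSMul 𝒜 ℬ 𝒯 ψ hT (shiftSelf 𝒜 a') (shiftSelf ℬ b')
  have hCT := isStarCanonical_segre k R 𝒜 hposR h0R S ℬ hposS h0S T 𝒯 ψ hT mR hmR I
    mS hmS J mT hmT IT r s hr hs h2r h2s XR.carrier XR.gr eR heR R (shiftSelf 𝒜 a') hCR
    XS.carrier XS.gr eS heS S (shiftSelf ℬ b') hCS XT.carrier XT.gr eT heT
    (segSub 𝒜 ℬ 𝒯 ψ hT (shiftSelf 𝒜 a') (shiftSelf ℬ b'))
    (segGr 𝒜 ℬ 𝒯 ψ hT (shiftSelf 𝒜 a') (shiftSelf ℬ b'))
    (segVal 𝒜 ℬ 𝒯 ψ hT (shiftSelf 𝒜 a') (shiftSelf ℬ b'))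
    (isSegreMod_segVal 𝒜 ℬ 𝒯 ψ hT (shiftSelf 𝒜 a') (shiftSelf ℬ b'))
  -- vanishing below the dimension
  haveI := gsmul_toSub 𝒯 XT.gr
  haveI := gsmul_toSub 𝒯 (segGr 𝒜 ℬ 𝒯 ψ hT (shiftSelf 𝒜 a') (shiftSelf ℬ b'))
  have hdimT : ringKrullDim T = ((r + s - 1 : ℕ) : WithBot ℕ∞) :=
    Groth.Agent.Lib.Helper87.ringKrullDim_segreProduct k R 𝒜 hposR h0R S ℬ hposS h0S T 𝒯 ψ hψ hdegT
      r s hr hs (by omega) (by omega)
  have hposT' := toSub_neg 𝒯 hposT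
  have h0T' := isField_deg0_of_span_one 𝒯 h0T
  have hlocT := isStarLocal_sub 𝒯 hposT h0T mT hmT
  have hvan : ∀ i < r + s - 1, Subsingleton ((convRes IT).H (convIdeal mT) i) := by
    intro i hi
    exact Ver.H_subsingleton_of_ne (toSub 𝒯) hposT' h0T' (convIdeal mT) hlocT (r + s - 1) hdimT
      (convRes IT) i (by omega)
  haveI : (convIdeal mT).toIdeal.IsMaximal := ‹mT.toIdeal.IsMaximal›
  have hbn := Ver.bassNum_eq_finrank_of_vanishing T (toSub 𝒯) (convIdeal mT) (r + s - 1)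
    (convRes IT) hvan XT.carrier XT.gr eT (isStarInjHull_conv XT.gr eT heT)
    (segSub 𝒜 ℬ 𝒯 ψ hT (shiftSelf 𝒜 a') (shiftSelf ℬ b'))
    (segGr 𝒜 ℬ 𝒯 ψ hT (shiftSelf 𝒜 a') (shiftSelf ℬ b'))
    (isStarCanonical_conv XT.gr (segGr 𝒜 ℬ 𝒯 ψ hT (shiftSelf 𝒜 a') (shiftSelf ℬ b'))
      (r + s - 1) IT hCT)
  haveI := hCT.1
  have htens := GrGenDeg.finrank_tensor_eq (toSub 𝒯) hposT' h0T' (convIdeal mT) hmT
    (segGr 𝒜 ℬ 𝒯 ψ hT (shiftSelf 𝒜 a') (shiftSelf ℬ b')) (-b')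
    (segShift_low 𝒜 ℬ 𝒯 ψ hT a' b' hposS)
    (segShift_gen 𝒜 ℬ 𝒯 ψ hT a' b' hab hstdR mT hmT)
  have hconv := finrank_comp_eq_finrank 𝒯 h0T
    (segGr 𝒜 ℬ 𝒯 ψ hT (shiftSelf 𝒜 a') (shiftSelf ℬ b')) (-b')
    ((GrSeg.segrePiece k (shiftSelf 𝒜 a') (shiftSelf ℬ b') (-b')).comap
      (segVal 𝒜 ℬ 𝒯 ψ hT (shiftSelf 𝒜 a') (shiftSelf ℬ b'))) (fun x => Iff.rfl)
  have hpiece := finrank_segShift_piece 𝒜 ℬ 𝒯 ψ hT a' b' h0S
  have hbn' : GrLC.bassNum mT.toIdeal T (r + s - 1) = _ := hbn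
  rw [hbn', htens, hconv, hpiece]

end Groth.Agent.Lib.Helper39.GrSegCanon
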