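import Groth.Agent.Lib.Helper39.GrEuler
import Groth.Agent.Lib.Helper39.GrRegVanish
import Groth.Agent.Lib.Helper39.GrTop

/-!
# Piecewise exactness of the long exact sequences of graded local cohomology (helper39)
-/

set_option autoImplicit false
universe u

namespace Groth.Agent.Lib.Helper39.GrSerre

open DirectSum GrLC Groth.Agent.Lib.Helper39 Groth.Agent.Lib.Helper39.GrLes
  Groth.Agent.Lib.Helper39.GrRegVanish

section PMap
variable {R : Type u} [CommRing R] (S : Subring R)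
  {X Y Z : Type u} [AddCommGroup X] [Module R X] [AddCommGroup Y] [Module R Y]
  [AddCommGroup Z] [Module R Z]

/-- restriction of a linear map to pieces -/
def pmap (φ : X →ₗ[R] Y) (P : Submodule S X) (Q : Submodule S Y) (h : ∀ x ∈ P, φ x ∈ Q) :
    P →ₗ[S] Q :=
  (φ.restrictScalars S).restrict h

@[simp] theorem pmap_coe (φ : X →ₗ[R] Y) (P : Submodule S X) (Q : Submodule S Y)
    (h : ∀ x ∈ P, φ x ∈ Q) (x : P) : ((pmap S φ P Q h x : Q) : Y) = φ x := rfl

theorem pmap_exact (φ : X →ₗ[R] Y) (ψ : Y →ₗ[R] Z) (hex : Function.Exact φ ψ)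
    (P : Submodule S X) (Q : Submodule S Y) (T : Submodule S Z)
    (hφ : ∀ x ∈ P, φ x ∈ Q) (hψ : ∀ y ∈ Q, ψ y ∈ T)
    (hlift : ∀ y ∈ Q, ψ y = 0 → ∃ x ∈ P, φ x = y) :
    Function.Exact (pmap S φ P Q hφ) (pmap S ψ Q T hψ) := by
  intro y
  constructor
  · intro hy
    have hy' : ψ y = 0 := congrArg Subtype.val hy
    obtain ⟨x, hx, e⟩ := hlift y y.2 hy'
    exact ⟨⟨x, hx⟩, Subtype.ext e⟩
  · rintro ⟨x, rfl⟩
    apply Subtype.ext
    show ψ (φ x) = 0
    exact hex.apply_apply_eq_zero x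

theorem pmap_injective (φ : X →ₗ[R] Y) (hφi : Function.Injective φ)
    (P : Submodule S X) (Q : Submodule S Y) (hφ : ∀ x ∈ P, φ x ∈ Q) :
    Function.Injective (pmap S φ P Q hφ) := by
  intro x y hxy
  apply Subtype.ext
  apply hφi
  exact congrArg Subtype.val hxy

end PMap

section H0
variable {ι : Type} [AddCommGroup ι] [DecidableEq ι] {R : Type u} [CommRing R]
  {𝒜 : ι → AddSubgroup R} [GradedRing 𝒜]
  {M' : Type u} [AddCommGroup M'] [Module R M'] {ℳ' : ι → AddSubgroup M'} [DirectSum.Decomposition ℳ']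
  [SetLike.GradedSMul 𝒜 ℳ']
  {M : Type u} [AddCommGroup M] [Module R M] {ℳ : ι → AddSubgroup M} [DirectSum.Decomposition ℳ]
  [SetLike.GradedSMul 𝒜 ℳ]

/-- `H^0` preserves injections -/
theorem Hmap₀_zero_injective (E' : StarInjRes 𝒜 ℳ') (E : StarInjRes 𝒜 ℳ) (a : HomogeneousIdeal 𝒜)
    (f : M' →ₗ[R] M) (hf : IsGrHom ℳ' ℳ f) (hinj : Function.Injective f) :
    Function.Injective (Hmap₀ E' E a f hf 0) := by
  rw [injective_iff_map_eq_zero]
  intro y hy
  obtain ⟨z, rfl⟩ := Submodule.mkQ_surjective _ y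
  have hz : (z : (E'.X 0).carrier) ∈ LinearMap.range E'.ε := by
    rw [← E'.exact_zero]
    exact z.2.2
  obtain ⟨m', hm'⟩ := hz
  have hc := liftChain_lifts E' E f 0 (isGrHomDeg_zero_of hf)
  have h1 : Hmap₀ E' E a f hf 0 (E'.toH a 0 z) =
      E.toH a 0 ((liftChain E' E f 0 (isGrHomDeg_zero_of hf)).cocycMap a 0 z) := rfl
  rw [h1, toH_eq_zero_iff] at hy
  have h2 : (liftChain E' E f 0 (isGrHomDeg_zero_of hf)).φ 0 (z : (E'.X 0).carrier) = 0 := hy
  rw [← hm', hc m'] at h2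
  have h3 : f m' = 0 := E.ε_injective (by rw [h2, map_zero])
  have h4 : m' = 0 := hinj (by rw [h3, map_zero])
  have h5 : z = 0 := by
    apply Subtype.ext
    rw [← hm', h4, map_zero]
    rfl
  rw [h5, map_zero]

end H0

end Groth.Agent.Lib.Helper39.GrSerre
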