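import Groth.Agent.Lib.Helper39.GrSerre1

/-!
# Euler characteristics of graded local cohomology w.r.t. the irrelevant ideal (helper39)
-/

set_option autoImplicit false
universe u

namespace Groth.Agent.Lib.Helper39.GrSerre

open DirectSum GrLC Groth.Agent.Lib.Helper39 Groth.Agent.Lib.Helper39.GrLes
  Groth.Agent.Lib.Helper39.GrRegVanish Groth.Agent.Lib.Helper39.GrPieces
  Groth.Agent.Lib.Helper39.GrTop

section LengthEq
variable {R : Type u} [CommRing R] (S : Subring R)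
  {X Y : Type u} [AddCommGroup X] [Module R X] [AddCommGroup Y] [Module R Y]

/-- pieces matched by a linear equivalence have the same length -/
theorem length_piece_eq (e : X ≃ₗ[R] Y) (P : Submodule S X) (Q : Submodule S Y)
    (h : ∀ x, x ∈ P ↔ e x ∈ Q) : Module.length S P = Module.length S Q := by
  have hbij : Function.Bijective (pmap S e.toLinearMap P Q (fun x hx => (h x).mp hx)) := by
    constructor
    · exact pmap_injective S e.toLinearMap e.injective P Q _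
    · rintro ⟨y, hy⟩
      refine ⟨⟨e.symm y, (h _).mpr (by rw [e.apply_symm_apply]; exact hy)⟩, ?_⟩
      apply Subtype.ext
      exact e.apply_symm_apply y
  exact (LinearEquiv.ofBijective _ hbij).length_eq

end LengthEq

section Defs
variable {R : Type u} [CommRing R] {𝒜 : ℤ → AddSubgroup R} [GradedRing 𝒜]
  {M : Type u} [AddCommGroup M] [Module R M] {ℳ : ℤ → AddSubgroup M} [DirectSum.Decomposition ℳ]
  [SetLike.GradedSMul 𝒜 ℳ]

/-- the length of a piece of graded local cohomology, as a rational number -/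
noncomputable def hl (a : HomogeneousIdeal 𝒜) (E : StarInjRes 𝒜 ℳ) (k : ℕ) (n : ℤ) : ℚ :=
  ((Module.length (GrLC.deg0 𝒜) (E.Hcomp a k n)).toNat : ℚ)

/-- the Euler characteristic of the degree `n` pieces of graded local cohomology -/
noncomputable def chi (a : HomogeneousIdeal 𝒜) (D : ℕ) (E : StarInjRes 𝒜 ℳ) (n : ℤ) : ℚ :=
  ∑ k ∈ Finset.range (D + 1), (-1 : ℚ) ^ k * hl a E k n

variable (𝒜) in
/-- the Hilbert function -/
noncomputable def hfun (ℳ : ℤ → AddSubgroup M) [SetLike.GradedSMul 𝒜 ℳ] (n : ℤ) : ℚ :=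
  ((Module.length (GrLC.deg0 𝒜) (GrLC.comp 𝒜 ℳ n)).toNat : ℚ)

end Defs

section Main
variable {R : Type u} [CommRing R] [IsNoetherianRing R] {𝒜 : ℤ → AddSubgroup R} [GradedRing 𝒜]
  (hpos : ∀ n : ℤ, n < 0 → 𝒜 n = ⊥) [IsArtinianRing (GrLC.deg0 𝒜)]
  (a : HomogeneousIdeal 𝒜) (ha : a.toIdeal = Ideal.span (⋃ n ∈ Set.Ioi (0 : ℤ), (𝒜 n : Set R)))
  (D : ℕ) (hD : ringKrullDim R ≤ D)
  {M' : Type u} [AddCommGroup M'] [Module R M'] {ℳ' : ℤ → AddSubgroup M'} [DirectSum.Decomposition ℳ']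
  [SetLike.GradedSMul 𝒜 ℳ']
  {M : Type u} [AddCommGroup M] [Module R M] {ℳ : ℤ → AddSubgroup M} [DirectSum.Decomposition ℳ]
  [SetLike.GradedSMul 𝒜 ℳ]
  {M'' : Type u} [AddCommGroup M''] [Module R M''] {ℳ'' : ℤ → AddSubgroup M''}
  [DirectSum.Decomposition ℳ''] [SetLike.GradedSMul 𝒜 ℳ'']

omit [IsNoetherianRing R] in
theorem length_ne_top_of_fg {X : Type u} [AddCommGroup X] [Module R X]
    (P : Submodule (GrLC.deg0 𝒜) X) (hP : P.FG) : Module.length (GrLC.deg0 𝒜) P ≠ ⊤ := by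
  haveI : Module.Finite (GrLC.deg0 𝒜) P := Module.Finite.iff_fg.mpr hP
  haveI : IsNoetherian (GrLC.deg0 𝒜) P := isNoetherian_of_isNoetherianRing_of_finite _ _
  haveI : IsArtinian (GrLC.deg0 𝒜) P := isArtinian_of_fg_of_artinian'
  exact Module.length_ne_top

include hpos ha in
theorem length_Hcomp_ne_top [Module.Finite R M] (E : StarInjRes 𝒜 ℳ) (k : ℕ) (n : ℤ) :
    Module.length (GrLC.deg0 𝒜) (E.Hcomp a k n) ≠ ⊤ :=
  length_ne_top_of_fg _ ((main 𝒜 hpos a ha k M ℳ E).2 n)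

include hpos in
theorem length_comp_ne_top [Module.Finite R M] (n : ℤ) :
    Module.length (GrLC.deg0 𝒜) (GrLC.comp 𝒜 ℳ n) ≠ ⊤ := by
  haveI := finite_comp 𝒜 ℳ hpos n
  exact length_ne_top_of_fg _ (Module.Finite.iff_fg.mp inferInstance)

include hD in
theorem length_Hcomp_eq_zero (E : StarInjRes 𝒜 ℳ) (k : ℕ) (hk : D < k) (n : ℤ) :
    Module.length (GrLC.deg0 𝒜) (E.Hcomp a k n) = 0 := by
  haveI := H_subsingleton_of_dim a hD E k hk
  rw [Module.length_eq_zero_iff]
  exact ⟨fun x y => Subtype.ext (Subsingleton.elim _ _)⟩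

include hpos ha hD in
/-- **Euler characteristic of the long exact sequence of a graded short exact sequence.** -/
theorem euler_ses {i : M' →ₗ[R] M} {p : M →ₗ[R] M''} (S : GrSES ℳ' ℳ ℳ'' i p)
    [Module.Finite R M'] [Module.Finite R M] [Module.Finite R M'']
    (E' : StarInjRes 𝒜 ℳ') (E : StarInjRes 𝒜 ℳ) (E'' : StarInjRes 𝒜 ℳ'') (n : ℤ) :
    chi a D E' n - chi a D E n + chi a D E'' n = 0 := by
  classical
  obtain ⟨δ, hδ, h1, h2, h3⟩ := exists_les S E' E E'' a
  have hfg := Hmap₀_isGrHom E' E a i S.i_grHom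
  have hgg := Hmap₀_isGrHom E E'' a p S.p_grHom
  have key := GrEuler.euler_les (S := GrLC.deg0 𝒜)
    (fun k => ↥(E'.Hcomp a k n)) (fun k => ↥(E.Hcomp a k n)) (fun k => ↥(E''.Hcomp a k n))
    (fun k => pmap (GrLC.deg0 𝒜) (Hmap₀ E' E a i S.i_grHom k) (E'.Hcomp a k n) (E.Hcomp a k n)
      (fun x hx => hfg k n x hx))
    (fun k => pmap (GrLC.deg0 𝒜) (Hmap₀ E E'' a p S.p_grHom k) (E.Hcomp a k n) (E''.Hcomp a k n)
      (fun x hx => hgg k n x hx))
    (fun k => pmap (GrLC.deg0 𝒜) (δ k) (E''.Hcomp a k n) (E'.Hcomp a (k + 1) n)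
      (fun x hx => hδ k n x hx))
    (fun k => pmap_exact _ _ _ (h1 k) _ _ _ _ _ (fun y hy hy0 => by
      obtain ⟨w, hw⟩ := (h1 k y).mp hy0
      exact exists_mem_of_isInternal (Hgr_isInternal E' a k) (Hgr_isInternal E a k) _ (hfg k)
        (show y ∈ E.Hgr a k n from hy) w hw))
    (fun k => pmap_exact _ _ _ (h2 k) _ _ _ _ _ (fun y hy hy0 => by
      obtain ⟨w, hw⟩ := (h2 k y).mp hy0
      exact exists_mem_of_isInternal (Hgr_isInternal E a k) (Hgr_isInternal E'' a k) _ (hgg k)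
        (show y ∈ E''.Hgr a k n from hy) w hw))
    (fun k => pmap_exact _ _ _ (h3 k) _ _ _ _ _ (fun y hy hy0 => by
      obtain ⟨w, hw⟩ := (h3 k y).mp hy0
      exact exists_mem_of_isInternal (Hgr_isInternal E'' a k) (Hgr_isInternal E' a (k + 1)) _ (hδ k)
        (show y ∈ E'.Hgr a (k + 1) n from hy) w hw))
    (pmap_injective _ _ (Hmap₀_zero_injective E' E a i S.i_grHom S.i_inj) _ _ _)
    D (length_Hcomp_eq_zero a D hD E' (D + 1) (Nat.lt_succ_self D) n)
    (fun k => length_Hcomp_ne_top hpos a ha E' k n)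
    (fun k => length_Hcomp_ne_top hpos a ha E k n)
    (fun k => length_Hcomp_ne_top hpos a ha E'' k n)
  simp only [chi, hl]
  rw [← Finset.sum_sub_distrib, ← Finset.sum_add_distrib, ← key]
  refine Finset.sum_congr rfl fun k _ => ?_
  ring

end Main

end Groth.Agent.Lib.Helper39.GrSerre
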