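import Groth.Agent.Lib.Helper39.GrSerre2

/-!
# Hilbert functions and Euler characteristics: additivity, shifts, torsion modules (helper39)
-/

set_option autoImplicit false
universe u

namespace Groth.Agent.Lib.Helper39.GrSerre

open DirectSum GrLC Groth.Agent.Lib.Helper39 Groth.Agent.Lib.Helper39.GrLes
  Groth.Agent.Lib.Helper39.GrRegVanish Groth.Agent.Lib.Helper39.GrPieces
  Groth.Agent.Lib.Helper39.GrTop

section Main
variable {R : Type u} [CommRing R] [IsNoetherianRing R] {𝒜 : ℤ → AddSubgroup R} [GradedRing 𝒜]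
  (hpos : ∀ n : ℤ, n < 0 → 𝒜 n = ⊥) [IsArtinianRing (GrLC.deg0 𝒜)]
  (a : HomogeneousIdeal 𝒜) (ha : a.toIdeal = Ideal.span (⋃ n ∈ Set.Ioi (0 : ℤ), (𝒜 n : Set R)))
  (D : ℕ) (hD : ringKrullDim R ≤ D)
  {M' : Type u} [AddCommGroup M'] [Module R M'] {ℳ' : ℤ → AddSubgroup M'} [DirectSum.Decomposition ℳ']
  [SetLike.GradedSMul 𝒜 ℳ']
  {M : Type u} [AddCommGroup M] [Module R M] {ℳ : ℤ → AddSubgroup M} [DirectSum.Decomposition ℳ]
  [SetLike.GradedSMul 𝒜 ℳ]
  {M'' : Type u} [AddCommGroup M''] [Module R M''] {ℳ'' : ℤ → AddSubgroup M''}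
  [DirectSum.Decomposition ℳ''] [SetLike.GradedSMul 𝒜 ℳ'']

include hpos in
/-- additivity of the Hilbert function -/
theorem hfun_ses {i : M' →ₗ[R] M} {p : M →ₗ[R] M''} (S : GrSES ℳ' ℳ ℳ'' i p)
    [Module.Finite R M'] [Module.Finite R M''] (n : ℤ) :
    hfun 𝒜 ℳ n = hfun 𝒜 ℳ' n + hfun 𝒜 ℳ'' n := by
  classical
  have hex : Function.Exact i p := LinearMap.exact_iff.mpr S.exact
  have key := Module.length_eq_add_of_exact
    (pmap (GrLC.deg0 𝒜) i (GrLC.comp 𝒜 ℳ' n) (GrLC.comp 𝒜 ℳ n) (fun x hx => S.i_grHom n x hx))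
    (pmap (GrLC.deg0 𝒜) p (GrLC.comp 𝒜 ℳ n) (GrLC.comp 𝒜 ℳ'' n) (fun x hx => S.p_grHom n x hx))
    (pmap_injective _ _ S.i_inj _ _ _)
    (by
      rintro ⟨y, hy⟩
      obtain ⟨w, hw⟩ := S.p_surj y
      obtain ⟨w', hw', e⟩ := exists_mem_of_isInternal (Decomposition.isInternal ℳ)
        (Decomposition.isInternal ℳ'') p S.p_grHom (show y ∈ ℳ'' n from hy) w hw
      exact ⟨⟨w', hw'⟩, Subtype.ext e⟩)
    (pmap_exact _ _ _ hex _ _ _ _ _ (fun y hy hy0 => by
      obtain ⟨w, hw⟩ := (hex y).mp hy0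
      exact exists_mem_of_isInternal (Decomposition.isInternal ℳ')
        (Decomposition.isInternal ℳ) i S.i_grHom (show y ∈ ℳ n from hy) w hw))
  unfold hfun
  rw [key, ENat.toNat_add (length_comp_ne_top hpos n) (length_comp_ne_top hpos n)]
  push_cast
  rfl

attribute [local instance] shiftDecomposition shiftGradedSMul

omit [IsNoetherianRing R] [IsArtinianRing (GrLC.deg0 𝒜)] in
theorem hfun_shift (g n : ℤ) : hfun 𝒜 (shiftPieces ℳ g) n = hfun 𝒜 ℳ (n + g) := by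
  unfold hfun
  have : GrLC.comp 𝒜 (shiftPieces ℳ g) n = GrLC.comp 𝒜 ℳ (n + g) := Submodule.ext (fun _ => Iff.rfl)
  rw [this]

omit [IsNoetherianRing R] [IsArtinianRing (GrLC.deg0 𝒜)] in
theorem chi_shift (E : StarInjRes 𝒜 ℳ) (g n : ℤ) :
    chi a D (shiftRes E g) n = chi a D E (n + g) := by
  unfold chi hl
  refine Finset.sum_congr rfl fun k _ => ?_
  rw [length_piece_eq (GrLC.deg0 𝒜) (shiftHEquiv E g a k) ((shiftRes E g).Hcomp a k n)
    (E.Hcomp a k (n + g)) (fun x => (shiftHEquiv_mem_iff E g a k n x).symm)]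

/-- `M ≃ H^0_a(M)` for a torsion module -/
noncomputable def torsionEquiv (E : StarInjRes 𝒜 ℳ)
    (htor : ∀ x : M, ∃ k : ℕ, ∀ r ∈ a.toIdeal ^ k, r • x = 0) : M ≃ₗ[R] E.H a 0 :=
  LinearEquiv.ofBijective
    ((E.toH a 0) ∘ₗ (LinearMap.codRestrict (E.cocyc a 0) E.ε
      (fun m => ⟨gam_map a.toIdeal E.ε (htor m), LinearMap.mem_ker.mpr (d_ε E m)⟩)))
    (by
      constructor
      · rw [injective_iff_map_eq_zero]
        intro m hm
        rw [LinearMap.comp_apply, toH_eq_zero_iff] at hm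
        have h1 : E.ε m = 0 := hm
        exact E.ε_injective (by rw [h1, map_zero])
      · intro y
        obtain ⟨z, rfl⟩ := Submodule.mkQ_surjective _ y
        have hz : (z : (E.X 0).carrier) ∈ LinearMap.range E.ε := by
          rw [← E.exact_zero]
          exact z.2.2
        obtain ⟨m, hm⟩ := hz
        refine ⟨m, ?_⟩
        rw [LinearMap.comp_apply]
        congr 1
        exact Subtype.ext hm)

omit [IsNoetherianRing R] [IsArtinianRing (GrLC.deg0 𝒜)] in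
theorem torsionEquiv_apply (E : StarInjRes 𝒜 ℳ)
    (htor : ∀ x : M, ∃ k : ℕ, ∀ r ∈ a.toIdeal ^ k, r • x = 0) (m : M) :
    torsionEquiv a E htor m = E.toH a 0 ⟨E.ε m,
      ⟨gam_map a.toIdeal E.ε (htor m), LinearMap.mem_ker.mpr (d_ε E m)⟩⟩ := rfl

omit [IsNoetherianRing R] [IsArtinianRing (GrLC.deg0 𝒜)] in
theorem torsionEquiv_mem_iff (E : StarInjRes 𝒜 ℳ)
    (htor : ∀ x : M, ∃ k : ℕ, ∀ r ∈ a.toIdeal ^ k, r • x = 0) (n : ℤ) (m : M) :
    m ∈ GrLC.comp 𝒜 ℳ n ↔ torsionEquiv a E htor m ∈ E.Hcomp a 0 n := by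
  constructor
  · intro hm
    exact ⟨_, E.ε_grHom n m hm, (torsionEquiv_apply a E htor m).symm⟩
  · rintro ⟨z, hz, e⟩
    rw [torsionEquiv_apply, ← sub_eq_zero, ← map_sub, toH_eq_zero_iff] at e
    have h1 : (z : (E.X 0).carrier) - E.ε m = 0 := e
    rw [sub_eq_zero] at h1
    rw [h1] at hz
    exact IsGrHom.mem_of_injective ℳ (E.X 0).gr E.ε_grHom E.ε_injective hz

/-- the Euler characteristic of a torsion module is its Hilbert function -/
theorem chi_torsion (E : StarInjRes 𝒜 ℳ)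
    (htor : ∀ x : M, ∃ k : ℕ, ∀ r ∈ a.toIdeal ^ k, r • x = 0) (n : ℤ) :
    chi a D E n = hfun 𝒜 ℳ n := by
  unfold chi
  rw [Finset.sum_range_succ']
  have h0 : ∀ k ∈ Finset.range D, (-1 : ℚ) ^ (k + 1) * hl a E (k + 1) n = 0 := by
    intro k _
    haveI := H_subsingleton_of_torsion a E htor (k + 1) (by omega)
    have : Module.length (GrLC.deg0 𝒜) (E.Hcomp a (k + 1) n) = 0 := by
      rw [Module.length_eq_zero_iff]
      exact ⟨fun x y => Subtype.ext (Subsingleton.elim _ _)⟩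
    unfold hl
    rw [this]
    simp
  rw [Finset.sum_eq_zero h0, zero_add, pow_zero, one_mul]
  unfold hl hfun
  rw [length_piece_eq (GrLC.deg0 𝒜) (torsionEquiv a E htor) (GrLC.comp 𝒜 ℳ n) (E.Hcomp a 0 n)
    (torsionEquiv_mem_iff a E htor n)]

include hpos ha in
/-- the Euler characteristic vanishes in high degrees -/
theorem chi_eventually_zero [Module.Finite R M] (E : StarInjRes 𝒜 ℳ) :
    ∃ N : ℤ, ∀ n, N ≤ n → chi a D E n = 0 := by
  have key : ∀ D' : ℕ, ∃ N : ℤ, ∀ n, N ≤ n → ∀ k, k < D' → E.Hcomp a k n = ⊥ := by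
    intro D'
    induction D' with
    | zero => exact ⟨0, fun n _ k hk => absurd hk (Nat.not_lt_zero k)⟩
    | succ D' ih =>
      obtain ⟨N, hN⟩ := ih
      obtain ⟨r, hr⟩ := (main 𝒜 hpos a ha D' M ℳ E).1
      refine ⟨max N r, fun n hn k hk => ?_⟩
      rcases Nat.lt_succ_iff_lt_or_eq.mp hk with h | h
      · exact hN n (le_trans (le_max_left _ _) hn) k h
      · rw [h]
        exact hr n (le_trans (le_max_right _ _) hn)
  obtain ⟨N, hN⟩ := key (D + 1)
  refine ⟨N, fun n hn => ?_⟩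
  unfold chi
  apply Finset.sum_eq_zero
  intro k hk
  unfold hl
  rw [hN n hn k (Finset.mem_range.mp hk)]
  simp

end Main

end Groth.Agent.Lib.Helper39.GrSerre
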