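import Groth.Agent.Lib.Helper39.GrSerre4
import Groth.Agent.Lib.Helper39.GrEGPoly
import Groth.Agent.Lib.Helper60.LocalCohDepth
import Groth.Agent.Lib.Helper60.GrothVanishing

/-!
# Serre's formula over the polynomial ring `k[x_0..x_r]` (helper39)
-/

set_option autoImplicit false
universe u

namespace Groth.Agent.Lib.Helper39.GrSerrePoly

open DirectSum GrLC Groth.Agent.Lib.Helper39 Groth.Agent.Lib.Helper39.GrBridge
  Groth.Agent.Lib.Helper39.GrEGPoly Groth.Agent.Lib.Helper39.GrSerre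

attribute [local instance] toSubGradedRing toSubDecomposition toSubGradedSMul

variable (k : Type u) [Field k] (r : ℕ)

/-- the constants -/
noncomputable def constHom : k →+* GrLC.deg0 (toSub (GrSyz.stdGr k (Fin (r + 1)))) :=
  (MvPolynomial.C : k →+* MvPolynomial (Fin (r + 1)) k).codRestrict _
    (fun c => MvPolynomial.isWeightedHomogeneous_C (fun _ : Fin (r + 1) => (1 : ℤ)) c)

theorem constHom_coe (c : k) :
    ((constHom k r c : GrLC.deg0 (toSub (GrSyz.stdGr k (Fin (r + 1))))) :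
      MvPolynomial (Fin (r + 1)) k) = MvPolynomial.C c := rfl

theorem constHom_surjective : Function.Surjective (constHom k r) := by
  rintro ⟨p, hp⟩
  refine ⟨MvPolynomial.constantCoeff p, Subtype.ext ?_⟩
  rw [constHom_coe]
  exact (Groth.Agent.Lib.Helper66.BettiUniq.eq_C_of_mem_stdGr_zero p hp).symm

instance isArtinianRing_deg0 : IsArtinianRing (GrLC.deg0 (toSub (GrSyz.stdGr k (Fin (r + 1))))) :=
  (constHom_surjective k r).isArtinianRing

variable {k r}
variable {M : Type u} [AddCommGroup M] [Module k M] [Module (MvPolynomial (Fin (r + 1)) k) M]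
  [IsScalarTower k (MvPolynomial (Fin (r + 1)) k) M]
  (ℳ : ℤ → Submodule k M) [DirectSum.Decomposition ℳ]
  [SetLike.GradedSMul (GrSyz.stdGr k (Fin (r + 1))) ℳ]

/-- the Hilbert function is the dimension of the pieces -/
theorem hfun_eq_finrank (d : ℤ) :
    hfun (toSub (GrSyz.stdGr k (Fin (r + 1)))) (toSub ℳ) d = (Module.finrank k (ℳ d) : ℚ) := by
  unfold hfun
  congr 1
  letI alg : Algebra k (GrLC.deg0 (toSub (GrSyz.stdGr k (Fin (r + 1))))) := (constHom k r).toAlgebra
  letI modk : Module k (GrLC.comp (toSub (GrSyz.stdGr k (Fin (r + 1)))) (toSub ℳ) d) :=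
    Module.compHom _ (constHom k r)
  haveI : IsScalarTower k (GrLC.deg0 (toSub (GrSyz.stdGr k (Fin (r + 1)))))
      (GrLC.comp (toSub (GrSyz.stdGr k (Fin (r + 1)))) (toSub ℳ) d) :=
    ⟨fun c s x => by
      show ((constHom k r c) * s) • x = (constHom k r c) • (s • x)
      exact mul_smul _ _ _⟩
  have h1 := Module.length_eq_of_surjective
    (R := GrLC.deg0 (toSub (GrSyz.stdGr k (Fin (r + 1)))))
    (M := GrLC.comp (toSub (GrSyz.stdGr k (Fin (r + 1)))) (toSub ℳ) d) (S := k)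
    (constHom_surjective k r)
  rw [← h1]
  let e : (GrLC.comp (toSub (GrSyz.stdGr k (Fin (r + 1)))) (toSub ℳ) d) ≃ₗ[k] ℳ d :=
    { toFun := fun x => ⟨x.1, x.2⟩
      invFun := fun x => ⟨x.1, x.2⟩
      left_inv := fun _ => rfl
      right_inv := fun _ => rfl
      map_add' := fun _ _ => rfl
      map_smul' := fun c x => by
        apply Subtype.ext
        show ((constHom k r c : GrLC.deg0 (toSub (GrSyz.stdGr k (Fin (r + 1))))) :
          MvPolynomial (Fin (r + 1)) k) • (x : M) = c • (x : M)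
        rw [constHom_coe, ← MvPolynomial.algebraMap_eq, algebraMap_smul] }
  rw [e.length_eq, Module.length_eq_rank, Cardinal.toNat_toENat]
  rfl

variable [Module.Finite (MvPolynomial (Fin (r + 1)) k) M]

/-- vanishing below the depth -/
theorem H_subsingleton_of_lt_depth
    (E' : StarInjRes (toSub (GrSyz.stdGr k (Fin (r + 1)))) (toSub ℳ)) (δ : ℕ)
    (hδ : LocCoh.idealDepth (GrSyz.irrel (GrSyz.stdGr k (Fin (r + 1)))).toIdeal M = δ)
    (hIM : (GrSyz.irrel (GrSyz.stdGr k (Fin (r + 1)))).toIdeal •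
      (⊤ : Submodule (MvPolynomial (Fin (r + 1)) k) M) ≠ ⊤) (i : ℕ) (hi : i < δ) :
    Subsingleton (E'.H (convIdeal (GrSyz.irrel (GrSyz.stdGr k (Fin (r + 1))))) i) := by
  obtain ⟨e⟩ := Groth.Agent.S13224.result (MvPolynomial (Fin (r + 1)) k)
    (toSub (GrSyz.stdGr k (Fin (r + 1)))) (convIdeal (GrSyz.irrel (GrSyz.stdGr k (Fin (r + 1)))))
    M (toSub ℳ) E' i
  have : Subsingleton (LocCoh.H (convIdeal (GrSyz.irrel (GrSyz.stdGr k (Fin (r + 1))))).toIdeal i M) :=
    ((Groth.Agent.Lib.Helper60.idealDepth_eq_iff_lc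
      (GrSyz.irrel (GrSyz.stdGr k (Fin (r + 1)))).toIdeal M hIM δ).mp hδ).1 i hi
  exact e.injective.subsingleton

/-- vanishing above the dimension -/
theorem H_subsingleton_of_gt_dim
    (E' : StarInjRes (toSub (GrSyz.stdGr k (Fin (r + 1)))) (toSub ℳ)) (δ : ℕ)
    (hδ : Module.supportDim (MvPolynomial (Fin (r + 1)) k) M = ((δ : ℕ∞) : WithBot ℕ∞))
    (i : ℕ) (hi : δ < i) :
    Subsingleton (E'.H (convIdeal (GrSyz.irrel (GrSyz.stdGr k (Fin (r + 1))))) i) := by
  obtain ⟨e⟩ := Groth.Agent.S13224.result (MvPolynomial (Fin (r + 1)) k)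
    (toSub (GrSyz.stdGr k (Fin (r + 1)))) (convIdeal (GrSyz.irrel (GrSyz.stdGr k (Fin (r + 1)))))
    M (toSub ℳ) E' i
  have : Subsingleton (LocCoh.H (convIdeal (GrSyz.irrel (GrSyz.stdGr k (Fin (r + 1))))).toIdeal i M) :=
    Groth.Agent.Lib.Helper60.lc_subsingleton_of_supportDim_lt_of_finite
      (GrSyz.irrel (GrSyz.stdGr k (Fin (r + 1)))).toIdeal i M (by
        rw [hδ]
        exact_mod_cast hi)
  exact e.injective.subsingleton

/-- Serre's formula over the polynomial ring -/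
theorem serre_poly (E' : StarInjRes (toSub (GrSyz.stdGr k (Fin (r + 1)))) (toSub ℳ))
    (P : Polynomial ℚ)
    (hP : ∃ N : ℤ, ∀ n : ℤ, N ≤ n → P.eval (n : ℚ) = (Module.finrank k (ℳ n) : ℚ)) (n : ℤ) :
    (Module.finrank k (ℳ n) : ℚ) - P.eval (n : ℚ) =
      chi (convIdeal (GrSyz.irrel (GrSyz.stdGr k (Fin (r + 1))))) (r + 1) E' n := by
  rw [← hfun_eq_finrank (r := r) ℳ n]
  refine serre (hpos k r) _ (ha k r) (r + 1) (hc k r) M (toSub ℳ) E' P ?_ n
  obtain ⟨N, hN⟩ := hP
  exact ⟨N, fun n hn => by rw [hN n hn, hfun_eq_finrank (r := r) ℳ n]⟩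

end Groth.Agent.Lib.Helper39.GrSerrePoly
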