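import Groth.Agent.Lib.Helper39.GrHomComp

/-!
# The span of homogeneous elements is a homogeneous submodule (helper39)
-/

set_option autoImplicit false
universe u

namespace Groth.Agent.Lib.Helper39

open DirectSum GrLC

variable {ι : Type} [AddCommGroup ι] [DecidableEq ι] {R : Type u} [CommRing R]
  (𝒜 : ι → AddSubgroup R) [GradedRing 𝒜]
  {M : Type u} [AddCommGroup M] [Module R M] (ℳ : ι → AddSubgroup M) [DirectSum.Decomposition ℳ]
  [SetLike.GradedSMul 𝒜 ℳ]

include 𝒜 in
theorem decompose_smul_mem_of_forall (P : Submodule R M) {x : M}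
    (hx : ∀ j, (decompose ℳ x j : M) ∈ P) (r : R) : ∀ j, (decompose ℳ (r • x) j : M) ∈ P := by
  induction r using DirectSum.Decomposition.inductionOn 𝒜 with
  | zero => intro j; simp
  | @homogeneous i r =>
    intro j
    have h := decompose_smul_of_mem 𝒜 ℳ r.2 x (j - i)
    rw [show i + (j - i) = j by abel] at h
    rw [h]
    exact P.smul_mem _ (hx (j - i))
  | add r r' hr hr' =>
    intro j
    rw [add_smul, decompose_add, DirectSum.add_apply, AddSubgroup.coe_add]
    exact P.add_mem (hr j) (hr' j)

include 𝒜 in
theorem span_isHomogeneous (S : Set M) (hS : ∀ x ∈ S, ∃ n, x ∈ ℳ n) :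
    (Submodule.span R S).IsHomogeneous ℳ := by
  intro i x hx
  revert i
  induction hx using Submodule.span_induction with
  | mem x hx =>
    intro i
    obtain ⟨n, hn⟩ := hS x hx
    by_cases hni : n = i
    · subst hni
      rw [decompose_of_mem_same ℳ hn]
      exact Submodule.subset_span hx
    · rw [decompose_of_mem_ne ℳ hn hni]
      exact zero_mem _
  | zero => intro i; simp
  | add x y _ _ hx hy =>
    intro i
    rw [decompose_add, DirectSum.add_apply, AddSubgroup.coe_add]
    exact Submodule.add_mem _ (hx i) (hy i)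
  | smul r x _ hx => exact decompose_smul_mem_of_forall 𝒜 ℳ _ hx r

end Groth.Agent.Lib.Helper39
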