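import Groth.Agent.Lib.Helper39.GrNak
import Groth.Agent.Lib.Helper39.GrPieces

/-!
# *Local positively graded rings (helper39)

For a positively `ℤ`-graded ring with unique *maximal ideal `m`:
* `irr 𝒜` — the irrelevant ideal `R_+` as a homogeneous ideal;
* `irr_le` — `R_+ ≤ m`;
* `isMaximal` — `m` is a maximal ideal of `R`.
-/

set_option autoImplicit false
universe u

namespace Groth.Agent.Lib.Helper39.GrStarLocal

open DirectSum GrLC Groth.Agent.Lib.Helper39 Groth.Agent.Lib.Helper39.GrNak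

variable {R : Type u} [CommRing R] (𝒜 : ℤ → AddSubgroup R) [GradedRing 𝒜]

/-- the irrelevant ideal -/
def irr : HomogeneousIdeal 𝒜 :=
  ⟨Ideal.span (⋃ n ∈ Set.Ioi (0 : ℤ), (𝒜 n : Set R)), Ideal.homogeneous_span 𝒜 _ (by
    intro x hx
    simp only [Set.mem_iUnion, Set.mem_Ioi] at hx
    obtain ⟨n, _, hx⟩ := hx
    exact ⟨n, hx⟩)⟩

theorem irr_toIdeal :
    (irr 𝒜).toIdeal = Ideal.span (⋃ n ∈ Set.Ioi (0 : ℤ), (𝒜 n : Set R)) := rfl

variable (hpos : ∀ n : ℤ, n < 0 → 𝒜 n = ⊥)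

include hpos in
theorem decompose_eq_zero_of_mem_irr {r : R} (hr : r ∈ (irr 𝒜).toIdeal) :
    ∀ j : ℤ, j < 1 → (decompose 𝒜 r j : R) = 0 := by
  have hle : (irr 𝒜).toIdeal ≤ geSub (R := R) 𝒜 1 := by
    rw [irr_toIdeal]
    apply Submodule.span_mono
    intro x hx
    simp only [Set.mem_iUnion, Set.mem_Ioi, Set.mem_Ici] at hx ⊢
    obtain ⟨n, hn, hx⟩ := hx
    exact ⟨n, by omega, hx⟩
  exact decompose_eq_zero_of_mem_geSub 𝒜 𝒜 hpos (hle hr)

include hpos in
theorem sub_decompose_zero_mem_irr (x : R) : x - (decompose 𝒜 x 0 : R) ∈ (irr 𝒜).toIdeal := by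
  induction x using DirectSum.Decomposition.inductionOn 𝒜 with
  | zero => simp
  | @homogeneous i x =>
    rcases lt_trichotomy i 0 with hi | hi | hi
    · have h1 : (x : R) ∈ (⊥ : AddSubgroup R) := (hpos i hi) ▸ x.2
      rw [AddSubgroup.mem_bot] at h1
      rw [h1]
      simp
    · subst hi
      rw [decompose_of_mem_same 𝒜 x.2, sub_self]
      exact zero_mem _
    · rw [decompose_of_mem_ne 𝒜 x.2 (by omega), sub_zero]
      apply Ideal.subset_span
      simp only [Set.mem_iUnion, Set.mem_Ioi]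
      exact ⟨i, hi, x.2⟩
  | add x y hx hy =>
    have : x + y - (decompose 𝒜 (x + y) 0 : R) =
        (x - (decompose 𝒜 x 0 : R)) + (y - (decompose 𝒜 y 0 : R)) := by
      rw [decompose_add, DirectSum.add_apply, AddSubgroup.coe_add]
      ring
    rw [this]
    exact add_mem hx hy

variable {𝒜}

include hpos in
/-- the irrelevant ideal lies in the *maximal ideal -/
theorem irr_le {m : HomogeneousIdeal 𝒜} (hm : IsStarLocal 𝒜 m) :
    (irr 𝒜).toIdeal ≤ m.toIdeal := by
  by_contra hnle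
  have hlt : m < m ⊔ irr 𝒜 := by
    refine lt_of_le_of_ne le_sup_left ?_
    intro heq
    apply hnle
    have : irr 𝒜 ≤ m := by
      rw [heq]
      exact le_sup_right
    exact this
  have htop := hm.1.2 _ hlt
  have h1 : (1 : R) ∈ (m ⊔ irr 𝒜).toIdeal := by
    rw [htop]
    exact Submodule.mem_top
  rw [HomogeneousIdeal.toIdeal_sup] at h1
  obtain ⟨μ, hμ, α, hα, h⟩ := Submodule.mem_sup.mp h1
  have h2 : (decompose 𝒜 (1 : R) 0 : R) = 1 :=
    decompose_of_mem_same 𝒜 (SetLike.GradedOne.one_mem (A := 𝒜))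
  have h2' : (decompose 𝒜 (μ + α) 0 : R) = (decompose 𝒜 μ 0 : R) := by
    rw [decompose_add, DirectSum.add_apply, AddSubgroup.coe_add,
      decompose_eq_zero_of_mem_irr 𝒜 hpos hα 0 (by norm_num), add_zero]
  rw [h] at h2'
  have h3 : (decompose 𝒜 μ 0 : R) ∈ m.toIdeal := m.isHomogeneous 0 hμ
  rw [← h2', h2] at h3
  apply hm.1.1
  apply HomogeneousIdeal.toIdeal_injective
  rw [HomogeneousIdeal.toIdeal_top]
  exact (Ideal.eq_top_iff_one _).mpr h3

include hpos in
/-- the *maximal ideal of a positively graded *local ring is a maximal ideal -/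
theorem isMaximal {m : HomogeneousIdeal 𝒜} (hm : IsStarLocal 𝒜 m) : m.toIdeal.IsMaximal := by
  classical
  have hne : m.toIdeal ≠ ⊤ := by
    intro h
    apply hm.1.1
    apply HomogeneousIdeal.toIdeal_injective
    rw [HomogeneousIdeal.toIdeal_top]
    exact h
  rw [Ideal.isMaximal_iff]
  refine ⟨fun h1 => hne ((Ideal.eq_top_iff_one _).mpr h1), ?_⟩
  intro J x hmJ hxm hxJ
  -- the degree zero component of `x`
  set x₀ : R := (decompose 𝒜 x 0 : R) with hx₀
  have hx₀J : x₀ ∈ J := by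
    have h1 : x - x₀ ∈ J := hmJ (irr_le hpos hm (sub_decompose_zero_mem_irr 𝒜 hpos x))
    have : x₀ = x - (x - x₀) := by ring
    rw [this]
    exact sub_mem hxJ h1
  have hx₀m : x₀ ∉ m.toIdeal := by
    intro h
    apply hxm
    have h1 : x - x₀ ∈ m.toIdeal := irr_le hpos hm (sub_decompose_zero_mem_irr 𝒜 hpos x)
    have : x = x₀ + (x - x₀) := by ring
    rw [this]
    exact add_mem h h1
  -- the homogeneous ideal `m + (x₀)`
  let K : HomogeneousIdeal 𝒜 := ⟨Ideal.span {x₀}, Ideal.homogeneous_span 𝒜 _ (by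
    intro y hy
    rw [Set.mem_singleton_iff] at hy
    rw [hy]
    exact ⟨0, SetLike.coe_mem _⟩)⟩
  have hlt : m < m ⊔ K := by
    refine lt_of_le_of_ne le_sup_left ?_
    intro heq
    apply hx₀m
    have h1 : K ≤ m := by
      rw [heq]
      exact le_sup_right
    exact h1 (Ideal.subset_span (Set.mem_singleton x₀))
  have htop := hm.1.2 _ hlt
  have h1 : (1 : R) ∈ (m ⊔ K).toIdeal := by
    rw [htop]
    exact Submodule.mem_top
  rw [HomogeneousIdeal.toIdeal_sup] at h1
  obtain ⟨μ, hμ, κ, hκ, h⟩ := Submodule.mem_sup.mp h1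
  rw [← h]
  refine add_mem (hmJ hμ) ?_
  have hKJ : K.toIdeal ≤ J := by
    show Ideal.span {x₀} ≤ J
    rw [Ideal.span_le, Set.singleton_subset_iff]
    exact hx₀J
  exact hKJ hκ

end Groth.Agent.Lib.Helper39.GrStarLocal
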