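import Groth.Agent.Lib.Helper39.GrHomComp
import Groth.Agent.Lib.Helper39.GrH

/-!
# Veronese subrings and Veronese submodules, part 1 (helper39)

`VerData 𝒜 𝒜'` : `(R', 𝒜')` is the `q`-th Veronese subring of `(R, 𝒜)` through `φ`.
`vproj 𝒳 q` : the projection of a graded module onto the sum of its pieces of degree in `qℤ`.
`verSub 𝒳 q` : the fixed points of `vproj`.
-/

set_option autoImplicit false
universe u

namespace Groth.Agent.Lib.Helper39.Ver

open DirectSum GrLC Groth.Agent.Lib.Helper39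

/-- `(R', 𝒜')` is the `q`-th Veronese subring of `(R, 𝒜)` through `φ`. -/
structure VerData {R R' : Type u} [CommRing R] [CommRing R'] (𝒜 : ℤ → AddSubgroup R) [GradedRing 𝒜]
    (𝒜' : ℤ → AddSubgroup R') [GradedRing 𝒜'] where
  φ : R' →+* R
  q : ℕ
  hq : 0 < q
  inj : Function.Injective φ
  map_mem : ∀ (j : ℤ) (r : R'), r ∈ 𝒜' j → φ r ∈ 𝒜 (j * q)
  exists_mem : ∀ (j : ℤ) (a : R), a ∈ 𝒜 (j * q) → ∃ r ∈ 𝒜' j, φ r = a

section Proj
variable {X : Type u} [AddCommGroup X] (𝒳 : ℤ → AddSubgroup X) [DirectSum.Decomposition 𝒳] (q : ℕ)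

/-- the Veronese projection -/
def vproj : X →+ X :=
  (DirectSum.toAddMonoid (fun i : ℤ => if (q : ℤ) ∣ i then (𝒳 i).subtype else 0)).comp
    (decomposeAddEquiv 𝒳).toAddMonoidHom

theorem vproj_of_mem {i : ℤ} {x : X} (hx : x ∈ 𝒳 i) :
    vproj 𝒳 q x = if (q : ℤ) ∣ i then x else 0 := by
  unfold vproj
  simp only [AddMonoidHom.coe_comp, Function.comp_apply]
  have h1 : (decomposeAddEquiv 𝒳).toAddMonoidHom x = DirectSum.of (fun i => 𝒳 i) i ⟨x, hx⟩ :=
    decompose_of_mem 𝒳 hx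
  rw [h1, DirectSum.toAddMonoid_of]
  split_ifs <;> rfl

theorem vproj_of_mem_dvd {i : ℤ} {x : X} (hx : x ∈ 𝒳 i) (hi : (q : ℤ) ∣ i) : vproj 𝒳 q x = x := by
  rw [vproj_of_mem 𝒳 q hx, if_pos hi]

theorem vproj_of_mem_mul {j : ℤ} {x : X} (hx : x ∈ 𝒳 (j * q)) : vproj 𝒳 q x = x :=
  vproj_of_mem_dvd 𝒳 q hx (Dvd.intro_left j rfl)

theorem vproj_of_mem_not_dvd {i : ℤ} {x : X} (hx : x ∈ 𝒳 i) (hi : ¬ (q : ℤ) ∣ i) :
    vproj 𝒳 q x = 0 := by
  rw [vproj_of_mem 𝒳 q hx, if_neg hi]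

open Classical in
theorem vproj_eq_sum (x : X) : vproj 𝒳 q x =
    ∑ i ∈ (decompose 𝒳 x).support, if (q : ℤ) ∣ i then (decompose 𝒳 x i : X) else 0 := by
  conv_lhs => rw [← DirectSum.sum_support_decompose 𝒳 x]
  rw [map_sum]
  refine Finset.sum_congr rfl (fun i _ => ?_)
  exact vproj_of_mem 𝒳 q (SetLike.coe_mem _)

theorem vproj_vproj (x : X) : vproj 𝒳 q (vproj 𝒳 q x) = vproj 𝒳 q x := by
  classical
  rw [vproj_eq_sum 𝒳 q x, map_sum]
  refine Finset.sum_congr rfl (fun i _ => ?_)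
  split_ifs with h
  · exact vproj_of_mem_dvd 𝒳 q (SetLike.coe_mem _) h
  · exact map_zero _

theorem decompose_vproj (x : X) (i : ℤ) :
    (decompose 𝒳 (vproj 𝒳 q x) i : X) = if (q : ℤ) ∣ i then (decompose 𝒳 x i : X) else 0 := by
  induction x using DirectSum.Decomposition.inductionOn 𝒳 with
  | zero => simp
  | @homogeneous k m =>
    by_cases hk : (q : ℤ) ∣ k
    · rw [vproj_of_mem_dvd 𝒳 q m.2 hk]
      by_cases hik : k = i
      · subst hik
        rw [if_pos hk]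
      · rw [decompose_of_mem_ne 𝒳 m.2 hik]
        simp
    · rw [vproj_of_mem_not_dvd 𝒳 q m.2 hk, decompose_zero, DirectSum.zero_apply,
        ZeroMemClass.coe_zero]
      by_cases hik : k = i
      · subst hik
        rw [if_neg hk]
      · rw [decompose_of_mem_ne 𝒳 m.2 hik]
        simp
  | add m m' hm hm' =>
    rw [map_add, decompose_add, decompose_add, DirectSum.add_apply, DirectSum.add_apply,
      AddSubgroup.coe_add, AddSubgroup.coe_add, hm, hm']
    split_ifs <;> simp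

/-- the Veronese part of a graded module -/
def verSub : AddSubgroup X := AddMonoidHom.eqLocus (vproj 𝒳 q) (AddMonoidHom.id X)

theorem mem_verSub {x : X} : x ∈ verSub 𝒳 q ↔ vproj 𝒳 q x = x := Iff.rfl

theorem vproj_mem_verSub (x : X) : vproj 𝒳 q x ∈ verSub 𝒳 q := vproj_vproj 𝒳 q x

theorem mem_verSub_of_mem {j : ℤ} {x : X} (hx : x ∈ 𝒳 (j * q)) : x ∈ verSub 𝒳 q :=
  vproj_of_mem_mul 𝒳 q hx

theorem decompose_eq_zero_of_mem_verSub {x : X} (hx : x ∈ verSub 𝒳 q) {i : ℤ}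
    (hi : ¬ (q : ℤ) ∣ i) : (decompose 𝒳 x i : X) = 0 := by
  have h := decompose_vproj 𝒳 q x i
  rw [(mem_verSub 𝒳 q).mp hx, if_neg hi] at h
  exact h

theorem eq_zero_of_mem_verSub_of_mem {x : X} (hx : x ∈ verSub 𝒳 q) {i : ℤ} (hxi : x ∈ 𝒳 i)
    (hi : ¬ (q : ℤ) ∣ i) : x = 0 := by
  rw [← (mem_verSub 𝒳 q).mp hx, vproj_of_mem_not_dvd 𝒳 q hxi hi]

theorem decompose_mem_verSub (x : X) (j : ℤ) : (decompose 𝒳 x (j * q) : X) ∈ verSub 𝒳 q :=
  mem_verSub_of_mem 𝒳 q (SetLike.coe_mem _)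

/-- the Veronese projection preserves homogeneous submodules -/
theorem vproj_mem_of_isHomogeneous {R : Type u} [CommRing R] [Module R X] (N : Submodule R X)
    (hN : N.IsHomogeneous 𝒳) {x : X} (hx : x ∈ N) : vproj 𝒳 q x ∈ N := by
  classical
  rw [vproj_eq_sum]
  refine Submodule.sum_mem _ (fun i _ => ?_)
  split_ifs
  · exact hN i hx
  · exact Submodule.zero_mem _

end Proj

section Map
variable {X : Type u} [AddCommGroup X] (𝒳 : ℤ → AddSubgroup X) [DirectSum.Decomposition 𝒳]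
  {Y : Type u} [AddCommGroup Y] (𝒴 : ℤ → AddSubgroup Y) [DirectSum.Decomposition 𝒴] (q : ℕ)

/-- the Veronese projection commutes with homogeneous additive maps -/
theorem vproj_map (f : X →+ Y) (hf : ∀ i x, x ∈ 𝒳 i → f x ∈ 𝒴 i) (x : X) :
    vproj 𝒴 q (f x) = f (vproj 𝒳 q x) := by
  induction x using DirectSum.Decomposition.inductionOn 𝒳 with
  | zero => simp
  | @homogeneous k m =>
    rw [vproj_of_mem 𝒴 q (hf k m m.2), vproj_of_mem 𝒳 q m.2]
    split_ifs
    · rfl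
    · exact (map_zero f).symm
  | add m m' hm hm' => rw [map_add, map_add, map_add, map_add, hm, hm']

end Map

section SMul
variable {R : Type u} [CommRing R] (𝒜 : ℤ → AddSubgroup R) [GradedRing 𝒜]
  {X : Type u} [AddCommGroup X] [Module R X] (𝒳 : ℤ → AddSubgroup X) [DirectSum.Decomposition 𝒳]
  [SetLike.GradedSMul 𝒜 𝒳] (q : ℕ)

theorem vproj_smul_of_mem {j : ℤ} {a : R} (ha : a ∈ 𝒜 (j * q)) (x : X) :
    vproj 𝒳 q (a • x) = a • vproj 𝒳 q x := by
  induction x using DirectSum.Decomposition.inductionOn 𝒳 with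
  | zero => simp
  | @homogeneous k m =>
    have hrm : a • (m : X) ∈ 𝒳 (j * q + k) := SetLike.GradedSMul.smul_mem (A := 𝒜) (B := 𝒳) ha m.2
    rw [vproj_of_mem 𝒳 q hrm, vproj_of_mem 𝒳 q m.2]
    have hiff : (q : ℤ) ∣ j * q + k ↔ (q : ℤ) ∣ k := by
      constructor
      · intro h
        have := (Int.dvd_add_right (Dvd.intro_left j rfl : (q : ℤ) ∣ j * q)).mp h
        exact this
      · intro h
        exact dvd_add (Dvd.intro_left j rfl) h
    by_cases hk : (q : ℤ) ∣ k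
    · rw [if_pos hk, if_pos (hiff.mpr hk)]
    · rw [if_neg hk, if_neg (fun h => hk (hiff.mp h)), smul_zero]
  | add m m' hm hm' => rw [smul_add, map_add, map_add, hm, hm', smul_add]

end SMul

end Groth.Agent.Lib.Helper39.Ver
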