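import Groth.Agent.Lib.Helper39.GrVer9

/-!
# Veronese submodules, part 10: dimension count of pieces and unbundled wrappers (helper39)
-/

set_option autoImplicit false
universe u

namespace Groth.Agent.Lib.Helper39.Ver

open DirectSum GrLC Groth.Agent.Lib.Helper39

section Rank
variable {R R' : Type u} [CommRing R] [CommRing R'] {𝒜 : ℤ → AddSubgroup R} [GradedRing 𝒜]
  {𝒜' : ℤ → AddSubgroup R'} [GradedRing 𝒜'] (D : VerData 𝒜 𝒜')

/-- the degree zero parts of `R'` and `R` -/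
def VerData.i0 (r : deg0 𝒜') : deg0 𝒜 :=
  ⟨D.φ r, by have := D.map_mem 0 r r.2; rwa [zero_mul] at this⟩

@[simp] theorem VerData.coe_i0 (r : deg0 𝒜') : ((D.i0 r : deg0 𝒜) : R) = D.φ r := rfl

theorem VerData.i0_bijective : Function.Bijective D.i0 := by
  constructor
  · intro a b h
    exact Subtype.ext (D.inj (congrArg Subtype.val h))
  · intro a
    have ha : (a : R) ∈ 𝒜 (0 * D.q) := by rw [zero_mul]; exact a.2
    obtain ⟨r, hr, e⟩ := D.exists_mem 0 a ha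
    exact ⟨⟨r, hr⟩, Subtype.ext e⟩

variable {X' : Type u} [AddCommGroup X'] [Module R' X'] {X : Type u} [AddCommGroup X] [Module R X]

theorem finrank_eq_of_semilinear (θ : X' →ₛₗ[D.φ] X) (hθ : Function.Injective θ)
    (P' : Submodule (deg0 𝒜') X') (P : Submodule (deg0 𝒜) X)
    (hmap : ∀ x ∈ P', θ x ∈ P) (hsurj : ∀ y ∈ P, ∃ x ∈ P', θ x = y) :
    Module.finrank (deg0 𝒜') P' = Module.finrank (deg0 𝒜) P := by
  let f : P' →+ P :=
    { toFun := fun x => ⟨θ (x : X'), hmap x x.2⟩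
      map_zero' := Subtype.ext (map_zero θ)
      map_add' := fun x y => Subtype.ext (map_add θ (x : X') (y : X')) }
  have hf : Function.Bijective f := by
    constructor
    · intro x y h
      exact Subtype.ext (hθ (congrArg Subtype.val h))
    · intro y
      obtain ⟨x, hx, e⟩ := hsurj y y.2
      exact ⟨⟨x, hx⟩, Subtype.ext e⟩
  have key := rank_eq_of_equiv_equiv D.i0 (AddEquiv.ofBijective f hf) D.i0_bijective (by
    intro r x
    apply Subtype.ext
    show θ ((r : R') • (x : X')) = (D.φ r) • θ (x : X')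
    exact map_smulₛₗ θ _ _)
  unfold Module.finrank
  rw [key]

end Rank

section Wrap
variable {R R' : Type u} [CommRing R] [CommRing R'] [IsNoetherianRing R]
  {𝒜 : ℤ → AddSubgroup R} [GradedRing 𝒜]
  {𝒜' : ℤ → AddSubgroup R'} [GradedRing 𝒜'] (D : VerData 𝒜 𝒜')
  (m : HomogeneousIdeal 𝒜) (m' : HomogeneousIdeal 𝒜')
  (hmsp : m.toIdeal = Ideal.span (⋃ n ∈ Set.Ioi (0 : ℤ), (𝒜 n : Set R)))
  (hm'sp : m'.toIdeal = Ideal.span (⋃ j ∈ Set.Ioi (0 : ℤ), (𝒜' j : Set R')))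

include hmsp hm'sp in
/-- **Local cohomology of a Veronese submodule**, for the irrelevant ideals. -/
theorem exists_theta_irrelevant (p : ℕ) {M : Type u} [AddCommGroup M] [Module R M]
    {ℳ : ℤ → AddSubgroup M} [DirectSum.Decomposition ℳ] [SetLike.GradedSMul 𝒜 ℳ]
    (E : StarInjRes 𝒜 ℳ) {M' : Type u} [AddCommGroup M'] [Module R' M'] {ℳ' : ℤ → AddSubgroup M'}
    [DirectSum.Decomposition ℳ'] [SetLike.GradedSMul 𝒜' ℳ'] (g : M' →ₛₗ[D.φ] M)
    (hgv : IsVer D ℳ' ℳ g) (F : StarInjRes 𝒜' ℳ') :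
    ∃ θ : F.H m' p →ₛₗ[D.φ] E.H m p, IsVer D (F.Hgr m' p) (E.Hgr m p) θ := by
  haveI : IsNoetherianRing R' := D.isNoetherianRing
  exact exists_theta D m m' (D.map_irrelevant_le m.toIdeal m'.toIdeal hmsp hm'sp)
    (D.exists_pow_le m.toIdeal m'.toIdeal hmsp hm'sp) p E g hgv F

include hmsp hm'sp in
theorem finrank_Hcomp_eq (p : ℕ) {M : Type u} [AddCommGroup M] [Module R M]
    {ℳ : ℤ → AddSubgroup M} [DirectSum.Decomposition ℳ] [SetLike.GradedSMul 𝒜 ℳ]
    (E : StarInjRes 𝒜 ℳ) {M' : Type u} [AddCommGroup M'] [Module R' M'] {ℳ' : ℤ → AddSubgroup M'}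
    [DirectSum.Decomposition ℳ'] [SetLike.GradedSMul 𝒜' ℳ'] (g : M' →ₛₗ[D.φ] M)
    (hgv : IsVer D ℳ' ℳ g) (F : StarInjRes 𝒜' ℳ') (j : ℤ) :
    Module.finrank (deg0 𝒜') (F.Hcomp m' p j) = Module.finrank (deg0 𝒜) (E.Hcomp m p (j * D.q)) := by
  obtain ⟨θ, hθ⟩ := exists_theta_irrelevant D m m' hmsp hm'sp p E g hgv F
  exact finrank_eq_of_semilinear D θ hθ.inj _ _ (fun x hx => hθ.map_mem j x hx)
    (fun y hy => hθ.surj j y hy)

end Wrap

end Groth.Agent.Lib.Helper39.Ver
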