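import Groth.Agent.Lib.Helper39.GrPieceDual
import Groth.Agent.Lib.Helper39.GrPieces

/-!
# Dimensions of the pieces of the *injective hull of the residue field (helper39)

`R` positively `ℤ`-graded Noetherian with `R_0` a field, `m = R_+`.
* `finrank_le_of_isStarEss`: a *essential extension `Y` of `R/m` has `dim Y_j ≤ dim R_{-j}`.
* `finrank_eq_of_isStarInjHull`: for the *injective hull, `dim E_j = dim R_{-j}`.
-/

set_option autoImplicit false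
universe u

namespace Groth.Agent.Lib.Helper39.GrHullDim

open DirectSum GrLC Groth.Agent.Lib.Helper39 Groth.Agent.Lib.Helper39.GrStarLocal
  Groth.Agent.Lib.Helper39.GrPieceDual

variable {R : Type u} [CommRing R] [IsNoetherianRing R] (𝒜 : ℤ → AddSubgroup R) [GradedRing 𝒜]
  (hpos : ∀ n : ℤ, n < 0 → 𝒜 n = ⊥) (h0 : IsField (GrLC.deg0 𝒜))
  (m : HomogeneousIdeal 𝒜)
  (hmsp : m.toIdeal = Ideal.span (⋃ n ∈ Set.Ioi (0 : ℤ), (𝒜 n : Set R)))
  {Y : Type u} [AddCommGroup Y] [Module R Y] (𝒴 : ℤ → AddSubgroup Y)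
  [DirectSum.Decomposition 𝒴] [SetLike.GradedSMul 𝒜 𝒴]
  (e : (R ⧸ m.toIdeal) →ₗ[R] Y) (he : GrLC.IsStarEss (GrLC.quotGr 𝒜 m) 𝒴 e)

/-- the multiplication pairing `Y_j × R_{-j} → Y_0` -/
def pairing (j : ℤ) : GrLC.comp 𝒜 𝒴 j →ₗ[GrLC.deg0 𝒜]
    (GrLC.comp 𝒜 𝒜 (-j) →ₗ[GrLC.deg0 𝒜] GrLC.comp 𝒜 𝒴 0) :=
  LinearMap.mk₂ (GrLC.deg0 𝒜)
    (fun x r => ⟨(r : R) • (x : Y), by
      have h := SetLike.GradedSMul.smul_mem (A := 𝒜) (B := 𝒴) r.2 x.2
      rwa [vadd_eq_add, neg_add_cancel] at h⟩)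
    (fun x x' r => Subtype.ext (smul_add (r : R) (x : Y) (x' : Y)))
    (fun c x r => Subtype.ext (by
      show (r : R) • ((c : R) • (x : Y)) = (c : R) • ((r : R) • (x : Y))
      rw [smul_comm]))
    (fun x r r' => Subtype.ext (add_smul (r : R) (r' : R) (x : Y)))
    (fun c x r => Subtype.ext (by
      show ((c : R) * (r : R)) • (x : Y) = (c : R) • ((r : R) • (x : Y))
      rw [mul_smul]))

@[simp] theorem pairing_apply (j : ℤ) (x : GrLC.comp 𝒜 𝒴 j) (r : GrLC.comp 𝒜 𝒜 (-j)) :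
    ((pairing 𝒜 𝒴 j x r : GrLC.comp 𝒜 𝒴 0) : Y) = (r : R) • (x : Y) := rfl

include hpos hmsp he in
theorem pairing_injective (j : ℤ) : Function.Injective (pairing 𝒜 𝒴 j) := by
  rw [injective_iff_map_eq_zero]
  intro x hx
  by_contra hx0
  have hx0' : (x : Y) ≠ 0 := fun h => hx0 (Subtype.ext h)
  obtain ⟨r, hr, hrx, -⟩ := exists_smul_mem_range 𝒜 hpos m hmsp 𝒴 e he x.2 hx0'
  apply hrx
  have := congrArg (fun f => ((f ⟨r, hr⟩ : GrLC.comp 𝒜 𝒴 0) : Y)) hx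
  exact this

include hpos hmsp he h0 in
/-- `Y_0` is one-dimensional -/
theorem finrank_zero : Module.finrank (GrLC.deg0 𝒜) (GrLC.comp 𝒜 𝒴 0) = 1 := by
  letI : Field (GrLC.deg0 𝒜) := h0.toField
  have he1 : e 1 ∈ 𝒴 0 := e_mem_zero 𝒜 hpos m hmsp 𝒴 e he 1
  let v : GrLC.comp 𝒜 𝒴 0 := ⟨e 1, he1⟩
  have hv : v ≠ 0 := by
    intro h
    have h1 : e 1 = 0 := congrArg Subtype.val h
    have h2 : (1 : R ⧸ m.toIdeal) = 0 := he.injective (by rw [h1, map_zero])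
    have h3 : (1 : R) ∈ m.toIdeal := Ideal.Quotient.eq_zero_iff_mem.mp h2
    rw [hmsp] at h3
    have h4 := decompose_eq_zero_of_mem_irr 𝒜 hpos h3 0 (by omega)
    rw [decompose_of_mem_same 𝒜 (SetLike.GradedOne.one_mem (A := 𝒜))] at h4
    exact (one_ne_zero : (1 : GrLC.deg0 𝒜) ≠ 0) (Subtype.ext h4)
  rw [finrank_eq_one_iff_of_nonzero' v hv]
  intro w
  by_cases hw : (w : Y) = 0
  · exact ⟨0, by rw [zero_smul]; exact (Subtype.ext hw).symm⟩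
  obtain ⟨r, hr, hrw, y, hy⟩ := exists_smul_mem_range 𝒜 hpos m hmsp 𝒴 e he w.2 hw
  rw [neg_zero] at hr
  obtain ⟨s, rfl⟩ := Ideal.Quotient.mk_surjective y
  -- `r • w = e (mk s) = s₀ • e 1`
  have h1 : e (Ideal.Quotient.mk m.toIdeal s) = (decompose 𝒜 s 0 : R) • e 1 := by
    have : Ideal.Quotient.mk m.toIdeal s = s • (1 : R ⧸ m.toIdeal) := by
      rw [Algebra.smul_def, mul_one]; rfl
    rw [this, map_smul]
    exact smul_eq_decompose_zero_smul 𝒜 hpos m hmsp 𝒴 e he he1 s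
  let r' : GrLC.deg0 𝒜 := ⟨r, hr⟩
  let s' : GrLC.deg0 𝒜 := ⟨(decompose 𝒜 s 0 : R), SetLike.coe_mem _⟩
  have hr' : r' ≠ 0 := by
    intro h
    apply hrw
    have : r = 0 := congrArg Subtype.val h
    rw [this, zero_smul]
  refine ⟨r'⁻¹ * s', Subtype.ext ?_⟩
  show ((r'⁻¹ * s' : GrLC.deg0 𝒜) : R) • e 1 = (w : Y)
  have h2 : (r : R) • (w : Y) = ((s' : GrLC.deg0 𝒜) : R) • e 1 := by rw [← hy, h1]
  have h3 : ((r'⁻¹ * r' : GrLC.deg0 𝒜) : R) • (w : Y) = ((r'⁻¹ * s' : GrLC.deg0 𝒜) : R) • e 1 := by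
    rw [Subring.coe_mul, Subring.coe_mul, mul_smul, mul_smul]
    show ((r'⁻¹ : GrLC.deg0 𝒜) : R) • (r • (w : Y)) = _
    rw [h2]
  rw [inv_mul_cancel₀ hr', Subring.coe_one, one_smul] at h3
  exact h3.symm

include hpos hmsp he h0 in
/-- the pieces of a *essential extension of `R/m` are finite dimensional, of dimension at most
that of the opposite piece of `R` -/
theorem finite_and_finrank_le (j : ℤ) : Module.Finite (GrLC.deg0 𝒜) (GrLC.comp 𝒜 𝒴 j) ∧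
    Module.finrank (GrLC.deg0 𝒜) (GrLC.comp 𝒜 𝒴 j) ≤
      Module.finrank (GrLC.deg0 𝒜) (GrLC.comp 𝒜 𝒜 (-j)) := by
  letI : Field (GrLC.deg0 𝒜) := h0.toField
  haveI : Module.Finite (GrLC.deg0 𝒜) (GrLC.comp 𝒜 𝒜 (-j)) := GrPieces.finite_comp 𝒜 𝒜 hpos (-j)
  have h1 := finrank_zero 𝒜 hpos h0 m hmsp 𝒴 e he
  haveI : Module.Finite (GrLC.deg0 𝒜) (GrLC.comp 𝒜 𝒴 0) := Module.finite_of_finrank_eq_succ h1
  have hinj := pairing_injective 𝒜 hpos m hmsp 𝒴 e he j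
  haveI : Module.Finite (GrLC.deg0 𝒜) (GrLC.comp 𝒜 𝒴 j) := Module.Finite.of_injective _ hinj
  refine ⟨inferInstance, ?_⟩
  have h2 := LinearMap.finrank_le_finrank_of_injective hinj
  rw [Module.finrank_linearMap, h1, mul_one] at h2
  exact h2

variable (hI : IsStarInj 𝒜 𝒴)

include hpos hmsp he h0 hI in
/-- the dimension of the pieces of the *injective hull of `R/m` -/
theorem finrank_eq (j : ℤ) : Module.finrank (GrLC.deg0 𝒜) (GrLC.comp 𝒜 𝒴 j) =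
    Module.finrank (GrLC.deg0 𝒜) (GrLC.comp 𝒜 𝒜 (-j)) := by
  letI : Field (GrLC.deg0 𝒜) := h0.toField
  obtain ⟨hfin, hle⟩ := finite_and_finrank_le 𝒜 hpos h0 m hmsp 𝒴 e he j
  refine le_antisymm hle ?_
  haveI : Module.Finite (GrLC.deg0 𝒜) (GrLC.comp 𝒜 𝒜 (-j)) := GrPieces.finite_comp 𝒜 𝒜 hpos (-j)
  have h1 := finrank_zero 𝒜 hpos h0 m hmsp 𝒴 e he
  haveI : Module.Finite (GrLC.deg0 𝒜) (GrLC.comp 𝒜 𝒴 0) := Module.finite_of_finrank_eq_succ h1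
  have hinj : Function.Injective (pairing 𝒜 𝒴 j).flip := by
    rw [injective_iff_map_eq_zero]
    intro r hr
    by_contra hr0
    have hr0' : (r : R) ≠ 0 := fun h => hr0 (Subtype.ext h)
    obtain ⟨ψ, hψ, hψr⟩ := exists_homDeg_of_ne_zero 𝒜 hpos m hmsp 𝒴 e he 𝒜 h0 hI j r.2 hr0'
    apply hψr
    have h1' : ψ 1 ∈ 𝒴 j := by
      have := hψ 0 1 (SetLike.GradedOne.one_mem (A := 𝒜))
      rwa [zero_add] at this
    have := congrArg (fun f => ((f ⟨ψ 1, h1'⟩ : GrLC.comp 𝒜 𝒴 0) : Y)) hr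
    simp only [LinearMap.flip_apply, pairing_apply, LinearMap.zero_apply,
      ZeroMemClass.coe_zero] at this
    rw [← map_smul, smul_eq_mul, mul_one] at this
    exact this
  have h2 := LinearMap.finrank_le_finrank_of_injective hinj
  rw [Module.finrank_linearMap, h1, mul_one] at h2
  exact h2

end Groth.Agent.Lib.Helper39.GrHullDim
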