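import Groth.Agent.Lib.Helper39.GrVer10
import Groth.Agent.Lib.Helper39.GrVer11
import Groth.Agent.S13212

/-!
# Veronese submodules, part 12: the Veronese submodule of the *injective hull of the residue
field is *injective (helper39)
-/

set_option autoImplicit false
universe u

namespace Groth.Agent.Lib.Helper39.Ver

open DirectSum GrLC Groth.Agent.Lib.Helper39 Groth.Agent.Lib.Helper39.GrStarLocal
  Groth.Agent.Lib.Helper39.GrPieceDual

section Essential
variable {ι : Type} [DecidableEq ι] {R : Type u} [CommRing R]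
  {A : Type u} [AddCommGroup A] [Module R A] {𝓐 : ι → AddSubgroup A}
  {B : Type u} [AddCommGroup B] [Module R B] {ℬ : ι → AddSubgroup B} [DirectSum.Decomposition ℬ]
  {C : Type u} [AddCommGroup C] [Module R C] {𝒞 : ι → AddSubgroup C} [DirectSum.Decomposition 𝒞]

/-- a nonzero homogeneous submodule contains a nonzero homogeneous element -/
theorem exists_homogeneous_ne_zero (P : Submodule R B) (hP : P.IsHomogeneous ℬ) (hne : P ≠ ⊥) :
    ∃ (j : ι) (x : B), x ∈ P ∧ x ∈ ℬ j ∧ x ≠ 0 := by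
  classical
  obtain ⟨x, hx, hx0⟩ := Submodule.exists_mem_ne_zero_of_ne_bot hne
  by_contra h
  push Not at h
  apply hx0
  rw [← DirectSum.sum_support_decompose ℬ x]
  exact Finset.sum_eq_zero (fun j _ => h j _ (hP j hx) (SetLike.coe_mem _))

/-- *essential extensions compose -/
theorem IsStarEss.comp' {f : A →ₗ[R] B} {g : B →ₗ[R] C} (hf : IsStarEss 𝓐 ℬ f)
    (hg : IsStarEss ℬ 𝒞 g) : IsStarEss 𝓐 𝒞 (g ∘ₗ f) where
  injective := hg.injective.comp hf.injective
  grHom := fun j x hx => hg.grHom j _ (hf.grHom j x hx)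
  essential := by
    intro P hP hne
    have h1 := hg.essential P hP hne
    -- pull back
    have hQ : (P.comap g).IsHomogeneous ℬ := by
      intro j x hx
      rw [Submodule.mem_comap] at hx ⊢
      rw [← IsGrHom.decompose_apply ℬ 𝒞 hg.grHom]
      exact hP j hx
    have hQne : P.comap g ≠ ⊥ := by
      obtain ⟨z, hz, hz0⟩ := Submodule.exists_mem_ne_zero_of_ne_bot h1
      obtain ⟨hz1, y, rfl⟩ := Submodule.mem_inf.mp hz
      intro h
      have : y ∈ (⊥ : Submodule R B) := h ▸ (Submodule.mem_comap.mpr hz1)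
      rw [Submodule.mem_bot] at this
      exact hz0 (by rw [this, map_zero])
    have h2 := hf.essential _ hQ hQne
    obtain ⟨z, hz, hz0⟩ := Submodule.exists_mem_ne_zero_of_ne_bot h2
    obtain ⟨hz1, x, rfl⟩ := Submodule.mem_inf.mp hz
    intro h
    have : g (f x) ∈ P ⊓ LinearMap.range (g ∘ₗ f) :=
      ⟨Submodule.mem_comap.mp hz1, ⟨x, rfl⟩⟩
    rw [h, Submodule.mem_bot] at this
    exact hz0 (hg.injective (by rw [this, map_zero]))

end Essential

section Field
variable {R R' : Type u} [CommRing R] [CommRing R'] {𝒜 : ℤ → AddSubgroup R} [GradedRing 𝒜]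
  {𝒜' : ℤ → AddSubgroup R'} [GradedRing 𝒜'] (D : VerData 𝒜 𝒜')

include D in
theorem VerData.hpos' (hpos : ∀ n : ℤ, n < 0 → 𝒜 n = ⊥) : ∀ j : ℤ, j < 0 → 𝒜' j = ⊥ := by
  intro j hj
  rw [eq_bot_iff]
  intro r hr
  have h1 := D.map_mem j r hr
  rw [hpos (j * D.q) (mul_neg_of_neg_of_pos hj D.qpos), AddSubgroup.mem_bot] at h1
  rw [AddSubgroup.mem_bot]
  exact D.inj (h1.trans (map_zero D.φ).symm)

/-- the degree zero parts, as rings -/
def VerData.i0Hom : GrLC.deg0 𝒜' →+* GrLC.deg0 𝒜 :=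
  D.φ.restrict (GrLC.deg0 𝒜') (GrLC.deg0 𝒜) (fun r hr => by
    have := D.map_mem 0 r hr
    rwa [zero_mul] at this)

theorem VerData.i0Hom_bijective : Function.Bijective D.i0Hom := D.i0_bijective

include D in
theorem VerData.h0' (h0 : IsField (GrLC.deg0 𝒜)) : IsField (GrLC.deg0 𝒜') :=
  MulEquiv.isField h0 (RingEquiv.ofBijective D.i0Hom D.i0Hom_bijective).toMulEquiv

end Field

section Hull
variable {R R' : Type u} [CommRing R] [CommRing R'] [IsNoetherianRing R]
  {𝒜 : ℤ → AddSubgroup R} [GradedRing 𝒜]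
  {𝒜' : ℤ → AddSubgroup R'} [GradedRing 𝒜'] (D : VerData 𝒜 𝒜')
  (hpos : ∀ n : ℤ, n < 0 → 𝒜 n = ⊥) (h0 : IsField (GrLC.deg0 𝒜))
  (m : HomogeneousIdeal 𝒜) (m' : HomogeneousIdeal 𝒜')
  (hmsp : m.toIdeal = Ideal.span (⋃ n ∈ Set.Ioi (0 : ℤ), (𝒜 n : Set R)))
  (hm'sp : m'.toIdeal = Ideal.span (⋃ j ∈ Set.Ioi (0 : ℤ), (𝒜' j : Set R')))
  (E : GMod.{u} 𝒜) (e : (R ⧸ m.toIdeal) →ₗ[R] E.carrier)
  (he : GrLC.IsStarEss (GrLC.quotGr 𝒜 m) E.gr e)

include hpos hmsp he in
theorem e_one_mem_verSub : e 1 ∈ verSub E.gr D.q := by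
  have h1 : e 1 ∈ E.gr 0 := e_mem_zero 𝒜 hpos m hmsp E.gr e he 1
  apply mem_verSub_of_mem E.gr D.q (j := 0)
  rwa [zero_mul]

/-- the socle generator of the Veronese submodule -/
def v0 : Ver D E := Ver.mk D E (e 1) (e_one_mem_verSub D hpos m hmsp E e he)

include hm'sp in
theorem smul_v0_eq_zero {r : R'} (hr : r ∈ m'.toIdeal) : r • v0 D hpos m hmsp E e he = 0 := by
  apply Ver.ext
  rw [Ver.val_smul]
  show D.φ r • e 1 = 0
  have h1 : D.φ r ∈ m.toIdeal :=
    D.map_irrelevant_le m.toIdeal m'.toIdeal hmsp hm'sp (Ideal.mem_map_of_mem D.φ hr)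
  rw [← map_smul, Algebra.smul_def, mul_one]
  have : (algebraMap R (R ⧸ m.toIdeal)) (D.φ r) = 0 := Ideal.Quotient.eq_zero_iff_mem.mpr h1
  rw [this, map_zero]

/-- the residue field of the Veronese subring inside the Veronese submodule of the hull -/
noncomputable def eVer : (R' ⧸ m'.toIdeal) →ₗ[R'] Ver D E :=
  Submodule.liftQ m'.toIdeal (LinearMap.toSpanSingleton R' (Ver D E) (v0 D hpos m hmsp E e he))
    (fun r hr => by
      rw [LinearMap.mem_ker, LinearMap.toSpanSingleton_apply]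
      exact smul_v0_eq_zero D hpos m m' hmsp hm'sp E e he hr)

theorem eVer_mk (r : R') : eVer D hpos m m' hmsp hm'sp E e he (Ideal.Quotient.mk m'.toIdeal r) =
    r • v0 D hpos m hmsp E e he := rfl

include h0 in
theorem isStarEss_eVer :
    IsStarEss (GrLC.quotGr 𝒜' m') (verGr D E) (eVer D hpos m m' hmsp hm'sp E e he) where
  injective := by
    rw [injective_iff_map_eq_zero]
    intro y hy
    obtain ⟨r, rfl⟩ := Ideal.Quotient.mk_surjective y
    rw [eVer_mk] at hy
    have h1 : D.φ r • e 1 = 0 := congrArg (Ver.val D E) hy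
    rw [← map_smul, Algebra.smul_def, mul_one] at h1
    have h2 : (algebraMap R (R ⧸ m.toIdeal)) (D.φ r) = 0 := he.injective (by rw [h1, map_zero])
    have h3 : D.φ r ∈ m.toIdeal := Ideal.Quotient.eq_zero_iff_mem.mp h2
    rw [hmsp] at h3
    have h4 := decompose_eq_zero_of_mem_irr 𝒜 hpos h3 0 (by omega)
    -- the degree zero component of `r` vanishes
    have hr0 : (decompose 𝒜' r 0 : R') = 0 := by
      apply D.inj
      rw [map_zero, ← h4]
      have h5 : D.φ (decompose 𝒜' r 0 : R') ∈ 𝒜 0 := by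
        have := D.map_mem 0 _ (SetLike.coe_mem (decompose 𝒜' r 0))
        rwa [zero_mul] at this
      have h6 : D.φ (r - (decompose 𝒜' r 0 : R')) ∈ (irr 𝒜).toIdeal := by
        rw [irr_toIdeal, ← hmsp]
        apply D.map_irrelevant_le m.toIdeal (irr 𝒜').toIdeal hmsp (irr_toIdeal 𝒜')
        exact Ideal.mem_map_of_mem D.φ (sub_decompose_zero_mem_irr 𝒜' (D.hpos' hpos) r)
      have h7 := decompose_eq_zero_of_mem_irr 𝒜 hpos h6 0 (by omega)
      rw [map_sub, decompose_sub, DirectSum.sub_apply, AddSubgroup.coe_sub,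
        decompose_of_mem_same 𝒜 h5, sub_eq_zero] at h7
      exact h7.symm
    rw [Ideal.Quotient.eq_zero_iff_mem, hm'sp, ← irr_toIdeal 𝒜']
    have := sub_decompose_zero_mem_irr 𝒜' (D.hpos' hpos) r
    rwa [hr0, sub_zero] at this
  grHom := by
    rintro j _ ⟨r, hr, rfl⟩
    show eVer D hpos m m' hmsp hm'sp E e he (Ideal.Quotient.mk m'.toIdeal r) ∈ verGr D E j
    rw [eVer_mk, mem_verGr, Ver.val_smul]
    have h1 : e 1 ∈ E.gr 0 := e_mem_zero 𝒜 hpos m hmsp E.gr e he 1
    have h2 := SetLike.GradedSMul.smul_mem (A := 𝒜) (B := E.gr) (D.map_mem j r hr) h1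
    rwa [vadd_eq_add, add_zero] at h2
  essential := by
    intro P hP hne
    obtain ⟨j, x, hxP, hxj, hx0⟩ := exists_homogeneous_ne_zero P hP hne
    have hxv : Ver.val D E x ≠ 0 := fun h => hx0 (Ver.ext D E h)
    obtain ⟨r, hr, hrx, y, hy⟩ := exists_smul_mem_range 𝒜 hpos m hmsp E.gr e he hxj hxv
    have hr' : r ∈ 𝒜 (-j * D.q) := by rwa [neg_mul]
    obtain ⟨r', hr'd, rfl⟩ := D.exists_mem (-j) r hr'
    obtain ⟨s, rfl⟩ := Ideal.Quotient.mk_surjective y
    have he1 : e 1 ∈ E.gr 0 := e_mem_zero 𝒜 hpos m hmsp E.gr e he 1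
    have h1 : e (Ideal.Quotient.mk m.toIdeal s) = (decompose 𝒜 s 0 : R) • e 1 := by
      have : Ideal.Quotient.mk m.toIdeal s = s • (1 : R ⧸ m.toIdeal) := by
        rw [Algebra.smul_def, mul_one]; rfl
      rw [this, map_smul]
      exact smul_eq_decompose_zero_smul 𝒜 hpos m hmsp E.gr e he he1 s
    have hs0 : (decompose 𝒜 s 0 : R) ∈ 𝒜 (0 * D.q) := by
      rw [zero_mul]; exact SetLike.coe_mem _
    obtain ⟨s', _, hs'⟩ := D.exists_mem 0 _ hs0
    have hkey : r' • x = eVer D hpos m m' hmsp hm'sp E e he (Ideal.Quotient.mk m'.toIdeal s') := by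
      rw [eVer_mk]
      apply Ver.ext
      rw [Ver.val_smul, Ver.val_smul]
      show D.φ r' • Ver.val D E x = D.φ s' • e 1
      rw [hs', ← h1, hy]
      rfl
    intro h
    have hmem : r' • x ∈ P ⊓ LinearMap.range (eVer D hpos m m' hmsp hm'sp E e he) :=
      ⟨P.smul_mem r' hxP, ⟨_, hkey.symm⟩⟩
    rw [h, Submodule.mem_bot] at hmem
    apply hrx
    exact congrArg (Ver.val D E) hmem

end Hull

end Groth.Agent.Lib.Helper39.Ver
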