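import Groth.Agent.Lib.Helper39.GrVer12

/-!
# Veronese submodules, part 13: `(*E_R(R/m))^(q)` is the *injective hull of the residue field of
the Veronese subring (helper39)
-/

set_option autoImplicit false
universe u

namespace Groth.Agent.Lib.Helper39.Ver

open DirectSum GrLC Groth.Agent.Lib.Helper39 Groth.Agent.Lib.Helper39.GrStarLocal
  Groth.Agent.Lib.Helper39.GrPieceDual

section Hull
variable {R R' : Type u} [CommRing R] [CommRing R'] [IsNoetherianRing R]
  {𝒜 : ℤ → AddSubgroup R} [GradedRing 𝒜]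
  {𝒜' : ℤ → AddSubgroup R'} [GradedRing 𝒜'] (D : VerData 𝒜 𝒜')
  (hpos : ∀ n : ℤ, n < 0 → 𝒜 n = ⊥) (h0 : IsField (GrLC.deg0 𝒜))
  (m : HomogeneousIdeal 𝒜) (m' : HomogeneousIdeal 𝒜')
  (hmsp : m.toIdeal = Ideal.span (⋃ n ∈ Set.Ioi (0 : ℤ), (𝒜 n : Set R)))
  (hm'sp : m'.toIdeal = Ideal.span (⋃ j ∈ Set.Ioi (0 : ℤ), (𝒜' j : Set R')))
  (E : GMod.{u} 𝒜) (e : (R ⧸ m.toIdeal) →ₗ[R] E.carrier)
  (he : GrLC.IsStarInjHull 𝒜 (GrLC.quotGr 𝒜 m) E.gr e)

include hpos h0 hmsp he in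
/-- dimension of the pieces of the Veronese submodule of the hull -/
theorem finrank_verGr_hull (j : ℤ) :
    Module.finrank (GrLC.deg0 𝒜') (GrLC.comp 𝒜' (verGr D E) j) =
      Module.finrank (GrLC.deg0 𝒜') (GrLC.comp 𝒜' 𝒜' (-j)) := by
  have h1 : Module.finrank (GrLC.deg0 𝒜') (GrLC.comp 𝒜' (verGr D E) j) =
      Module.finrank (GrLC.deg0 𝒜) (GrLC.comp 𝒜 E.gr (j * D.q)) :=
    finrank_eq_of_semilinear D (verIncl D E) (verIncl_injective D E) _ _
      (fun x hx => hx) (fun y hy => ⟨Ver.mk D E y (mem_verSub_of_mem E.gr D.q hy), hy, rfl⟩)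
  have h2 := GrHullDim.finrank_eq 𝒜 hpos h0 m hmsp E.gr e he.toIsStarEss he.starInj (j * D.q)
  have h3 : Module.finrank (GrLC.deg0 𝒜') (GrLC.comp 𝒜' 𝒜' (-j)) =
      Module.finrank (GrLC.deg0 𝒜) (GrLC.comp 𝒜 𝒜 (-j * D.q)) :=
    finrank_eq_of_semilinear D D.φₛ D.inj _ _
      (fun x hx => D.map_mem (-j) x hx) (fun y hy => D.exists_mem (-j) y hy)
  rw [h1, h2, h3, neg_mul]

include hpos h0 hmsp hm'sp he in
/-- **The Veronese submodule of `*E_R(R/m)` is *injective over the Veronese subring.** -/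
theorem isStarInj_ver_hull : IsStarInj 𝒜' (verGr D E) := by
  haveI : IsNoetherianRing R' := D.isNoetherianRing
  rw [Groth.Agent.S13212.result R' 𝒜' (Ver D E) (verGr D E)]
  intro N f hf
  have hess := IsStarEss.comp' (isStarEss_eVer D hpos h0 m m' hmsp hm'sp E e he.toIsStarEss) hf
  letI : Field (GrLC.deg0 𝒜') := (D.h0' h0).toField
  -- piecewise surjectivity
  have hpiece : ∀ (j : ℤ) (y : N.carrier), y ∈ N.gr j → ∃ x, f x = y := by
    intro j y hy
    obtain ⟨hfin, hle⟩ := GrHullDim.finite_and_finrank_le 𝒜' (D.hpos' hpos) (D.h0' h0) m' hm'sp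
      N.gr _ hess j
    have hdim := finrank_verGr_hull D hpos h0 m hmsp E e he j
    haveI : Module.Finite (GrLC.deg0 𝒜') (GrLC.comp 𝒜' 𝒜' (-j)) :=
      GrPieces.finite_comp 𝒜' 𝒜' (D.hpos' hpos) (-j)
    let fj : GrLC.comp 𝒜' (verGr D E) j →ₗ[GrLC.deg0 𝒜'] GrLC.comp 𝒜' N.gr j :=
      { toFun := fun x => ⟨f (x : Ver D E), hf.grHom j _ x.2⟩
        map_add' := fun x x' => Subtype.ext (map_add f (x : Ver D E) (x' : Ver D E))
        map_smul' := fun c x => Subtype.ext (map_smul f (c : R') (x : Ver D E)) }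
    have hfj : Function.Injective fj := fun x x' h =>
      Subtype.ext (hf.injective (congrArg Subtype.val h))
    have hle2 := LinearMap.finrank_le_finrank_of_injective hfj
    have heq : Module.finrank (GrLC.deg0 𝒜') (GrLC.comp 𝒜' (verGr D E) j) =
        Module.finrank (GrLC.deg0 𝒜') (GrLC.comp 𝒜' N.gr j) := by omega
    haveI : Module.Finite (GrLC.deg0 𝒜') (GrLC.comp 𝒜' (verGr D E) j) :=
      Module.Finite.of_injective fj hfj
    have hsurj := (LinearMap.injective_iff_surjective_of_finrank_eq_finrank heq).mp hfj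
    obtain ⟨x, hx⟩ := hsurj ⟨y, hy⟩
    exact ⟨x, congrArg Subtype.val hx⟩
  intro y
  induction y using DirectSum.Decomposition.inductionOn N.gr with
  | zero => exact ⟨0, map_zero f⟩
  | @homogeneous j y => exact hpiece j y y.2
  | add y y' hy hy' =>
    obtain ⟨x, rfl⟩ := hy
    obtain ⟨x', rfl⟩ := hy'
    exact ⟨x + x', map_add f x x'⟩

include hpos h0 hmsp hm'sp he in
theorem isStarInjHull_eVer : IsStarInjHull 𝒜' (GrLC.quotGr 𝒜' m') (verGr D E)
    (eVer D hpos m m' hmsp hm'sp E e he.toIsStarEss) :=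
  { isStarEss_eVer D hpos h0 m m' hmsp hm'sp E e he.toIsStarEss with
    starInj := isStarInj_ver_hull D hpos h0 m m' hmsp hm'sp E e he }

end Hull

end Groth.Agent.Lib.Helper39.Ver
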