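import Groth.Agent.Lib.Helper39.GrVer16
import Groth.Agent.S18654

/-!
# Veronese subrings of Gorenstein standard graded rings: the converse (helper39)

`dvd_of_isGorensteinRing_ver`: if `R` is a Gorenstein standard graded ring over a field with
`dim R ≥ 1`, `dim R_1 ≥ 2`, and `R^(q)` is Gorenstein, then `q ∣ a(R)`.
-/

set_option autoImplicit false
universe u

namespace Groth.Agent.Lib.Helper39.Ver

open DirectSum GrLC Groth.Agent.Lib.Helper39 Groth.Agent.Lib.Helper39.GrStarLocal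
  Groth.Agent.Lib.Helper39.GrPieceDual Groth.Agent.Lib.Helper39.GrLes

section Lin
variable {R : Type u} [CommRing R] (𝒜 : ℤ → AddSubgroup R) [GradedRing 𝒜]
  {M N : Type u} [AddCommGroup M] [Module R M] [AddCommGroup N] [Module R N]

/-- an injective linear map carrying an `R_0`-submodule onto another preserves the dimension -/
theorem finrank_eq_of_linear (f : M →ₗ[R] N) (hf : Function.Injective f)
    (P : Submodule (deg0 𝒜) M) (Q : Submodule (deg0 𝒜) N)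
    (hmap : ∀ x ∈ P, f x ∈ Q) (hsurj : ∀ y ∈ Q, ∃ x ∈ P, f x = y) :
    Module.finrank (deg0 𝒜) P = Module.finrank (deg0 𝒜) Q := by
  let F : P →ₗ[deg0 𝒜] Q :=
    { toFun := fun x => ⟨f (x : M), hmap x x.2⟩
      map_add' := fun x y => Subtype.ext (map_add f (x : M) (y : M))
      map_smul' := fun r x => Subtype.ext (by
        show f ((r : R) • (x : M)) = (r : R) • f (x : M)
        exact map_smul f _ _) }
  have hF : Function.Bijective F := by
    constructor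
    · intro x y h
      exact Subtype.ext (hf (congrArg Subtype.val h))
    · intro y
      obtain ⟨x, hx, e⟩ := hsurj y y.2
      exact ⟨⟨x, hx⟩, Subtype.ext e⟩
  exact (LinearEquiv.ofBijective F hF).finrank_eq

end Lin

section Hilb
variable {R : Type u} [CommRing R] [LocCoh.IsCohenMacaulayRing R] (𝒜 : ℤ → AddSubgroup R)
  [GradedRing 𝒜]
  (hpos : ∀ n : ℤ, n < 0 → 𝒜 n = ⊥) (h0 : IsField (GrLC.deg0 𝒜))
  (hstd : Ideal.span (⋃ n ∈ Set.Ioi (0 : ℤ), (𝒜 n : Set R)) =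
    Ideal.span ((𝒜 1 : AddSubgroup R) : Set R))
  (h1 : 1 ≤ ringKrullDim R)

omit [LocCoh.IsCohenMacaulayRing R] in
include hpos h0 in
theorem hilb_neg {i : ℤ} (hi : i < 0) : Module.finrank (deg0 𝒜) (GrLC.comp 𝒜 𝒜 i) = 0 := by
  letI : Field (GrLC.deg0 𝒜) := h0.toField
  have hbot : GrLC.comp 𝒜 𝒜 i = ⊥ := by
    rw [eq_bot_iff]
    intro x hx
    have hx' : x ∈ 𝒜 i := hx
    rw [hpos i hi, AddSubgroup.mem_bot] at hx'
    rw [hx']
    exact zero_mem _
  rw [hbot]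
  exact finrank_bot _ _

include hpos h0 hstd h1 in
theorem hilb_mono {i j : ℤ} (hij : i ≤ j) :
    Module.finrank (deg0 𝒜) (GrLC.comp 𝒜 𝒜 i) ≤ Module.finrank (deg0 𝒜) (GrLC.comp 𝒜 𝒜 j) := by
  induction j, hij using Int.le_induction with
  | base => exact le_rfl
  | succ j _ ih => exact ih.trans (Groth.Agent.S18654.result R 𝒜 hpos h0 hstd h1 j)

end Hilb

section Main
variable {R R' : Type u} [CommRing R] [CommRing R'] [LocCoh.IsGorensteinRing R]
  [LocCoh.IsGorensteinRing R']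
  {𝒜 : ℤ → AddSubgroup R} [GradedRing 𝒜]
  {𝒜' : ℤ → AddSubgroup R'} [GradedRing 𝒜'] (D : VerData 𝒜 𝒜')
  (hpos : ∀ n : ℤ, n < 0 → 𝒜 n = ⊥) (h0 : IsField (GrLC.deg0 𝒜))
  (m : HomogeneousIdeal 𝒜) (hm : GrLC.IsStarLocal 𝒜 m)
  (hmsp : m.toIdeal = Ideal.span (⋃ n ∈ Set.Ioi (0 : ℤ), (𝒜 n : Set R)))
  (hstd : Ideal.span (⋃ n ∈ Set.Ioi (0 : ℤ), (𝒜 n : Set R)) =
    Ideal.span ((𝒜 1 : AddSubgroup R) : Set R))
  (hR1 : 2 ≤ Module.finrank (GrLC.deg0 𝒜) (GrLC.comp 𝒜 𝒜 1))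
  (n : ℕ) (hn : ringKrullDim R = n) (h1 : 1 ≤ n) (I : GrLC.StarInjRes 𝒜 𝒜) (a : ℤ)
  (ha : GrLC.endDeg (I.Hgr m n) = ((a : WithTop ℤ) : WithBot (WithTop ℤ)))

include hpos h0 hm hmsp hstd hR1 hn h1 ha in
/-- **Veronese subrings of Gorenstein standard graded rings**: if `R^(q)` is Gorenstein then
`q ∣ a(R)`. -/
theorem dvd_of_isGorensteinRing_ver : (D.q : ℤ) ∣ a := by
  haveI : IsNoetherianRing R := inferInstance
  haveI : LocCoh.IsCohenMacaulayRing R :=
    { isCohenMacaulayLocalRing_localization := fun p _ => by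
        haveI := LocCoh.IsGorensteinRing.isGorensteinLocalRing_localization (A := R) p
        exact Groth.Agent.H34.GorLinkGlobal.isCohenMacaulayLocalRing_of_isGorensteinLocalRing _ }
  haveI : IsNoetherianRing R' := inferInstance
  -- the hull over `R`
  let decQ := quotGrDecomposition 𝒜 m
  have smulQ := quotGrGradedSMul 𝒜 m
  obtain ⟨E, e, he⟩ := Groth.Agent.Lib.Helper87.StarMin.exists_hull 𝒜
    (GMod.of 𝒜 (R ⧸ m.toIdeal) (GrLC.quotGr 𝒜 m))
  have hht := height_eq 𝒜 hpos h0 m hm n hn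
  obtain ⟨g₀, φ₀, hφ₀⟩ := Groth.Agent.S13244.result R 𝒜 m hm n hht I E.carrier E.gr e he
  have hg₀ : g₀ = -a := deg_eq_neg_endDeg 𝒜 hpos h0 m hmsp E.gr e he.toIsStarEss (I.Hgr m n)
    (Hgr_isInternal I m n) a ha g₀ φ₀ hφ₀
  subst hg₀
  -- the Veronese side
  have hpos' := D.hpos' hpos
  have h0' := D.h0' h0
  let m' : HomogeneousIdeal 𝒜' := irr 𝒜'
  have hm' : GrLC.IsStarLocal 𝒜' m' := isStarLocal_irr 𝒜' hpos' h0'
  have hm'sp : m'.toIdeal = Ideal.span (⋃ j ∈ Set.Ioi (0 : ℤ), (𝒜' j : Set R')) := rfl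
  let I' : GrLC.StarInjRes 𝒜' 𝒜' := starInjRes (𝒜 := 𝒜') 𝒜'
  have hθ := fun p => exists_theta_irrelevant D m m' hmsp hm'sp p I D.φₛ D.isVer_self I'
  have hvan : ∀ j, j ≠ n → Subsingleton (I'.H m' j) := by
    intro j hj
    obtain ⟨θ, hθv⟩ := hθ j
    haveI := H_subsingleton_of_ne 𝒜 hpos h0 m hm n hn I j hj
    exact hθv.inj.subsingleton
  -- the hull over `R'`
  let decQ' := quotGrDecomposition 𝒜' m'
  have smulQ' := quotGrGradedSMul 𝒜' m'
  obtain ⟨E', e', he'⟩ := Groth.Agent.Lib.Helper87.StarMin.exists_hull 𝒜'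
    (GMod.of 𝒜' (R' ⧸ m'.toIdeal) (GrLC.quotGr 𝒜' m'))
  have hne' : m'.toIdeal ≠ ⊤ := irr_ne_top 𝒜' hpos' h0'
  obtain ⟨n', hn'⟩ : ∃ n' : ℕ, m'.toIdeal.height = n' :=
    ⟨m'.toIdeal.height.toNat, (ENat.coe_toNat (Ideal.height_ne_top hne')).symm⟩
  obtain ⟨g', φ', hφ'⟩ := Groth.Agent.S13244.result R' 𝒜' m' hm' n' hn' I' E'.carrier E'.gr e' he'
  have hE'0 := GrHullDim.finrank_zero 𝒜' hpos' h0' m' hm'sp E'.gr e' he'.toIsStarEss
  have hnn : n' = n := by
    by_contra hne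
    haveI := hvan n' hne
    haveI : Subsingleton E'.carrier := φ'.symm.injective.subsingleton
    haveI : Subsingleton (GrLC.comp 𝒜' E'.gr 0) := Subtype.val_injective.subsingleton
    letI : Field (GrLC.deg0 𝒜') := h0'.toField
    rw [Module.finrank_zero_of_subsingleton] at hE'0
    exact zero_ne_one hE'0
  subst hnn
  -- the Hilbert function
  set f : ℤ → ℕ := fun i => Module.finrank (deg0 𝒜) (GrLC.comp 𝒜 𝒜 i) with hf
  have hdim1 : (1 : WithBot ℕ∞) ≤ ringKrullDim R := by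
    rw [hn]
    exact_mod_cast h1
  have hfneg : ∀ i, i < 0 → f i = 0 := fun i hi => hilb_neg 𝒜 hpos h0 hi
  have hfmono : ∀ i j, i ≤ j → f i ≤ f j := fun i j hij => hilb_mono 𝒜 hpos h0 hstd hdim1 hij
  have hE0 := GrHullDim.finrank_zero 𝒜 hpos h0 m hmsp E.gr e he.toIsStarEss
  have hf0 : f 0 = 1 := by
    have := GrHullDim.finrank_eq 𝒜 hpos h0 m hmsp E.gr e he.toIsStarEss he.starInj 0
    rw [hE0, neg_zero] at this
    exact this.symm
  have hfpos : ∀ i, 0 ≤ i → 1 ≤ f i := fun i hi => hf0 ▸ hfmono 0 i hi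
  have hf2 : ∀ i, 1 ≤ i → 2 ≤ f i := fun i hi => hR1.trans (hfmono 1 i hi)
  -- the key dimension count
  have key : ∀ j : ℤ, f (a - j * D.q) = f ((-j - g') * D.q) := by
    intro j
    have hA := finrank_Hcomp_eq D m m' hmsp hm'sp n' I D.φₛ D.isVer_self I' j
    have hB : Module.finrank (deg0 𝒜) (I.Hcomp m n' (j * D.q)) =
        Module.finrank (deg0 𝒜) (GrLC.comp 𝒜 E.gr (j * D.q + -a)) :=
      finrank_eq_of_linear 𝒜 φ₀.toLinearMap φ₀.injective _ _
        (fun x hx => hφ₀ (j * D.q) x hx)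
        (fun y hy => by
          obtain ⟨x, hx, e1⟩ := GrRegVanish.exists_mem_of_isInternal_deg (Hgr_isInternal I m n')
            (DirectSum.Decomposition.isInternal E.gr) φ₀.toLinearMap hφ₀ hy (φ₀.symm y)
            (φ₀.apply_symm_apply _)
          exact ⟨x, hx, e1⟩)
    have hC := GrHullDim.finrank_eq 𝒜 hpos h0 m hmsp E.gr e he.toIsStarEss he.starInj
      (j * D.q + -a)
    have hA' : Module.finrank (deg0 𝒜') (I'.Hcomp m' n' j) =
        Module.finrank (deg0 𝒜') (GrLC.comp 𝒜' E'.gr (j + g')) :=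
      finrank_eq_of_linear 𝒜' φ'.toLinearMap φ'.injective _ _
        (fun x hx => hφ' j x hx)
        (fun y hy => by
          obtain ⟨x, hx, e1⟩ := GrRegVanish.exists_mem_of_isInternal_deg
            (Hgr_isInternal I' m' n')
            (DirectSum.Decomposition.isInternal E'.gr) φ'.toLinearMap hφ' hy (φ'.symm y)
            (φ'.apply_symm_apply _)
          exact ⟨x, hx, e1⟩)
    have hB' := GrHullDim.finrank_eq 𝒜' hpos' h0' m' hm'sp E'.gr e' he'.toIsStarEss he'.starInj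
      (j + g')
    have hC' : Module.finrank (GrLC.deg0 𝒜') (GrLC.comp 𝒜' 𝒜' (-(j + g'))) =
        Module.finrank (GrLC.deg0 𝒜) (GrLC.comp 𝒜 𝒜 (-(j + g') * D.q)) :=
      finrank_eq_of_semilinear D D.φₛ D.inj _ _
        (fun x hx => D.map_mem (-(j + g')) x hx) (fun y hy => D.exists_mem (-(j + g')) y hy)
    have e1 : a - j * (D.q : ℤ) = -(j * D.q + -a) := by ring
    have e2 : (-j - g') * (D.q : ℤ) = -(j + g') * D.q := by ring
    show Module.finrank (deg0 𝒜) (GrLC.comp 𝒜 𝒜 (a - j * D.q)) =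
      Module.finrank (deg0 𝒜) (GrLC.comp 𝒜 𝒜 ((-j - g') * D.q))
    rw [e1, e2, ← hC, ← hB, ← hA, hA', hB', hC']
  -- arithmetic
  have hq : (0 : ℤ) < D.q := by exact_mod_cast D.qpos
  set j₀ : ℤ := a / D.q with hj₀
  set ρ : ℤ := a % D.q with hρ
  have hdecomp : (D.q : ℤ) * j₀ + ρ = a := Int.mul_ediv_add_emod a D.q
  have hρ0 : 0 ≤ ρ := Int.emod_nonneg a hq.ne'
  have hρq : ρ < D.q := Int.emod_lt_of_pos a hq
  have k1 := key j₀
  have k2 := key (j₀ + 1)
  have e1 : a - j₀ * (D.q : ℤ) = ρ := by rw [← hdecomp]; ring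
  have e2 : a - (j₀ + 1) * (D.q : ℤ) = ρ - D.q := by rw [← hdecomp]; ring
  rw [e1] at k1
  rw [e2, hfneg (ρ - D.q) (by omega)] at k2
  have h3 : ¬ (0 ≤ (-(j₀ + 1) - g') * (D.q : ℤ)) := by
    intro h
    have := hfpos _ h
    omega
  have h4 : -(j₀ + 1) - g' < 0 := by
    by_contra h
    push Not at h
    exact h3 (mul_nonneg h hq.le)
  have h5 : ¬ ((-j₀ - g') * (D.q : ℤ) < 0) := by
    intro h
    have := hfneg _ h
    have := hfpos ρ hρ0
    omega
  have h6 : 0 ≤ -j₀ - g' := by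
    by_contra h
    push Not at h
    exact h5 (mul_neg_of_neg_of_pos h hq)
  have h7 : -j₀ - g' = 0 := by omega
  rw [h7, zero_mul, hf0] at k1
  have h8 : ρ = 0 := by
    by_contra hne
    have := hf2 ρ (by omega)
    omega
  exact Int.dvd_of_emod_eq_zero h8

end Main

end Groth.Agent.Lib.Helper39.Ver
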