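import Groth.Agent.Lib.Helper39.GrVer1

/-!
# Veronese submodules, part 2: the graded `R'`-module `Ver D X` (helper39)
-/

set_option autoImplicit false
universe u

namespace Groth.Agent.Lib.Helper39.Ver

open DirectSum GrLC Groth.Agent.Lib.Helper39

section Basic
variable {R R' : Type u} [CommRing R] [CommRing R'] {𝒜 : ℤ → AddSubgroup R} [GradedRing 𝒜]
  {𝒜' : ℤ → AddSubgroup R'} [GradedRing 𝒜'] (D : VerData 𝒜 𝒜')

theorem VerData.qpos : (0 : ℤ) < (D.q : ℤ) := by exact_mod_cast D.hq

theorem VerData.mul_q_injective : Function.Injective (fun j : ℤ => j * (D.q : ℤ)) := by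
  intro a b h
  exact mul_right_cancel₀ (ne_of_gt D.qpos) h

theorem VerData.mem_of_map_mem {j : ℤ} {r : R'} (h : D.φ r ∈ 𝒜 (j * D.q)) : r ∈ 𝒜' j := by
  obtain ⟨s, hs, e⟩ := D.exists_mem j _ h
  rw [← D.inj e]
  exact hs

variable {X : Type u} [AddCommGroup X] [Module R X] (𝒳 : ℤ → AddSubgroup X)
  [DirectSum.Decomposition 𝒳] [SetLike.GradedSMul 𝒜 𝒳]

theorem VerData.vproj_smul (r : R') (x : X) :
    vproj 𝒳 D.q (D.φ r • x) = D.φ r • vproj 𝒳 D.q x := by
  induction r using DirectSum.Decomposition.inductionOn 𝒜' with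
  | zero => simp
  | @homogeneous j s => exact vproj_smul_of_mem 𝒜 𝒳 D.q (D.map_mem j s s.2) x
  | add s s' hs hs' => rw [map_add, add_smul, map_add, hs, hs', add_smul]

theorem VerData.smul_mem_verSub (r : R') {x : X} (hx : x ∈ verSub 𝒳 D.q) :
    D.φ r • x ∈ verSub 𝒳 D.q := by
  rw [mem_verSub] at hx ⊢
  rw [D.vproj_smul, hx]

end Basic

section Ver
variable {R R' : Type u} [CommRing R] [CommRing R'] {𝒜 : ℤ → AddSubgroup R} [GradedRing 𝒜]
  {𝒜' : ℤ → AddSubgroup R'} [GradedRing 𝒜'] (D : VerData 𝒜 𝒜') (X : GMod.{u} 𝒜)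

/-- the Veronese submodule as a type -/
def Ver : Type u := ↥(verSub X.gr D.q)

instance : AddCommGroup (Ver D X) := inferInstanceAs (AddCommGroup ↥(verSub X.gr D.q))

/-- the underlying element -/
def Ver.val (v : Ver D X) : X.carrier := Subtype.val v

theorem Ver.ext {v w : Ver D X} (h : Ver.val D X v = Ver.val D X w) : v = w := Subtype.ext h

theorem Ver.val_mem (v : Ver D X) : Ver.val D X v ∈ verSub X.gr D.q := Subtype.property v

/-- constructor -/
def Ver.mk (x : X.carrier) (hx : x ∈ verSub X.gr D.q) : Ver D X := ⟨x, hx⟩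

@[simp] theorem Ver.val_mk (x : X.carrier) (hx : x ∈ verSub X.gr D.q) :
    Ver.val D X (Ver.mk D X x hx) = x := rfl

@[simp] theorem Ver.val_add (v w : Ver D X) :
    Ver.val D X (v + w) = Ver.val D X v + Ver.val D X w := rfl

@[simp] theorem Ver.val_zero : Ver.val D X 0 = 0 := rfl

instance : SMul R' (Ver D X) where
  smul r v := ⟨D.φ r • Ver.val D X v, D.smul_mem_verSub X.gr r (Ver.val_mem D X v)⟩

@[simp] theorem Ver.val_smul (r : R') (v : Ver D X) :
    Ver.val D X (r • v) = D.φ r • Ver.val D X v := rfl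

instance : Module R' (Ver D X) where
  one_smul v := Ver.ext D X (by simp)
  mul_smul r s v := Ver.ext D X (by simp [mul_smul])
  smul_zero r := Ver.ext D X (by simp)
  smul_add r v w := Ver.ext D X (by simp)
  add_smul r s v := Ver.ext D X (by simp [add_smul])
  zero_smul v := Ver.ext D X (by simp)

/-- the inclusion of the Veronese submodule -/
def verIncl : Ver D X →ₛₗ[D.φ] X.carrier where
  toFun := Ver.val D X
  map_add' _ _ := rfl
  map_smul' _ _ := rfl

@[simp] theorem verIncl_apply (v : Ver D X) : verIncl D X v = Ver.val D X v := rfl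

theorem verIncl_injective : Function.Injective (verIncl D X) := fun _ _ h => Ver.ext D X h

/-- the pieces of the Veronese submodule -/
def verGr : ℤ → AddSubgroup (Ver D X) := fun j =>
  (X.gr (j * D.q)).comap (verSub X.gr D.q).subtype

theorem mem_verGr {j : ℤ} {v : Ver D X} : v ∈ verGr D X j ↔ Ver.val D X v ∈ X.gr (j * D.q) :=
  Iff.rfl

/-- inclusion of pieces -/
def verPieceIncl (j : ℤ) : verGr D X j →+ X.gr (j * D.q) where
  toFun v := ⟨Ver.val D X v.1, v.2⟩
  map_zero' := rfl
  map_add' _ _ := rfl

theorem verPieceIncl_injective (j : ℤ) : Function.Injective (verPieceIncl D X j) := by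
  intro x y h
  apply Subtype.ext
  apply Ver.ext
  exact congrArg (fun z : X.gr (j * D.q) => (z : X.carrier)) h

theorem val_coeAddMonoidHom (x : ⨁ j, verGr D X j) :
    Ver.val D X (DirectSum.coeAddMonoidHom (verGr D X) x) =
      DirectSum.coeAddMonoidHom (fun j : ℤ => X.gr (j * D.q))
        (DirectSum.map (verPieceIncl D X) x) := by
  induction x using DirectSum.induction_on with
  | zero => simp
  | of i x =>
    rw [DirectSum.map_of, DirectSum.coeAddMonoidHom_of, DirectSum.coeAddMonoidHom_of]
    rfl
  | add x y hx hy => rw [map_add, map_add, map_add, Ver.val_add, hx, hy]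

theorem iSupIndep_mul : iSupIndep (fun j : ℤ => X.gr (j * D.q)) :=
  ((Decomposition.isInternal X.gr).addSubgroup_iSupIndep).comp D.mul_q_injective

open Classical in
theorem verGr_isInternal : DirectSum.IsInternal (verGr D X) := by
  constructor
  · intro x y hxy
    have h1 : DirectSum.coeAddMonoidHom (fun j : ℤ => X.gr (j * D.q))
          (DirectSum.map (verPieceIncl D X) x) =
        DirectSum.coeAddMonoidHom (fun j : ℤ => X.gr (j * D.q))
          (DirectSum.map (verPieceIncl D X) y) := by
      rw [← val_coeAddMonoidHom, ← val_coeAddMonoidHom, hxy]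
    have h2 := (iSupIndep_mul D X).dfinsuppSumAddHom_injective h1
    exact (DirectSum.map_injective (verPieceIncl D X)).mpr (verPieceIncl_injective D X) h2
  · intro v
    refine ⟨∑ i ∈ (decompose X.gr (Ver.val D X v)).support,
      if h : (D.q : ℤ) ∣ i then
        DirectSum.of (fun j => verGr D X j) (i / D.q)
          ⟨Ver.mk D X (decompose X.gr (Ver.val D X v) i : X.carrier) (by
              have := decompose_mem_verSub X.gr D.q (Ver.val D X v) (i / D.q)
              rwa [Int.ediv_mul_cancel h] at this), by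
            show (decompose X.gr (Ver.val D X v) i : X.carrier) ∈ X.gr (i / D.q * D.q)
            rw [Int.ediv_mul_cancel h]
            exact SetLike.coe_mem _⟩
      else 0, ?_⟩
    apply Ver.ext
    rw [map_sum]
    have hv := Ver.val_mem D X v
    rw [mem_verSub, vproj_eq_sum] at hv
    conv_rhs => rw [← hv]
    have hval : ∀ (s : Finset ℤ) (f : ℤ → Ver D X),
        Ver.val D X (∑ i ∈ s, f i) = ∑ i ∈ s, Ver.val D X (f i) := by
      intro s f
      exact map_sum (verIncl D X) f s
    rw [hval]
    refine Finset.sum_congr rfl (fun i _ => ?_)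
    split_ifs with h
    · rw [DirectSum.coeAddMonoidHom_of]
      rfl
    · rw [map_zero]
      rfl

noncomputable instance : DirectSum.Decomposition (verGr D X) :=
  (verGr_isInternal D X).chooseDecomposition

instance : SetLike.GradedSMul 𝒜' (verGr D X) where
  smul_mem := by
    intro i j r v hr hv
    show Ver.val D X (r • v) ∈ X.gr ((i + j) * D.q)
    rw [Ver.val_smul, add_mul]
    exact SetLike.GradedSMul.smul_mem (A := 𝒜) (B := X.gr) (D.map_mem i r hr) hv

/-- the Veronese submodule as a graded module over the Veronese subring -/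
noncomputable def verG : GMod.{u} 𝒜' :=
  { carrier := Ver D X, gr := verGr D X }

end Ver

end Groth.Agent.Lib.Helper39.Ver
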