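import Groth.Agent.Lib.Helper39.GrVer19

/-!
# Graded Matlis duality is fully faithful on finitely generated graded modules (helper39)

`exists_transpose`: a homogeneous map `Hom(C, E) → Hom(C₂, E)` is the transpose of a homogeneous map
`C₂ → C` (`C` finitely generated).  `exists_equiv_of_homEquiv`: finitely generated graded modules
with isomorphic graded Matlis duals are isomorphic.
-/

set_option autoImplicit false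
universe u

namespace Groth.Agent.Lib.Helper39.GrMatlis

open DirectSum GrLC Groth.Agent.Lib.Helper39 Groth.Agent.Lib.Helper39.GrPC
  Groth.Agent.Lib.Helper39.GrPieceDual Groth.Agent.Lib.Helper39.GrHomInt

section Transpose
variable {R : Type u} [CommRing R] [IsNoetherianRing R] (𝒜 : ℤ → AddSubgroup R) [GradedRing 𝒜]
  (hpos : ∀ n : ℤ, n < 0 → 𝒜 n = ⊥) (h0 : IsField (GrLC.deg0 𝒜))
  (m : HomogeneousIdeal 𝒜)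
  (hmsp : m.toIdeal = Ideal.span (⋃ n ∈ Set.Ioi (0 : ℤ), (𝒜 n : Set R)))
  {E' : Type u} [AddCommGroup E'] [Module R E'] (𝓔 : ℤ → AddSubgroup E')
  [DirectSum.Decomposition 𝓔] [SetLike.GradedSMul 𝒜 𝓔]
  (e : (R ⧸ m.toIdeal) →ₗ[R] E') (he : GrLC.IsStarEss (GrLC.quotGr 𝒜 m) 𝓔 e)
  (hI : IsStarInj 𝒜 𝓔)
  {C : Type u} [AddCommGroup C] [Module R C] (𝒞 : ℤ → AddSubgroup C)
  [DirectSum.Decomposition 𝒞] [SetLike.GradedSMul 𝒜 𝒞]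
  {C₂ : Type u} [AddCommGroup C₂] [Module R C₂] (𝒞₂ : ℤ → AddSubgroup C₂)
  [DirectSum.Decomposition 𝒞₂] [SetLike.GradedSMul 𝒜 𝒞₂]

omit [IsNoetherianRing R] [Decomposition 𝓔] [Decomposition 𝒞] [SetLike.GradedSMul 𝒜 𝒞] in
theorem smul_isGrHomDeg {s d : ℤ} {r : R} (hr : r ∈ 𝒜 s) {ψ : C →ₗ[R] E'}
    (hψ : IsGrHomDeg 𝒞 𝓔 ψ d) : IsGrHomDeg 𝒞 𝓔 (r • ψ) (d + s) := by
  intro j c hc
  rw [LinearMap.smul_apply]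
  have h1 : r • ψ c ∈ 𝓔 (s + (j + d)) :=
    SetLike.GradedSMul.smul_mem (A := 𝒜) (B := 𝓔) hr (hψ j c hc)
  have h2 : s + (j + d) = j + (d + s) := by ring
  rwa [h2] at h1

omit [IsNoetherianRing R] in
include hpos hmsp he h0 hI 𝒞 in
theorem eq_of_forall_hom (x y : C) (h : ∀ ψ : C →ₗ[R] E', ψ x = ψ y) : x = y := by
  rw [← sub_eq_zero]
  apply eq_zero_of_forall_hom 𝒜 hpos h0 m hmsp 𝓔 e he hI 𝒞
  intro ψ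
  rw [map_sub, h ψ, sub_self]

variable [Module.Finite R C]
  (Λ : (C →ₗ[R] E') →ₗ[R] (C₂ →ₗ[R] E'))
  (hΛ : ∀ (d : ℤ) (ψ : C →ₗ[R] E'), IsGrHomDeg 𝒞 𝓔 ψ d → IsGrHomDeg 𝒞₂ 𝓔 (Λ ψ) d)

include hpos hmsp he h0 hI hΛ in
theorem exists_transpose_of_mem (i : ℤ) (c₂ : C₂) (hc₂ : c₂ ∈ 𝒞₂ i) :
    ∃ c ∈ 𝒞 i, ∀ ψ : C →ₗ[R] E', ψ c = Λ ψ c₂ := by
  classical
  let lam : homDeg 𝒜 𝒞 𝓔 (-i) →ₗ[GrLC.deg0 𝒜] GrLC.comp 𝒜 𝓔 0 :=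
    { toFun := fun ψ => ⟨Λ (ψ : C →ₗ[R] E') c₂, by
        have := hΛ (-i) ψ ψ.2 i c₂ hc₂
        rwa [add_neg_cancel] at this⟩
      map_add' := fun ψ ψ' => Subtype.ext (by
        show Λ ((ψ : C →ₗ[R] E') + (ψ' : C →ₗ[R] E')) c₂ = Λ ψ c₂ + Λ ψ' c₂
        rw [map_add]
        rfl)
      map_smul' := fun r ψ => Subtype.ext (by
        show Λ ((r • ψ : homDeg 𝒜 𝒞 𝓔 (-i)) : C →ₗ[R] E') c₂ = (r : R) • Λ ψ c₂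
        have h1 : ((r • ψ : homDeg 𝒜 𝒞 𝓔 (-i)) : C →ₗ[R] E') = (r : R) • (ψ : C →ₗ[R] E') :=
          LinearMap.ext fun c => rfl
        rw [h1, map_smul]
        rfl) }
  obtain ⟨c, hc, hrep⟩ := exists_rep 𝒜 hpos h0 m hmsp 𝓔 e he hI 𝒞 i (-i) (add_neg_cancel i) lam
  have hrep' : ∀ (ψ : C →ₗ[R] E'), IsGrHomDeg 𝒞 𝓔 ψ (-i) → ψ c = Λ ψ c₂ :=
    fun ψ hψ => hrep ψ hψ
  -- homogeneous maps of any degree
  have hhom : ∀ (d : ℤ) (ψ : C →ₗ[R] E'), IsGrHomDeg 𝒞 𝓔 ψ d → ψ c = Λ ψ c₂ := by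
    intro d ψ hψ
    by_contra hne
    have hx : ψ c - Λ ψ c₂ ∈ 𝓔 (i + d) := sub_mem (hψ i c hc) (hΛ d ψ hψ i c₂ hc₂)
    have hx0 : ψ c - Λ ψ c₂ ≠ 0 := fun h => hne (sub_eq_zero.mp h)
    obtain ⟨r, hr, hrx, -⟩ := exists_smul_mem_range 𝒜 hpos m hmsp 𝓔 e he hx hx0
    apply hrx
    have h1 : IsGrHomDeg 𝒞 𝓔 (r • ψ) (-i) := by
      have := smul_isGrHomDeg 𝒜 𝓔 𝒞 hr hψ
      have h2 : d + -(i + d) = -i := by ring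
      rwa [h2] at this
    have h3 := hrep' (r • ψ) h1
    rw [map_smul, LinearMap.smul_apply, LinearMap.smul_apply] at h3
    rw [smul_sub, h3, sub_self]
  refine ⟨c, hc, fun ψ => ?_⟩
  obtain ⟨S, hS⟩ := exists_finset_sum_compLin 𝒜 𝓔 𝒞 ψ
  have h1 : ψ c = ∑ d ∈ S, compLin 𝒜 𝒞 𝓔 ψ d c := by
    conv_lhs => rw [hS]
    rw [LinearMap.sum_apply]
  have h2 : Λ ψ c₂ = ∑ d ∈ S, Λ (compLin 𝒜 𝒞 𝓔 ψ d) c₂ := by
    conv_lhs => rw [hS]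
    rw [map_sum, LinearMap.sum_apply]
  rw [h1, h2]
  exact Finset.sum_congr rfl (fun d _ => hhom d _ (compLin_isGrHomDeg 𝒜 𝒞 𝓔 ψ d))

include hpos hmsp he h0 hI hΛ in
/-- a homogeneous map between graded Matlis duals is a transpose -/
theorem exists_transpose :
    ∃ g : C₂ →ₗ[R] C, IsGrHom 𝒞₂ 𝒞 g ∧ ∀ (ψ : C →ₗ[R] E') (c₂ : C₂), ψ (g c₂) = Λ ψ c₂ := by
  classical
  have hex : ∀ c₂ : C₂, ∃ c : C, ∀ ψ : C →ₗ[R] E', ψ c = Λ ψ c₂ := by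
    intro c₂
    induction c₂ using DirectSum.Decomposition.inductionOn 𝒞₂ with
    | zero => exact ⟨0, fun ψ => by rw [map_zero, map_zero]⟩
    | @homogeneous i c₂ =>
      obtain ⟨c, -, hc⟩ := exists_transpose_of_mem 𝒜 hpos h0 m hmsp 𝓔 e he hI 𝒞 𝒞₂ Λ hΛ i c₂ c₂.2
      exact ⟨c, hc⟩
    | add x y hx hy =>
      obtain ⟨a, ha⟩ := hx
      obtain ⟨b, hb⟩ := hy
      exact ⟨a + b, fun ψ => by rw [map_add, ha, hb, map_add]⟩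
  choose gfun hg using hex
  have huniq : ∀ (c₂ : C₂) (c : C), (∀ ψ : C →ₗ[R] E', ψ c = Λ ψ c₂) → gfun c₂ = c :=
    fun c₂ c hc => eq_of_forall_hom 𝒜 hpos h0 m hmsp 𝓔 e he hI 𝒞 _ _
      (fun ψ => by rw [hg, hc])
  refine ⟨{ toFun := gfun
            map_add' := fun a b => huniq _ _ (fun ψ => by rw [map_add, hg, hg, map_add])
            map_smul' := fun r a => huniq _ _ (fun ψ => by
              rw [RingHom.id_apply, map_smul, hg, map_smul]) }, ?_, fun ψ c₂ => hg c₂ ψ⟩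
  intro i c₂ hc₂
  obtain ⟨c, hc, hcψ⟩ := exists_transpose_of_mem 𝒜 hpos h0 m hmsp 𝓔 e he hI 𝒞 𝒞₂ Λ hΛ i c₂ hc₂
  show gfun c₂ ∈ 𝒞 i
  rw [huniq c₂ c hcψ]
  exact hc

end Transpose

section Equiv
variable {R : Type u} [CommRing R] [IsNoetherianRing R] (𝒜 : ℤ → AddSubgroup R) [GradedRing 𝒜]
  (hpos : ∀ n : ℤ, n < 0 → 𝒜 n = ⊥) (h0 : IsField (GrLC.deg0 𝒜))
  (m : HomogeneousIdeal 𝒜)
  (hmsp : m.toIdeal = Ideal.span (⋃ n ∈ Set.Ioi (0 : ℤ), (𝒜 n : Set R)))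
  {E' : Type u} [AddCommGroup E'] [Module R E'] (𝓔 : ℤ → AddSubgroup E')
  [DirectSum.Decomposition 𝓔] [SetLike.GradedSMul 𝒜 𝓔]
  (e : (R ⧸ m.toIdeal) →ₗ[R] E') (he : GrLC.IsStarEss (GrLC.quotGr 𝒜 m) 𝓔 e)
  (hI : IsStarInj 𝒜 𝓔)
  {C : Type u} [AddCommGroup C] [Module R C] (𝒞 : ℤ → AddSubgroup C)
  [DirectSum.Decomposition 𝒞] [SetLike.GradedSMul 𝒜 𝒞] [Module.Finite R C]
  {C₂ : Type u} [AddCommGroup C₂] [Module R C₂] (𝒞₂ : ℤ → AddSubgroup C₂)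
  [DirectSum.Decomposition 𝒞₂] [SetLike.GradedSMul 𝒜 𝒞₂] [Module.Finite R C₂]

include hpos hmsp he h0 hI in
/-- **uniqueness of the graded Matlis predual**: finitely generated graded modules with
homogeneously isomorphic duals are isomorphic as graded modules -/
theorem exists_equiv_of_homEquiv (Λ : (C →ₗ[R] E') ≃ₗ[R] (C₂ →ₗ[R] E'))
    (hΛ : ∀ (d : ℤ) (ψ : C →ₗ[R] E'), IsGrHomDeg 𝒞 𝓔 ψ d → IsGrHomDeg 𝒞₂ 𝓔 (Λ ψ) d) :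
    ∃ g : C₂ ≃ₗ[R] C, IsGrHom 𝒞₂ 𝒞 g.toLinearMap ∧ IsGrHom 𝒞 𝒞₂ g.symm.toLinearMap := by
  obtain ⟨g, hg, hgΛ⟩ := exists_transpose 𝒜 hpos h0 m hmsp 𝓔 e he hI 𝒞 𝒞₂ Λ.toLinearMap hΛ
  have hΛ' : ∀ (d : ℤ) (χ : C₂ →ₗ[R] E'), IsGrHomDeg 𝒞₂ 𝓔 χ d →
      IsGrHomDeg 𝒞 𝓔 (Λ.symm χ) d := by
    intro d χ hχ
    exact symm_mem_homGr 𝒜 𝒞 𝓔 (homGr 𝒜 𝒞₂ 𝓔) (homGr_isInternal 𝒜 𝒞₂ 𝓔) Λ
      (fun d ψ hψ => hΛ d ψ hψ) (d := d) (x := χ) hχ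
  obtain ⟨g', hg', hg'Λ⟩ := exists_transpose 𝒜 hpos h0 m hmsp 𝓔 e he hI 𝒞₂ 𝒞
    Λ.symm.toLinearMap hΛ'
  have h1 : ∀ c : C, g (g' c) = c := by
    intro c
    apply eq_of_forall_hom 𝒜 hpos h0 m hmsp 𝓔 e he hI 𝒞
    intro ψ
    rw [hgΛ, hg'Λ]
    show Λ.symm (Λ ψ) c = ψ c
    rw [Λ.symm_apply_apply]
  have h2 : ∀ c₂ : C₂, g' (g c₂) = c₂ := by
    intro c₂
    apply eq_of_forall_hom 𝒜 hpos h0 m hmsp 𝓔 e he hI 𝒞₂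
    intro χ
    rw [hg'Λ, hgΛ]
    show Λ (Λ.symm χ) c₂ = χ c₂
    rw [Λ.apply_symm_apply]
  refine ⟨LinearEquiv.ofLinear g g' (LinearMap.ext h1) (LinearMap.ext h2), ?_, ?_⟩
  · intro i c hc
    exact hg i c hc
  · intro i c hc
    exact hg' i c hc

end Equiv

end Groth.Agent.Lib.Helper39.GrMatlis
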