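import Groth.Agent.Lib.Helper39.GrVer20

/-!
# Veronese submodules of Noetherian graded modules are Noetherian (helper39)
-/

set_option autoImplicit false
universe u

namespace Groth.Agent.Lib.Helper39.Ver

open DirectSum GrLC Groth.Agent.Lib.Helper39

section Fin
variable {R R' : Type u} [CommRing R] [CommRing R'] {𝒜 : ℤ → AddSubgroup R} [GradedRing 𝒜]
  {𝒜' : ℤ → AddSubgroup R'} [GradedRing 𝒜'] (D : VerData 𝒜 𝒜') (X : GMod.{u} 𝒜)

theorem vproj_smul_of_mem_verSub (c : R) {x : X.carrier} (hx : x ∈ verSub X.gr D.q) :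
    vproj X.gr D.q (c • x) = vproj 𝒜 D.q c • x := by
  classical
  induction c using DirectSum.Decomposition.inductionOn 𝒜 with
  | zero => simp
  | @homogeneous s c =>
    by_cases hs : (D.q : ℤ) ∣ s
    · obtain ⟨j, hj⟩ := hs
      have hc : (c : R) ∈ 𝒜 (j * D.q) := by
        have h1 : j * (D.q : ℤ) = s := by rw [hj, mul_comm]
        rw [h1]
        exact c.2
      rw [vproj_smul_of_mem 𝒜 X.gr D.q hc x, (mem_verSub X.gr D.q).mp hx,
        vproj_of_mem_mul 𝒜 D.q hc]
    · rw [vproj_of_mem_not_dvd 𝒜 D.q c.2 hs, zero_smul]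
      rw [← DirectSum.sum_support_decompose X.gr x, Finset.smul_sum, map_sum]
      apply Finset.sum_eq_zero
      intro i _
      by_cases hi : (D.q : ℤ) ∣ i
      · have h1 : (c : R) • (decompose X.gr x i : X.carrier) ∈ X.gr (s + i) :=
          SetLike.GradedSMul.smul_mem (A := 𝒜) (B := X.gr) c.2 (SetLike.coe_mem _)
        apply vproj_of_mem_not_dvd X.gr D.q h1
        intro h
        exact hs ((dvd_add_left hi).mp h)
      · rw [decompose_eq_zero_of_mem_verSub X.gr D.q hx hi, smul_zero, map_zero]
  | add c c' hc hc' => rw [add_smul, map_add, hc, hc', map_add, add_smul]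

theorem verRetr_smul_val (c : R) (v : Ver D X) :
    verRetr D X (c • Ver.val D X v) = D.ρ c • v := by
  apply Ver.ext
  rw [val_verRetr, vproj_smul_of_mem_verSub D X c (Ver.val_mem D X v), Ver.val_smul, D.φ_ρ]

/-- the extension of a submodule of the Veronese submodule -/
def extSub (N : Submodule R' (Ver D X)) : Submodule R X.carrier :=
  Submodule.span R (Ver.val D X '' (N : Set (Ver D X)))

theorem verRetr_mem_of_mem_extSub (N : Submodule R' (Ver D X)) {y : X.carrier}
    (hy : y ∈ extSub D X N) : verRetr D X y ∈ N := by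
  have key : ∀ y ∈ extSub D X N, ∀ c : R, verRetr D X (c • y) ∈ N := by
    intro y hy
    refine Submodule.span_induction (p := fun y _ => ∀ c : R, verRetr D X (c • y) ∈ N)
      ?_ ?_ ?_ ?_ hy
    · rintro _ ⟨v, hv, rfl⟩ c
      rw [verRetr_smul_val]
      exact N.smul_mem _ hv
    · intro c
      rw [smul_zero, map_zero]
      exact N.zero_mem
    · intro u v _ _ hu hv c
      rw [smul_add, map_add]
      exact N.add_mem (hu c) (hv c)
    · intro d u _ hu c
      rw [← mul_smul]
      exact hu (c * d)
  have := key y hy 1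
  rwa [one_smul] at this

theorem mem_of_val_mem_extSub (N : Submodule R' (Ver D X)) {v : Ver D X}
    (hv : Ver.val D X v ∈ extSub D X N) : v ∈ N := by
  have := verRetr_mem_of_mem_extSub D X N hv
  rwa [verRetr_val] at this

theorem extSub_strictMono : StrictMono (extSub D X) := by
  intro N K hNK
  refine lt_of_le_of_ne (Submodule.span_mono (Set.image_mono hNK.le)) (fun h => ?_)
  apply hNK.ne
  apply le_antisymm hNK.le
  intro v hv
  apply mem_of_val_mem_extSub D X N
  rw [h]
  exact Submodule.subset_span ⟨v, hv, rfl⟩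

theorem isNoetherian_ver [IsNoetherian R X.carrier] : IsNoetherian R' (Ver D X) := by
  rw [isNoetherian_iff']
  haveI : WellFoundedGT (Submodule R X.carrier) := (isNoetherian_iff' (R := R)).mp inferInstance
  exact (extSub_strictMono D X).wellFoundedGT

theorem finite_ver [IsNoetherianRing R] [Module.Finite R X.carrier] :
    Module.Finite R' (Ver D X) := by
  haveI : IsNoetherian R X.carrier := isNoetherian_of_isNoetherianRing_of_finite R X.carrier
  haveI := isNoetherian_ver D X
  exact Module.IsNoetherian.finite R' (Ver D X)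

end Fin

end Groth.Agent.Lib.Helper39.Ver
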