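import Groth.Agent.Lib.Helper39.GrVer21

/-!
# The Veronese submodule of a *canonical module is *canonical for the Veronese subring (helper39)
-/

set_option autoImplicit false
universe u

namespace Groth.Agent.Lib.Helper39.GrMatlis

open DirectSum GrLC Groth.Agent.Lib.Helper39 Groth.Agent.Lib.Helper39.GrPC
  Groth.Agent.Lib.Helper39.GrPieceDual Groth.Agent.Lib.Helper39.GrHomInt

section Pieces
variable {ι : Type} [DecidableEq ι] {R : Type u} [CommRing R]
  {A : Type u} [AddCommGroup A] [Module R A] {𝓐 : ι → AddSubgroup A}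
  {B : Type u} [AddCommGroup B] [Module R B] {ℬ : ι → AddSubgroup B}

/-- a homogeneous map which is bijective on pieces is bijective -/
theorem bijective_of_pieces (hA : DirectSum.IsInternal 𝓐) (hB : DirectSum.IsInternal ℬ)
    (f : A →ₗ[R] B) (hf : IsGrHom 𝓐 ℬ f)
    (hinj : ∀ j, ∀ x ∈ 𝓐 j, f x = 0 → x = 0)
    (hsurj : ∀ j, ∀ y ∈ ℬ j, ∃ x ∈ 𝓐 j, f x = y) : Function.Bijective f := by
  classical
  letI := hA.chooseDecomposition
  letI := hB.chooseDecomposition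
  constructor
  · rw [injective_iff_map_eq_zero]
    intro x hx
    rw [← DirectSum.sum_support_decompose 𝓐 x]
    apply Finset.sum_eq_zero
    intro j _
    apply hinj j _ (SetLike.coe_mem _)
    rw [← IsGrHom.decompose_apply 𝓐 ℬ hf, hx, decompose_zero]
    rfl
  · intro y
    rw [← DirectSum.sum_support_decompose ℬ y]
    choose! g hg1 hg2 using fun j => hsurj j (decompose ℬ y j : B) (SetLike.coe_mem _)
    refine ⟨∑ j ∈ (decompose ℬ y).support, g j, ?_⟩
    rw [map_sum]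
    exact Finset.sum_congr rfl (fun j _ => hg2 j)

end Pieces

section Fin
variable {R : Type u} [CommRing R] [IsNoetherianRing R] (𝒜 : ℤ → AddSubgroup R) [GradedRing 𝒜]
  (hpos : ∀ n : ℤ, n < 0 → 𝒜 n = ⊥) (h0 : IsField (GrLC.deg0 𝒜))
  (m : HomogeneousIdeal 𝒜)
  (hmsp : m.toIdeal = Ideal.span (⋃ n ∈ Set.Ioi (0 : ℤ), (𝒜 n : Set R)))
  {E' : Type u} [AddCommGroup E'] [Module R E'] (𝓔 : ℤ → AddSubgroup E')
  [DirectSum.Decomposition 𝓔] [SetLike.GradedSMul 𝒜 𝓔]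
  (e : (R ⧸ m.toIdeal) →ₗ[R] E') (he : GrLC.IsStarEss (GrLC.quotGr 𝒜 m) 𝓔 e)
  {C : Type u} [AddCommGroup C] [Module R C] (𝒞 : ℤ → AddSubgroup C)
  [DirectSum.Decomposition 𝒞] [SetLike.GradedSMul 𝒜 𝒞] [Module.Finite R C]

include hpos hmsp he h0 in
theorem finite_homDeg (d : ℤ) : Module.Finite (GrLC.deg0 𝒜) (homDeg 𝒜 𝒞 𝓔 d) := by
  letI : Field (GrLC.deg0 𝒜) := h0.toField
  haveI : Module.Finite (GrLC.deg0 𝒜) (GrLC.comp 𝒜 𝒞 (-d)) := GrPieces.finite_comp 𝒜 𝒞 hpos (-d)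
  haveI : Module.Finite (GrLC.deg0 𝒜) (GrLC.comp 𝒜 𝓔 0) :=
    Module.finite_of_finrank_eq_succ (GrHullDim.finrank_zero 𝒜 hpos h0 m hmsp 𝓔 e he)
  exact Module.Finite.of_injective (resPair 𝒜 𝓔 𝒞 (-d) d (neg_add_cancel d))
    (resPair_injective 𝒜 hpos m hmsp 𝓔 e he 𝒞 (-d) d (neg_add_cancel d))

end Fin

end Groth.Agent.Lib.Helper39.GrMatlis

namespace Groth.Agent.Lib.Helper39.Ver

open DirectSum GrLC Groth.Agent.Lib.Helper39 Groth.Agent.Lib.Helper39.GrStarLocal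
  Groth.Agent.Lib.Helper39.GrPieceDual Groth.Agent.Lib.Helper39.GrLes
  Groth.Agent.Lib.Helper39.GrHomInt Groth.Agent.Lib.Helper39.GrMatlis

section Res
variable {R R' : Type u} [CommRing R] [CommRing R'] {𝒜 : ℤ → AddSubgroup R} [GradedRing 𝒜]
  {𝒜' : ℤ → AddSubgroup R'} [GradedRing 𝒜'] (D : VerData 𝒜 𝒜') (C E : GMod.{u} 𝒜)

/-- restriction of a linear map to the Veronese submodules (followed by the Veronese projection) -/
def resHom (ψ : C.carrier →ₗ[R] E.carrier) : Ver D C →ₗ[R'] Ver D E where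
  toFun v := verRetr D E (ψ (Ver.val D C v))
  map_add' a b := by rw [Ver.val_add, map_add, map_add]
  map_smul' r v := by rw [Ver.val_smul, map_smul, verRetr_smul]; rfl

theorem resHom_apply (ψ : C.carrier →ₗ[R] E.carrier) (v : Ver D C) :
    resHom D C E ψ v = verRetr D E (ψ (Ver.val D C v)) := rfl

theorem resHom_add (ψ χ : C.carrier →ₗ[R] E.carrier) :
    resHom D C E (ψ + χ) = resHom D C E ψ + resHom D C E χ := by
  ext v
  rw [LinearMap.add_apply, resHom_apply, resHom_apply, resHom_apply, LinearMap.add_apply, map_add]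

theorem resHom_smul (r : R') (ψ : C.carrier →ₗ[R] E.carrier) :
    resHom D C E (D.φ r • ψ) = r • resHom D C E ψ := by
  ext v
  rw [LinearMap.smul_apply, resHom_apply, resHom_apply, LinearMap.smul_apply, verRetr_smul]

theorem val_resHom_of_mem {j i : ℤ} {ψ : C.carrier →ₗ[R] E.carrier}
    (hψ : IsGrHomDeg C.gr E.gr ψ (j * D.q)) {v : Ver D C} (hv : v ∈ verGr D C i) :
    Ver.val D E (resHom D C E ψ v) = ψ (Ver.val D C v) ∧
      ψ (Ver.val D C v) ∈ E.gr ((i + j) * D.q) := by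
  have h1 : ψ (Ver.val D C v) ∈ E.gr ((i + j) * D.q) := by
    have := hψ (i * D.q) _ ((mem_verGr D C).mp hv)
    rwa [← add_mul] at this
  refine ⟨?_, h1⟩
  rw [resHom_apply, val_verRetr]
  exact vproj_of_mem_mul E.gr D.q h1

theorem resHom_isGrHomDeg {j : ℤ} {ψ : C.carrier →ₗ[R] E.carrier}
    (hψ : IsGrHomDeg C.gr E.gr ψ (j * D.q)) :
    IsGrHomDeg (verGr D C) (verGr D E) (resHom D C E ψ) j := by
  intro i v hv
  obtain ⟨h1, h2⟩ := val_resHom_of_mem D C E hψ hv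
  rw [mem_verGr, h1]
  exact h2

end Res

section Canon
variable {R R' : Type u} [CommRing R] [CommRing R'] [IsNoetherianRing R]
  {𝒜 : ℤ → AddSubgroup R} [GradedRing 𝒜]
  {𝒜' : ℤ → AddSubgroup R'} [GradedRing 𝒜'] (D : VerData 𝒜 𝒜')
  (hpos : ∀ n : ℤ, n < 0 → 𝒜 n = ⊥) (h0 : IsField (GrLC.deg0 𝒜))
  (m : HomogeneousIdeal 𝒜) (m' : HomogeneousIdeal 𝒜')
  (hmsp : m.toIdeal = Ideal.span (⋃ n ∈ Set.Ioi (0 : ℤ), (𝒜 n : Set R)))
  (hm'sp : m'.toIdeal = Ideal.span (⋃ j ∈ Set.Ioi (0 : ℤ), (𝒜' j : Set R')))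
  (E : GMod.{u} 𝒜) (e : (R ⧸ m.toIdeal) →ₗ[R] E.carrier)
  (he : GrLC.IsStarInjHull 𝒜 (GrLC.quotGr 𝒜 m) E.gr e)
  (n : ℕ) (I : GrLC.StarInjRes 𝒜 𝒜) (I' : GrLC.StarInjRes 𝒜' 𝒜') (C : GMod.{u} 𝒜)

include hpos h0 hmsp hm'sp he in
/-- **The Veronese submodule of a *canonical module is a *canonical module of the Veronese
subring** (with respect to the Veronese submodule of the hull). -/
theorem isStarCanonical_ver (hC : IsStarCanonical 𝒜 C.gr E.gr m n I) :
    IsStarCanonical 𝒜' (verGr D C) (verGr D E) m' n I' := by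
  classical
  obtain ⟨hfin, φC, hφC⟩ := hC
  haveI := hfin
  haveI : IsNoetherianRing R' := D.isNoetherianRing
  haveI hfin' : Module.Finite R' (Ver D C) := finite_ver D C
  refine ⟨hfin', ?_⟩
  have hpos' := D.hpos' hpos
  have h0' := D.h0' h0
  have hess' := isStarEss_eVer D hpos h0 m m' hmsp hm'sp E e he.toIsStarEss
  have hinj' := isStarInj_ver_hull D hpos h0 m m' hmsp hm'sp E e he
  obtain ⟨θ, hθ⟩ := exists_theta_irrelevant D m m' hmsp hm'sp n I D.φₛ D.isVer_self I'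
  -- graded inverse of `φC`
  have hφCsymm : ∀ (d : ℤ) (x : I.H m n), x ∈ I.Hgr m n d →
      IsGrHomDeg C.gr E.gr (φC.symm x) d := fun d x hx =>
    symm_mem_homGr 𝒜 C.gr E.gr (I.Hgr m n) (Hgr_isInternal I m n) φC hφC hx
  -- the comparison map
  let Ψ : I'.H m' n →ₗ[R'] (Ver D C →ₗ[R'] Ver D E) :=
    { toFun := fun h' => resHom D C E (φC.symm (θ h'))
      map_add' := fun a b => by rw [map_add, map_add, resHom_add]
      map_smul' := fun r a => by
        rw [map_smulₛₗ, map_smul, resHom_smul]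
        rfl }
  have hΨ : ∀ h', Ψ h' = resHom D C E (φC.symm (θ h')) := fun _ => rfl
  have hΨdeg : ∀ (j : ℤ) (h' : I'.H m' n), h' ∈ I'.Hgr m' n j →
      IsGrHomDeg (verGr D C) (verGr D E) (Ψ h') j := by
    intro j h' hh'
    exact resHom_isGrHomDeg D C E (hφCsymm (j * D.q) _ (hθ.map_mem j h' hh'))
  have hΨinj : ∀ (j : ℤ) (h' : I'.H m' n), h' ∈ I'.Hgr m' n j → Ψ h' = 0 → h' = 0 := by
    intro j h' hh' hz
    have hψ := hφCsymm (j * D.q) _ (hθ.map_mem j h' hh')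
    have hψ0 : φC.symm (θ h') = 0 := by
      by_contra hne
      obtain ⟨c, hc, hc0⟩ := exists_mem_of_homDeg_ne_zero 𝒜 hpos m hmsp E.gr e he.toIsStarEss
        C.gr _ (j * D.q) hψ hne
      have hc' : c ∈ C.gr (-j * D.q) := by rwa [neg_mul]
      let v : Ver D C := Ver.mk D C c (mem_verSub_of_mem C.gr D.q hc')
      have hv : v ∈ verGr D C (-j) := hc'
      obtain ⟨h1, -⟩ := val_resHom_of_mem D C E hψ hv
      apply hc0
      rw [← hΨ, hz] at h1
      exact h1.symm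
    have h2 : θ h' = 0 := φC.symm.injective (by rw [hψ0, map_zero])
    exact hθ.inj (by rw [h2, map_zero])
  -- dimension count
  have hΨsurj : ∀ (j : ℤ) (ψ' : Ver D C →ₗ[R'] Ver D E),
      IsGrHomDeg (verGr D C) (verGr D E) ψ' j → ∃ h' ∈ I'.Hgr m' n j, Ψ h' = ψ' := by
    intro j
    letI : Field (GrLC.deg0 𝒜') := h0'.toField
    haveI hf2 : Module.Finite (GrLC.deg0 𝒜') (homDeg 𝒜' (verGr D C) (verGr D E) j) :=
      finite_homDeg 𝒜' hpos' h0' m' hm'sp (verGr D E) _ hess' (verGr D C) j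
    let Ψj : I'.Hcomp m' n j →ₗ[GrLC.deg0 𝒜'] homDeg 𝒜' (verGr D C) (verGr D E) j :=
      { toFun := fun h' => ⟨Ψ (h' : I'.H m' n), hΨdeg j _ h'.2⟩
        map_add' := fun a b => Subtype.ext (map_add Ψ (a : I'.H m' n) (b : I'.H m' n))
        map_smul' := fun r a => Subtype.ext (by
          show Ψ ((r : R') • (a : I'.H m' n)) = _
          rw [map_smul]
          exact LinearMap.ext fun c => rfl) }
    have hΨjinj : Function.Injective Ψj := by
      rw [injective_iff_map_eq_zero]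
      intro a ha
      exact Subtype.ext (hΨinj j _ a.2 (congrArg Subtype.val ha))
    haveI hf1 : Module.Finite (GrLC.deg0 𝒜') (I'.Hcomp m' n j) :=
      Module.Finite.of_injective Ψj hΨjinj
    have d1 : Module.finrank (GrLC.deg0 𝒜') (I'.Hcomp m' n j) =
        Module.finrank (GrLC.deg0 𝒜) (I.Hcomp m n (j * D.q)) :=
      finrank_eq_of_semilinear D θ hθ.inj _ _ (fun x hx => hθ.map_mem j x hx)
        (fun y hy => hθ.surj j y hy)
    have d2 : Module.finrank (GrLC.deg0 𝒜) (I.Hcomp m n (j * D.q)) =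
        Module.finrank (GrLC.deg0 𝒜) (homDeg 𝒜 C.gr E.gr (j * D.q)) :=
      finrank_eq_of_linear 𝒜 φC.symm.toLinearMap φC.symm.injective _ _
        (fun x hx => hφCsymm (j * D.q) x hx)
        (fun ψ hψ => ⟨φC ψ, hφC (j * D.q) ψ hψ, φC.symm_apply_apply ψ⟩)
    have d3 := (perfect 𝒜 hpos h0 m hmsp E.gr e he.toIsStarEss he.starInj C.gr (-(j * D.q))
      (j * D.q) (neg_add_cancel _)).1
    have d4 : Module.finrank (GrLC.deg0 𝒜') (GrLC.comp 𝒜' (verGr D C) (-j)) =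
        Module.finrank (GrLC.deg0 𝒜) (GrLC.comp 𝒜 C.gr (-j * D.q)) :=
      finrank_eq_of_semilinear D (verIncl D C) (verIncl_injective D C) _ _
        (fun x hx => hx) (fun y hy => ⟨Ver.mk D C y (mem_verSub_of_mem C.gr D.q hy), hy, rfl⟩)
    have d5 := (perfect 𝒜' hpos' h0' m' hm'sp (verGr D E) _ hess' hinj' (verGr D C) (-j) j
      (neg_add_cancel j)).1
    have hdim : Module.finrank (GrLC.deg0 𝒜') (I'.Hcomp m' n j) =
        Module.finrank (GrLC.deg0 𝒜') (homDeg 𝒜' (verGr D C) (verGr D E) j) := by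
      rw [d1, d2, d3, d5, d4, neg_mul]
    have hsurj := (LinearMap.injective_iff_surjective_of_finrank_eq_finrank hdim).mp hΨjinj
    intro ψ' hψ'
    obtain ⟨a, ha⟩ := hsurj ⟨ψ', hψ'⟩
    exact ⟨a, a.2, congrArg Subtype.val ha⟩
  have hbij : Function.Bijective Ψ :=
    bijective_of_pieces (Hgr_isInternal I' m' n) (homGr_isInternal 𝒜' (verGr D C) (verGr D E)) Ψ
      (fun j h' hh' => hΨdeg j h' hh') hΨinj hΨsurj
  refine ⟨(LinearEquiv.ofBijective Ψ hbij).symm, ?_⟩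
  intro j ψ' hψ'
  obtain ⟨h', hh', rfl⟩ := hΨsurj j ψ' hψ'
  show (LinearEquiv.ofBijective Ψ hbij).symm (Ψ h') ∈ I'.Hgr m' n j
  have : (LinearEquiv.ofBijective Ψ hbij).symm (Ψ h') = h' :=
    (LinearEquiv.ofBijective Ψ hbij).symm_apply_apply h'
  rw [this]
  exact hh'

end Canon

end Groth.Agent.Lib.Helper39.Ver
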