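import Groth.Agent.Lib.Helper39.GrVer22
import Groth.Agent.S13214

/-!
# The *canonical module of a Veronese subring is the Veronese submodule of the *canonical module
(helper39)
-/

set_option autoImplicit false
universe u

namespace Groth.Agent.Lib.Helper39.Ver

open DirectSum GrLC Groth.Agent.Lib.Helper39 Groth.Agent.Lib.Helper39.GrStarLocal
  Groth.Agent.Lib.Helper39.GrPieceDual Groth.Agent.Lib.Helper39.GrLes
  Groth.Agent.Lib.Helper39.GrHomInt Groth.Agent.Lib.Helper39.GrMatlis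

section Canon
variable {R R' : Type u} [CommRing R] [CommRing R'] [IsNoetherianRing R]
  {𝒜 : ℤ → AddSubgroup R} [GradedRing 𝒜]
  {𝒜' : ℤ → AddSubgroup R'} [GradedRing 𝒜'] (D : VerData 𝒜 𝒜')
  (hpos : ∀ n : ℤ, n < 0 → 𝒜 n = ⊥) (h0 : IsField (GrLC.deg0 𝒜))
  (m : HomogeneousIdeal 𝒜) (m' : HomogeneousIdeal 𝒜')
  (hmsp : m.toIdeal = Ideal.span (⋃ n ∈ Set.Ioi (0 : ℤ), (𝒜 n : Set R)))
  (hm'sp : m'.toIdeal = Ideal.span (⋃ j ∈ Set.Ioi (0 : ℤ), (𝒜' j : Set R')))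
  (E : GMod.{u} 𝒜) (e : (R ⧸ m.toIdeal) →ₗ[R] E.carrier)
  (he : GrLC.IsStarInjHull 𝒜 (GrLC.quotGr 𝒜 m) E.gr e)
  (n : ℕ) (I : GrLC.StarInjRes 𝒜 𝒜) (I' : GrLC.StarInjRes 𝒜' 𝒜') (C : GMod.{u} 𝒜)
  {E'' : Type u} [AddCommGroup E''] [Module R' E''] (𝓔'' : ℤ → AddSubgroup E'')
  [DirectSum.Decomposition 𝓔''] [SetLike.GradedSMul 𝒜' 𝓔'']
  (e' : (R' ⧸ m'.toIdeal) →ₗ[R'] E'')
  (he' : GrLC.IsStarInjHull 𝒜' (GrLC.quotGr 𝒜' m') 𝓔'' e')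
  {C' : Type u} [AddCommGroup C'] [Module R' C'] (𝒞' : ℤ → AddSubgroup C')
  [DirectSum.Decomposition 𝒞'] [SetLike.GradedSMul 𝒜' 𝒞']

include hpos h0 hmsp hm'sp he he' in
/-- **`K_{R^(q)} = (K_R)^(q)`** -/
theorem exists_isVer_of_isStarCanonical (hC : IsStarCanonical 𝒜 C.gr E.gr m n I)
    (hC' : IsStarCanonical 𝒜' 𝒞' 𝓔'' m' n I') :
    ∃ g : C' →ₛₗ[D.φ] C.carrier, IsVer D 𝒞' C.gr g := by
  haveI : IsNoetherianRing R' := D.isNoetherianRing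
  have hV := isStarCanonical_ver D hpos h0 m m' hmsp hm'sp E e he n I I' C hC
  obtain ⟨hfinV, φV, hφV⟩ := hV
  obtain ⟨hfin', φ', hφ'⟩ := hC'
  haveI := hfinV
  haveI := hfin'
  have hpos' := D.hpos' hpos
  have h0' := D.h0' h0
  have hess' := isStarEss_eVer D hpos h0 m m' hmsp hm'sp E e he.toIsStarEss
  have hinj' := isStarInj_ver_hull D hpos h0 m m' hmsp hm'sp E e he
  have hhull' := isStarInjHull_eVer D hpos h0 m m' hmsp hm'sp E e he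
  -- uniqueness of the hull
  let decQ' := quotGrDecomposition 𝒜' m'
  have smulQ' := quotGrGradedSMul 𝒜' m'
  obtain ⟨β, hβ, -⟩ := Groth.Agent.S13214.result R' 𝒜' (R' ⧸ m'.toIdeal) (GrLC.quotGr 𝒜' m')
    E'' 𝓔'' (Ver D E) (verGr D E) e' (eVer D hpos m m' hmsp hm'sp E e he.toIsStarEss) he' hhull'
  -- the comparison of duals
  let Λ : (Ver D C →ₗ[R'] Ver D E) ≃ₗ[R'] (C' →ₗ[R'] Ver D E) :=
    (φV.trans φ'.symm).trans (LinearEquiv.arrowCongr (LinearEquiv.refl R' C') β)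
  have hΛ : ∀ (d : ℤ) (ψ : Ver D C →ₗ[R'] Ver D E), IsGrHomDeg (verGr D C) (verGr D E) ψ d →
      IsGrHomDeg 𝒞' (verGr D E) (Λ ψ) d := by
    intro d ψ hψ
    have h1 : φV ψ ∈ I'.Hgr m' n d := hφV d ψ hψ
    have h2 : IsGrHomDeg 𝒞' 𝓔'' (φ'.symm (φV ψ)) d :=
      symm_mem_homGr 𝒜' 𝒞' 𝓔'' (I'.Hgr m' n) (Hgr_isInternal I' m' n) φ' hφ' h1
    intro j c hc
    show β (φ'.symm (φV ψ) c) ∈ verGr D E (j + d)
    exact hβ (j + d) _ (h2 j c hc)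
  obtain ⟨g₀, hg₀, hg₀symm⟩ := exists_equiv_of_homEquiv 𝒜' hpos' h0' m' hm'sp (verGr D E)
    (eVer D hpos m m' hmsp hm'sp E e he.toIsStarEss) hess' hinj' (verGr D C) 𝒞' Λ hΛ
  refine ⟨(verIncl D C).comp g₀.toLinearMap, ?_, ?_, ?_⟩
  · intro x y hxy
    exact g₀.injective (verIncl_injective D C hxy)
  · intro j x hx
    exact (mem_verGr D C).mp (hg₀ j x hx)
  · intro j y hy
    let v : Ver D C := Ver.mk D C y (mem_verSub_of_mem C.gr D.q hy)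
    have hv : v ∈ verGr D C j := hy
    refine ⟨g₀.symm v, hg₀symm j v hv, ?_⟩
    show Ver.val D C (g₀ (g₀.symm v)) = y
    rw [g₀.apply_symm_apply]
    rfl

end Canon

end Groth.Agent.Lib.Helper39.Ver
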