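import Groth.Agent.Lib.Helper39.GrVer23
import Groth.Agent.Lib.Helper39.GrCanonLoc
import Groth.Agent.Lib.Helper39.CanonType
import Groth.Agent.Lib.Helper39.CanonTypeNum
import Groth.Agent.Lib.Helper87.BassFlat1

/-!
# The type of a graded ring over a field from its *canonical module, assuming only the vanishing of
the lower graded local cohomology (helper39)
-/

set_option autoImplicit false
universe u
open IsLocalRing CategoryTheory Abelian Opposite
open scoped TensorProduct

namespace Groth.Agent.Lib.Helper39.CanonTypeV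

open Groth.Agent.Lib.Helper60 Groth.Agent.Lib.Helper2 Groth.Agent.Lib.Helper39 InjHull
  Groth.Agent.Lib.Helper39.CanonType

section Local
variable {A : Type u} [CommRing A] [IsNoetherianRing A] [IsLocalRing A] {n : ℕ}
  (hvan : ∀ i < n, Subsingleton ((localCohomology (maximalIdeal A) i).obj (ModuleCat.of A A)))
  {E : Type u} [AddCommGroup E] [Module A E]
  {f : ResidueField A →ₗ[A] E} (hf : IsInjectiveHull f)
  {K : Type u} [AddCommGroup K] [Module A K] [Module.Finite A K]
  (eK : (K →ₗ[A] E) ≃ₗ[A] LocCoh.H (maximalIdeal A) n A)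

include hvan hf eK in
theorem length_ext_self' :
    Module.length A (Ext (ModuleCat.of A (ResidueField A)) (ModuleCat.of A A) n) =
      Module.length A (K ⧸ (maximalIdeal A • ⊤ : Submodule A K)) := by
  obtain ⟨-, ⟨e1⟩⟩ := ExtSocle.ext_residueField_socle n A hvan
  have e2 := ExtSocle.torsionByCongr (maximalIdeal A) eK.symm
  have e3 := homQuotEquivTorsionBy (maximalIdeal A) K E
  have h1 := length_quotient_maximalIdeal_smul_eq_spanFinrank (R := A) K
  have hfin : IsFiniteLength A (K ⧸ (maximalIdeal A • ⊤ : Submodule A K)) := by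
    rw [← Module.length_ne_top_iff, h1]
    exact ENat.natCast_ne_top _
  rw [e1.length_eq, e2.length_eq, ← e3.length_eq, length_hom_eq_length hf _ hfin]

end Local

section Loc
variable (R : Type u) [CommRing R] [IsNoetherianRing R] (m : Ideal R) [hm : m.IsPrime]

/-- vanishing of local cohomology passes to the localization -/
theorem lc_localization_subsingleton (i : ℕ) (h : Subsingleton (LocCoh.H m i R)) :
    Subsingleton ((localCohomology (maximalIdeal (Localization.AtPrime m)) i).obj
      (ModuleCat.of (Localization.AtPrime m) (Localization.AtPrime m))) := by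
  have hmap : m.map (algebraMap R (Localization.AtPrime m)) =
      maximalIdeal (Localization.AtPrime m) := Localization.AtPrime.map_eq_maximalIdeal
  obtain ⟨e4⟩ := nonempty_lc_flatBaseChange (R := R) (R' := Localization.AtPrime m) m i R
  let r := TensorProduct.AlgebraTensorModule.rid R (Localization.AtPrime m) (Localization.AtPrime m)
  let iso := (localCohomology (m.map (algebraMap R (Localization.AtPrime m))) i).mapIso
    r.toModuleIso
  have e5 : LocCoh.H (m.map (algebraMap R (Localization.AtPrime m))) i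
      ((Localization.AtPrime m) ⊗[R] R) ≃ₗ[Localization.AtPrime m]
      LocCoh.H (m.map (algebraMap R (Localization.AtPrime m))) i (Localization.AtPrime m) :=
    iso.toLinearEquiv
  rw [hmap] at e4 e5
  haveI : Subsingleton ((Localization.AtPrime m) ⊗[R] LocCoh.H m i R) := by
    constructor
    intro x y
    have hz : ∀ z : (Localization.AtPrime m) ⊗[R] LocCoh.H m i R, z = 0 := by
      intro z
      induction z using TensorProduct.induction_on with
      | zero => rfl
      | tmul a b => rw [Subsingleton.elim b 0, TensorProduct.tmul_zero]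
      | add a b ha hb => rw [ha, hb, add_zero]
    rw [hz x, hz y]
  exact (e4.trans e5).symm.injective.subsingleton

end Loc

end Groth.Agent.Lib.Helper39.CanonTypeV

namespace Groth.Agent.Lib.Helper39.Ver

open GrLC Groth.Agent.Lib.Helper39

/-- **type = number of generators of the *canonical module**, assuming only the vanishing of
`H^i_m(R)` for `i < n` -/
theorem bassNum_eq_finrank_of_vanishing (R : Type u) [CommRing R] [IsNoetherianRing R]
    (𝒜 : ℤ → AddSubgroup R) [GradedRing 𝒜]
    (m : HomogeneousIdeal 𝒜) [hmax : m.toIdeal.IsMaximal]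
    (n : ℕ) (I : GrLC.StarInjRes 𝒜 𝒜) (hvan : ∀ i < n, Subsingleton (I.H m i))
    (E' : Type u) [AddCommGroup E'] [Module R E'] (𝓔 : ℤ → AddSubgroup E')
    [DirectSum.Decomposition 𝓔] [SetLike.GradedSMul 𝒜 𝓔] (e : (R ⧸ m.toIdeal) →ₗ[R] E')
    (he : GrLC.IsStarInjHull 𝒜 (GrLC.quotGr 𝒜 m) 𝓔 e)
    (C : Type u) [AddCommGroup C] [Module R C] (𝒞 : ℤ → AddSubgroup C)
    [DirectSum.Decomposition 𝒞] [SetLike.GradedSMul 𝒜 𝒞]
    (hC : GrLC.IsStarCanonical 𝒜 𝒞 𝓔 m n I) :
    GrLC.bassNum m.toIdeal R n =
      (Module.finrank (R ⧸ m.toIdeal) ((R ⧸ m.toIdeal) ⊗[R] C) : ℕ∞) := by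
  classical
  obtain ⟨hfin, φ, -⟩ := hC
  haveI := hfin
  obtain ⟨ψ⟩ := Groth.Agent.S13224.result R 𝒜 m R 𝒜 I n
  have he' := Groth.Agent.S18637.result R 𝒜 m E' 𝓔 e he
  obtain ⟨f, hf, ⟨eK⟩⟩ := CanonLocMax.main R m.toIdeal n E' e he' C (φ ≪≫ₗ ψ)
  haveI : Module.Finite (Localization.AtPrime m.toIdeal)
      (LocalizedModule m.toIdeal.primeCompl C) :=
    Module.Finite.of_isLocalizedModule m.toIdeal.primeCompl
      (LocalizedModule.mkLinearMap m.toIdeal.primeCompl C)
  have hvan' : ∀ i < n, Subsingleton ((localCohomology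
      (IsLocalRing.maximalIdeal (Localization.AtPrime m.toIdeal)) i).obj
      (ModuleCat.of (Localization.AtPrime m.toIdeal) (Localization.AtPrime m.toIdeal))) := by
    intro i hi
    obtain ⟨ψi⟩ := Groth.Agent.S13224.result R 𝒜 m R 𝒜 I i
    haveI := hvan i hi
    exact CanonTypeV.lc_localization_subsingleton R m.toIdeal i ψi.symm.injective.subsingleton
  have θ : LocalizedModule m.toIdeal.primeCompl R ≃ₗ[Localization.AtPrime m.toIdeal]
      Localization.AtPrime m.toIdeal :=
    IsLocalizedModule.mapEquiv m.toIdeal.primeCompl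
      (LocalizedModule.mkLinearMap m.toIdeal.primeCompl R)
      (Algebra.linearMap R (Localization.AtPrime m.toIdeal)) (Localization.AtPrime m.toIdeal)
      (LinearEquiv.refl R R)
  have e1 := Groth.Agent.Lib.Helper87.BassFlat.extCongrRight
    (ModuleCat.of (Localization.AtPrime m.toIdeal)
      (IsLocalRing.ResidueField (Localization.AtPrime m.toIdeal)))
    θ.toModuleIso n
  have h1 := CanonTypeV.length_ext_self' hvan' hf eK
  have h2 := Groth.Agent.Lib.Helper39.CanonTypeNum.length_quot_eq_finrank R m.toIdeal C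
  unfold GrLC.bassNum GrLC.bassNumLocal
  rw [e1.length_eq]
  exact h1.trans h2

end Groth.Agent.Lib.Helper39.Ver
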