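import Groth.Agent.Lib.Helper39.GrVer24

/-!
# Number of generators of a graded module generated in its lowest degree (helper39)

`R` positively graded over a field `R_0 = k`, `m = R_+` (a maximal ideal), `C` a finitely generated
graded module with `C_j = 0` for `j < j₁` and `C_j ⊆ m C` for `j > j₁`.  Then
`dim_{R/m} (R/m ⊗ C) = dim_k C_{j₁}`.
-/

set_option autoImplicit false
universe u
open scoped TensorProduct

namespace Groth.Agent.Lib.Helper39.GrGenDeg

open DirectSum GrLC Groth.Agent.Lib.Helper39 Groth.Agent.Lib.Helper39.GrStarLocal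
  Groth.Agent.Lib.Helper39.GrPieceDual

section Killed
variable {R : Type u} [CommRing R] (𝒜 : ℤ → AddSubgroup R) [GradedRing 𝒜]
  (hpos : ∀ n : ℤ, n < 0 → 𝒜 n = ⊥)
  (m : HomogeneousIdeal 𝒜)
  (hmsp : m.toIdeal = Ideal.span (⋃ n ∈ Set.Ioi (0 : ℤ), (𝒜 n : Set R)))
  {X : Type u} [AddCommGroup X] [Module R X] (hX : ∀ r ∈ m.toIdeal, ∀ x : X, r • x = 0)

include hpos hmsp hX in
theorem smul_eq_deg0_smul (r : R) (x : X) : r • x = (decompose 𝒜 r 0 : R) • x := by
  have h1 : r - (decompose 𝒜 r 0 : R) ∈ m.toIdeal := by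
    rw [hmsp]
    exact sub_decompose_zero_mem_irr 𝒜 hpos r
  have h2 := hX _ h1 x
  rwa [sub_smul, sub_eq_zero] at h2

/-- for a module killed by `R_+`, `R`-submodules and `R_0`-submodules coincide -/
def submoduleOrderIso : Submodule R X ≃o Submodule (GrLC.deg0 𝒜) X where
  toFun N := N.restrictScalars (GrLC.deg0 𝒜)
  invFun P :=
    { carrier := P
      add_mem' := fun ha hb => P.add_mem ha hb
      zero_mem' := P.zero_mem
      smul_mem' := fun r x hx => by
        rw [smul_eq_deg0_smul 𝒜 hpos m hmsp hX r x]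
        exact P.smul_mem ⟨(decompose 𝒜 r 0 : R), SetLike.coe_mem _⟩ hx }
  left_inv N := rfl
  right_inv P := rfl
  map_rel_iff' := Iff.rfl

include hpos hmsp hX in
theorem length_eq_length_deg0 : Module.length R X = Module.length (GrLC.deg0 𝒜) X := by
  rw [Module.length, Module.length, WithBot.unbot_inj,
    Order.krullDim_eq_of_orderIso (submoduleOrderIso 𝒜 hpos m hmsp hX)]

end Killed

section Gen
variable {R : Type u} [CommRing R] [IsNoetherianRing R] (𝒜 : ℤ → AddSubgroup R) [GradedRing 𝒜]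
  (hpos : ∀ n : ℤ, n < 0 → 𝒜 n = ⊥) (h0 : IsField (GrLC.deg0 𝒜))
  (m : HomogeneousIdeal 𝒜) [hmax : m.toIdeal.IsMaximal]
  (hmsp : m.toIdeal = Ideal.span (⋃ n ∈ Set.Ioi (0 : ℤ), (𝒜 n : Set R)))
  {C : Type u} [AddCommGroup C] [Module R C] (𝒞 : ℤ → AddSubgroup C)
  [DirectSum.Decomposition 𝒞] [SetLike.GradedSMul 𝒜 𝒞] [Module.Finite R C]
  (j₁ : ℤ) (hlow : ∀ j, j < j₁ → 𝒞 j = ⊥)
  (hgen : ∀ j, j₁ < j → ∀ c ∈ 𝒞 j, c ∈ (m.toIdeal • ⊤ : Submodule R C))

omit [IsNoetherianRing R] hmax [Module.Finite R C] in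
include hmsp hlow in
theorem smul_top_le_geq : (m.toIdeal • ⊤ : Submodule R C) ≤ geq 𝒜 𝒞 hpos (j₁ + 1) := by
  have key : ∀ r ∈ Ideal.span (⋃ n ∈ Set.Ioi (0 : ℤ), (𝒜 n : Set R)), ∀ c : C,
      r • c ∈ geq 𝒜 𝒞 hpos (j₁ + 1) := by
    intro r hr
    induction hr using Submodule.span_induction with
    | mem r hr =>
      intro c
      simp only [Set.mem_iUnion, Set.mem_Ioi] at hr
      obtain ⟨n, hn, hr⟩ := hr
      rw [mem_geq]
      intro j hj
      have h1 := decompose_smul_of_mem 𝒜 𝒞 hr c (j - n)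
      rw [add_sub_cancel] at h1
      rw [h1]
      have h2 : (decompose 𝒞 c (j - n) : C) ∈ (⊥ : AddSubgroup C) := by
        rw [← hlow (j - n) (by omega)]
        exact SetLike.coe_mem _
      rw [AddSubgroup.mem_bot] at h2
      rw [h2, smul_zero]
    | zero => intro c; rw [zero_smul]; exact Submodule.zero_mem _
    | add r s _ _ hr hs => intro c; rw [add_smul]; exact Submodule.add_mem _ (hr c) (hs c)
    | smul a r _ hr => intro c; rw [smul_eq_mul, mul_smul]; exact Submodule.smul_mem _ a (hr c)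
  rw [Submodule.smul_le]
  intro r hr c _
  rw [hmsp] at hr
  exact key r hr c

/-- the map `C_{j₁} → C / m C` -/
def pieceToQuot : GrLC.comp 𝒜 𝒞 j₁ →ₗ[GrLC.deg0 𝒜] (C ⧸ (m.toIdeal • ⊤ : Submodule R C)) where
  toFun v := Submodule.Quotient.mk (v : C)
  map_add' a b := rfl
  map_smul' r v := rfl

omit [IsNoetherianRing R] hmax [Module.Finite R C] in
include hpos hmsp hlow hgen in
theorem pieceToQuot_bijective : Function.Bijective (pieceToQuot 𝒜 m 𝒞 j₁) := by
  classical
  constructor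
  · rw [injective_iff_map_eq_zero]
    intro v hv
    have h1 : (v : C) ∈ (m.toIdeal • ⊤ : Submodule R C) :=
      (Submodule.Quotient.mk_eq_zero _).mp hv
    have h2 := smul_top_le_geq 𝒜 hpos m hmsp 𝒞 j₁ hlow h1
    rw [mem_geq] at h2
    have h3 := h2 j₁ (by omega)
    rw [decompose_of_mem_same 𝒞 v.2] at h3
    exact Subtype.ext h3
  · intro x
    obtain ⟨c, rfl⟩ := Submodule.Quotient.mk_surjective _ x
    refine ⟨⟨(decompose 𝒞 c j₁ : C), SetLike.coe_mem _⟩, ?_⟩
    show Submodule.Quotient.mk (decompose 𝒞 c j₁ : C) = Submodule.Quotient.mk c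
    rw [Submodule.Quotient.eq]
    have key : ∀ j, j ≠ j₁ → (decompose 𝒞 c j : C) ∈ (m.toIdeal • ⊤ : Submodule R C) := by
      intro j hj
      rcases lt_or_gt_of_ne hj with h | h
      · have h2 : (decompose 𝒞 c j : C) ∈ (⊥ : AddSubgroup C) := by
          rw [← hlow j h]
          exact SetLike.coe_mem _
        rw [AddSubgroup.mem_bot] at h2
        rw [h2]
        exact Submodule.zero_mem _
      · exact hgen j h _ (SetLike.coe_mem _)
    have h4 : c - (decompose 𝒞 c j₁ : C) ∈ (m.toIdeal • ⊤ : Submodule R C) := by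
      rw [← DirectSum.sum_support_decompose 𝒞 (c - (decompose 𝒞 c j₁ : C))]
      apply Submodule.sum_mem
      intro j _
      rw [decompose_sub, DirectSum.sub_apply, AddSubgroup.coe_sub]
      by_cases hj : j = j₁
      · subst hj
        rw [decompose_of_mem_same 𝒞 (SetLike.coe_mem _), sub_self]
        exact Submodule.zero_mem _
      · rw [decompose_of_mem_ne 𝒞 (SetLike.coe_mem (decompose 𝒞 c j₁)) (Ne.symm hj), sub_zero]
        exact key j hj
    have h5 := Submodule.neg_mem _ h4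
    rwa [neg_sub] at h5

include hpos h0 hmsp hlow hgen in
/-- **number of generators of a graded module generated in its lowest degree** -/
theorem finrank_tensor_eq :
    (Module.finrank (R ⧸ m.toIdeal) ((R ⧸ m.toIdeal) ⊗[R] C) : ℕ∞) =
      (Module.finrank (GrLC.deg0 𝒜) (GrLC.comp 𝒜 𝒞 j₁) : ℕ∞) := by
  letI : Field (R ⧸ m.toIdeal) := Ideal.Quotient.field m.toIdeal
  have hX : ∀ r ∈ m.toIdeal, ∀ x : C ⧸ (m.toIdeal • ⊤ : Submodule R C), r • x = 0 := by
    intro r hr x
    obtain ⟨c, rfl⟩ := Submodule.Quotient.mk_surjective _ x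
    rw [← Submodule.Quotient.mk_smul, Submodule.Quotient.mk_eq_zero]
    exact Submodule.smul_mem_smul hr Submodule.mem_top
  have e1 := TensorProduct.quotTensorEquivQuotSMul C m.toIdeal
  have h1 : Module.length (R ⧸ m.toIdeal) ((R ⧸ m.toIdeal) ⊗[R] C) =
      (Module.finrank (R ⧸ m.toIdeal) ((R ⧸ m.toIdeal) ⊗[R] C) : ℕ∞) :=
    Module.length_eq_finrank _ _
  have h2 : Module.length R ((R ⧸ m.toIdeal) ⊗[R] C) =
      Module.length (R ⧸ m.toIdeal) ((R ⧸ m.toIdeal) ⊗[R] C) :=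
    Module.length_eq_of_surjective Ideal.Quotient.mk_surjective
  have h3 := e1.length_eq
  have h4 := length_eq_length_deg0 𝒜 hpos m hmsp hX
  have e5 := LinearEquiv.ofBijective (pieceToQuot 𝒜 m 𝒞 j₁)
    (pieceToQuot_bijective 𝒜 hpos m hmsp 𝒞 j₁ hlow hgen)
  have h5 := e5.length_eq
  letI : Field (GrLC.deg0 𝒜) := h0.toField
  haveI : Module.Finite (GrLC.deg0 𝒜) (GrLC.comp 𝒜 𝒞 j₁) := GrPieces.finite_comp 𝒜 𝒞 hpos j₁
  have h6 : Module.length (GrLC.deg0 𝒜) (GrLC.comp 𝒜 𝒞 j₁) =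
      (Module.finrank (GrLC.deg0 𝒜) (GrLC.comp 𝒜 𝒞 j₁) : ℕ∞) :=
    Module.length_eq_finrank _ _
  rw [← h1, ← h2, h3, h4, ← h5, h6]

end Gen

end Groth.Agent.Lib.Helper39.GrGenDeg
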