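import Groth.Agent.Lib.Helper39.GrVer25

/-!
# The type of a Veronese subring of a Gorenstein standard graded ring (helper39)
-/

set_option autoImplicit false
universe u
open scoped TensorProduct

namespace Groth.Agent.Lib.Helper39.Ver

open DirectSum GrLC Groth.Agent.Lib.Helper39 Groth.Agent.Lib.Helper39.GrStarLocal
  Groth.Agent.Lib.Helper39.GrPieceDual Groth.Agent.Lib.Helper39.GrLes
  Groth.Agent.Lib.Helper39.GrHomInt Groth.Agent.Lib.Helper39.GrMatlis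

section CanonGor
variable {R : Type u} [CommRing R] (𝒜 : ℤ → AddSubgroup R) [GradedRing 𝒜]

/-- the shifted module `R(a)` -/
def RS (a : ℤ) : GMod.{u} 𝒜 := gshift (GMod.of 𝒜 R 𝒜) a

variable (m : HomogeneousIdeal 𝒜) (n : ℕ) (I : GrLC.StarInjRes 𝒜 𝒜) (E : GMod.{u} 𝒜)
  (a : ℤ) (φ₀ : I.H m n ≃ₗ[R] E.carrier)
  (hφ₀ : GrLC.IsGrHomDeg (I.Hgr m n) E.gr φ₀.toLinearMap (-a))

include hφ₀ in
/-- if `H^n_m(R) ≅ E(a)` then `R(a)` is a *canonical module -/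
theorem isStarCanonical_shift_self :
    IsStarCanonical 𝒜 (RS 𝒜 a).gr E.gr m n I := by
  refine ⟨Module.Finite.self R, (LinearMap.ringLmapEquivSelf R R E.carrier).trans φ₀.symm, ?_⟩
  intro d ψ hψ
  show φ₀.symm (ψ (1 : R)) ∈ I.Hgr m n d
  have h1 : ψ (1 : R) ∈ E.gr (d + -a) := by
    have h2 : (1 : R) ∈ (RS 𝒜 a).gr (-a) := by
      show (1 : R) ∈ 𝒜 (-a + a)
      rw [neg_add_cancel]
      exact SetLike.GradedOne.one_mem (A := 𝒜)
    have h3 := hψ (-a) (1 : R) h2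
    rwa [add_comm] at h3
  obtain ⟨y, hy, e1⟩ := GrRegVanish.exists_mem_of_isInternal_deg (Hgr_isInternal I m n)
    (DirectSum.Decomposition.isInternal E.gr) φ₀.toLinearMap hφ₀ h1 (φ₀.symm (ψ (1 : R)))
    (φ₀.apply_symm_apply _)
  have : φ₀.symm (ψ (1 : R)) = y := by
    rw [← e1]
    exact φ₀.symm_apply_apply y
  rw [this]
  exact hy

end CanonGor

section Gen
variable {R R' : Type u} [CommRing R] [CommRing R']
  {𝒜 : ℤ → AddSubgroup R} [GradedRing 𝒜]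
  {𝒜' : ℤ → AddSubgroup R'} [GradedRing 𝒜'] (D : VerData 𝒜 𝒜')
  (hpos : ∀ n : ℤ, n < 0 → 𝒜 n = ⊥)
  (hstd : Ideal.span (⋃ n ∈ Set.Ioi (0 : ℤ), (𝒜 n : Set R)) =
    Ideal.span ((𝒜 1 : AddSubgroup R) : Set R))
  (m' : HomogeneousIdeal 𝒜')
  (hm'sp : m'.toIdeal = Ideal.span (⋃ j ∈ Set.Ioi (0 : ℤ), (𝒜' j : Set R')))
  (a ρ j₁ : ℤ) (hρ0 : 0 ≤ ρ) (hρq : ρ < D.q) (hj₁ : j₁ * D.q + a = ρ)

include hpos hρq hj₁ in
theorem verGr_shift_eq_bot (j : ℤ) (hj : j < j₁) :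
    verGr D (RS 𝒜 a) j = ⊥ := by
  rw [eq_bot_iff]
  intro v hv
  rw [AddSubgroup.mem_bot]
  apply Ver.ext
  have h1 : Ver.val D _ v ∈ 𝒜 (j * D.q + a) := (mem_verGr D _).mp hv
  have hq := D.qpos
  have h2 : j * (D.q : ℤ) + a < 0 := by
    have : j * (D.q : ℤ) ≤ (j₁ - 1) * D.q := mul_le_mul_of_nonneg_right (by omega) hq.le
    have h3 : (j₁ - 1) * (D.q : ℤ) = j₁ * D.q - D.q := by ring
    omega
  have h1' : (Ver.val D _ v : R) ∈ (⊥ : AddSubgroup R) := by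
    rw [← hpos _ h2]
    exact h1
  exact AddSubgroup.mem_bot.mp h1'

include hstd hm'sp hρ0 hj₁ in
theorem verGr_shift_le_smul_top (j : ℤ) (hj : j₁ < j)
    (v : Ver D (RS 𝒜 a)) (hv : v ∈ verGr D (RS 𝒜 a) j) :
    v ∈ (m'.toIdeal • ⊤ : Submodule R' (Ver D (RS 𝒜 a))) := by
  classical
  let Cg : GMod.{u} 𝒜 := RS 𝒜 a
  have hq := D.qpos
  have hs0 : 0 < (j - j₁) * (D.q : ℤ) := mul_pos (by omega) hq
  obtain ⟨s, hs⟩ : ∃ s : ℕ, (s : ℤ) = (j - j₁) * D.q := ⟨((j - j₁) * (D.q : ℤ)).toNat, by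
    rw [Int.toNat_of_nonneg hs0.le]⟩
  have h1 : Ver.val D Cg v ∈ 𝒜 ((s : ℤ) + ρ) := by
    have h2 : Ver.val D Cg v ∈ 𝒜 (j * D.q + a) := (mem_verGr D Cg).mp hv
    have h3 : (s : ℤ) + ρ = j * D.q + a := by rw [hs, ← hj₁]; ring
    rwa [h3]
  have h2 := GrCanonDim2.mem_closure_prod 𝒜 hstd ρ hρ0 s h1
  -- every element of the closure gives an element of `m' • ⊤`
  have key : ∀ z ∈ AddSubgroup.closure (GrCanonDim2.prodSet 𝒜 (s : ℤ) ρ),
      ∃ hz : z ∈ verSub Cg.gr D.q, Ver.mk D Cg z hz ∈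
        (m'.toIdeal • ⊤ : Submodule R' (Ver D Cg)) := by
    intro z hz
    induction hz using AddSubgroup.closure_induction with
    | mem z hz =>
      obtain ⟨α, hα, β, hβ, rfl⟩ := hz
      have hα' : α ∈ 𝒜 ((j - j₁) * D.q) := by rwa [← hs]
      obtain ⟨α', hα'd, rfl⟩ := D.exists_mem (j - j₁) α hα'
      have hβ' : β ∈ Cg.gr (j₁ * D.q) := by
        show β ∈ 𝒜 (j₁ * D.q + a)
        rwa [hj₁]
      have hβv : β ∈ verSub Cg.gr D.q := mem_verSub_of_mem Cg.gr D.q hβ'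
      have hmem : α' ∈ m'.toIdeal := by
        rw [hm'sp]
        apply Ideal.subset_span
        simp only [Set.mem_iUnion, Set.mem_Ioi]
        exact ⟨j - j₁, by omega, hα'd⟩
      have hprod : D.φ α' * β ∈ verSub Cg.gr D.q := D.smul_mem_verSub Cg.gr α' hβv
      refine ⟨hprod, ?_⟩
      have : Ver.mk D Cg (D.φ α' * β) hprod = α' • Ver.mk D Cg β hβv := Ver.ext D Cg rfl
      rw [this]
      exact Submodule.smul_mem_smul hmem Submodule.mem_top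
    | zero =>
      refine ⟨zero_mem _, ?_⟩
      show (0 : Ver D Cg) ∈ _
      exact Submodule.zero_mem _
    | add x y _ _ hx hy =>
      obtain ⟨hx1, hx2⟩ := hx
      obtain ⟨hy1, hy2⟩ := hy
      refine ⟨add_mem hx1 hy1, ?_⟩
      have : Ver.mk D Cg (x + y) (add_mem hx1 hy1) = Ver.mk D Cg x hx1 + Ver.mk D Cg y hy1 :=
        Ver.ext D Cg rfl
      rw [this]
      exact Submodule.add_mem _ hx2 hy2
    | neg x _ hx =>
      obtain ⟨hx1, hx2⟩ := hx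
      refine ⟨neg_mem hx1, ?_⟩
      have : Ver.mk D Cg (-x) (neg_mem hx1) = -Ver.mk D Cg x hx1 := Ver.ext D Cg rfl
      rw [this]
      exact Submodule.neg_mem _ hx2
  obtain ⟨hz, hmem⟩ := key _ h2
  have : v = Ver.mk D Cg (Ver.val D Cg v) hz := Ver.ext D Cg rfl
  rw [this]
  exact hmem

end Gen

end Groth.Agent.Lib.Helper39.Ver
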