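import Groth.Agent.Lib.Helper39.GrVer27

/-!
# Building the Veronese grading on a ring `R'` from an embedding `φ : R' → R` (helper39)

If `φ : R' → R` is injective, its range contains every `𝒜 (j q)` and is contained in
`⨆ j, 𝒜 (j q)`, then `R'` is graded by `𝒜' j := φ⁻¹ (𝒜 (j q))` and is the `q`-th Veronese subring.
-/

set_option autoImplicit false
universe u
open scoped TensorProduct

namespace Groth.Agent.Lib.Helper39.Ver

open DirectSum GrLC Groth.Agent.Lib.Helper39 Groth.Agent.Lib.Helper39.GrStarLocal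

section Build
variable {R R' : Type u} [CommRing R] [CommRing R'] (𝒜 : ℤ → AddSubgroup R) [GradedRing 𝒜]
  (φ : R' →+* R) (q : ℕ)

/-- the pulled back grading -/
def pullGr : ℤ → AddSubgroup R' := fun j => (𝒜 (j * q)).comap φ.toAddMonoidHom

theorem mem_pullGr {j : ℤ} {x : R'} : x ∈ pullGr 𝒜 φ q j ↔ φ x ∈ 𝒜 (j * q) := Iff.rfl

instance pullGr_gradedMonoid : SetLike.GradedMonoid (pullGr 𝒜 φ q) where
  one_mem := by
    rw [mem_pullGr, map_one, zero_mul]
    exact SetLike.GradedOne.one_mem (A := 𝒜)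
  mul_mem := by
    intro i j x y hx hy
    rw [mem_pullGr] at hx hy ⊢
    rw [map_mul, add_mul]
    exact SetLike.GradedMul.mul_mem hx hy

/-- piece inclusions -/
def pullPieceIncl (j : ℤ) : pullGr 𝒜 φ q j →+ 𝒜 (j * q) where
  toFun x := ⟨φ (x : R'), x.2⟩
  map_zero' := Subtype.ext (map_zero φ)
  map_add' x y := Subtype.ext (map_add φ (x : R') (y : R'))

variable (hq : 0 < q) (hφ : Function.Injective φ)

include hφ in
theorem pullPieceIncl_injective (j : ℤ) : Function.Injective (pullPieceIncl 𝒜 φ q j) := by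
  intro x y h
  apply Subtype.ext
  apply hφ
  exact congrArg (fun z : 𝒜 (j * q) => (z : R)) h

theorem map_coeAddMonoidHom (x : ⨁ j, pullGr 𝒜 φ q j) :
    φ (DirectSum.coeAddMonoidHom (pullGr 𝒜 φ q) x) =
      DirectSum.coeAddMonoidHom (fun j : ℤ => 𝒜 (j * q))
        (DirectSum.map (pullPieceIncl 𝒜 φ q) x) := by
  induction x using DirectSum.induction_on with
  | zero => simp
  | of i x =>
    rw [DirectSum.map_of, DirectSum.coeAddMonoidHom_of, DirectSum.coeAddMonoidHom_of]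
    rfl
  | add x y hx hy => rw [map_add, map_add, map_add, map_add, hx, hy]

include hq in
theorem iSupIndep_mul' : iSupIndep (fun j : ℤ => 𝒜 (j * q)) := by
  have hinj : Function.Injective (fun j : ℤ => j * (q : ℤ)) := by
    intro a b h
    have hq' : (q : ℤ) ≠ 0 := by exact_mod_cast hq.ne'
    exact mul_right_cancel₀ hq' h
  exact ((Decomposition.isInternal 𝒜).addSubgroup_iSupIndep).comp hinj

variable (hA : ∀ (j : ℤ) (a : R), a ∈ 𝒜 (j * q) → a ∈ φ.range)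
  (hB : ∀ x : R', φ x ∈ ⨆ j : ℤ, 𝒜 (j * q))

open Classical in
include hq hφ hA hB in
theorem pullGr_isInternal : DirectSum.IsInternal (pullGr 𝒜 φ q) := by
  constructor
  · intro x y hxy
    have h1 : DirectSum.coeAddMonoidHom (fun j : ℤ => 𝒜 (j * q))
          (DirectSum.map (pullPieceIncl 𝒜 φ q) x) =
        DirectSum.coeAddMonoidHom (fun j : ℤ => 𝒜 (j * q))
          (DirectSum.map (pullPieceIncl 𝒜 φ q) y) := by
      rw [← map_coeAddMonoidHom, ← map_coeAddMonoidHom, hxy]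
    have h2 := (iSupIndep_mul' 𝒜 q hq).dfinsuppSumAddHom_injective h1
    exact (DirectSum.map_injective (pullPieceIncl 𝒜 φ q)).mpr (pullPieceIncl_injective 𝒜 φ q hφ) h2
  · intro x
    let S : AddSubgroup R' := (DirectSum.coeAddMonoidHom (pullGr 𝒜 φ q)).range
    have hle : (⨆ j : ℤ, 𝒜 (j * q)) ≤ S.map φ.toAddMonoidHom := by
      apply iSup_le
      intro j a ha
      obtain ⟨y, hy⟩ := hA j a ha
      refine ⟨y, ⟨DirectSum.of (fun j => pullGr 𝒜 φ q j) j ⟨y, ?_⟩, ?_⟩, hy⟩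
      · rw [mem_pullGr, hy]
        exact ha
      · rw [DirectSum.coeAddMonoidHom_of]
    obtain ⟨s, hs, hsx⟩ := hle (hB x)
    have : s = x := hφ hsx
    rw [← this]
    exact hs

/-- the graded ring structure on `R'` -/
@[reducible] noncomputable def pullGradedRing (h : DirectSum.IsInternal (pullGr 𝒜 φ q)) :
    GradedRing (pullGr 𝒜 φ q) :=
  letI : DirectSum.Decomposition (pullGr 𝒜 φ q) := h.chooseDecomposition
  { (pullGr_gradedMonoid 𝒜 φ q) with }

end Build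

section Data
variable {R R' : Type u} [CommRing R] [CommRing R'] (𝒜 : ℤ → AddSubgroup R) [GradedRing 𝒜]
  (φ : R' →+* R) (q : ℕ) (hq : 0 < q) (hφ : Function.Injective φ)
  (hA : ∀ (j : ℤ) (a : R), a ∈ 𝒜 (j * q) → a ∈ φ.range)
  (hint : DirectSum.IsInternal (pullGr 𝒜 φ q))

/-- the Veronese data of the pulled back grading -/
noncomputable def pullVerData :
    @VerData R R' _ _ 𝒜 _ (pullGr 𝒜 φ q) (pullGradedRing 𝒜 φ q hint) :=
  letI := pullGradedRing 𝒜 φ q hint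
  { φ := φ
    q := q
    hq := hq
    inj := hφ
    map_mem := fun _ _ hr => hr
    exists_mem := fun j a ha => by
      obtain ⟨y, hy⟩ := hA j a ha
      refine ⟨y, ?_, hy⟩
      rw [mem_pullGr, hy]
      exact ha }

variable (hpos : ∀ n : ℤ, n < 0 → 𝒜 n = ⊥)

include hq hφ hpos in
theorem irr_pull_eq :
    letI := pullGradedRing 𝒜 φ q hint
    (irr (pullGr 𝒜 φ q)).toIdeal = Ideal.comap φ (irr 𝒜).toIdeal := by
  letI := pullGradedRing 𝒜 φ q hint
  show (irr (pullGr 𝒜 φ q)).toIdeal = Ideal.comap φ (irr 𝒜).toIdeal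
  have hq' : (0 : ℤ) < (q : ℤ) := by exact_mod_cast hq
  have hle : (irr (pullGr 𝒜 φ q)).toIdeal ≤ Ideal.comap φ (irr 𝒜).toIdeal := by
    rw [irr_toIdeal, Ideal.span_le]
    intro x hx
    simp only [Set.mem_iUnion, Set.mem_Ioi, SetLike.mem_coe, exists_prop] at hx
    obtain ⟨j, hj, hx⟩ := hx
    show φ x ∈ (irr 𝒜).toIdeal
    rw [irr_toIdeal]
    apply Ideal.subset_span
    simp only [Set.mem_iUnion, Set.mem_Ioi, SetLike.mem_coe, exists_prop]
    exact ⟨j * q, mul_pos hj hq', hx⟩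
  apply le_antisymm hle
  intro x hx
  have hpos' : ∀ j : ℤ, j < 0 → pullGr 𝒜 φ q j = ⊥ := by
    intro j hj
    rw [eq_bot_iff]
    intro r hr
    have h1 : φ r ∈ 𝒜 (j * q) := hr
    rw [hpos (j * q) (mul_neg_of_neg_of_pos hj hq'), AddSubgroup.mem_bot] at h1
    rw [AddSubgroup.mem_bot]
    exact hφ (h1.trans (map_zero φ).symm)
  have h1 := sub_decompose_zero_mem_irr (pullGr 𝒜 φ q) hpos' x
  have h2 : φ (decompose (pullGr 𝒜 φ q) x 0 : R') ∈ (irr 𝒜).toIdeal := by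
    have h3 : φ (x - (decompose (pullGr 𝒜 φ q) x 0 : R')) ∈ (irr 𝒜).toIdeal := hle h1
    have h4 : φ x ∈ (irr 𝒜).toIdeal := hx
    have : φ (decompose (pullGr 𝒜 φ q) x 0 : R') =
        φ x - φ (x - (decompose (pullGr 𝒜 φ q) x 0 : R')) := by
      rw [map_sub]; ring
    rw [this]
    exact sub_mem h4 h3
  have h5 : φ (decompose (pullGr 𝒜 φ q) x 0 : R') ∈ 𝒜 0 := by
    have := (decompose (pullGr 𝒜 φ q) x 0).2
    rw [mem_pullGr, zero_mul] at this
    exact this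
  have h6 := decompose_eq_zero_of_mem_irr 𝒜 hpos h2 0 (by omega)
  rw [decompose_of_mem_same 𝒜 h5] at h6
  have h7 : (decompose (pullGr 𝒜 φ q) x 0 : R') = 0 := hφ (h6.trans (map_zero φ).symm)
  rwa [h7, sub_zero] at h1

end Data

section Bass
variable {R R' : Type u} [CommRing R] [CommRing R'] [LocCoh.IsGorensteinRing R]
  (𝒜 : ℤ → AddSubgroup R) [GradedRing 𝒜]
  (φ : R' →+* R) (q : ℕ) (hq : 0 < q) (hφ : Function.Injective φ)
  (hA : ∀ (j : ℤ) (a : R), a ∈ 𝒜 (j * q) → a ∈ φ.range)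
  (hB : ∀ x : R', φ x ∈ ⨆ j : ℤ, 𝒜 (j * q))
  (hpos : ∀ n : ℤ, n < 0 → 𝒜 n = ⊥) (h0 : IsField (GrLC.deg0 𝒜))
  (hstd : Ideal.span (⋃ n ∈ Set.Ioi (0 : ℤ), (𝒜 n : Set R)) =
    Ideal.span ((𝒜 1 : AddSubgroup R) : Set R))
  (n : ℕ) (hn : ringKrullDim R = n) (I : GrLC.StarInjRes 𝒜 𝒜) (a : ℤ)
  (ha : GrLC.endDeg (I.Hgr (irr 𝒜) n) = ((a : WithTop ℤ) : WithBot (WithTop ℤ)))
  (m' : Ideal R') [hmax' : m'.IsMaximal] (hm' : m' = Ideal.comap φ (irr 𝒜).toIdeal)
  (ρ : ℤ) (hρ0 : 0 ≤ ρ) (hρq : ρ < q) (hρa : (q : ℤ) ∣ a - ρ)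

include hq hφ hA hB hpos h0 hstd hn ha hmax' hm' hρ0 hρq hρa in
/-- **the type of a ring presented as the Veronese subring of a Gorenstein standard graded ring** -/
theorem bassNum_of_range :
    GrLC.bassNum m' R' n = (Module.finrank (GrLC.deg0 𝒜) (GrLC.comp 𝒜 𝒜 ρ) : ℕ∞) := by
  have hint := pullGr_isInternal 𝒜 φ q hq hφ hA hB
  letI := pullGradedRing 𝒜 φ q hint
  let D : VerData 𝒜 (pullGr 𝒜 φ q) := pullVerData 𝒜 φ q hq hφ hA hint
  have hirr : (irr (pullGr 𝒜 φ q)).toIdeal = Ideal.comap φ (irr 𝒜).toIdeal :=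
    irr_pull_eq 𝒜 φ q hq hφ hint hpos
  have hm'' : m' = (irr (pullGr 𝒜 φ q)).toIdeal := by rw [hirr, hm']
  subst hm''
  exact bassNum_ver D hpos h0 (irr 𝒜) (isStarLocal_irr 𝒜 hpos h0) rfl hstd n hn I a ha
    (irr (pullGr 𝒜 φ q)) rfl ρ hρ0 hρq hρa

end Bass

end Groth.Agent.Lib.Helper39.Ver
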