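import Mathlib.RingTheory.MvPolynomial.Ideal
import Mathlib.RingTheory.MvPolynomial.WeightedHomogeneous
import Groth.Agent.Lib.Helper39.GrBridge2
import Groth.Agent.Lib.Helper7.SectionRegular

/-!
# The weighted polynomial ring `k[X_1..X_N]`, `deg X_i = w_i > 0`, as a graded ring over a field
(helper39)
-/

set_option autoImplicit false
universe u

namespace Groth.Agent.Lib.Helper39.GrWeightedPoly

open DirectSum GrLC MvPolynomial Groth.Agent.Lib.Helper39.GrBridge

variable (k : Type u) [Field k] (N : ℕ) (w : Fin N → ℤ) (hw : ∀ i, 0 < w i)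

attribute [local instance] MvPolynomial.weightedGradedAlgebra
attribute [local instance] toSubGradedRing toSubDecomposition toSubGradedSMul

include hw in
theorem weight_nonneg (d : Fin N →₀ ℕ) : 0 ≤ Finsupp.weight w d := by
  rw [Finsupp.weight_apply]
  apply Finsupp.sum_nonneg
  intro j _
  exact nsmul_nonneg (hw j).le _

include hw in
theorem weight_pos {d : Fin N →₀ ℕ} (hd : d ≠ 0) : 0 < Finsupp.weight w d := by
  obtain ⟨j, hj⟩ : ∃ j, d j ≠ 0 := by
    by_contra hcon
    push Not at hcon
    exact hd (Finsupp.ext hcon)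
  rw [Finsupp.weight_apply, Finsupp.sum]
  have hjs : j ∈ d.support := Finsupp.mem_support_iff.mpr hj
  refine lt_of_lt_of_le ?_ (Finset.single_le_sum (f := fun i => d i • w i)
    (fun i _ => nsmul_nonneg (hw i).le _) hjs)
  exact nsmul_pos (hw j) hj

include hw in
theorem hpos : ∀ n : ℤ, n < 0 → toSub (weightedHomogeneousSubmodule k w) n = ⊥ := by
  intro n hn
  rw [eq_bot_iff]
  intro p hp
  have hp' : p.IsWeightedHomogeneous w n := hp
  rw [AddSubgroup.mem_bot]
  by_contra hne
  obtain ⟨d, hd⟩ := MvPolynomial.ne_zero_iff.mp hne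
  have hwd := hp' hd
  have := weight_nonneg N w hw d
  omega

include hw in
theorem eq_C_of_mem_zero {p : MvPolynomial (Fin N) k}
    (hp : p ∈ weightedHomogeneousSubmodule k w 0) : p = C (coeff 0 p) := by
  have hp' : p.IsWeightedHomogeneous w 0 := hp
  ext d
  rw [coeff_C]
  split_ifs with hd
  · rw [← hd]
  · by_contra hne
    have := hp' hne
    have h2 := weight_pos N w hw (Ne.symm hd)
    omega

include hw in
theorem h0 : IsField (GrLC.deg0 (toSub (weightedHomogeneousSubmodule k w))) := by
  refine { exists_pair_ne := ⟨0, 1, ?_⟩, mul_comm := mul_comm, mul_inv_cancel := ?_ }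
  · intro h
    have : ((0 : GrLC.deg0 (toSub (weightedHomogeneousSubmodule k w))) :
        MvPolynomial (Fin N) k) = 1 := congrArg Subtype.val h
    exact zero_ne_one this
  · intro a ha
    have ha' := eq_C_of_mem_zero k N w hw (show (a : MvPolynomial (Fin N) k) ∈
      weightedHomogeneousSubmodule k w 0 from a.2)
    obtain ⟨c, hc'⟩ : ∃ c : k, (a : MvPolynomial (Fin N) k) = C c := ⟨_, ha'⟩
    have hc : c ≠ 0 := by
      intro hc
      apply ha
      apply Subtype.ext
      rw [hc', hc, map_zero]
      rfl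
    refine ⟨⟨C c⁻¹, isWeightedHomogeneous_C w _⟩, ?_⟩
    apply Subtype.ext
    show (a : MvPolynomial (Fin N) k) * C c⁻¹ = 1
    rw [hc', ← map_mul, mul_inv_cancel₀ hc, map_one]

theorem X_mem (i : Fin N) :
    (X i : MvPolynomial (Fin N) k) ∈ toSub (weightedHomogeneousSubmodule k w) (w i) :=
  isWeightedHomogeneous_X k w i

include hw in
theorem span_range_X :
    Ideal.span (Set.range (X : Fin N → MvPolynomial (Fin N) k)) =
      Ideal.span (⋃ n ∈ Set.Ioi (0 : ℤ),
        (toSub (weightedHomogeneousSubmodule k w) n : Set (MvPolynomial (Fin N) k))) := by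
  apply le_antisymm
  · apply Ideal.span_mono
    rintro _ ⟨i, rfl⟩
    simp only [Set.mem_iUnion, Set.mem_Ioi]
    exact ⟨w i, hw i, X_mem k N w i⟩
  · rw [Ideal.span_le]
    intro p hp
    simp only [Set.mem_iUnion, Set.mem_Ioi] at hp
    obtain ⟨n, hn, hp⟩ := hp
    have hp' : p.IsWeightedHomogeneous w n := hp
    rw [← Set.image_univ]
    show p ∈ Ideal.span (X '' (Set.univ : Set (Fin N)))
    rw [MvPolynomial.mem_ideal_span_X_image]
    intro d hd
    have hd0 : d ≠ 0 := by
      rintro rfl
      have := hp' (MvPolynomial.mem_support_iff.mp hd)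
      rw [map_zero] at this
      omega
    obtain ⟨j, hj⟩ : ∃ j, d j ≠ 0 := by
      by_contra hcon
      push Not at hcon
      exact hd0 (Finsupp.ext hcon)
    exact ⟨j, Set.mem_univ _, hj⟩

theorem isRegular_X :
    RingTheory.Sequence.IsRegular (MvPolynomial (Fin N) k)
      (List.ofFn (X : Fin N → MvPolynomial (Fin N) k)) := by
  refine ⟨Groth.Agent.Lib.Helper7.SectionRegular.isWeaklyRegular_X k N, ?_⟩
  intro h
  have h1 : (1 : MvPolynomial (Fin N) k) ∈
      Ideal.ofList (List.ofFn (X : Fin N → MvPolynomial (Fin N) k)) •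
        (⊤ : Submodule (MvPolynomial (Fin N) k) (MvPolynomial (Fin N) k)) := by
    rw [← h]
    exact Submodule.mem_top
  rw [smul_eq_mul, Ideal.mul_top] at h1
  have h2 : Ideal.ofList (List.ofFn (X : Fin N → MvPolynomial (Fin N) k)) =
      Ideal.span (X '' (Set.univ : Set (Fin N))) := by
    rw [Ideal.ofList, Set.image_univ]
    congr 1
    ext p
    simp [List.mem_ofFn]
  rw [h2, MvPolynomial.mem_ideal_span_X_image] at h1
  have h3 : (0 : Fin N →₀ ℕ) ∈ (1 : MvPolynomial (Fin N) k).support := by
    rw [MvPolynomial.mem_support_iff, MvPolynomial.coeff_one]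
    simp
  obtain ⟨j, -, hj⟩ := h1 0 h3
  exact hj rfl

end Groth.Agent.Lib.Helper39.GrWeightedPoly
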