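import Groth.Agent.Lib.Helper39.GrVer28
import Groth.Agent.Lib.Helper39.GrWeightedPoly
import Groth.Agent.Lib.Helper39.GrAInvRegSeq
import Groth.Agent.Lib.Helper82.CMPoly
import Groth.Agent.Lib.Helper24.GorenFibre
import Groth.Agent.Lib.Helper17.HomogRank

/-!
# The type of the Veronese subrings of a standard graded polynomial ring (helper39)
-/

set_option autoImplicit false
universe u

namespace Groth.Agent.Lib.Helper39.VerPoly

open DirectSum GrLC MvPolynomial Groth.Agent.Lib.Helper39 Groth.Agent.Lib.Helper39.GrBridge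
  Groth.Agent.Lib.Helper39.GrStarLocal Groth.Agent.Lib.Helper39.GrWeightedPoly

attribute [local instance] MvPolynomial.weightedGradedAlgebra
attribute [local instance] toSubGradedRing toSubDecomposition toSubGradedSMul

variable (k : Type u) [Field k] (N : ℕ)

/-- the standard grading, as additive subgroups -/
noncomputable abbrev stdGr : ℤ → AddSubgroup (MvPolynomial (Fin N) k) :=
  toSub (weightedHomogeneousSubmodule k (fun _ : Fin N => (1 : ℤ)))

theorem weight_one_eq (d : Fin N →₀ ℕ) :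
    Finsupp.weight (fun _ : Fin N => (1 : ℤ)) d = ((Finsupp.weight (1 : Fin N → ℕ) d : ℕ) : ℤ) := by
  rw [Finsupp.weight_apply, Finsupp.weight_apply, Finsupp.sum, Finsupp.sum]
  push_cast
  simp

theorem mem_stdGr_iff (p : MvPolynomial (Fin N) k) (j : ℕ) :
    p ∈ stdGr k N (j : ℤ) ↔ p.IsHomogeneous j := by
  constructor
  · intro hp d hd
    have hp' : p.IsWeightedHomogeneous (fun _ : Fin N => (1 : ℤ)) (j : ℤ) := hp
    have := hp' hd
    rw [weight_one_eq] at this
    exact_mod_cast this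
  · intro hp
    show p.IsWeightedHomogeneous (fun _ : Fin N => (1 : ℤ)) (j : ℤ)
    intro d hd
    have := hp hd
    rw [weight_one_eq]
    exact_mod_cast this

theorem hw1 : ∀ _ : Fin N, (0 : ℤ) < 1 := fun _ => one_pos

theorem stdGr_hpos : ∀ n : ℤ, n < 0 → stdGr k N n = ⊥ := GrWeightedPoly.hpos k N _ (hw1 N)

theorem stdGr_h0 : IsField (GrLC.deg0 (stdGr k N)) := GrWeightedPoly.h0 k N _ (hw1 N)

theorem irr_eq_span_X :
    (irr (stdGr k N)).toIdeal = Ideal.span (Set.range (X : Fin N → MvPolynomial (Fin N) k)) := by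
  rw [irr_toIdeal]
  exact (span_range_X k N _ (hw1 N)).symm

theorem irr_eq_ker :
    (irr (stdGr k N)).toIdeal =
      RingHom.ker (MvPolynomial.constantCoeff : MvPolynomial (Fin N) k →+* k) := by
  rw [irr_eq_span_X]
  ext p
  rw [← Set.image_univ, MvPolynomial.mem_ideal_span_X_image, RingHom.mem_ker,
    MvPolynomial.constantCoeff_eq]
  constructor
  · intro h
    by_contra hne
    have h0 : (0 : Fin N →₀ ℕ) ∈ p.support := MvPolynomial.mem_support_iff.mpr hne
    obtain ⟨i, -, hi⟩ := h 0 h0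
    exact hi rfl
  · intro h d hd
    have hd0 : d ≠ 0 := by
      rintro rfl
      exact (MvPolynomial.mem_support_iff.mp hd) h
    obtain ⟨j, hj⟩ : ∃ j, d j ≠ 0 := by
      by_contra hcon
      push Not at hcon
      exact hd0 (Finsupp.ext hcon)
    exact ⟨j, Set.mem_univ _, hj⟩

theorem stdGr_hstd :
    Ideal.span (⋃ n ∈ Set.Ioi (0 : ℤ), (stdGr k N n : Set (MvPolynomial (Fin N) k))) =
      Ideal.span ((stdGr k N 1 : AddSubgroup (MvPolynomial (Fin N) k)) :
        Set (MvPolynomial (Fin N) k)) := by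
  apply le_antisymm
  · rw [← span_range_X k N _ (hw1 N)]
    apply Ideal.span_mono
    rintro _ ⟨i, rfl⟩
    exact X_mem k N (fun _ => (1 : ℤ)) i
  · apply Ideal.span_mono
    intro x hx
    simp only [Set.mem_iUnion, Set.mem_Ioi]
    exact ⟨1, one_pos, hx⟩

instance instCM : LocCoh.IsCohenMacaulayRing (MvPolynomial (Fin N) k) := by
  haveI hreg : IsRegularRing (MvPolynomial (Fin N) k) :=
    MvPolynomial.isRegularRing_of_isRegularRing _
  exact Groth.Agent.Lib.Helper82.CMPoly.isCohenMacaulayRing_of_isRegularRing _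

instance instGor : LocCoh.IsGorensteinRing (MvPolynomial (Fin N) k) := by
  haveI hreg : IsRegularRing (MvPolynomial (Fin N) k) :=
    MvPolynomial.isRegularRing_of_isRegularRing _
  exact Groth.Agent.Lib.Helper24.isGorensteinRing_of_isRegularRing _

theorem dim_eq : ringKrullDim (MvPolynomial (Fin N) k) = N := by
  rw [MvPolynomial.ringKrullDim_of_isNoetherianRing, ringKrullDim_eq_zero_of_field]
  simp

theorem endDeg_eq (I : StarInjRes (stdGr k N) (stdGr k N)) :
    GrLC.endDeg (I.Hgr (irr (stdGr k N)) N) =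
      (((-(N : ℤ) : ℤ) : WithTop ℤ) : WithBot (WithTop ℤ)) := by
  have hXm : ∀ i, (X i : MvPolynomial (Fin N) k) ∈ (irr (stdGr k N)).toIdeal := by
    intro i
    rw [irr_eq_span_X]
    exact Ideal.subset_span ⟨i, rfl⟩
  have h2 := GrAInvRegSeq.endDeg_eq_neg_sum (MvPolynomial (Fin N) k)
    (stdGr k N) (stdGr_hpos k N) (stdGr_h0 k N) (irr (stdGr k N))
    (Ver.isStarLocal_irr (stdGr k N) (stdGr_hpos k N) (stdGr_h0 k N)) rfl N (dim_eq k N) I
    X (fun _ => (1 : ℤ)) (X_mem k N _) hXm (isRegular_X k N) (irr_eq_span_X k N).symm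
  rw [h2]
  simp

/-- the dimension of the degree `ρ` piece -/
theorem finrank_comp (r ρ : ℕ) :
    Module.finrank (GrLC.deg0 (stdGr k (r + 1))) (GrLC.comp (stdGr k (r + 1)) (stdGr k (r + 1)) (ρ : ℤ))
      = (ρ + r).choose r := by
  rw [← Groth.Agent.Lib.Helper17.HomogRank.finrank_homogeneousSubmodule k r ρ]
  let i : k → GrLC.deg0 (stdGr k (r + 1)) := fun c => ⟨C c, isWeightedHomogeneous_C _ c⟩
  have hi : Function.Bijective i := by
    constructor
    · intro c c' h
      exact C_injective _ _ (congrArg Subtype.val h)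
    · intro a
      have ha' := eq_C_of_mem_zero k (r + 1) _ (hw1 (r + 1))
        (show (a : MvPolynomial (Fin (r + 1)) k) ∈
          weightedHomogeneousSubmodule k (fun _ : Fin (r + 1) => (1 : ℤ)) 0 from a.2)
      exact ⟨_, Subtype.ext ha'.symm⟩
  let j : ↥(homogeneousSubmodule (Fin (r + 1)) k ρ) ≃+
      ↥(GrLC.comp (stdGr k (r + 1)) (stdGr k (r + 1)) (ρ : ℤ)) :=
    { toFun := fun p => ⟨p.1, (mem_stdGr_iff k (r + 1) p.1 ρ).mpr
        ((mem_homogeneousSubmodule ρ p.1).mp p.2)⟩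
      invFun := fun p => ⟨p.1, (mem_homogeneousSubmodule ρ p.1).mpr
        ((mem_stdGr_iff k (r + 1) p.1 ρ).mp p.2)⟩
      left_inv := fun p => rfl
      right_inv := fun p => rfl
      map_add' := fun p p' => rfl }
  have hc : ∀ (c : k) (p : ↥(homogeneousSubmodule (Fin (r + 1)) k ρ)), j (c • p) = i c • j p := by
    intro c p
    apply Subtype.ext
    show c • (p : MvPolynomial (Fin (r + 1)) k) = C c * (p : MvPolynomial (Fin (r + 1)) k)
    rw [MvPolynomial.smul_eq_C_mul]
  have := rank_eq_of_equiv_equiv i j hi hc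
  unfold Module.finrank
  rw [this]

/-- **the type of the `d`-th Veronese subring of `k[X_0, …, X_r]`** -/
theorem bassNum_veronese (r d : ℕ) (hd : 0 < d) (R' : Type u) [CommRing R']
    (φ : R' →+* MvPolynomial (Fin (r + 1)) k) (hφ : Function.Injective φ)
    (hrange : ∀ p : MvPolynomial (Fin (r + 1)) k, p ∈ φ.range ↔
      ∀ j : ℕ, ¬ d ∣ j → MvPolynomial.homogeneousComponent j p = 0)
    (m' : Ideal R') [m'.IsMaximal]
    (hm' : m' = Ideal.comap φ
      (RingHom.ker (MvPolynomial.constantCoeff : MvPolynomial (Fin (r + 1)) k →+* k)))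
    (n : ℕ) (hsn : r + 1 ≤ n) (hdn : d ∣ n) (hmin : ∀ n' : ℕ, r + 1 ≤ n' → d ∣ n' → n ≤ n') :
    GrLC.bassNum m' R' (r + 1) = (Nat.choose (n - 1) r : ℕ∞) := by
  classical
  have hposs := stdGr_hpos k (r + 1)
  have h0s := stdGr_h0 k (r + 1)
  -- the range conditions
  have hA : ∀ (j : ℤ) (a : MvPolynomial (Fin (r + 1)) k), a ∈ stdGr k (r + 1) (j * d) →
      a ∈ φ.range := by
    intro j a ha
    rw [hrange]
    intro j' hj'
    by_cases hj : j < 0
    · have hlt : j * (d : ℤ) < 0 := mul_neg_of_neg_of_pos hj (by exact_mod_cast hd)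
      rw [hposs _ hlt, AddSubgroup.mem_bot] at ha
      rw [ha, map_zero]
    · have hjd : j * (d : ℤ) = ((j.toNat * d : ℕ) : ℤ) := by
        push_cast
        rw [Int.toNat_of_nonneg (by omega)]
      rw [hjd, mem_stdGr_iff] at ha
      rw [MvPolynomial.homogeneousComponent_of_mem ha, if_neg]
      rintro rfl
      exact hj' (Dvd.intro_left _ rfl)
  have hB : ∀ x : R', φ x ∈ ⨆ j : ℤ, stdGr k (r + 1) (j * d) := by
    intro x
    have hx := (hrange (φ x)).mp ⟨x, rfl⟩
    rw [← MvPolynomial.sum_homogeneousComponent (φ x)]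
    refine sum_mem (fun i _ => ?_)
    by_cases hi : d ∣ i
    · obtain ⟨c, rfl⟩ := hi
      refine AddSubgroup.mem_iSup_of_mem (c : ℤ) ?_
      have : (c : ℤ) * (d : ℤ) = ((d * c : ℕ) : ℤ) := by push_cast; ring
      rw [this, mem_stdGr_iff]
      exact MvPolynomial.homogeneousComponent_isHomogeneous _ _
    · rw [hx i hi]
      exact zero_mem _
  let I : GrLC.StarInjRes (stdGr k (r + 1)) (stdGr k (r + 1)) :=
    starInjRes (𝒜 := stdGr k (r + 1)) (stdGr k (r + 1))
  have ha := endDeg_eq k (r + 1) I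
  have hm'' : m' = Ideal.comap φ (irr (stdGr k (r + 1))).toIdeal := by
    rw [hm', ← irr_eq_ker]
  -- the residue
  have hρq : ((n - (r + 1) : ℕ) : ℤ) < (d : ℤ) := by
    by_contra hcon
    push Not at hcon
    have h1 : d ≤ n - (r + 1) := by exact_mod_cast hcon
    have h2 : d ∣ n - d := (Nat.dvd_sub_self_right).mpr (Or.inl hdn)
    have h3 := hmin (n - d) (by omega) h2
    omega
  have hρa : (d : ℤ) ∣ (-((r + 1 : ℕ) : ℤ)) - ((n - (r + 1) : ℕ) : ℤ) := by
    have : (-((r + 1 : ℕ) : ℤ)) - ((n - (r + 1) : ℕ) : ℤ) = -(n : ℤ) := by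
      rw [Nat.cast_sub hsn]; ring
    rw [this, dvd_neg]
    exact_mod_cast hdn
  have key := Groth.Agent.Lib.Helper39.Ver.bassNum_of_range (stdGr k (r + 1)) φ d hd hφ hA hB
    hposs h0s (stdGr_hstd k (r + 1)) (r + 1) (dim_eq k (r + 1)) I (-((r + 1 : ℕ) : ℤ)) ha m' hm''
    ((n - (r + 1) : ℕ) : ℤ) (Int.natCast_nonneg _) hρq hρa
  rw [key, finrank_comp k r (n - (r + 1))]
  have : n - (r + 1) + r = n - 1 := by omega
  rw [this]

end Groth.Agent.Lib.Helper39.VerPoly
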