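import Groth.Agent.Lib.Helper39.GrVer2

/-!
# Veronese submodules, part 3: Veronese presentations, lifting, retraction, torsion (helper39)
-/

set_option autoImplicit false
universe u

namespace Groth.Agent.Lib.Helper39.Ver

open DirectSum GrLC Groth.Agent.Lib.Helper39

section IsVer
variable {R R' : Type u} [CommRing R] [CommRing R'] {𝒜 : ℤ → AddSubgroup R} [GradedRing 𝒜]
  {𝒜' : ℤ → AddSubgroup R'} [GradedRing 𝒜'] (D : VerData 𝒜 𝒜')
  {X' : Type u} [AddCommGroup X'] [Module R' X'] {X : Type u} [AddCommGroup X] [Module R X]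

/-- `g` presents `X'` (pieces `𝒳'`) as the Veronese submodule of `X` (pieces `𝒳`). -/
structure IsVer (𝒳' : ℤ → AddSubgroup X') (𝒳 : ℤ → AddSubgroup X) (g : X' →ₛₗ[D.φ] X) : Prop where
  inj : Function.Injective g
  map_mem : ∀ (j : ℤ) (x : X'), x ∈ 𝒳' j → g x ∈ 𝒳 (j * D.q)
  surj : ∀ (j : ℤ) (y : X), y ∈ 𝒳 (j * D.q) → ∃ x ∈ 𝒳' j, g x = y

variable {D} {𝒳' : ℤ → AddSubgroup X'} {𝒳 : ℤ → AddSubgroup X} {g : X' →ₛₗ[D.φ] X}

theorem IsVer.mem_iff (hg : IsVer D 𝒳' 𝒳 g) {j : ℤ} {x : X'} : x ∈ 𝒳' j ↔ g x ∈ 𝒳 (j * D.q) := by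
  constructor
  · exact hg.map_mem j x
  · intro h
    obtain ⟨y, hy, e⟩ := hg.surj j _ h
    rw [← hg.inj e]
    exact hy

theorem IsVer.map_mem_verSub [DirectSum.Decomposition 𝒳'] [DirectSum.Decomposition 𝒳]
    (hg : IsVer D 𝒳' 𝒳 g) (x : X') : g x ∈ verSub 𝒳 D.q := by
  induction x using DirectSum.Decomposition.inductionOn 𝒳' with
  | zero => rw [map_zero]; exact zero_mem _
  | @homogeneous j m => exact mem_verSub_of_mem 𝒳 D.q (hg.map_mem j m m.2)
  | add m m' hm hm' => rw [map_add]; exact add_mem hm hm'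

open Classical in
theorem IsVer.exists_of_mem_verSub [DirectSum.Decomposition 𝒳]
    (hg : IsVer D 𝒳' 𝒳 g) {y : X} (hy : y ∈ verSub 𝒳 D.q) : ∃ x : X', g x = y := by
  rw [mem_verSub, vproj_eq_sum] at hy
  rw [← hy]
  have key : ∀ i : ℤ, ∃ x : X', g x = if (D.q : ℤ) ∣ i then (decompose 𝒳 y i : X) else 0 := by
    intro i
    split_ifs with h
    · obtain ⟨j, rfl⟩ : ∃ j : ℤ, i = j * D.q := ⟨i / D.q, (Int.ediv_mul_cancel h).symm⟩
      obtain ⟨x, _, e⟩ := hg.surj j _ (SetLike.coe_mem (decompose 𝒳 y (j * D.q)))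
      exact ⟨x, e⟩
    · exact ⟨0, map_zero _⟩
  choose f hf using key
  refine ⟨∑ i ∈ (decompose 𝒳 y).support, f i, ?_⟩
  rw [map_sum]
  exact Finset.sum_congr rfl (fun i _ => hf i)

end IsVer

section Ver
variable {R R' : Type u} [CommRing R] [CommRing R'] {𝒜 : ℤ → AddSubgroup R} [GradedRing 𝒜]
  {𝒜' : ℤ → AddSubgroup R'} [GradedRing 𝒜'] (D : VerData 𝒜 𝒜') (X : GMod.{u} 𝒜)

theorem isVer_verIncl : IsVer D (verGr D X) X.gr (verIncl D X) where
  inj := verIncl_injective D X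
  map_mem _ _ h := h
  surj j y hy := ⟨Ver.mk D X y (mem_verSub_of_mem X.gr D.q hy), hy, rfl⟩

/-- the universal property of the Veronese submodule -/
def verLift {N : Type u} [AddCommGroup N] [Module R' N] (f : N →ₛₗ[D.φ] X.carrier)
    (hf : ∀ n, f n ∈ verSub X.gr D.q) : N →ₗ[R'] Ver D X where
  toFun n := Ver.mk D X (f n) (hf n)
  map_add' a b := Ver.ext D X (by simp)
  map_smul' r a := Ver.ext D X (by simp)

@[simp] theorem val_verLift {N : Type u} [AddCommGroup N] [Module R' N] (f : N →ₛₗ[D.φ] X.carrier)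
    (hf : ∀ n, f n ∈ verSub X.gr D.q) (n : N) : Ver.val D X (verLift D X f hf n) = f n := rfl

/-- the Veronese retraction, as an additive map -/
def verRetr : X.carrier →+ Ver D X where
  toFun x := Ver.mk D X (vproj X.gr D.q x) (vproj_mem_verSub X.gr D.q x)
  map_zero' := Ver.ext D X (by simp)
  map_add' a b := Ver.ext D X (by simp)

@[simp] theorem val_verRetr (x : X.carrier) : Ver.val D X (verRetr D X x) = vproj X.gr D.q x := rfl

theorem verRetr_smul (r : R') (x : X.carrier) : verRetr D X (D.φ r • x) = r • verRetr D X x :=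
  Ver.ext D X (by simp [D.vproj_smul])

theorem verRetr_val (v : Ver D X) : verRetr D X (Ver.val D X v) = v :=
  Ver.ext D X ((mem_verSub X.gr D.q).mp (Ver.val_mem D X v))

end Ver

section Gam
variable {R R' : Type u} [CommRing R] [CommRing R'] (φ : R' →+* R)
  {X' : Type u} [AddCommGroup X'] [Module R' X'] {X : Type u} [AddCommGroup X] [Module R X]
  (a : Ideal R) (a' : Ideal R')

/-- torsion comparison along a semilinear injection -/
theorem mem_gam_iff (g : X' →ₛₗ[φ] X) (hg : Function.Injective g) (h1 : a'.map φ ≤ a)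
    (h2 : ∃ N : ℕ, a ^ N ≤ a'.map φ) (x : X') :
    g x ∈ gam a X ↔ x ∈ gam a' X' := by
  constructor
  · rintro ⟨n, hn⟩
    refine ⟨n, fun r hr => ?_⟩
    apply hg
    rw [map_zero, map_smulₛₗ]
    apply hn
    have : φ r ∈ (a'.map φ) ^ n := by
      rw [← Ideal.map_pow]
      exact Ideal.mem_map_of_mem φ hr
    exact Ideal.pow_right_mono h1 n this
  · rintro ⟨n, hn⟩
    obtain ⟨N, hN⟩ := h2
    refine ⟨N * n, fun r hr => ?_⟩
    have h3 : r ∈ (a' ^ n).map φ := by
      rw [Ideal.map_pow]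
      exact Ideal.pow_right_mono hN n (by rwa [pow_mul] at hr)
    have key : ∀ z ∈ (a' ^ n).map φ, z • g x = 0 := by
      intro z hz
      refine Submodule.span_induction (p := fun z _ => z • g x = 0) ?_ ?_ ?_ ?_ hz
      · rintro _ ⟨s, hs, rfl⟩
        rw [← map_smulₛₗ, hn s hs, map_zero]
      · exact zero_smul _ _
      · intro u v _ _ hu hv
        rw [add_smul, hu, hv, add_zero]
      · intro c u _ hu
        rw [smul_eq_mul, mul_smul, hu, smul_zero]
    exact key r h3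

end Gam

end Groth.Agent.Lib.Helper39.Ver
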