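import Groth.Agent.Lib.Helper39.GrVer29

/-!
# Graded Matlis duality for submodules of `E = *E(R/m)` (helper39)

`R` positively graded Noetherian over a field `R_0`, `m = R_+`, `E` the *injective hull of `R/m`.
* `exists_smul_eq_of_isGrHomDeg`: homogeneous endomorphisms of `E` are multiplications;
* `eq_zero_of_forall_smul`: `E` is faithful degree by degree;
* `exists_annihilator`: a homogeneous submodule of `E` is the annihilator of its annihilator;
* `mem_span_of_forall_smul`: the annihilator of `(0 :_E x)` is `(x)`;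
* `exists_smul_eq_of_regular`: Koszul exactness on `E` for a regular pair.
-/

set_option autoImplicit false
universe u

namespace Groth.Agent.Lib.Helper39.GrMatlis

open DirectSum GrLC Groth.Agent.Lib.Helper39 Groth.Agent.Lib.Helper39.GrPC
  Groth.Agent.Lib.Helper39.GrPieceDual Groth.Agent.Lib.Helper39.GrHomInt

section Dual
variable {R : Type u} [CommRing R] [IsNoetherianRing R] (𝒜 : ℤ → AddSubgroup R) [GradedRing 𝒜]
  (hpos : ∀ n : ℤ, n < 0 → 𝒜 n = ⊥) (h0 : IsField (GrLC.deg0 𝒜))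
  (m : HomogeneousIdeal 𝒜)
  (hmsp : m.toIdeal = Ideal.span (⋃ n ∈ Set.Ioi (0 : ℤ), (𝒜 n : Set R)))
  {E' : Type u} [AddCommGroup E'] [Module R E'] (𝓔 : ℤ → AddSubgroup E')
  [DirectSum.Decomposition 𝓔] [SetLike.GradedSMul 𝒜 𝓔]
  (e : (R ⧸ m.toIdeal) →ₗ[R] E') (he : GrLC.IsStarEss (GrLC.quotGr 𝒜 m) 𝓔 e)
  (hI : IsStarInj 𝒜 𝓔)

omit [IsNoetherianRing R] in
/-- multiplication by a homogeneous element is a homogeneous map -/
theorem smulMap_isGrHomDeg {C : Type u} [AddCommGroup C] [Module R C] (𝒞 : ℤ → AddSubgroup C)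
    [SetLike.GradedSMul 𝒜 𝒞] {d : ℤ} {r : R} (hr : r ∈ 𝒜 d) :
    IsGrHomDeg 𝒞 𝒞 (r • (LinearMap.id : C →ₗ[R] C)) d := by
  intro j c hc
  have := SetLike.GradedSMul.smul_mem (A := 𝒜) (B := 𝒞) hr hc
  rw [vadd_eq_add, add_comm] at this
  exact this

include hpos hmsp he h0 hI in
/-- `E` is faithful degree by degree -/
theorem eq_zero_of_forall_smul {d : ℤ} {r : R} (hr : r ∈ 𝒜 d)
    (h : ∀ z ∈ 𝓔 (-d), r • z = 0) : r = 0 := by
  by_contra hne
  obtain ⟨ψ, hψ, hψ0⟩ := exists_homDeg_of_ne_zero 𝒜 hpos m hmsp 𝓔 e he 𝒜 h0 hI (-d)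
    (c0 := r) (by rwa [neg_neg]) hne
  apply hψ0
  have h1 : ψ r = r • ψ 1 := by
    rw [← map_smul, smul_eq_mul, mul_one]
  rw [h1]
  apply h
  have := hψ 0 1 (SetLike.GradedOne.one_mem (A := 𝒜))
  rwa [zero_add] at this

include hpos hmsp he h0 hI in
/-- **homogeneous endomorphisms of `E` are multiplications** -/
theorem exists_smul_eq_of_isGrHomDeg (ψ : E' →ₗ[R] E') (d : ℤ) (hψ : IsGrHomDeg 𝓔 𝓔 ψ d) :
    ∃ r ∈ 𝒜 d, ∀ z, ψ z = r • z := by
  classical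
  -- the functional `ψ' ↦ ψ (ψ' 1)` on `Hom(R, E)_{-d}`
  let lam : homDeg 𝒜 𝒜 𝓔 (-d) →ₗ[GrLC.deg0 𝒜] GrLC.comp 𝒜 𝓔 0 :=
    { toFun := fun ψ' => ⟨ψ ((ψ' : R →ₗ[R] E') 1), by
        have h1 := ψ'.2 0 1 (SetLike.GradedOne.one_mem (A := 𝒜))
        have h2 := hψ _ _ h1
        have : (0 : ℤ) + -d + d = 0 := by ring
        rw [this] at h2
        exact h2⟩
      map_add' := fun a b => Subtype.ext (by
        show ψ (((a : R →ₗ[R] E') + (b : R →ₗ[R] E')) 1) = _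
        rw [LinearMap.add_apply, map_add]
        rfl)
      map_smul' := fun c a => Subtype.ext (by
        show ψ (((c : R) • (a : R →ₗ[R] E')) 1) = (c : R) • ψ ((a : R →ₗ[R] E') 1)
        rw [LinearMap.smul_apply, map_smul]) }
  obtain ⟨c, hc, hcψ⟩ := exists_rep 𝒜 hpos h0 m hmsp 𝓔 e he hI 𝒜 d (-d) (by ring) lam
  refine ⟨c, hc, ?_⟩
  have hz : ∀ z ∈ 𝓔 (-d), ψ z = c • z := by
    intro z hz
    have hts : IsGrHomDeg 𝒜 𝓔 (LinearMap.toSpanSingleton R E' z) (-d) := by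
      intro j s hs
      rw [LinearMap.toSpanSingleton_apply]
      exact SetLike.GradedSMul.smul_mem (A := 𝒜) (B := 𝓔) hs hz
    have := hcψ (LinearMap.toSpanSingleton R E' z) hts
    rw [LinearMap.toSpanSingleton_apply] at this
    rw [this]
    show _ = ψ ((LinearMap.toSpanSingleton R E' z) 1)
    rw [LinearMap.toSpanSingleton_apply, one_smul]
  -- the difference vanishes on `E_{-d}` hence everywhere
  let χ : E' →ₗ[R] E' := ψ - c • (LinearMap.id : E' →ₗ[R] E')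
  have hχ : IsGrHomDeg 𝓔 𝓔 χ d := by
    intro j z hz'
    show ψ z - c • z ∈ 𝓔 (j + d)
    exact sub_mem (hψ j z hz') (smulMap_isGrHomDeg 𝒜 𝓔 hc j z hz')
  have hχ0 : χ = 0 := by
    by_contra hne
    obtain ⟨z, hz', hz0⟩ := exists_mem_of_homDeg_ne_zero 𝒜 hpos m hmsp 𝓔 e he 𝓔 χ d hχ hne
    apply hz0
    show ψ z - c • z = 0
    rw [hz z hz', sub_self]
  intro z
  have := LinearMap.congr_fun hχ0 z
  have h2 : ψ z - c • z = 0 := this
  exact sub_eq_zero.mp h2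

include hpos hmsp he h0 hI in
/-- **a homogeneous submodule of `E` is cut out by its annihilator** -/
theorem exists_annihilator (B : Submodule R E') (hB : B.IsHomogeneous 𝓔) (y : E') (hy : y ∉ B) :
    ∃ (d : ℤ) (r : R), r ∈ 𝒜 d ∧ (∀ b ∈ B, r • b = 0) ∧ r • y ≠ 0 := by
  classical
  obtain ⟨i, hi⟩ : ∃ i, (decompose 𝓔 y i : E') ∉ B := by
    by_contra hcon
    push Not at hcon
    apply hy
    rw [← DirectSum.sum_support_decompose 𝓔 y]
    exact Submodule.sum_mem _ (fun i _ => hcon i)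
  letI decQ := quotDecomposition 𝓔 B hB
  haveI smulQ := quotGradedSMul 𝒜 𝓔 B
  have hc0 : B.mkQ (decompose 𝓔 y i : E') ∈ quotPieces 𝓔 B (-(-i)) := by
    rw [neg_neg]
    exact mk_mem_quotPieces 𝓔 B (SetLike.coe_mem _)
  have hne : B.mkQ (decompose 𝓔 y i : E') ≠ 0 := by
    intro h
    apply hi
    rwa [Submodule.mkQ_apply, Submodule.Quotient.mk_eq_zero] at h
  obtain ⟨ψ', hψ', hψ'0⟩ := exists_homDeg_of_ne_zero 𝒜 hpos m hmsp 𝓔 e he (quotPieces 𝓔 B) h0 hI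
    (-i) hc0 hne
  let ψ : E' →ₗ[R] E' := ψ' ∘ₗ B.mkQ
  have hψ : IsGrHomDeg 𝓔 𝓔 ψ (-i) := by
    intro j z hz
    exact hψ' j _ (mk_mem_quotPieces 𝓔 B hz)
  obtain ⟨r, hr, hrψ⟩ := exists_smul_eq_of_isGrHomDeg 𝒜 hpos h0 m hmsp 𝓔 e he hI ψ (-i) hψ
  refine ⟨-i, r, hr, ?_, ?_⟩
  · intro b hb
    rw [← hrψ]
    show ψ' (B.mkQ b) = 0
    rw [Submodule.mkQ_apply, (Submodule.Quotient.mk_eq_zero B).mpr hb, map_zero]
  · intro h
    apply hψ'0
    have h1 := decompose_apply_of_isGrHomDeg 𝓔 𝓔 (r • (LinearMap.id : E' →ₗ[R] E'))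
      (smulMap_isGrHomDeg 𝒜 𝓔 hr) y i
    rw [LinearMap.smul_apply, LinearMap.id_apply, h, decompose_zero, DirectSum.zero_apply,
      ZeroMemClass.coe_zero, LinearMap.smul_apply, LinearMap.id_apply] at h1
    show ψ (decompose 𝓔 y i : E') = 0
    rw [hrψ, ← h1]

include hpos hmsp he h0 hI in
/-- **the annihilator of `(0 :_E x)` is `(x)`** (homogeneous elements) -/
theorem mem_span_of_forall_smul {t d : ℤ} {x s : R} (hx : x ∈ 𝒜 t) (hs : s ∈ 𝒜 d)
    (h : ∀ z : E', x • z = 0 → s • z = 0) : s ∈ Ideal.span {x} := by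
  classical
  by_contra hns
  have hJ : (Ideal.span {x} : Submodule R R).IsHomogeneous 𝒜 := by
    apply Ideal.homogeneous_span
    rintro _ rfl
    exact ⟨t, hx⟩
  letI decQ := quotDecomposition 𝒜 (Ideal.span {x} : Submodule R R) hJ
  haveI smulQ := quotGradedSMul 𝒜 𝒜 (Ideal.span {x} : Submodule R R)
  have hc0 : (Ideal.span {x} : Submodule R R).mkQ s ∈
      quotPieces 𝒜 (Ideal.span {x} : Submodule R R) (-(-d)) := by
    rw [neg_neg]
    exact mk_mem_quotPieces 𝒜 _ hs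
  have hne : (Ideal.span {x} : Submodule R R).mkQ s ≠ 0 := by
    intro h'
    apply hns
    rwa [Submodule.mkQ_apply, Submodule.Quotient.mk_eq_zero] at h'
  obtain ⟨ψ', -, hψ'0⟩ := exists_homDeg_of_ne_zero 𝒜 hpos m hmsp 𝓔 e he
    (quotPieces 𝒜 (Ideal.span {x} : Submodule R R)) h0 hI (-d) hc0 hne
  apply hψ'0
  have h1 : ∀ a : R, ψ' ((Ideal.span {x} : Submodule R R).mkQ a) =
      a • ψ' ((Ideal.span {x} : Submodule R R).mkQ 1) := by
    intro a
    rw [← map_smul, ← map_smul, smul_eq_mul, mul_one]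
  rw [h1 s]
  apply h
  rw [← h1 x, Submodule.mkQ_apply,
    (Submodule.Quotient.mk_eq_zero _).mpr (Ideal.subset_span (Set.mem_singleton x)), map_zero]

include hpos hmsp he h0 hI in
/-- **Koszul exactness on `E`**: if `y` is regular modulo `x` then multiplication by `y` is
surjective on `(0 :_E x)` -/
theorem exists_smul_eq_of_regular {t t' : ℤ} {x y : R} (hx : x ∈ 𝒜 t) (hy : y ∈ 𝒜 t')
    (hreg : ∀ r : R, r * y ∈ Ideal.span {x} → r ∈ Ideal.span {x})
    (e₁ : E') (he₁ : x • e₁ = 0) : ∃ e' : E', e₁ = y • e' ∧ x • e' = 0 := by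
  classical
  let A : Submodule R E' := LinearMap.ker (x • (LinearMap.id : E' →ₗ[R] E'))
  have hA : ∀ z, z ∈ A ↔ x • z = 0 := fun z => by
    show (x • (LinearMap.id : E' →ₗ[R] E')) z = 0 ↔ _
    rw [LinearMap.smul_apply, LinearMap.id_apply]
  have hAh : A.IsHomogeneous 𝓔 := by
    intro i z hz
    rw [hA] at hz ⊢
    exact smul_decompose_eq_zero_of_mem 𝒜 𝓔 hx hz i
  let B : Submodule R E' := A.map (y • (LinearMap.id : E' →ₗ[R] E'))
  have hBh : B.IsHomogeneous 𝓔 := by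
    rintro i _ ⟨z, hz, rfl⟩
    have h1 := decompose_apply_of_isGrHomDeg 𝓔 𝓔 (y • (LinearMap.id : E' →ₗ[R] E'))
      (smulMap_isGrHomDeg 𝒜 𝓔 hy) z (i - t')
    rw [sub_add_cancel] at h1
    rw [h1]
    exact ⟨_, hAh (i - t') hz, rfl⟩
  by_cases hmem : e₁ ∈ B
  · obtain ⟨z, hz, rfl⟩ := hmem
    refine ⟨z, ?_, (hA z).mp hz⟩
    rw [LinearMap.smul_apply, LinearMap.id_apply]
  · exfalso
    obtain ⟨d, r, hr, hrB, hre⟩ := exists_annihilator 𝒜 hpos h0 m hmsp 𝓔 e he hI B hBh e₁ hmem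
    have h1 : r * y ∈ Ideal.span {x} := by
      apply mem_span_of_forall_smul 𝒜 hpos h0 m hmsp 𝓔 e he hI hx
        (SetLike.GradedMul.mul_mem (A := 𝒜) hr hy)
      intro z hz
      rw [mul_smul]
      apply hrB
      exact ⟨z, (hA z).mpr hz, by rw [LinearMap.smul_apply, LinearMap.id_apply]⟩
    obtain ⟨c, hc⟩ := Ideal.mem_span_singleton'.mp (hreg r h1)
    apply hre
    rw [← hc, mul_smul, he₁, smul_zero]

end Dual

end Groth.Agent.Lib.Helper39.GrMatlis
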