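import Groth.Agent.Lib.Helper39.GrVer30

/-!
# A homogeneous map into `E = *E(R/m)` which is bijective in Veronese degrees (helper39)

`R` standard graded Noetherian over a field, `Λ : C → E` homogeneous with `Λ` bijective on the
pieces of degree divisible by `q`.
* `surjective_of_veronese`: if `R` has a homogeneous regular element of positive degree then `Λ` is
  surjective;
* `injective_of_veronese`: if moreover `R` has a homogeneous regular pair and `C = x C` then `Λ` is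
  injective.
-/

set_option autoImplicit false
universe u

namespace Groth.Agent.Lib.Helper39.GrMatlis

open DirectSum GrLC Groth.Agent.Lib.Helper39 Groth.Agent.Lib.Helper39.GrPC
  Groth.Agent.Lib.Helper39.GrPieceDual Groth.Agent.Lib.Helper39.GrHomInt
  Groth.Agent.Lib.Helper39.GrNak Groth.Agent.Lib.Helper39.GrCanonDim2
  Groth.Agent.Lib.Helper39.GrStarLocal

section Ver
variable {R : Type u} [CommRing R] [IsNoetherianRing R] (𝒜 : ℤ → AddSubgroup R) [GradedRing 𝒜]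
  (hpos : ∀ n : ℤ, n < 0 → 𝒜 n = ⊥) (h0 : IsField (GrLC.deg0 𝒜))
  (m : HomogeneousIdeal 𝒜)
  (hmsp : m.toIdeal = Ideal.span (⋃ n ∈ Set.Ioi (0 : ℤ), (𝒜 n : Set R)))
  (hstd : Ideal.span (⋃ n ∈ Set.Ioi (0 : ℤ), (𝒜 n : Set R)) =
    Ideal.span ((𝒜 1 : AddSubgroup R) : Set R))
  {E' : Type u} [AddCommGroup E'] [Module R E'] (𝓔 : ℤ → AddSubgroup E')
  [DirectSum.Decomposition 𝓔] [SetLike.GradedSMul 𝒜 𝓔]
  (e : (R ⧸ m.toIdeal) →ₗ[R] E') (he : GrLC.IsStarEss (GrLC.quotGr 𝒜 m) 𝓔 e)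
  (hI : IsStarInj 𝒜 𝓔)
  {C : Type u} [AddCommGroup C] [Module R C] (𝒞 : ℤ → AddSubgroup C)
  [DirectSum.Decomposition 𝒞] [SetLike.GradedSMul 𝒜 𝒞]
  (Λ : C →ₗ[R] E') (σ : ℤ) (hΛ : IsGrHomDeg 𝒞 𝓔 Λ σ)
  (q : ℕ) (hq : 0 < q)
  (hVs : ∀ j : ℤ, ∀ z ∈ 𝓔 (j * q), ∃ c, Λ c = z)
  (hVi : ∀ j : ℤ, ∀ c ∈ 𝒞 (j * q), Λ c = 0 → c = 0)
  {t : ℤ} (ht : 0 < t) {x₀ : R} (hx₀ : x₀ ∈ 𝒜 t) (hx₀reg : IsSMulRegular R x₀)

omit [IsNoetherianRing R] [SetLike.GradedSMul 𝒜 𝓔] [SetLike.GradedSMul 𝒜 𝒞] [GradedRing 𝒜] in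
include hΛ in
theorem range_isHomogeneous : (LinearMap.range Λ).IsHomogeneous 𝓔 := by
  rintro i _ ⟨c, rfl⟩
  have h1 := decompose_apply_of_isGrHomDeg 𝓔 𝒞 Λ hΛ c (i - σ)
  rw [sub_add_cancel] at h1
  rw [h1]
  exact ⟨_, rfl⟩

omit [IsNoetherianRing R] [SetLike.GradedSMul 𝒜 𝓔] [SetLike.GradedSMul 𝒜 𝒞] [GradedRing 𝒜] in
include hΛ in
theorem ker_isHomogeneous : (LinearMap.ker Λ).IsHomogeneous 𝒞 := by
  intro i c hc
  rw [LinearMap.mem_ker] at hc ⊢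
  have h1 := decompose_apply_of_isGrHomDeg 𝓔 𝒞 Λ hΛ c i
  rw [← h1, hc, decompose_zero, DirectSum.zero_apply, ZeroMemClass.coe_zero]

omit [IsNoetherianRing R] in
include hstd in
/-- if `R_l` kills `w` then so does `R_{l'}` for `l' ≥ l` -/
theorem smul_eq_zero_of_le {W : Type u} [AddCommGroup W] [Module R W] {l l' : ℤ} (hl : 0 ≤ l)
    (hll' : l ≤ l') {w : W} (h : ∀ s ∈ 𝒜 l, s • w = 0) : ∀ s ∈ 𝒜 l', s • w = 0 := by
  intro s hs
  have hs' : s ∈ 𝒜 (((l' - l).toNat : ℤ) + l) := by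
    rw [Int.toNat_of_nonneg (by omega), sub_add_cancel]
    exact hs
  have h1 := mem_closure_prod 𝒜 hstd l hl (l' - l).toNat hs'
  clear hs hs'
  induction h1 using AddSubgroup.closure_induction with
  | mem z hz =>
    obtain ⟨α, _, β, hβ, rfl⟩ := hz
    rw [mul_smul, h β hβ, smul_zero]
  | zero => exact zero_smul _ _
  | add u v _ _ hu hv => rw [add_smul, hu, hv, add_zero]
  | neg u _ hu => rw [neg_smul, hu, neg_zero]

include hpos hmsp hstd he h0 hI hΛ hq hVs ht hx₀ hx₀reg in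
/-- **surjectivity from surjectivity in Veronese degrees** -/
theorem surjective_of_veronese : Function.Surjective Λ := by
  classical
  by_contra hns
  obtain ⟨y, hy⟩ : ∃ y, y ∉ LinearMap.range Λ := by
    by_contra hcon
    push Not at hcon
    exact hns (fun y => hcon y)
  obtain ⟨d, r, hr, hrQ, hry⟩ := exists_annihilator 𝒜 hpos h0 m hmsp 𝓔 e he hI
    (LinearMap.range Λ) (range_isHomogeneous 𝓔 𝒞 Λ σ hΛ) y hy
  have hr0 : r ≠ 0 := by
    rintro rfl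
    exact hry (zero_smul _ _)
  have hd : 0 ≤ d := by
    by_contra hd
    push Not at hd
    rw [hpos d hd, AddSubgroup.mem_bot] at hr
    exact hr0 hr
  set l : ℕ := d.toNat * (q - 1) with hl
  have hdl : (l : ℤ) + d = d * q := by
    rw [hl]
    push_cast
    rw [Int.toNat_of_nonneg hd, Nat.cast_sub hq]
    ring
  -- `R_l` kills `r`
  have hkill : ∀ s ∈ 𝒜 (l : ℤ), s • r = 0 := by
    intro s hs
    rw [smul_eq_mul]
    apply eq_zero_of_forall_smul 𝒜 hpos h0 m hmsp 𝓔 e he hI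
      (SetLike.GradedMul.mul_mem (A := 𝒜) hs hr)
    intro z hz
    have hz' : z ∈ 𝓔 ((-d) * q) := by
      have : -((l : ℤ) + d) = (-d) * q := by rw [hdl]; ring
      rwa [this] at hz
    obtain ⟨c, rfl⟩ := hVs (-d) z hz'
    rw [mul_smul, hrQ _ ⟨c, rfl⟩, smul_zero]
  -- hence so does `x₀ ^ l`
  have hxl : x₀ ^ l ∈ 𝒜 ((l : ℤ) * t) := by
    have := SetLike.pow_mem_graded (A := 𝒜) l hx₀
    rwa [nsmul_eq_mul] at this
  have h2 := smul_eq_zero_of_le 𝒜 hstd (l := (l : ℤ)) (l' := (l : ℤ) * t) (by positivity)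
    (by nlinarith [Int.natCast_nonneg l]) hkill _ hxl
  apply hr0
  exact (hx₀reg.pow l) (h2.trans (smul_zero _).symm)

variable {t' : ℤ} (ht' : 0 < t') {y₀ : R} (hy₀ : y₀ ∈ 𝒜 t')
  (hreg : ∀ r : R, r * y₀ ∈ Ideal.span {x₀} → r ∈ Ideal.span {x₀})
  (hdiv : ∀ c : C, ∃ c₁ : C, c = x₀ • c₁)

omit [IsNoetherianRing R] [SetLike.GradedSMul 𝒜 𝓔] in
include hpos hstd hΛ hq hVi in
/-- `m^q` kills the kernel -/
theorem pow_smul_ker_eq_bot : (irr 𝒜).toIdeal ^ q • LinearMap.ker Λ = ⊥ := by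
  classical
  have hq' : (0 : ℤ) < (q : ℤ) := by exact_mod_cast hq
  -- homogeneous elements
  have key : ∀ (i : ℤ) (z : C), z ∈ 𝒞 i → Λ z = 0 → ∀ (l : ℤ), (q : ℤ) ≤ l → ∀ s ∈ 𝒜 l,
      s • z = 0 := by
    intro i z hz hΛz l hl
    set l₀ : ℤ := (-i) % q with hl₀
    have hl₀0 : 0 ≤ l₀ := Int.emod_nonneg _ hq'.ne'
    have hl₀q : l₀ < q := Int.emod_lt_of_pos _ hq'
    have hdvd : (q : ℤ) ∣ l₀ + i := by
      have h1 : (q : ℤ) * ((-i) / q) + l₀ = -i := Int.mul_ediv_add_emod (-i) q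
      refine ⟨-((-i) / q), ?_⟩
      linarith
    obtain ⟨j, hj⟩ := hdvd
    apply smul_eq_zero_of_le 𝒜 hstd hl₀0 (by omega)
    intro β hβ
    have hβz : β • z ∈ 𝒞 (j * q) := by
      have := SetLike.GradedSMul.smul_mem (A := 𝒜) (B := 𝒞) hβ hz
      rw [vadd_eq_add, hj, mul_comm] at this
      exact this
    apply hVi j _ hβz
    rw [map_smul, hΛz, smul_zero]
  rw [eq_bot_iff]
  rw [Submodule.smul_le]
  intro r hr z hz
  rw [Submodule.mem_bot]
  have hrge : r ∈ geSub (R := R) 𝒜 (0 + (q : ℤ)) := by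
    have h1 : r • (1 : R) ∈ (irr 𝒜).toIdeal ^ q • geSub (R := R) 𝒜 0 :=
      Submodule.smul_mem_smul hr (mem_geSub_of_mem 𝒜 le_rfl (SetLike.GradedOne.one_mem (A := 𝒜)))
    have h2 := pow_smul_geSub_le 𝒜 𝒜 (irr 𝒜).toIdeal rfl q 0 h1
    rwa [smul_eq_mul, mul_one] at h2
  rw [zero_add] at hrge
  have hrlow := decompose_eq_zero_of_mem_geSub 𝒜 𝒜 hpos hrge
  rw [← DirectSum.sum_support_decompose 𝒜 r, Finset.sum_smul]
  refine Finset.sum_eq_zero (fun l _ => ?_)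
  by_cases hl : l < q
  · rw [hrlow l hl, zero_smul]
  · push Not at hl
    rw [← DirectSum.sum_support_decompose 𝒞 z, Finset.smul_sum]
    refine Finset.sum_eq_zero (fun i _ => ?_)
    have hzi : (decompose 𝒞 z i : C) ∈ LinearMap.ker Λ := ker_isHomogeneous 𝓔 𝒞 Λ σ hΛ i hz
    exact key i _ (SetLike.coe_mem _) (LinearMap.mem_ker.mp hzi) l hl _ (SetLike.coe_mem _)

include hpos hmsp hstd he h0 hI hΛ hq hVs hVi ht hx₀ hx₀reg ht' hy₀ hreg hdiv in
/-- **injectivity from bijectivity in Veronese degrees**, given a homogeneous regular pair -/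
theorem injective_of_veronese : Function.Injective Λ := by
  classical
  have hsurj := surjective_of_veronese 𝒜 hpos h0 m hmsp hstd 𝓔 e he hI 𝒞 Λ σ hΛ q hq hVs ht hx₀
    hx₀reg
  have hxirr : x₀ ∈ (irr 𝒜).toIdeal := by
    rw [irr_toIdeal]
    apply Ideal.subset_span
    simp only [Set.mem_iUnion, Set.mem_Ioi]
    exact ⟨t, ht, hx₀⟩
  have hyirr : y₀ ∈ (irr 𝒜).toIdeal := by
    rw [irr_toIdeal]
    apply Ideal.subset_span
    simp only [Set.mem_iUnion, Set.mem_Ioi]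
    exact ⟨t', ht', hy₀⟩
  -- `N ≤ m N`
  have hA : LinearMap.ker Λ ≤ (irr 𝒜).toIdeal • LinearMap.ker Λ := by
    intro z hz
    rw [LinearMap.mem_ker] at hz
    obtain ⟨h₁, rfl⟩ := hdiv z
    rw [map_smul] at hz
    obtain ⟨e', he'1, he'2⟩ := exists_smul_eq_of_regular 𝒜 hpos h0 m hmsp 𝓔 e he hI hx₀ hy₀ hreg
      (Λ h₁) hz
    obtain ⟨h', rfl⟩ := hsurj e'
    have hn1 : h₁ - y₀ • h' ∈ LinearMap.ker Λ := by
      rw [LinearMap.mem_ker, map_sub, map_smul, he'1, sub_self]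
    have hn2 : x₀ • h' ∈ LinearMap.ker Λ := by
      rw [LinearMap.mem_ker, map_smul, he'2]
    have : x₀ • h₁ = x₀ • (h₁ - y₀ • h') + y₀ • (x₀ • h') := by
      rw [smul_sub, smul_comm x₀ y₀ h']
      abel
    rw [this]
    exact add_mem (Submodule.smul_mem_smul hxirr hn1) (Submodule.smul_mem_smul hyirr hn2)
  have hpow : ∀ k : ℕ, LinearMap.ker Λ ≤ (irr 𝒜).toIdeal ^ k • LinearMap.ker Λ := by
    intro k
    induction k with
    | zero => rw [pow_zero, Ideal.one_eq_top, Submodule.top_smul]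
    | succ k ih =>
      calc LinearMap.ker Λ ≤ (irr 𝒜).toIdeal ^ k • LinearMap.ker Λ := ih
        _ ≤ (irr 𝒜).toIdeal ^ k • ((irr 𝒜).toIdeal • LinearMap.ker Λ) :=
          Submodule.smul_mono le_rfl hA
        _ = (irr 𝒜).toIdeal ^ (k + 1) • LinearMap.ker Λ := by
          rw [← mul_smul, pow_succ]
  have hbot : LinearMap.ker Λ = ⊥ := by
    rw [eq_bot_iff, ← pow_smul_ker_eq_bot 𝒜 hpos hstd 𝓔 𝒞 Λ σ hΛ q hq hVi]
    exact hpow q
  exact LinearMap.ker_eq_bot.mp hbot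

end Ver

end Groth.Agent.Lib.Helper39.GrMatlis
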