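import Groth.Agent.Lib.Helper39.GrVer31
import Groth.Agent.Lib.Helper39.GrLes6
import Groth.Agent.Lib.Helper39.GrTop
import Groth.Agent.Lib.Helper60.ExtFG
import Groth.Agent.S13224
import Groth.Agent.S13215

/-!
# Divisibility of the top graded local cohomology by a homogeneous regular element (helper39)
-/

set_option autoImplicit false
universe u

namespace Groth.Agent.Lib.Helper39.Ver

open DirectSum GrLC Groth.Agent.Lib.Helper39 Groth.Agent.Lib.Helper39.GrLes

section Div
variable {R : Type u} [CommRing R] [IsNoetherianRing R] (𝒜 : ℤ → AddSubgroup R) [GradedRing 𝒜]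
  (a : HomogeneousIdeal 𝒜) (n : ℕ) (hn : ringKrullDim R = n) (I : StarInjRes 𝒜 𝒜)
  {d : ℤ} {x : R} (hx : x ∈ 𝒜 d) (hreg : IsSMulRegular R x)

include hn hx hreg in
/-- `H^n_a(R) = x H^n_a(R)` for a homogeneous regular element `x`, `n = dim R` -/
theorem smul_surjective_top (y : I.H a n) : ∃ z : I.H a n, y = x • z := by
  classical
  have hJ : (Ideal.span {x} : Submodule R R).IsHomogeneous 𝒜 := by
    apply Ideal.homogeneous_span
    rintro _ rfl
    exact ⟨d, hx⟩
  letI decQ := quotDecomposition 𝒜 (Ideal.span {x} : Submodule R R) hJ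
  haveI smulQ := quotGradedSMul 𝒜 𝒜 (Ideal.span {x} : Submodule R R)
  obtain ⟨F⟩ := Groth.Agent.S13215.result R 𝒜 (R ⧸ (Ideal.span {x} : Submodule R R))
    (quotPieces 𝒜 (Ideal.span {x} : Submodule R R))
  have hker : LinearMap.ker (Ideal.span {x} : Submodule R R).mkQ =
      LinearMap.range (x • (LinearMap.id : R →ₗ[R] R)) := by
    rw [Submodule.ker_mkQ]
    ext r
    rw [Ideal.mem_span_singleton', LinearMap.mem_range]
    constructor
    · rintro ⟨c, rfl⟩
      exact ⟨c, by rw [LinearMap.smul_apply, LinearMap.id_apply, smul_eq_mul, mul_comm]⟩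
    · rintro ⟨c, rfl⟩
      exact ⟨c, by rw [LinearMap.smul_apply, LinearMap.id_apply, smul_eq_mul, mul_comm]⟩
  obtain ⟨δ, -, h1, -, -, -⟩ := exists_les_smul hx hreg (Ideal.span {x} : Submodule R R).mkQ
    (Submodule.mkQ_surjective _) (isGrHom_mkQ 𝒜 _) hker I F a
  -- the top cohomology of the quotient vanishes
  have hsub : Subsingleton (F.H a n) := by
    obtain ⟨e⟩ := Groth.Agent.S13224.result R 𝒜 a (R ⧸ (Ideal.span {x} : Submodule R R))
      (quotPieces 𝒜 (Ideal.span {x} : Submodule R R)) F n
    have hx0 : x ∈ nonZeroDivisors R := by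
      rw [mem_nonZeroDivisors_iff_right]
      intro z hz
      apply hreg
      show x • z = x • 0
      rw [smul_zero, smul_eq_mul, mul_comm]
      exact hz
    have hdim : Module.supportDim R (R ⧸ (Ideal.span {x} : Submodule R R)) <
        (n : WithBot ℕ∞) := by
      have h2 : Module.supportDim R (R ⧸ Ideal.span {x}) = ringKrullDim (R ⧸ Ideal.span {x}) :=
        Module.supportDim_quotient_eq_ringKrullDim _
      have h3 := ringKrullDim_quotient_succ_le_of_nonZeroDivisor hx0
      rw [hn] at h3
      show Module.supportDim R (R ⧸ Ideal.span {x}) < (n : WithBot ℕ∞)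
      rw [h2]
      generalize ringKrullDim (R ⧸ Ideal.span {x}) = D at h3
      induction D using WithBot.recBotCoe with
      | bot => exact WithBot.bot_lt_coe _
      | coe D =>
        have h4 : D + 1 ≤ (n : ℕ∞) := by exact_mod_cast h3
        have h5 : D ≠ ⊤ := by
          rintro rfl
          simp at h4
        have h6 : D < (n : ℕ∞) := (ENat.add_one_le_iff h5).mp h4
        exact_mod_cast h6
    have := Groth.Agent.Lib.Helper60.lc_subsingleton_of_supportDim_lt a.toIdeal n
      (R ⧸ (Ideal.span {x} : Submodule R R)) hdim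
    exact e.injective.subsingleton
  obtain ⟨z, hz⟩ := (h1 n y).mp (Subsingleton.elim _ _)
  exact ⟨z, hz.symm⟩

end Div

end Groth.Agent.Lib.Helper39.Ver
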