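import Groth.Agent.Lib.Helper39.GrVer32
import Groth.Agent.Lib.Helper39.GrRegSeqDepth
import Groth.Agent.Lib.Helper39.GrAInvPoly4
import Groth.Agent.Lib.Helper29.DepthLoc
import Groth.Agent.S14424
import Groth.Agent.S13214

/-!
# Cohen–Macaulay standard graded rings with a Gorenstein Veronese subring (helper39)

`isGorensteinRing_of_ver`: if `R` is a Cohen–Macaulay standard graded ring over a field with
`dim R ≥ 2` and `R^(q)` is Gorenstein, then `R` is Gorenstein and `q ∣ a(R)`.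
-/

set_option autoImplicit false
universe u

namespace Groth.Agent.Lib.Helper39.Ver

open DirectSum GrLC Groth.Agent.Lib.Helper39 Groth.Agent.Lib.Helper39.GrStarLocal
  Groth.Agent.Lib.Helper39.GrPieceDual Groth.Agent.Lib.Helper39.GrLes
  Groth.Agent.Lib.Helper39.GrMatlis

section Main
variable {R R' : Type u} [CommRing R] [CommRing R'] [LocCoh.IsCohenMacaulayRing R]
  [LocCoh.IsGorensteinRing R']
  {𝒜 : ℤ → AddSubgroup R} [GradedRing 𝒜]
  {𝒜' : ℤ → AddSubgroup R'} [GradedRing 𝒜'] (D : VerData 𝒜 𝒜')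
  (hpos : ∀ n : ℤ, n < 0 → 𝒜 n = ⊥) (h0 : IsField (GrLC.deg0 𝒜))
  (m : HomogeneousIdeal 𝒜) (hm : GrLC.IsStarLocal 𝒜 m)
  (hmsp : m.toIdeal = Ideal.span (⋃ n ∈ Set.Ioi (0 : ℤ), (𝒜 n : Set R)))
  (hstd : Ideal.span (⋃ n ∈ Set.Ioi (0 : ℤ), (𝒜 n : Set R)) =
    Ideal.span ((𝒜 1 : AddSubgroup R) : Set R))
  (n : ℕ) (hn : ringKrullDim R = n) (h2 : 2 ≤ n) (I : GrLC.StarInjRes 𝒜 𝒜)

include hpos h0 hm hmsp hstd hn h2 in
/-- **Cohen–Macaulay standard graded rings with a Gorenstein Veronese subring are Gorenstein** -/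
theorem isGorensteinRing_of_ver : LocCoh.IsGorensteinRing R ∧
    ∃ a : ℤ, GrLC.endDeg (I.Hgr m n) = ((a : WithTop ℤ) : WithBot (WithTop ℤ)) ∧
      (D.q : ℤ) ∣ a := by
  classical
  haveI : IsNoetherianRing R := inferInstance
  haveI : IsNoetherianRing R' := inferInstance
  haveI hmax : m.toIdeal.IsMaximal := GrStarLocal.isMaximal hpos hm
  have hqpos : (0 : ℤ) < (D.q : ℤ) := D.qpos
  -- the hull over `R`
  let decQ := quotGrDecomposition 𝒜 m
  have smulQ := quotGrGradedSMul 𝒜 m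
  obtain ⟨E, e, he⟩ := Groth.Agent.Lib.Helper87.StarMin.exists_hull 𝒜
    (GMod.of 𝒜 (R ⧸ m.toIdeal) (GrLC.quotGr 𝒜 m))
  have hht := height_eq 𝒜 hpos h0 m hm n hn
  have hvanR : ∀ j, j ≠ n → Subsingleton (I.H m j) := fun j hj =>
    H_subsingleton_of_ne 𝒜 hpos h0 m hm n hn I j hj
  -- the Veronese side
  have hpos' := D.hpos' hpos
  have h0' := D.h0' h0
  obtain ⟨m', hm'def⟩ : ∃ m' : HomogeneousIdeal 𝒜', m' = irr 𝒜' := ⟨_, rfl⟩
  have hm' : GrLC.IsStarLocal 𝒜' m' := hm'def ▸ isStarLocal_irr 𝒜' hpos' h0'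
  have hm'sp : m'.toIdeal = Ideal.span (⋃ j ∈ Set.Ioi (0 : ℤ), (𝒜' j : Set R')) := by
    rw [hm'def]; rfl
  let I' : GrLC.StarInjRes 𝒜' 𝒜' := starInjRes (𝒜 := 𝒜') 𝒜'
  have hθ := fun p => exists_theta_irrelevant D m m' hmsp hm'sp p I D.φₛ D.isVer_self I'
  have hvan : ∀ j, j ≠ n → Subsingleton (I'.H m' j) := by
    intro j hj
    obtain ⟨θ, hθv⟩ := hθ j
    haveI := hvanR j hj
    exact hθv.inj.subsingleton
  -- the hull over `R'`
  let decQ' := quotGrDecomposition 𝒜' m'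
  have smulQ' := quotGrGradedSMul 𝒜' m'
  obtain ⟨E', e', he'⟩ := Groth.Agent.Lib.Helper87.StarMin.exists_hull 𝒜'
    (GMod.of 𝒜' (R' ⧸ m'.toIdeal) (GrLC.quotGr 𝒜' m'))
  -- comparison of the hulls
  have hhull' := isStarInjHull_eVer D hpos h0 m m' hmsp hm'sp E e he
  obtain ⟨β, hβ, -⟩ := @Groth.Agent.S13214.result ℤ _ _ _ _ R' _ _ 𝒜' _ (R' ⧸ m'.toIdeal) _ _
    (GrLC.quotGr 𝒜' m') decQ' smulQ'
    E'.carrier _ _ E'.gr _ _ (Ver D E) _ _ (verGr D E) _ _ e'
    (eVer D hpos m m' hmsp hm'sp E e he.toIsStarEss) he' hhull'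
  have hne' : m'.toIdeal ≠ ⊤ := hm'def ▸ irr_ne_top 𝒜' hpos' h0'
  obtain ⟨n', hn'⟩ : ∃ n' : ℕ, m'.toIdeal.height = n' :=
    ⟨m'.toIdeal.height.toNat, (ENat.coe_toNat (Ideal.height_ne_top hne')).symm⟩
  obtain ⟨g', φ', hφ'⟩ := Groth.Agent.S13244.result R' 𝒜' m' hm' n' hn' I' E'.carrier E'.gr e' he'
  have hE'0 := GrHullDim.finrank_zero 𝒜' hpos' h0' m' hm'sp E'.gr e' he'.toIsStarEss
  have hnn : n' = n := by
    by_contra hne
    haveI := hvan n' hne
    haveI : Subsingleton E'.carrier := φ'.symm.injective.subsingleton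
    haveI : Subsingleton (GrLC.comp 𝒜' E'.gr 0) := Subtype.val_injective.subsingleton
    letI : Field (GrLC.deg0 𝒜') := h0'.toField
    rw [Module.finrank_zero_of_subsingleton] at hE'0
    exact zero_ne_one hE'0
  subst hnn
  obtain ⟨θ, hθv⟩ := hθ n'
  -- the semilinear comparison `μ : H' → E`
  let f : I'.H m' n' →ₗ[R'] Ver D E := β.toLinearMap ∘ₗ φ'.toLinearMap
  have hf : IsGrHomDeg (I'.Hgr m' n') (verGr D E) f g' := by
    intro j x hx
    exact hβ (j + g') _ (hφ' j x hx)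
  let μ : I'.H m' n' → E.carrier := fun x => Ver.val D E (f x)
  have hμadd : ∀ x y, μ (x + y) = μ x + μ y := by
    intro x y
    show Ver.val D E (f (x + y)) = _
    rw [map_add, Ver.val_add]
  have hμzero : μ 0 = 0 := by
    show Ver.val D E (f 0) = 0
    rw [map_zero, Ver.val_zero]
  have hμsmul : ∀ (r : R') x, μ (r • x) = D.φ r • μ x := by
    intro r x
    show Ver.val D E (f (r • x)) = _
    rw [map_smul, Ver.val_smul]
  have hμinj : Function.Injective μ := by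
    intro x y hxy
    have h1 : f x = f y := Ver.ext D E hxy
    exact φ'.injective (β.injective h1)
  have hμdeg : ∀ j x, x ∈ I'.Hgr m' n' j → μ x ∈ E.gr ((j + g') * D.q) := by
    intro j x hx
    exact (mem_verGr D E).mp (hf j x hx)
  have hμsurj : ∀ j y, y ∈ E.gr ((j + g') * D.q) → ∃ x ∈ I'.Hgr m' n' j, μ x = y := by
    intro j y hy
    let v : Ver D E := Ver.mk D E y (mem_verSub_of_mem E.gr D.q hy)
    have hv : v ∈ verGr D E (j + g') := hy
    obtain ⟨x, hx, hxv⟩ := GrRegVanish.exists_mem_of_isInternal_deg (Hgr_isInternal I' m' n')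
      (DirectSum.Decomposition.isInternal (verGr D E)) f hf hv (φ'.symm (β.symm v)) (by
        show β (φ' (φ'.symm (β.symm v))) = v
        rw [φ'.apply_symm_apply, β.apply_symm_apply])
    refine ⟨x, hx, ?_⟩
    show Ver.val D E (f x) = y
    rw [hxv]
    rfl
  -- the socle generator
  have hess := he.toIsStarEss
  set ε : E.carrier := e (Ideal.Quotient.mk m.toIdeal 1) with hε
  have hε0 : ε ∈ E.gr 0 := e_mem_zero 𝒜 hpos m hmsp E.gr e hess _
  have hεne : ε ≠ 0 := by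
    intro h
    have h1 : Ideal.Quotient.mk m.toIdeal (1 : R) = 0 := he.injective (h.trans (map_zero e).symm)
    rw [Ideal.Quotient.eq_zero_iff_mem] at h1
    exact hmax.ne_top ((Ideal.eq_top_iff_one _).mpr h1)
  obtain ⟨u', hu', hμu'⟩ := hμsurj (-g') ε (by rw [neg_add_cancel, zero_mul]; exact hε0)
  set σ : ℤ := g' * D.q with hσ
  have hu : θ u' ∈ I.Hgr m n' (-σ) := by
    have := hθv.map_mem (-g') u' hu'
    rwa [neg_mul] at this
  have hu0 : θ u' ≠ 0 := by
    intro h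
    have h1 : u' = 0 := hθv.inj (h.trans (map_zero θ).symm)
    rw [h1, hμzero] at hμu'
    exact hεne hμu'.symm
  -- the graded structure of `H`
  letI decH := (Hgr_isInternal I m n').chooseDecomposition
  haveI smulH : SetLike.GradedSMul 𝒜 (I.Hgr m n') := ⟨fun {d j} x y hx hy => by
    have := GrRegVanish.smul_mem_Hgr I m n' hx hy
    rwa [add_comm] at this⟩
  obtain ⟨Λ, hΛ, hΛu⟩ := exists_homDeg_of_ne_zero 𝒜 hpos m hmsp E.gr e hess (I.Hgr m n') h0
    he.starInj σ (c0 := θ u') hu hu0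
  have hΛu0 : Λ (θ u') ∈ E.gr 0 := by
    have := hΛ (-σ) _ hu
    rwa [neg_add_cancel] at this
  letI : Field (GrLC.deg0 𝒜) := h0.toField
  have hE0 := GrHullDim.finrank_zero 𝒜 hpos h0 m hmsp E.gr e hess
  have hall := (finrank_eq_one_iff_of_nonzero' (⟨ε, hε0⟩ : GrLC.comp 𝒜 E.gr 0)
    (fun h => hεne (congrArg Subtype.val h))).mp hE0
  obtain ⟨c, hc⟩ := hall ⟨Λ (θ u'), hΛu0⟩
  have hc' : (c : R) • ε = Λ (θ u') := congrArg Subtype.val hc
  have hc0 : c ≠ 0 := by
    rintro rfl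
    apply hΛu
    rw [← hc']
    exact zero_smul _ _
  have hcinv : ((c⁻¹ : GrLC.deg0 𝒜) : R) * (c : R) = 1 := by
    have := inv_mul_cancel₀ hc0
    have h1 := congrArg (fun z : GrLC.deg0 𝒜 => (z : R)) this
    simpa using h1
  have hcinv' : (c : R) * ((c⁻¹ : GrLC.deg0 𝒜) : R) = 1 := by rw [mul_comm]; exact hcinv
  -- agreement in degree `-g'`
  have step2 : ∀ x ∈ I'.Hgr m' n' (-g'), Λ (θ x) = (c : R) • μ x := by
    intro x hx
    have hμx : μ x ∈ E.gr 0 := by
      have := hμdeg (-g') x hx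
      rwa [neg_add_cancel, zero_mul] at this
    obtain ⟨b, hb⟩ := hall ⟨μ x, hμx⟩
    have hb' : (b : R) • ε = μ x := congrArg Subtype.val hb
    obtain ⟨b', -, hb'φ⟩ := D.exists_mem 0 (b : R) (by rw [zero_mul]; exact b.2)
    have hx' : x = b' • u' := by
      apply hμinj
      rw [hμsmul, hμu', hb'φ, hb']
    rw [hx', hμsmul, hμu', map_smulₛₗ, map_smul, hb'φ, ← hc', smul_comm]
  -- agreement everywhere on homogeneous elements
  have key : ∀ j x, x ∈ I'.Hgr m' n' j → Λ (θ x) = (c : R) • μ x := by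
    intro j x hx
    by_contra hne
    have hw0 : Λ (θ x) - (c : R) • μ x ≠ 0 := sub_ne_zero.mpr hne
    have hw : Λ (θ x) - (c : R) • μ x ∈ E.gr ((j + g') * D.q) := by
      apply sub_mem
      · have := hΛ _ _ (hθv.map_mem j x hx)
        have e1 : j * (D.q : ℤ) + σ = (j + g') * D.q := by rw [hσ]; ring
        rwa [e1] at this
      · have := SetLike.GradedSMul.smul_mem (A := 𝒜) (B := E.gr) c.2 (hμdeg j x hx)
        rwa [vadd_eq_add, zero_add] at this
    obtain ⟨r, hr, hrw, -⟩ := exists_smul_mem_range 𝒜 hpos m hmsp E.gr e hess hw hw0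
    have hr' : r ∈ 𝒜 ((-(j + g')) * D.q) := by
      have e1 : -((j + g') * (D.q : ℤ)) = (-(j + g')) * D.q := by ring
      rwa [e1] at hr
    obtain ⟨r', hr'', rfl⟩ := D.exists_mem (-(j + g')) r hr'
    have hrx : r' • x ∈ I'.Hgr m' n' (-g') := by
      have := GrRegVanish.smul_mem_Hgr I' m' n' hr'' hx
      have e1 : j + -(j + g') = -g' := by ring
      rwa [e1] at this
    apply hrw
    have h3 := step2 _ hrx
    rw [hμsmul, map_smulₛₗ, map_smul] at h3
    rw [smul_sub, h3, smul_comm, sub_self]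
  -- bijectivity in Veronese degrees
  have hVs : ∀ j : ℤ, ∀ z ∈ E.gr (j * D.q), ∃ h, Λ h = z := by
    intro j z hz
    have hz' : ((c⁻¹ : GrLC.deg0 𝒜) : R) • z ∈ E.gr (((j - g') + g') * D.q) := by
      have := SetLike.GradedSMul.smul_mem (A := 𝒜) (B := E.gr) (c⁻¹ : GrLC.deg0 𝒜).2 hz
      rw [vadd_eq_add, zero_add] at this
      rwa [sub_add_cancel]
    obtain ⟨x, hx, hμx⟩ := hμsurj (j - g') _ hz'
    refine ⟨θ x, ?_⟩
    rw [key _ x hx, hμx, ← mul_smul, hcinv', one_smul]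
  have hVi : ∀ j : ℤ, ∀ h ∈ I.Hgr m n' (j * D.q), Λ h = 0 → h = 0 := by
    intro j h hh hΛh
    obtain ⟨x, hx, rfl⟩ := hθv.surj j h hh
    rw [key j x hx] at hΛh
    have h1 : μ x = 0 := by
      have := congrArg (fun z => ((c⁻¹ : GrLC.deg0 𝒜) : R) • z) hΛh
      simp only [smul_zero] at this
      rwa [← mul_smul, hcinv, one_smul] at this
    have h2 : x = 0 := hμinj (h1.trans hμzero.symm)
    rw [h2, map_zero]
  -- a homogeneous regular pair
  have hdepth : 2 ≤ LocCoh.depth (Localization.AtPrime m.toIdeal)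
      (LocalizedModule m.toIdeal.primeCompl R) := by
    have h1 : LocCoh.idealDepth m.toIdeal R = m.toIdeal.height :=
      (Groth.Agent.S14424.result R).mp inferInstance _ hmax.ne_top
    have h3 := Groth.Agent.Lib.Helper29.idealDepth_le_depth_localization R m.toIdeal R
    rw [h1, hht] at h3
    refine le_trans ?_ h3
    exact_mod_cast h2
  obtain ⟨d, x, d', y, hd, hx, hd', hy, hxreg, hyreg⟩ :=
    Groth.Agent.Lib.Helper39.GrRegSeqDepth.exists_regular_pair 𝒜 hpos m.toIdeal hmsp R hdepth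
  have hreg : ∀ r : R, r * y ∈ Ideal.span {x} → r ∈ Ideal.span {x} := by
    intro r hr
    obtain ⟨c₁, hc₁⟩ := Ideal.mem_span_singleton'.mp hr
    have h1 : y • (Submodule.Quotient.mk r : QuotSMulTop x R) = y • 0 := by
      rw [smul_zero, ← Submodule.Quotient.mk_smul, Submodule.Quotient.mk_eq_zero]
      rw [Submodule.mem_smul_pointwise_iff_exists]
      exact ⟨c₁, Submodule.mem_top, by rw [smul_eq_mul, smul_eq_mul, mul_comm x c₁, hc₁, mul_comm]⟩
    have h3 := hyreg h1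
    rw [Submodule.Quotient.mk_eq_zero, Submodule.mem_smul_pointwise_iff_exists] at h3
    obtain ⟨s, -, hs⟩ := h3
    rw [Ideal.mem_span_singleton']
    exact ⟨s, by rw [← hs, smul_eq_mul, mul_comm]⟩
  have hdiv : ∀ h : I.H m n', ∃ h₁ : I.H m n', h = x • h₁ :=
    smul_surjective_top 𝒜 m n' hn I hx hxreg
  have hΛinj : Function.Injective Λ :=
    injective_of_veronese 𝒜 hpos h0 m hmsp hstd E.gr e hess he.starInj (I.Hgr m n') Λ σ hΛ D.q D.hq
      hVs hVi hd hx hxreg hd' hy hreg hdiv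
  have hΛsurj : Function.Surjective Λ :=
    surjective_of_veronese 𝒜 hpos h0 m hmsp hstd E.gr e hess he.starInj (I.Hgr m n') Λ σ hΛ D.q D.hq
      hVs hd hx hxreg
  -- conclusion
  have hX : GrLC.IsStarInj 𝒜 (gshift E σ).gr := isStarInj_shift E.gr he.starInj σ
  have hΛgr : GrLC.IsGrHom (I.Hgr m n') (gshift E σ).gr
      (LinearEquiv.ofBijective Λ ⟨hΛinj, hΛsurj⟩).toLinearMap := by
    intro j h hh
    show Λ h ∈ E.gr (j + σ)
    exact hΛ j h hh
  refine ⟨StarGorV.isGorensteinRing_of_starInj R 𝒜 m hm n' I hvanR (gshift E σ)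
    (LinearEquiv.ofBijective Λ ⟨hΛinj, hΛsurj⟩) hX hΛgr, -σ, ?_, ?_⟩
  · apply Groth.Agent.Lib.Helper39.GrAInvPoly.endDeg_eq
    · intro hbot
      have := hu
      rw [hbot, AddSubgroup.mem_bot] at this
      exact hu0 this
    · intro j hj
      rw [eq_bot_iff]
      intro h hh
      rw [AddSubgroup.mem_bot]
      apply hΛinj
      rw [map_zero]
      have h1 := hΛ j h hh
      rw [piece_eq_bot_of_pos 𝒜 hpos m hmsp E.gr e hess (by omega : 0 < j + σ),
        AddSubgroup.mem_bot] at h1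
      exact h1
  · rw [hσ]
    exact ⟨-g', by ring⟩

end Main

end Groth.Agent.Lib.Helper39.Ver
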