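import Groth.Agent.Lib.Helper39.GrVer3
import Groth.Agent.Lib.Helper60.LocalCohBC
import Groth.Agent.S13217

/-!
# Veronese submodules, part 4: the Veronese subring is Noetherian; `Γ`-acyclicity of the Veronese
submodule of a *injective module (helper39)
-/

set_option autoImplicit false
universe u

namespace Groth.Agent.Lib.Helper39.Ver

open DirectSum GrLC Groth.Agent.Lib.Helper39 CategoryTheory

section Noeth
variable {R R' : Type u} [CommRing R] [CommRing R'] {𝒜 : ℤ → AddSubgroup R} [GradedRing 𝒜]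
  {𝒜' : ℤ → AddSubgroup R'} [GradedRing 𝒜'] (D : VerData 𝒜 𝒜')

/-- `φ` as a semilinear map -/
def VerData.φₛ : R' →ₛₗ[D.φ] R where
  toFun := D.φ
  map_add' := map_add _
  map_smul' r s := by simp [smul_eq_mul]

@[simp] theorem VerData.φₛ_apply (r : R') : D.φₛ r = D.φ r := rfl

theorem VerData.isVer_self : IsVer D 𝒜' 𝒜 D.φₛ where
  inj := D.inj
  map_mem := D.map_mem
  surj := D.exists_mem

theorem VerData.exists_retr (a : R) : ∃ r : R', D.φ r = vproj 𝒜 D.q a :=
  D.isVer_self.exists_of_mem_verSub (vproj_mem_verSub 𝒜 D.q a)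

/-- the retraction `R → R'` -/
noncomputable def VerData.ρ (a : R) : R' := (D.exists_retr a).choose

theorem VerData.φ_ρ (a : R) : D.φ (D.ρ a) = vproj 𝒜 D.q a := (D.exists_retr a).choose_spec

theorem VerData.ρ_add (a b : R) : D.ρ (a + b) = D.ρ a + D.ρ b := by
  apply D.inj
  rw [map_add, D.φ_ρ, D.φ_ρ, D.φ_ρ, map_add]

theorem VerData.ρ_zero : D.ρ 0 = 0 := by
  apply D.inj
  rw [D.φ_ρ, map_zero, map_zero]

theorem VerData.ρ_mul (r : R') (a : R) : D.ρ (D.φ r * a) = r * D.ρ a := by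
  apply D.inj
  rw [map_mul, D.φ_ρ, D.φ_ρ, ← smul_eq_mul, D.vproj_smul 𝒜 r a, smul_eq_mul]

theorem VerData.ρ_φ (r : R') : D.ρ (D.φ r) = r := by
  apply D.inj
  rw [D.φ_ρ]
  exact (mem_verSub 𝒜 D.q).mp (D.isVer_self.map_mem_verSub r)

theorem VerData.comap_map (J : Ideal R') : (J.map D.φ).comap D.φ = J := by
  apply le_antisymm _ Ideal.le_comap_map
  intro x hx
  rw [Ideal.mem_comap] at hx
  have key : ∀ y ∈ J.map D.φ, ∀ c : R, D.ρ (c * y) ∈ J := by
    intro y hy
    refine Submodule.span_induction (p := fun y _ => ∀ c : R, D.ρ (c * y) ∈ J) ?_ ?_ ?_ ?_ hy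
    · rintro _ ⟨s, hs, rfl⟩ c
      rw [mul_comm, D.ρ_mul]
      exact J.mul_mem_right _ hs
    · intro c
      rw [mul_zero, D.ρ_zero]
      exact J.zero_mem
    · intro u v _ _ hu hv c
      rw [mul_add, D.ρ_add]
      exact J.add_mem (hu c) (hv c)
    · intro d u _ hu c
      rw [smul_eq_mul, ← mul_assoc]
      exact hu (c * d)
  have := key _ hx 1
  rwa [one_mul, D.ρ_φ] at this

include D in
theorem VerData.isNoetherianRing [IsNoetherianRing R] : IsNoetherianRing R' := by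
  rw [isNoetherianRing_iff, isNoetherian_iff']
  have hmono : StrictMono (fun J : Ideal R' => J.map D.φ) := by
    intro J K hJK
    refine lt_of_le_of_ne (Ideal.map_mono hJK.le) (fun h => ?_)
    have h' : J.map D.φ = K.map D.φ := h
    have h1 : J = K := by rw [← D.comap_map J, ← D.comap_map K, h']
    exact hJK.ne h1
  haveI : WellFoundedGT (Ideal R) := (isNoetherian_iff' (R := R) (M := R)).mp inferInstance
  exact hmono.wellFoundedGT

end Noeth

section Ideals
variable {R R' : Type u} [CommRing R] [CommRing R'] {𝒜 : ℤ → AddSubgroup R} [GradedRing 𝒜]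
  {𝒜' : ℤ → AddSubgroup R'} [GradedRing 𝒜'] (D : VerData 𝒜 𝒜')

theorem VerData.map_isHomogeneous (a' : HomogeneousIdeal 𝒜') :
    (a'.toIdeal.map D.φ).IsHomogeneous 𝒜 := by
  obtain ⟨S, hS⟩ := (Ideal.IsHomogeneous.iff_exists 𝒜' a'.toIdeal).mp a'.isHomogeneous
  rw [hS, Ideal.map_span]
  apply Ideal.homogeneous_span
  rintro _ ⟨_, ⟨s, _, rfl⟩, rfl⟩
  obtain ⟨j, hj⟩ := s.2
  exact ⟨j * D.q, D.map_mem j _ hj⟩

/-- the extension of a homogeneous ideal of the Veronese subring -/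
def VerData.mapIdeal (a' : HomogeneousIdeal 𝒜') : HomogeneousIdeal 𝒜 :=
  ⟨a'.toIdeal.map D.φ, D.map_isHomogeneous a'⟩

theorem VerData.map_irrelevant_le (m : Ideal R) (m' : Ideal R')
    (hmsp : m = Ideal.span (⋃ n ∈ Set.Ioi (0 : ℤ), (𝒜 n : Set R)))
    (hm'sp : m' = Ideal.span (⋃ j ∈ Set.Ioi (0 : ℤ), (𝒜' j : Set R'))) :
    m'.map D.φ ≤ m := by
  rw [hm'sp, Ideal.map_span, Ideal.span_le]
  rintro _ ⟨r, hr, rfl⟩
  simp only [Set.mem_iUnion, Set.mem_Ioi, SetLike.mem_coe, exists_prop] at hr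
  obtain ⟨j, hj, hr⟩ := hr
  rw [hmsp]
  apply Ideal.subset_span
  simp only [Set.mem_iUnion, Set.mem_Ioi, SetLike.mem_coe, exists_prop]
  exact ⟨j * D.q, mul_pos hj D.qpos, D.map_mem j r hr⟩

theorem VerData.exists_pow_le [IsNoetherianRing R] (m : Ideal R) (m' : Ideal R')
    (hmsp : m = Ideal.span (⋃ n ∈ Set.Ioi (0 : ℤ), (𝒜 n : Set R)))
    (hm'sp : m' = Ideal.span (⋃ j ∈ Set.Ioi (0 : ℤ), (𝒜' j : Set R'))) :
    ∃ N : ℕ, m ^ N ≤ m'.map D.φ := by
  apply Ideal.exists_pow_le_of_le_radical_of_fg _ (IsNoetherian.noetherian m)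
  rw [hmsp, Ideal.span_le]
  intro x hx
  simp only [Set.mem_iUnion, Set.mem_Ioi, SetLike.mem_coe, exists_prop] at hx
  obtain ⟨n, hn, hx⟩ := hx
  refine ⟨D.q, ?_⟩
  have h1 : x ^ D.q ∈ 𝒜 (n * D.q) := by
    have := SetLike.pow_mem_graded D.q hx
    rwa [nsmul_eq_mul, mul_comm] at this
  obtain ⟨r, hr, e⟩ := D.exists_mem n _ h1
  rw [← e]
  apply Ideal.mem_map_of_mem
  rw [hm'sp]
  apply Ideal.subset_span
  simp only [Set.mem_iUnion, Set.mem_Ioi, SetLike.mem_coe, exists_prop]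
  exact ⟨n, hn, hr⟩

end Ideals

section Acyclic
variable {R R' : Type u} [CommRing R] [CommRing R'] {𝒜 : ℤ → AddSubgroup R} [GradedRing 𝒜]
  {𝒜' : ℤ → AddSubgroup R'} [GradedRing 𝒜'] (D : VerData 𝒜 𝒜')

/-- **`Γ`-acyclicity of the Veronese submodule of a *injective module.** -/
theorem ver_acyclic [IsNoetherianRing R] [IsNoetherianRing R'] (a' : HomogeneousIdeal 𝒜')
    (X : GMod.{u} 𝒜) (hX : IsStarInj 𝒜 X.gr) (p : ℕ) (hp : 1 ≤ p) :
    Subsingleton (LocCoh.H a'.toIdeal p (Ver D X)) := by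
  letI : Algebra R' R := D.φ.toAlgebra
  letI : Module R' X.carrier := Module.compHom X.carrier D.φ
  haveI : IsScalarTower R' R X.carrier := IsScalarTower.of_algebraMap_smul (fun r x => rfl)
  obtain ⟨ψ, -⟩ := Groth.Agent.Lib.Helper60.exists_lc_baseChange (R := R') (R' := R) a'.toIdeal p
    X.carrier
  have hsub : Subsingleton (LocCoh.H (a'.toIdeal.map (algebraMap R' R)) p X.carrier) :=
    Groth.Agent.S13217.result R 𝒜 (D.mapIdeal a') X.carrier X.gr hX p hp
  have hsub2 : Subsingleton (LocCoh.H a'.toIdeal p X.carrier) := ψ.symm.injective.subsingleton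
  -- the retract
  let ι : Ver D X →ₗ[R'] X.carrier :=
    { toFun := Ver.val D X
      map_add' := fun _ _ => rfl
      map_smul' := fun _ _ => rfl }
  let π : X.carrier →ₗ[R'] Ver D X :=
    { toFun := verRetr D X
      map_add' := map_add _
      map_smul' := fun r x => verRetr_smul D X r x }
  have hπι : π ∘ₗ ι = LinearMap.id := by
    ext v
    exact verRetr_val D X v
  refine ⟨fun y z => ?_⟩
  have key : ∀ y : LocCoh.H a'.toIdeal p (Ver D X), y = 0 := by
    intro y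
    have h1 : (localCohomology a'.toIdeal p).map (ModuleCat.ofHom ι) ≫
        (localCohomology a'.toIdeal p).map (ModuleCat.ofHom π) = 𝟙 _ := by
      rw [← Functor.map_comp, ← ModuleCat.ofHom_comp, hπι]
      exact (localCohomology a'.toIdeal p).map_id _
    have h2 := congrArg (fun f => f.hom y) h1
    simp only [ModuleCat.hom_comp, LinearMap.comp_apply, ModuleCat.hom_id, LinearMap.id_apply] at h2
    rw [← h2, @Subsingleton.elim _ hsub2
      (((localCohomology a'.toIdeal p).map (ModuleCat.ofHom ι)).hom y) 0, map_zero]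
  rw [key y, key z]

end Acyclic

end Groth.Agent.Lib.Helper39.Ver
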