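import Groth.Agent.Lib.Helper39.GrLes5
import Groth.Agent.Lib.Helper39.GrH
import Groth.Agent.Lib.Helper39.GrSub

/-!
# `H^0` of a *injective resolution, tails of resolutions, graded inverses (helper39)
-/

set_option autoImplicit false
universe u

namespace Groth.Agent.Lib.Helper39.Ver

open DirectSum GrLC Groth.Agent.Lib.Helper39 Groth.Agent.Lib.Helper39.GrLes

section H0
variable {ι : Type} [AddCommGroup ι] [DecidableEq ι] {R : Type u} [CommRing R]
  {𝒜 : ι → AddSubgroup R} [GradedRing 𝒜]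
  {M : Type u} [AddCommGroup M] [Module R M] {ℳ : ι → AddSubgroup M} [DirectSum.Decomposition ℳ]
  [SetLike.GradedSMul 𝒜 ℳ] (E : StarInjRes 𝒜 ℳ) (a : HomogeneousIdeal 𝒜)

theorem ε_mem_cocyc {x : M} (hx : x ∈ gam a.toIdeal M) : E.ε x ∈ E.cocyc a 0 :=
  ⟨gam_map a.toIdeal E.ε hx, d_ε E x⟩

/-- the class of `ε x` in `H^0` -/
def h0 : gam a.toIdeal M →ₗ[R] E.H a 0 :=
  E.toH a 0 ∘ₗ (E.ε.restrict (fun _ hx => ε_mem_cocyc E a hx) :
    gam a.toIdeal M →ₗ[R] E.cocyc a 0)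

theorem h0_apply (x : gam a.toIdeal M) :
    h0 E a x = E.toH a 0 ⟨E.ε x, ε_mem_cocyc E a x.2⟩ := rfl

theorem h0_injective : Function.Injective (h0 E a) := by
  rw [injective_iff_map_eq_zero]
  intro x hx
  rw [h0_apply, toH_eq_zero_iff] at hx
  have h1 : E.ε (x : M) = 0 := hx
  apply Subtype.ext
  exact E.ε_injective (h1.trans (map_zero E.ε).symm)

theorem mem_gam_of_ε_mem {x : M} (hx : E.ε x ∈ gam a.toIdeal (E.X 0).carrier) :
    x ∈ gam a.toIdeal M := by
  obtain ⟨n, hn⟩ := hx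
  refine ⟨n, fun r hr => ?_⟩
  apply E.ε_injective
  rw [map_smul, hn r hr, map_zero]

theorem exists_of_mem_cocyc_zero {z : (E.X 0).carrier} (hz : z ∈ E.cocyc a 0) :
    ∃ x : gam a.toIdeal M, E.ε (x : M) = z := by
  have h1 : z ∈ LinearMap.range E.ε := by
    rw [← E.exact_zero]
    exact hz.2
  obtain ⟨x, rfl⟩ := h1
  exact ⟨⟨x, mem_gam_of_ε_mem E a hz.1⟩, rfl⟩

theorem h0_surjective : Function.Surjective (h0 E a) := by
  intro y
  obtain ⟨z, rfl⟩ := Submodule.mkQ_surjective _ y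
  obtain ⟨x, hx⟩ := exists_of_mem_cocyc_zero E a z.2
  refine ⟨x, ?_⟩
  rw [h0_apply]
  congr 1
  exact Subtype.ext hx

theorem h0_mem_Hgr {g : ι} {x : gam a.toIdeal M} (hx : (x : M) ∈ ℳ g) : h0 E a x ∈ E.Hgr a 0 g :=
  ⟨⟨E.ε x, ε_mem_cocyc E a x.2⟩, E.ε_grHom g _ hx, rfl⟩

theorem exists_of_mem_Hgr_zero {g : ι} {y : E.H a 0} (hy : y ∈ E.Hgr a 0 g) :
    ∃ x : gam a.toIdeal M, (x : M) ∈ ℳ g ∧ h0 E a x = y := by
  obtain ⟨z, hz, rfl⟩ := hy
  obtain ⟨x, hx⟩ := exists_of_mem_cocyc_zero E a z.2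
  refine ⟨x, ?_, ?_⟩
  · have h1 : E.ε (x : M) ∈ (E.X 0).gr g := by rw [hx]; exact hz
    exact IsGrHom.mem_of_injective ℳ (E.X 0).gr E.ε_grHom E.ε_injective h1
  · rw [h0_apply]
    congr 1
    exact Subtype.ext hx

variable {N : Type u} [AddCommGroup N] [Module R N] {𝒩 : ι → AddSubgroup N} [DirectSum.Decomposition 𝒩]
  [SetLike.GradedSMul 𝒜 𝒩] (F : StarInjRes 𝒜 𝒩)

/-- naturality of `h0` -/
theorem Hmap₀_h0 (f : M →ₗ[R] N) (hf : IsGrHom ℳ 𝒩 f) (x : gam a.toIdeal M) :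
    Hmap₀ E F a f hf 0 (h0 E a x) = h0 F a ⟨f x, gam_map a.toIdeal f x.2⟩ := by
  have hl := liftChain_lifts E F f 0 (isGrHomDeg_zero_of hf)
  show (liftChain E F f 0 (isGrHomDeg_zero_of hf)).H a 0 (h0 E a x) = _
  rw [h0_apply, ChainMap.H_toH, h0_apply]
  congr 1
  apply Subtype.ext
  exact hl x

end H0

section Inverse
variable {ι : Type} [DecidableEq ι] {R : Type u} [CommRing R]
  {A : Type u} [AddCommGroup A] [Module R A] {𝓐 : ι → AddSubgroup A}
  {B : Type u} [AddCommGroup B] [Module R B] {ℬ : ι → AddSubgroup B}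

/-- an injective homogeneous map reflects degrees of elements whose image is homogeneous and
attained on a homogeneous element -/
theorem mem_of_map_mem_of_injective (hA : DirectSum.IsInternal 𝓐) (hB : DirectSum.IsInternal ℬ)
    (f : A →ₗ[R] B) (hf : IsGrHom 𝓐 ℬ f) (hinj : Function.Injective f) {h : ι} {x : A}
    (hx : f x ∈ ℬ h) : x ∈ 𝓐 h := by
  obtain ⟨y, hy, e⟩ := exists_mem_of_isInternal hA hB f hf hx x rfl
  rw [← hinj e]
  exact hy

end Inverse

section Tail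
variable {ι : Type} [AddCommGroup ι] [DecidableEq ι] {R : Type u} [CommRing R]
  {𝒜 : ι → AddSubgroup R} [GradedRing 𝒜]
  {M : Type u} [AddCommGroup M] [Module R M] {ℳ : ι → AddSubgroup M} [DirectSum.Decomposition ℳ]
  [SetLike.GradedSMul 𝒜 ℳ] (E : StarInjRes 𝒜 ℳ)

/-- the first syzygy `Z¹ = ker d¹ = im d⁰` of a resolution, as a graded module -/
noncomputable def ZG : GMod.{u} 𝒜 :=
  { carrier := LinearMap.ker (E.d 1)
    gr := subPieces (E.X 1).gr (LinearMap.ker (E.d 1))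
    dec := subDecomposition (E.X 1).gr (LinearMap.ker (E.d 1))
      (IsGrHom.ker_isHomogeneous (E.X 1).gr (E.X 2).gr (E.d_grHom 1))
    gsmul := subGradedSMul 𝒜 (E.X 1).gr (LinearMap.ker (E.d 1)) }

/-- the inclusion `Z¹ → X¹` -/
def zIncl : (ZG E).carrier →ₗ[R] (E.X 1).carrier := (LinearMap.ker (E.d 1)).subtype

theorem zIncl_injective : Function.Injective (zIncl E) := Subtype.val_injective

theorem d_zIncl (z : (ZG E).carrier) : E.d 1 (zIncl E z) = 0 := LinearMap.mem_ker.mp (Subtype.property z)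

theorem mem_ZG_gr {g : ι} {z : (ZG E).carrier} : z ∈ (ZG E).gr g ↔ zIncl E z ∈ (E.X 1).gr g := Iff.rfl

theorem zIncl_grHom : IsGrHom (ZG E).gr (E.X 1).gr (zIncl E) := fun _ _ hx => hx

/-- constructor for elements of `Z¹` -/
def zMk (x : (E.X 1).carrier) (hx : E.d 1 x = 0) : (ZG E).carrier :=
  (⟨x, LinearMap.mem_ker.mpr hx⟩ : LinearMap.ker (E.d 1))

@[simp] theorem zIncl_zMk (x : (E.X 1).carrier) (hx : E.d 1 x = 0) : zIncl E (zMk E x hx) = x := rfl

/-- the tail of a resolution: a resolution of `Z¹` -/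
noncomputable def tail : StarInjRes 𝒜 (ZG E).gr where
  X k := E.X (k + 1)
  d k := E.d (k + 1)
  ε := zIncl E
  d_grHom k := E.d_grHom (k + 1)
  ε_grHom := zIncl_grHom E
  ε_injective := zIncl_injective E
  exact_zero := (Submodule.range_subtype _).symm
  exact_succ k := E.exact_succ (k + 1)
  starInj k := E.starInj (k + 1)

/-- `d⁰` as a map onto `Z¹` -/
noncomputable def d0Z : (E.X 0).carrier →ₗ[R] (ZG E).carrier :=
  (E.d 0).codRestrict (LinearMap.ker (E.d 1)) (fun x => d_comp_d E 0 x)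

@[simp] theorem zIncl_d0Z (x : (E.X 0).carrier) : zIncl E (d0Z E x) = E.d 0 x := rfl

theorem d0Z_grHom : IsGrHom (E.X 0).gr (ZG E).gr (d0Z E) := fun g x hx => by
  rw [mem_ZG_gr, zIncl_d0Z]
  exact E.d_grHom 0 g x hx

theorem d0Z_surjective : Function.Surjective (d0Z E) := by
  intro z
  have h1 : zIncl E z ∈ LinearMap.range (E.d 0) := by
    rw [← E.exact_succ 0]
    exact LinearMap.mem_ker.mpr (d_zIncl E z)
  obtain ⟨x, hx⟩ := h1
  exact ⟨x, zIncl_injective E hx⟩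

theorem ker_d0Z : LinearMap.ker (d0Z E) = LinearMap.range E.ε := by
  rw [← E.exact_zero]
  ext x
  rw [LinearMap.mem_ker, LinearMap.mem_ker]
  constructor
  · intro h
    have := congrArg (zIncl E) h
    rwa [zIncl_d0Z, map_zero] at this
  · intro h
    apply zIncl_injective E
    rw [zIncl_d0Z, map_zero, h]

variable (a : HomogeneousIdeal 𝒜)

/-- cohomology of the tail in positive degrees -/
noncomputable def tailH (p : ℕ) : (tail E).H a (p + 1) ≃ₗ[R] E.H a (p + 2) := LinearEquiv.refl R _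

theorem tailH_mem_iff (p : ℕ) (g : ι) (x : (tail E).H a (p + 1)) :
    tailH E a p x ∈ E.Hgr a (p + 2) g ↔ x ∈ (tail E).Hgr a (p + 1) g := Iff.rfl

end Tail

end Groth.Agent.Lib.Helper39.Ver
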