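import Groth.Agent.Lib.Helper39.GrVer4
import Groth.Agent.Lib.Helper39.GrVer5
import Groth.Agent.Lib.Helper39.GrAcyclic
import Groth.Agent.Lib.Helper39.GrRes

/-!
# Veronese submodules, part 6: the short exact sequence `0 → M' → I^(q) → Z^(q) → 0`
and level zero of the comparison (helper39)
-/

set_option autoImplicit false
universe u

namespace Groth.Agent.Lib.Helper39.Ver

open DirectSum GrLC Groth.Agent.Lib.Helper39 Groth.Agent.Lib.Helper39.GrLes

section MapLin
variable {R : Type u} [CommRing R]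
  {X : Type u} [AddCommGroup X] [Module R X] (𝒳 : ℤ → AddSubgroup X) [DirectSum.Decomposition 𝒳]
  {Y : Type u} [AddCommGroup Y] [Module R Y] (𝒴 : ℤ → AddSubgroup Y) [DirectSum.Decomposition 𝒴] (q : ℕ)

theorem vproj_map_lin (f : X →ₗ[R] Y) (hf : IsGrHom 𝒳 𝒴 f) (x : X) :
    vproj 𝒴 q (f x) = f (vproj 𝒳 q x) :=
  vproj_map 𝒳 𝒴 q f.toAddMonoidHom hf x

end MapLin

section Setup
variable {R R' : Type u} [CommRing R] [CommRing R'] {𝒜 : ℤ → AddSubgroup R} [GradedRing 𝒜]
  {𝒜' : ℤ → AddSubgroup R'} [GradedRing 𝒜'] (D : VerData 𝒜 𝒜')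
  {M : Type u} [AddCommGroup M] [Module R M] {ℳ : ℤ → AddSubgroup M} [DirectSum.Decomposition ℳ]
  [SetLike.GradedSMul 𝒜 ℳ] (E : StarInjRes 𝒜 ℳ)
  {M' : Type u} [AddCommGroup M'] [Module R' M'] {ℳ' : ℤ → AddSubgroup M'}
  [DirectSum.Decomposition ℳ'] [SetLike.GradedSMul 𝒜' ℳ']
  (g : M' →ₛₗ[D.φ] M) (hg : IsVer D ℳ' ℳ g)

/-- `M' → I^(q)` -/
def iMap : M' →ₗ[R'] Ver D (E.X 0) :=
  verLift D (E.X 0) (E.ε.comp g) (fun x => by
    have h := hg.map_mem_verSub x
    rw [mem_verSub] at h ⊢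
    show vproj (E.X 0).gr D.q (E.ε (g x)) = E.ε (g x)
    rw [vproj_map_lin ℳ (E.X 0).gr D.q E.ε E.ε_grHom]
    exact congrArg E.ε h)

@[simp] theorem val_iMap (x : M') : Ver.val D (E.X 0) (iMap D E g hg x) = E.ε (g x) := rfl

/-- `I^(q) → Z^(q)` -/
noncomputable def pMap : Ver D (E.X 0) →ₗ[R'] Ver D (ZG E) :=
  verLift D (ZG E) ((d0Z E).comp (verIncl D (E.X 0))) (fun v => by
    have h := Ver.val_mem D (E.X 0) v
    rw [mem_verSub] at h ⊢
    show vproj (ZG E).gr D.q (d0Z E (Ver.val D (E.X 0) v)) = d0Z E (Ver.val D (E.X 0) v)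
    rw [vproj_map_lin (E.X 0).gr (ZG E).gr D.q (d0Z E) (d0Z_grHom E)]
    exact congrArg (d0Z E) h)

@[simp] theorem val_pMap (v : Ver D (E.X 0)) :
    Ver.val D (ZG E) (pMap D E v) = d0Z E (Ver.val D (E.X 0) v) := rfl

theorem pMap_surjective : Function.Surjective (pMap D E) := by
  intro w
  obtain ⟨y, hy⟩ := d0Z_surjective E (Ver.val D (ZG E) w)
  refine ⟨verRetr D (E.X 0) y, Ver.ext D (ZG E) ?_⟩
  rw [val_pMap, val_verRetr, ← vproj_map_lin (E.X 0).gr (ZG E).gr D.q (d0Z E) (d0Z_grHom E), hy]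
  exact (mem_verSub _ _).mp (Ver.val_mem D (ZG E) w)

theorem grSES : GrSES ℳ' (verGr D (E.X 0)) (verGr D (ZG E)) (iMap D E g hg) (pMap D E) where
  i_grHom := fun j x hx => by
    rw [mem_verGr, val_iMap]
    exact E.ε_grHom _ _ (hg.map_mem j x hx)
  p_grHom := fun j v hv => by
    rw [mem_verGr, val_pMap]
    exact d0Z_grHom E _ _ hv
  i_inj := fun x y h => by
    have h1 := congrArg (Ver.val D (E.X 0)) h
    rw [val_iMap, val_iMap] at h1
    exact hg.inj (E.ε_injective h1)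
  p_surj := pMap_surjective D E
  exact := by
    ext v
    rw [LinearMap.mem_ker, LinearMap.mem_range]
    constructor
    · intro h
      have h1 : d0Z E (Ver.val D (E.X 0) v) = 0 := by
        have := congrArg (Ver.val D (ZG E)) h
        rwa [val_pMap] at this
      have h2 : Ver.val D (E.X 0) v ∈ LinearMap.range E.ε := by
        rw [← ker_d0Z]
        exact h1
      obtain ⟨x, hx⟩ := h2
      have h3 : x ∈ verSub ℳ D.q := by
        rw [mem_verSub]
        apply E.ε_injective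
        have h4 := vproj_map_lin ℳ (E.X 0).gr D.q E.ε E.ε_grHom x
        have h5 : vproj (E.X 0).gr D.q (E.ε x) = E.ε x := by
          rw [hx]
          exact (mem_verSub _ _).mp (Ver.val_mem D (E.X 0) v)
        exact h4.symm.trans h5
      obtain ⟨x', hx'⟩ := hg.exists_of_mem_verSub h3
      refine ⟨x', Ver.ext D (E.X 0) ?_⟩
      rw [val_iMap, hx', hx]
    · rintro ⟨x, rfl⟩
      apply Ver.ext D (ZG E)
      rw [val_pMap, val_iMap]
      have : E.ε (g x) ∈ LinearMap.ker (d0Z E) := by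
        rw [ker_d0Z]
        exact ⟨g x, rfl⟩
      exact this

end Setup

section Acyc
variable {R R' : Type u} [CommRing R] [CommRing R'] [IsNoetherianRing R] [IsNoetherianRing R']
  {𝒜 : ℤ → AddSubgroup R} [GradedRing 𝒜]
  {𝒜' : ℤ → AddSubgroup R'} [GradedRing 𝒜'] (D : VerData 𝒜 𝒜') (m' : HomogeneousIdeal 𝒜')

/-- graded local cohomology of the Veronese submodule of a *injective module vanishes in positive
degrees -/
theorem H_subsingleton_ver (X : GMod.{u} 𝒜) (hX : IsStarInj 𝒜 X.gr)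
    (G : StarInjRes 𝒜' (verGr D X)) (k : ℕ) (hk : 1 ≤ k) : Subsingleton (G.H m' k) := by
  have hac : ∀ n j, 1 ≤ j →
      Subsingleton ((localCohomology m'.toIdeal j).obj (ModuleCat.of R' (G.X n).carrier)) :=
    fun n j hj => Groth.Agent.S13217.result R' 𝒜' m' (G.X n).carrier (G.X n).gr (G.starInj n) j hj
  obtain ⟨e⟩ := Acyclic.nonempty_H_equiv_localCohomology G m' hac k
  haveI := ver_acyclic D m' X hX k hk
  exact e.injective.subsingleton

end Acyc

end Groth.Agent.Lib.Helper39.Ver
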