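import Groth.Agent.Lib.Helper39.GrVer6

/-!
# Veronese submodules, part 7: `H^p_{m'}(M^(q)) = (H^p_m(M))^(q)` (helper39)
-/

set_option autoImplicit false
universe u

namespace Groth.Agent.Lib.Helper39.Ver

open DirectSum GrLC Groth.Agent.Lib.Helper39 Groth.Agent.Lib.Helper39.GrLes

section Main
variable {R R' : Type u} [CommRing R] [CommRing R'] [IsNoetherianRing R] [IsNoetherianRing R']
  {𝒜 : ℤ → AddSubgroup R} [GradedRing 𝒜]
  {𝒜' : ℤ → AddSubgroup R'} [GradedRing 𝒜'] (D : VerData 𝒜 𝒜')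
  (m : HomogeneousIdeal 𝒜) (m' : HomogeneousIdeal 𝒜')
  (h1 : m'.toIdeal.map D.φ ≤ m.toIdeal) (h2 : ∃ N : ℕ, m.toIdeal ^ N ≤ m'.toIdeal.map D.φ)

section Level
variable {M : Type u} [AddCommGroup M] [Module R M] {ℳ : ℤ → AddSubgroup M} [DirectSum.Decomposition ℳ]
  [SetLike.GradedSMul 𝒜 ℳ] (E : StarInjRes 𝒜 ℳ)
  {M' : Type u} [AddCommGroup M'] [Module R' M'] {ℳ' : ℤ → AddSubgroup M'}
  [DirectSum.Decomposition ℳ'] [SetLike.GradedSMul 𝒜' ℳ']
  (g : M' →ₛₗ[D.φ] M) (hg : Function.Injective g) (F : StarInjRes 𝒜' ℳ')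

/-- `g` on torsion submodules -/
def gGam : gam m'.toIdeal M' →ₛₗ[D.φ] gam m.toIdeal M :=
  (g.domRestrict (gam m'.toIdeal M')).codRestrict (gam m.toIdeal M)
    (fun x => (mem_gam_iff D.φ m.toIdeal m'.toIdeal g hg h1 h2 x).mpr x.2)

omit [IsNoetherianRing R] [IsNoetherianRing R'] in
@[simp] theorem gGam_coe (x : gam m'.toIdeal M') :
    ((gGam D m m' h1 h2 g hg x : gam m.toIdeal M) : M) = g x := rfl

/-- `h0` as an equivalence -/
noncomputable def h0Equiv (a : HomogeneousIdeal 𝒜) : gam a.toIdeal M ≃ₗ[R] E.H a 0 :=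
  LinearEquiv.ofBijective (h0 E a) ⟨h0_injective E a, h0_surjective E a⟩

omit [IsNoetherianRing R] in
@[simp] theorem h0Equiv_apply (a : HomogeneousIdeal 𝒜) (x : gam a.toIdeal M) :
    h0Equiv E a x = h0 E a x := rfl

/-- level zero -/
noncomputable def theta0 : F.H m' 0 →ₛₗ[D.φ] E.H m 0 :=
  (h0 E m).comp ((gGam D m m' h1 h2 g hg).comp (h0Equiv F m').symm.toLinearMap)

omit [IsNoetherianRing R] [IsNoetherianRing R'] in
theorem theta0_h0 (x : gam m'.toIdeal M') :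
    theta0 D m m' h1 h2 E g hg F (h0 F m' x) = h0 E m (gGam D m m' h1 h2 g hg x) := by
  unfold theta0
  simp only [LinearMap.comp_apply, LinearEquiv.coe_coe]
  rw [← h0Equiv_apply F m' x, LinearEquiv.symm_apply_apply]

omit [IsNoetherianRing R] [IsNoetherianRing R'] in
theorem isVer_theta0 (hgv : IsVer D ℳ' ℳ g) :
    IsVer D (F.Hgr m' 0) (E.Hgr m 0) (theta0 D m m' h1 h2 E g hg F) where
  inj := by
    intro x y hxy
    obtain ⟨x, rfl⟩ := h0_surjective F m' x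
    obtain ⟨y, rfl⟩ := h0_surjective F m' y
    rw [theta0_h0, theta0_h0] at hxy
    have h3 := h0_injective E m hxy
    have h4 : g x = g y := congrArg Subtype.val h3
    rw [Subtype.ext (hg h4)]
  map_mem := by
    intro j x hx
    obtain ⟨x, hxj, rfl⟩ := exists_of_mem_Hgr_zero F m' hx
    rw [theta0_h0]
    exact h0_mem_Hgr E m (hgv.map_mem j _ hxj)
  surj := by
    intro j y hy
    obtain ⟨y, hyj, rfl⟩ := exists_of_mem_Hgr_zero E m hy
    obtain ⟨x, hx, e⟩ := hgv.surj j _ hyj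
    have hxg : x ∈ gam m'.toIdeal M' := by
      rw [← mem_gam_iff D.φ m.toIdeal m'.toIdeal g hg h1 h2 x, e]
      exact y.2
    refine ⟨h0 F m' ⟨x, hxg⟩, h0_mem_Hgr F m' hx, ?_⟩
    rw [theta0_h0]
    congr 1
    exact Subtype.ext e

end Level

end Main

end Groth.Agent.Lib.Helper39.Ver
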