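import Groth.Agent.Lib.Helper39.GrVer7

/-!
# Veronese submodules, part 8: level one and the induction step (helper39)
-/

set_option autoImplicit false
universe u

namespace Groth.Agent.Lib.Helper39.Ver

open DirectSum GrLC Groth.Agent.Lib.Helper39 Groth.Agent.Lib.Helper39.GrLes

section Descend
variable {R R' : Type u} [CommRing R] [CommRing R'] (φ : R' →+* R)
  {A : Type u} [AddCommGroup A] [Module R' A] {B : Type u} [AddCommGroup B] [Module R' B]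
  {C : Type u} [AddCommGroup C] [Module R C]

theorem exists_descend (δ : A →ₗ[R'] B) (hδ : Function.Surjective δ) (l : A →ₛₗ[φ] C)
    (hker : ∀ y, δ y = 0 → l y = 0) : ∃ θ : B →ₛₗ[φ] C, ∀ y, θ (δ y) = l y := by
  have hk : LinearMap.ker δ ≤ LinearMap.ker l := fun y hy =>
    LinearMap.mem_ker.mpr (hker y (LinearMap.mem_ker.mp hy))
  refine ⟨(Submodule.liftQ (LinearMap.ker δ) l hk).comp
    (δ.quotKerEquivOfSurjective hδ).symm.toLinearMap, fun y => ?_⟩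
  have h1 : (δ.quotKerEquivOfSurjective hδ).symm (δ y) = Submodule.Quotient.mk y := by
    rw [LinearEquiv.symm_apply_eq]
    rfl
  simp only [LinearMap.comp_apply, LinearEquiv.coe_coe]
  rw [h1, Submodule.liftQ_apply]

end Descend

section Main
variable {R R' : Type u} [CommRing R] [CommRing R'] [IsNoetherianRing R] [IsNoetherianRing R']
  {𝒜 : ℤ → AddSubgroup R} [GradedRing 𝒜]
  {𝒜' : ℤ → AddSubgroup R'} [GradedRing 𝒜'] (D : VerData 𝒜 𝒜')
  (m : HomogeneousIdeal 𝒜) (m' : HomogeneousIdeal 𝒜')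
  (h1 : m'.toIdeal.map D.φ ≤ m.toIdeal) (h2 : ∃ N : ℕ, m.toIdeal ^ N ≤ m'.toIdeal.map D.φ)
  {M : Type u} [AddCommGroup M] [Module R M] {ℳ : ℤ → AddSubgroup M} [DirectSum.Decomposition ℳ]
  [SetLike.GradedSMul 𝒜 ℳ] (E : StarInjRes 𝒜 ℳ)
  {M' : Type u} [AddCommGroup M'] [Module R' M'] {ℳ' : ℤ → AddSubgroup M'}
  [DirectSum.Decomposition ℳ'] [SetLike.GradedSMul 𝒜' ℳ']
  (g : M' →ₛₗ[D.φ] M) (hgv : IsVer D ℳ' ℳ g) (F : StarInjRes 𝒜' ℳ')

/-- torsion cocycles of `Z¹` as `1`-cocycles -/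
noncomputable def cZ : gam m.toIdeal (ZG E).carrier →ₗ[R] E.cocyc m 1 :=
  ((zIncl E).comp (gam m.toIdeal (ZG E).carrier).subtype).codRestrict (E.cocyc m 1)
    (fun z => ⟨gam_map m.toIdeal (zIncl E) z.2, LinearMap.mem_ker.mpr (d_zIncl E z)⟩)

omit [IsNoetherianRing R] in
@[simp] theorem cZ_coe (z : gam m.toIdeal (ZG E).carrier) :
    ((cZ m E z : E.cocyc m 1) : (E.X 1).carrier) = zIncl E z := rfl

/-- the map `λ` of level one -/
noncomputable def lam (FZ : StarInjRes 𝒜' (verGr D (ZG E))) : FZ.H m' 0 →ₛₗ[D.φ] E.H m 1 :=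
  ((E.toH m 1).comp (cZ m E)).comp
    ((gGam D m m' h1 h2 (verIncl D (ZG E)) (verIncl_injective D (ZG E))).comp
      (h0Equiv FZ m').symm.toLinearMap)

omit [IsNoetherianRing R] [IsNoetherianRing R'] in
theorem lam_h0 (FZ : StarInjRes 𝒜' (verGr D (ZG E))) (z : gam m'.toIdeal (Ver D (ZG E))) :
    lam D m m' h1 h2 E FZ (h0 FZ m' z) = E.toH m 1 (cZ m E
      (gGam D m m' h1 h2 (verIncl D (ZG E)) (verIncl_injective D (ZG E)) z)) := by
  unfold lam
  simp only [LinearMap.comp_apply, LinearEquiv.coe_coe]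
  rw [← h0Equiv_apply FZ m' z, LinearEquiv.symm_apply_apply]

include hgv h1 h2 in
/-- level one, from the long exact sequence -/
theorem exists_theta_one_of_les (FI : StarInjRes 𝒜' (verGr D (E.X 0)))
    (FZ : StarInjRes 𝒜' (verGr D (ZG E))) (δ0 : FZ.H m' 0 →ₗ[R'] F.H m' 1)
    (hδgr : IsGrHom (FZ.Hgr m' 0) (F.Hgr m' 1) δ0)
    (hex : Function.Exact (Hmap₀ FI FZ m' (pMap D E) (grSES D E g hgv).p_grHom 0) δ0)
    (hsurj : Function.Surjective δ0) :
    ∃ θ : F.H m' 1 →ₛₗ[D.φ] E.H m 1, IsVer D (F.Hgr m' 1) (E.Hgr m 1) θ := by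
  have hI := verIncl_injective D (E.X 0)
  have hZ := verIncl_injective D (ZG E)
  -- kernel condition
  have hker : ∀ y, δ0 y = 0 → lam D m m' h1 h2 E FZ y = 0 := by
    intro y hy
    obtain ⟨w, rfl⟩ := (hex y).mp hy
    obtain ⟨v, rfl⟩ := h0_surjective FI m' w
    rw [Hmap₀_h0, lam_h0, toH_eq_zero_iff]
    refine ⟨Ver.val D (E.X 0) v,
      (mem_gam_iff D.φ m.toIdeal m'.toIdeal (verIncl D (E.X 0)) hI h1 h2 v).mpr v.2, ?_⟩
    rfl
  obtain ⟨θ, hθ⟩ := exists_descend D.φ δ0 hsurj (lam D m m' h1 h2 E FZ) hker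
  refine ⟨θ, ?_, ?_, ?_⟩
  · -- injective
    rw [injective_iff_map_eq_zero]
    intro h hh
    obtain ⟨y, rfl⟩ := hsurj h
    rw [hθ] at hh
    obtain ⟨z', rfl⟩ := h0_surjective FZ m' y
    rw [lam_h0, toH_eq_zero_iff] at hh
    obtain ⟨u, hu, hdu⟩ := hh
    -- `u ∈ Γ_m(X⁰)` with `d⁰ u = z'`
    have hdu' : E.d 0 u = zIncl E (Ver.val D (ZG E) z') := hdu
    have hvu : vproj (E.X 0).gr D.q u ∈ gam m.toIdeal (E.X 0).carrier :=
      vproj_mem_of_isHomogeneous (E.X 0).gr D.q _ (gam_isHomogeneous 𝒜 (E.X 0).gr m) hu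
    have hv : verRetr D (E.X 0) u ∈ gam m'.toIdeal (Ver D (E.X 0)) := by
      rw [← mem_gam_iff D.φ m.toIdeal m'.toIdeal (verIncl D (E.X 0)) hI h1 h2]
      exact hvu
    have hp : pMap D E (verRetr D (E.X 0) u) = (z' : Ver D (ZG E)) := by
      apply Ver.ext D (ZG E)
      rw [val_pMap, val_verRetr, ← vproj_map_lin (E.X 0).gr (ZG E).gr D.q (d0Z E) (d0Z_grHom E)]
      have h3 : d0Z E u = Ver.val D (ZG E) z' := zIncl_injective E (by rw [zIncl_d0Z, hdu'])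
      rw [h3]
      exact (mem_verSub _ _).mp (Ver.val_mem D (ZG E) z')
    have h4 : h0 FZ m' z' = Hmap₀ FI FZ m' (pMap D E) (grSES D E g hgv).p_grHom 0
        (h0 FI m' ⟨verRetr D (E.X 0) u, hv⟩) := by
      rw [Hmap₀_h0]
      congr 1
      exact Subtype.ext hp.symm
    rw [h4]
    exact (hex _).mpr ⟨_, rfl⟩
  · -- pieces map into pieces
    intro j h hh
    obtain ⟨y, hy, rfl⟩ := exists_mem_of_isInternal (Hgr_isInternal FZ m' 0) (Hgr_isInternal F m' 1)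
      δ0 hδgr hh (hsurj h).choose (hsurj h).choose_spec
    obtain ⟨z', hz', rfl⟩ := exists_of_mem_Hgr_zero FZ m' hy
    rw [hθ, lam_h0]
    refine ⟨_, ?_, rfl⟩
    rw [cZ_coe]
    exact hz'
  · -- onto
    intro j c hc
    obtain ⟨z, hz, rfl⟩ := hc
    have hzd : E.d 1 (z : (E.X 1).carrier) = 0 := LinearMap.mem_ker.mp z.2.2
    have hzg : zMk E z hzd ∈ gam m.toIdeal (ZG E).carrier := by
      obtain ⟨n, hn⟩ := z.2.1
      refine ⟨n, fun r hr => zIncl_injective E ?_⟩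
      rw [map_smul, zIncl_zMk, hn r hr, map_zero]
    have hzv : zMk E z hzd ∈ verSub (ZG E).gr D.q := mem_verSub_of_mem (ZG E).gr D.q hz
    have hz'g : Ver.mk D (ZG E) (zMk E z hzd) hzv ∈ gam m'.toIdeal (Ver D (ZG E)) := by
      rw [← mem_gam_iff D.φ m.toIdeal m'.toIdeal (verIncl D (ZG E)) hZ h1 h2]
      exact hzg
    refine ⟨δ0 (h0 FZ m' ⟨Ver.mk D (ZG E) (zMk E z hzd) hzv, hz'g⟩),
      hδgr j _ (h0_mem_Hgr FZ m' hz), ?_⟩
    rw [hθ, lam_h0]
    congr 1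

end Main

end Groth.Agent.Lib.Helper39.Ver
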