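import Groth.Agent.Lib.Helper39.GrVer8

/-!
# Veronese submodules, part 9: the main comparison theorem
`H^p_{m'}(M^(q)) = (H^p_m(M))^(q)` as graded modules over the Veronese subring (helper39)
-/

set_option autoImplicit false
universe u

namespace Groth.Agent.Lib.Helper39.Ver

open DirectSum GrLC Groth.Agent.Lib.Helper39 Groth.Agent.Lib.Helper39.GrLes

section Main
variable {R R' : Type u} [CommRing R] [CommRing R'] [IsNoetherianRing R] [IsNoetherianRing R']
  {𝒜 : ℤ → AddSubgroup R} [GradedRing 𝒜]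
  {𝒜' : ℤ → AddSubgroup R'} [GradedRing 𝒜'] (D : VerData 𝒜 𝒜')
  (m : HomogeneousIdeal 𝒜) (m' : HomogeneousIdeal 𝒜')
  (h1 : m'.toIdeal.map D.φ ≤ m.toIdeal) (h2 : ∃ N : ℕ, m.toIdeal ^ N ≤ m'.toIdeal.map D.φ)

include h1 h2 in
theorem exists_theta_succ (p : ℕ) : ∀ {M : Type u} [AddCommGroup M] [Module R M]
    {ℳ : ℤ → AddSubgroup M} [DirectSum.Decomposition ℳ] [SetLike.GradedSMul 𝒜 ℳ]
    (E : StarInjRes 𝒜 ℳ) {M' : Type u} [AddCommGroup M'] [Module R' M'] {ℳ' : ℤ → AddSubgroup M'}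
    [DirectSum.Decomposition ℳ'] [SetLike.GradedSMul 𝒜' ℳ'] (g : M' →ₛₗ[D.φ] M)
    (_ : IsVer D ℳ' ℳ g) (F : StarInjRes 𝒜' ℳ'),
    ∃ θ : F.H m' (p + 1) →ₛₗ[D.φ] E.H m (p + 1), IsVer D (F.Hgr m' (p + 1)) (E.Hgr m (p + 1)) θ := by
  induction p with
  | zero =>
    intro M _ _ ℳ _ _ E M' _ _ ℳ' _ _ g hgv F
    let FI := starInjRes (𝒜 := 𝒜') (verGr D (E.X 0))
    let FZ := starInjRes (𝒜 := 𝒜') (verGr D (ZG E))
    obtain ⟨δ, hδgr, -, hex2, hex3⟩ := exists_les (grSES D E g hgv) F FI FZ m'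
    have hFI1 : Subsingleton (FI.H m' 1) :=
      H_subsingleton_ver D m' (E.X 0) (E.starInj 0) FI 1 le_rfl
    have hδsurj : Function.Surjective (δ 0) := fun y =>
      (hex3 0 y).mp (Subsingleton.elim _ _)
    exact exists_theta_one_of_les D m m' h1 h2 E g hgv F FI FZ (δ 0) (hδgr 0) (hex2 0) hδsurj
  | succ p ih =>
    intro M _ _ ℳ _ _ E M' _ _ ℳ' _ _ g hgv F
    let FI := starInjRes (𝒜 := 𝒜') (verGr D (E.X 0))
    let FZ := starInjRes (𝒜 := 𝒜') (verGr D (ZG E))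
    obtain ⟨δ, hδgr, -, hex2, hex3⟩ := exists_les (grSES D E g hgv) F FI FZ m'
    have hFIa : Subsingleton (FI.H m' (p + 1)) :=
      H_subsingleton_ver D m' (E.X 0) (E.starInj 0) FI (p + 1) (by omega)
    have hFIb : Subsingleton (FI.H m' (p + 1 + 1)) :=
      H_subsingleton_ver D m' (E.X 0) (E.starInj 0) FI (p + 1 + 1) (by omega)
    have hδsurj : Function.Surjective (δ (p + 1)) := fun y =>
      (hex3 (p + 1) y).mp (Subsingleton.elim _ _)
    have hδinj : Function.Injective (δ (p + 1)) := by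
      rw [injective_iff_map_eq_zero]
      intro y hy
      obtain ⟨w, rfl⟩ := (hex2 (p + 1) y).mp hy
      rw [Subsingleton.elim w 0, map_zero]
    obtain ⟨θZ, hθZ⟩ := ih (tail E) (verIncl D (ZG E)) (isVer_verIncl D (ZG E)) FZ
    let δe : FZ.H m' (p + 1) ≃ₗ[R'] F.H m' (p + 1 + 1) :=
      LinearEquiv.ofBijective (δ (p + 1)) ⟨hδinj, hδsurj⟩
    refine ⟨(tailH E m p).toLinearMap.comp (θZ.comp δe.symm.toLinearMap), ?_, ?_, ?_⟩
    · intro x y hxy
      simp only [LinearMap.comp_apply, LinearEquiv.coe_coe] at hxy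
      exact δe.symm.injective (hθZ.inj ((tailH E m p).injective hxy))
    · intro j h hh
      simp only [LinearMap.comp_apply, LinearEquiv.coe_coe]
      rw [tailH_mem_iff]
      apply hθZ.map_mem
      refine mem_of_map_mem_of_injective (Hgr_isInternal FZ m' (p + 1))
        (Hgr_isInternal F m' (p + 1 + 1)) (δ (p + 1)) (hδgr (p + 1)) hδinj ?_
      have : δ (p + 1) (δe.symm h) = h := δe.apply_symm_apply h
      rw [this]
      exact hh
    · intro j c hc
      have hc' : (tailH E m p).symm c ∈ (tail E).Hgr m (p + 1) (j * D.q) := by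
        rw [← tailH_mem_iff, LinearEquiv.apply_symm_apply]
        exact hc
      obtain ⟨y, hy, e⟩ := hθZ.surj j _ hc'
      refine ⟨δ (p + 1) y, hδgr (p + 1) j y hy, ?_⟩
      simp only [LinearMap.comp_apply, LinearEquiv.coe_coe]
      have : δe.symm (δ (p + 1) y) = y := δe.symm_apply_apply y
      rw [this, e, LinearEquiv.apply_symm_apply]

include h1 h2 in
/-- **Local cohomology of a Veronese submodule.** -/
theorem exists_theta (p : ℕ) {M : Type u} [AddCommGroup M] [Module R M]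
    {ℳ : ℤ → AddSubgroup M} [DirectSum.Decomposition ℳ] [SetLike.GradedSMul 𝒜 ℳ]
    (E : StarInjRes 𝒜 ℳ) {M' : Type u} [AddCommGroup M'] [Module R' M'] {ℳ' : ℤ → AddSubgroup M'}
    [DirectSum.Decomposition ℳ'] [SetLike.GradedSMul 𝒜' ℳ'] (g : M' →ₛₗ[D.φ] M)
    (hgv : IsVer D ℳ' ℳ g) (F : StarInjRes 𝒜' ℳ') :
    ∃ θ : F.H m' p →ₛₗ[D.φ] E.H m p, IsVer D (F.Hgr m' p) (E.Hgr m p) θ := by
  cases p with
  | zero => exact ⟨theta0 D m m' h1 h2 E g hgv.inj F, isVer_theta0 D m m' h1 h2 E g hgv.inj F hgv⟩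
  | succ p => exact exists_theta_succ D m m' h1 h2 p E g hgv F

end Main

end Groth.Agent.Lib.Helper39.Ver
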