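import Groth.Prelude.Def_GSzMilK
import Mathlib.GroupTheory.Perm.Sign
import Mathlib.GroupTheory.Perm.Fin
import Mathlib.Tactic

/-!
Milnor K-groups of a field (prelude `MilK`): abstract Steinberg pairings, multilinearity of symbols,
behaviour of symbols under permutations, induction principle.  By helper39.
-/

set_option autoImplicit false
universe u v w

namespace Groth.Agent.Lib.Helper39

open MilK

section Pairing

variable {F : Type u} [Field F] {A : Type w} [AddCommGroup A]

/-- A bimultiplicative pairing on the units of a field with values in an additive group that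
vanishes on pairs `(x, y)` with `x + y = 1`. -/
structure IsSteinbergPairing (B : Fˣ → Fˣ → A) : Prop where
  mul_left : ∀ x x' y, B (x * x') y = B x y + B x' y
  mul_right : ∀ x y y', B x (y * y') = B x y + B x y'
  steinberg : ∀ x y : Fˣ, (x : F) + (y : F) = 1 → B x y = 0

namespace IsSteinbergPairing

variable {B : Fˣ → Fˣ → A} (hB : IsSteinbergPairing B)
include hB

theorem one_left (y : Fˣ) : B 1 y = 0 := by
  have := hB.mul_left 1 1 y
  rw [mul_one] at this
  exact left_eq_add.mp this

theorem one_right (x : Fˣ) : B x 1 = 0 := by
  have := hB.mul_right x 1 1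
  rw [mul_one] at this
  exact left_eq_add.mp this

theorem inv_left (x y : Fˣ) : B x⁻¹ y = - B x y := by
  have := hB.mul_left x x⁻¹ y
  rw [mul_inv_cancel, hB.one_left] at this
  exact eq_neg_of_add_eq_zero_right this.symm

theorem inv_right (x y : Fˣ) : B x y⁻¹ = - B x y := by
  have := hB.mul_right x y y⁻¹
  rw [mul_inv_cancel, hB.one_right] at this
  exact eq_neg_of_add_eq_zero_right this.symm

theorem div_right (x y y' : Fˣ) : B x (y / y') = B x y - B x y' := by
  rw [div_eq_mul_inv, hB.mul_right, hB.inv_right, sub_eq_add_neg]

theorem pow_left (x y : Fˣ) (n : ℕ) : B (x ^ n) y = n • B x y := by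
  induction n with
  | zero => rw [pow_zero, hB.one_left, zero_smul]
  | succ n ih => rw [pow_succ, hB.mul_left, ih, succ_nsmul]

theorem pow_right (x y : Fˣ) (n : ℕ) : B x (y ^ n) = n • B x y := by
  induction n with
  | zero => rw [pow_zero, hB.one_right, zero_smul]
  | succ n ih => rw [pow_succ, hB.mul_right, ih, succ_nsmul]

/-- `B(x, -x) = 0`. -/
theorem neg_self (x : Fˣ) : B x (-x) = 0 := by
  by_cases hx : x = 1
  · subst hx
    exact hB.one_left _
  · have hx' : (x : F) ≠ 1 := fun h => hx (Units.ext h)
    have h1 : (1 : F) - x ≠ 0 := sub_ne_zero.mpr (Ne.symm hx')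
    have hxi : ((x⁻¹ : Fˣ) : F) ≠ 1 := by
      intro h
      apply hx
      have : x⁻¹ = 1 := Units.ext h
      simpa using this
    have h2 : (1 : F) - ((x⁻¹ : Fˣ) : F) ≠ 0 := sub_ne_zero.mpr (Ne.symm hxi)
    set u : Fˣ := Units.mk0 _ h1 with hu
    set v : Fˣ := Units.mk0 _ h2 with hv
    have hneg : -x = u / v := by
      apply Units.ext
      simp only [Units.val_neg, Units.val_div_eq_div_val, hu, hv, Units.val_mk0,
        Units.val_inv_eq_inv_val]
      have hx0 : (x : F) ≠ 0 := x.ne_zero
      have h3 : (1 : F) - (x : F)⁻¹ ≠ 0 := by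
        simpa [Units.val_inv_eq_inv_val] using h2
      field_simp
      ring
    rw [hneg, hB.div_right]
    have e1 : B x u = 0 := hB.steinberg x u (by simp [hu])
    have e2 : B x⁻¹ v = 0 := hB.steinberg x⁻¹ v (by simp [hv])
    rw [hB.inv_left, neg_eq_zero] at e2
    rw [e1, e2, sub_zero]

/-- Antisymmetry: `B(x, y) + B(y, x) = 0`. -/
theorem add_swap (x y : Fˣ) : B x y + B y x = 0 := by
  have h := hB.neg_self (x * y)
  have e : -(x * y) = (-x) * y := by simp
  have e' : -(x * y) = x * (-y) := by simp
  rw [hB.mul_left] at h
  have h1 : B x (-(x * y)) = B x y := by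
    rw [e, hB.mul_right, hB.neg_self, zero_add]
  have h2 : B y (-(x * y)) = B y x := by
    rw [e', hB.mul_right, hB.neg_self, add_zero]
  rw [h1, h2] at h
  exact h

theorem swap (x y : Fˣ) : B x y = - B y x :=
  eq_neg_of_add_eq_zero_left (hB.add_swap x y)

theorem two_self (x : Fˣ) : B x x + B x x = 0 := hB.add_swap x x

end IsSteinbergPairing

end Pairing

section Symbol

variable {F : Type u} [Field F]

/-- Induction principle for Milnor K-groups: symbols generate. -/
theorem K_induction {n : ℕ} {P : K F n → Prop} (hs : ∀ a : Fin n → Fˣ, P (symbol a)) (h0 : P 0)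
    (hadd : ∀ x y, P x → P y → P (x + y)) (hneg : ∀ x, P x → P (-x)) (x : K F n) : P x := by
  let S : AddSubgroup (K F n) :=
    { carrier := {x | P x}
      zero_mem' := h0
      add_mem' := fun hx hy => hadd _ _ hx hy
      neg_mem' := fun hx => hneg _ hx }
  obtain ⟨t, rfl⟩ := mk_surjective F n x
  induction t using PiTensorProduct.induction_on with
  | smul_tprod r a =>
    have : mk F n (r • PiTensorProduct.tprod ℤ a) = r • symbol (fun i => (a i).toMul) := by
      rw [map_zsmul]
      rfl
    rw [this]
    exact S.zsmul_mem (hs _) r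
  | add a b ha hb =>
    rw [map_add]
    exact hadd _ _ ha hb

/-- Multiplicativity of the symbol in each entry. -/
theorem symbol_update_mul {n : ℕ} (z : Fin n → Fˣ) (i : Fin n) (x x' : Fˣ) :
    symbol (Function.update z i (x * x')) =
      symbol (Function.update z i x) + symbol (Function.update z i x') := by
  unfold symbol
  rw [← map_add]
  congr 1
  have e : ∀ c : Fˣ, (fun k => Additive.ofMul (Function.update z i c k)) =
      Function.update (fun k => Additive.ofMul (z k)) i (Additive.ofMul c) := by
    intro c
    funext k
    by_cases hk : k = i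
    · subst hk
      simp
    · simp [Function.update_of_ne hk]
  rw [e, e, e, ofMul_mul]
  exact (PiTensorProduct.tprod ℤ (s := fun _ : Fin n => Additive Fˣ)).map_update_add
    (fun k => Additive.ofMul (z k)) i (Additive.ofMul x) (Additive.ofMul x')

/-- The pairing obtained from a symbol by varying two entries `i < j`. -/
theorem isSteinbergPairing_symbol {n : ℕ} (z : Fin n → Fˣ) (i j : Fin n) (hij : i < j) :
    IsSteinbergPairing (fun x y : Fˣ => symbol (Function.update (Function.update z i x) j y)) where
  mul_left x x' y := by
    have hne : i ≠ j := ne_of_lt hij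
    show symbol (Function.update (Function.update z i (x * x')) j y) = _
    rw [Function.update_comm hne, symbol_update_mul]
    congr 1 <;> rw [Function.update_comm hne]
  mul_right x y y' := symbol_update_mul _ j y y'
  steinberg x y h := by
    apply symbol_eq_zero_of_isSteinberg
    refine ⟨i, j, hij, ?_⟩
    rw [Function.update_self, Function.update_of_ne (ne_of_lt hij), Function.update_self]
    exact h

theorem update_update_self_eq {n : ℕ} (z : Fin n → Fˣ) (i j : Fin n) :
    Function.update (Function.update z i (z i)) j (z j) = z := by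
  rw [Function.update_eq_self, Function.update_eq_self]

theorem comp_swap_eq_update {n : ℕ} (z : Fin n → Fˣ) (i j : Fin n) (hij : i ≠ j) :
    z ∘ Equiv.swap i j = Function.update (Function.update z i (z j)) j (z i) := by
  funext k
  by_cases hkj : k = j
  · subst hkj
    simp
  · by_cases hki : k = i
    · subst hki
      simp [Function.update_of_ne hkj]
    · simp [Function.update_of_ne hkj, Function.update_of_ne hki, Equiv.swap_apply_of_ne_of_ne hki hkj]

/-- Swapping two entries of a symbol changes its sign. -/
theorem symbol_comp_swap {n : ℕ} (z : Fin n → Fˣ) (i j : Fin n) (hij : i ≠ j) :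
    symbol (z ∘ Equiv.swap i j) = - symbol z := by
  wlog h : i < j generalizing i j
  · have hji : j < i := lt_of_le_of_ne (not_lt.mp h) hij.symm
    rw [Equiv.swap_comm]
    exact this j i hij.symm hji
  have hB := isSteinbergPairing_symbol z i j h
  have h1 : symbol (Function.update (Function.update z i (z j)) j (z i))
      = - symbol (Function.update (Function.update z i (z i)) j (z j)) := hB.swap (z j) (z i)
  rw [comp_swap_eq_update z i j hij, h1, update_update_self_eq]

/-- Permuting the entries of a symbol multiplies it by the sign of the permutation. -/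
theorem symbol_comp_perm {n : ℕ} (σ : Equiv.Perm (Fin n)) (z : Fin n → Fˣ) :
    symbol (z ∘ σ) = ((Equiv.Perm.sign σ : ℤˣ) : ℤ) • symbol z := by
  induction σ using Equiv.Perm.swap_induction_on generalizing z with
  | one => simp
  | swap_mul f x y hxy ih =>
    have : z ∘ ⇑(Equiv.swap x y * f) = (z ∘ Equiv.swap x y) ∘ f := by
      funext k
      simp
    rw [this, ih, symbol_comp_swap z x y hxy, Equiv.Perm.sign_mul, Equiv.Perm.sign_swap hxy]
    simp

end Symbol

section BlockFlip

theorem finRotate_pow_val (N k : ℕ) (i : Fin N) :
    (((finRotate N) ^ k) i).val = (i.val + k) % N := by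
  induction k with
  | zero => simp [Nat.mod_eq_of_lt i.isLt]
  | succ k ih =>
    haveI : NeZero N := i.neZero
    rw [pow_succ', Equiv.Perm.mul_apply, finRotate_apply, Fin.val_add, ih, Fin.val_one', Nat.add_mod_mod,
      Nat.mod_add_mod, add_assoc]

theorem append_eq_append_comp_rotate {α : Type*} {n m : ℕ} (a : Fin n → α) (b : Fin m → α) :
    Fin.append a b =
      (Fin.append b a ∘ Fin.cast (Nat.add_comm n m)) ∘ ⇑((finRotate (n + m)) ^ m) := by
  funext i
  simp only [Function.comp_apply]
  induction i using Fin.addCases with
  | left i =>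
    rw [Fin.append_left]
    have : Fin.cast (Nat.add_comm n m) (((finRotate (n + m)) ^ m) (Fin.castAdd m i)) = Fin.natAdd m i := by
      apply Fin.ext
      rw [Fin.val_cast, finRotate_pow_val, Fin.val_castAdd, Fin.val_natAdd, Nat.mod_eq_of_lt (by omega)]
      omega
    rw [this, Fin.append_right]
  | right j =>
    rw [Fin.append_right]
    have : Fin.cast (Nat.add_comm n m) (((finRotate (n + m)) ^ m) (Fin.natAdd n j)) = Fin.castAdd n j := by
      apply Fin.ext
      rw [Fin.val_cast, finRotate_pow_val, Fin.val_castAdd, Fin.val_natAdd]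
      have hj := j.isLt
      have : n + j.val + m = j.val + (n + m) := by omega
      rw [this, Nat.add_mod_right, Nat.mod_eq_of_lt (by omega)]
    rw [this, Fin.append_left]

theorem sign_finRotate_pow (n m : ℕ) :
    ((Equiv.Perm.sign ((finRotate (n + m)) ^ m) : ℤˣ) : ℤ) = (-1) ^ (n * m) := by
  rw [map_pow, sign_finRotate, ← pow_mul]
  push_cast
  rcases Nat.eq_zero_or_pos m with rfl | hm
  · simp
  · have h1 : (n + m - 1) * m = n * m + (m - 1) * m := by
      have : n + m - 1 = n + (m - 1) := by omega
      rw [this, add_mul]
    have h2 : Even ((m - 1) * m) := by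
      have := Nat.even_mul_succ_self (m - 1)
      rwa [Nat.sub_add_cancel hm] at this
    rw [h1, pow_add, h2.neg_one_pow, mul_one]

end BlockFlip

section Comm

variable {F : Type u} [Field F]

theorem mul_symbol_symbol_comm {n m : ℕ} (a : Fin n → Fˣ) (b : Fin m → Fˣ) :
    MilK.mul F n m (symbol a) (symbol b) =
      ((-1 : ℤ) ^ (n * m)) • MilK.cast F (Nat.add_comm m n) (MilK.mul F m n (symbol b) (symbol a)) := by
  rw [mul_symbol_symbol, mul_symbol_symbol, cast_symbol, append_eq_append_comp_rotate a b,
    symbol_comp_perm, sign_finRotate_pow]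

/-- Graded commutativity of the product of Milnor K-groups. -/
theorem mul_comm_graded (n m : ℕ) (x : MilK.K F n) (y : MilK.K F m) :
    MilK.mul F n m x y =
      ((-1 : ℤ) ^ (n * m)) • MilK.cast F (Nat.add_comm m n) (MilK.mul F m n y x) := by
  induction x using K_induction with
  | hs a =>
    induction y using K_induction with
    | hs b => exact mul_symbol_symbol_comm a b
    | h0 => simp
    | hadd y y' hy hy' => simp only [map_add, AddMonoidHom.add_apply, smul_add, hy, hy']
    | hneg y hy => simp only [map_neg, AddMonoidHom.neg_apply, smul_neg, hy]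
  | h0 => simp
  | hadd x x' hx hx' => simp only [map_add, AddMonoidHom.add_apply, smul_add, hx, hx']
  | hneg x hx => simp only [map_neg, AddMonoidHom.neg_apply, smul_neg, hx]

end Comm

end Groth.Agent.Lib.Helper39
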